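import Mathlib

open Polynomial IsLocalRing

universe u

namespace Groth.Agent.H11.AIC

/-- Root existence over the localization of an absolutely integrally closed ring. -/
theorem exists_root {A : Type u} [CommRing A]
    (hA : ∀ f : A[X], f.Monic → ∃ s : Multiset A, f = (s.map fun a => X - C a).prod)
    (p : Ideal A) [p.IsPrime] (f : (Localization.AtPrime p)[X]) (hf : f.Monic)
    (hdeg : 1 ≤ f.natDegree) : ∃ a, f.IsRoot a := by
  classical
  obtain ⟨d, hd⟩ := IsLocalization.exist_integer_multiples_of_finset p.primeCompl f.coeffs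
  have hdunit : IsUnit (algebraMap A (Localization.AtPrime p) d) :=
    IsLocalization.map_units _ d
  have hlifts : f.scaleRoots (algebraMap A (Localization.AtPrime p) d) ∈
      Polynomial.lifts (algebraMap A (Localization.AtPrime p)) := by
    rw [Polynomial.lifts_iff_coeff_lifts]
    intro i
    rw [coeff_scaleRoots]
    by_cases hi : f.natDegree ≤ i
    · rcases hi.lt_or_eq with hlt | heq
      · rw [coeff_eq_zero_of_natDegree_lt hlt, zero_mul]
        exact ⟨0, map_zero _⟩
      · rw [← heq, Nat.sub_self, pow_zero, mul_one, coeff_natDegree, hf.leadingCoeff]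
        exact ⟨1, map_one _⟩
    · rw [not_le] at hi
      by_cases h0 : f.coeff i = 0
      · rw [h0, zero_mul]
        exact ⟨0, map_zero _⟩
      · obtain ⟨a, ha⟩ := hd (f.coeff i) (Polynomial.coeff_mem_coeffs h0)
        refine ⟨a * d ^ (f.natDegree - i - 1), ?_⟩
        rw [map_mul, ha, map_pow, Algebra.smul_def]
        have : f.natDegree - i = (f.natDegree - i - 1) + 1 := by omega
        conv_rhs => rw [this, pow_succ]
        ring
  obtain ⟨G, hG, hGdeg, hGm⟩ := Polynomial.lifts_and_natDegree_eq_and_monic hlifts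
    ((monic_scaleRoots_iff _).2 hf)
  obtain ⟨s, hs⟩ := hA G hGm
  have hcard : s.card = f.natDegree := by
    have h1 : G.natDegree = s.card := by
      rw [hs]
      haveI : Nontrivial A := ⟨⟨0, 1, fun h => (Ideal.IsPrime.ne_top ‹p.IsPrime›) (by
        rw [Ideal.eq_top_iff_one, ← h]; exact p.zero_mem)⟩⟩
      rw [natDegree_multiset_prod_of_monic]
      · simp
      · intro q hq
        obtain ⟨a, -, rfl⟩ := Multiset.mem_map.1 hq
        exact monic_X_sub_C a
    rw [← h1, hGdeg, natDegree_scaleRoots]
  obtain ⟨b, hb⟩ : ∃ b, b ∈ s := by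
    apply Multiset.card_pos_iff_exists_mem.1
    omega
  have hGb : G.eval b = 0 := by
    rw [hs, eval_multiset_prod]
    apply Multiset.prod_eq_zero
    rw [Multiset.map_map]
    exact Multiset.mem_map.2 ⟨b, hb, by simp⟩
  obtain ⟨u, hu⟩ := hdunit
  refine ⟨↑u⁻¹ * algebraMap A _ b, ?_⟩
  have h2 : (f.scaleRoots (algebraMap A (Localization.AtPrime p) d)).eval
      (algebraMap A (Localization.AtPrime p) d * (↑u⁻¹ * algebraMap A _ b)) = 0 := by
    rw [← hu, ← mul_assoc, Units.mul_inv, one_mul, hu, ← hG, eval_map_apply, hGb, map_zero]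
  rw [scaleRoots_eval_mul] at h2
  rw [IsRoot.def]
  exact (IsUnit.mul_right_eq_zero ((hu ▸ u.isUnit).pow _)).1 h2

end Groth.Agent.H11.AIC

namespace Groth.Agent.H11.AIC

theorem exists_factorization {A : Type u} [CommRing A]
    (hA : ∀ f : A[X], f.Monic → ∃ s : Multiset A, f = (s.map fun a => X - C a).prod)
    (p : Ideal A) [p.IsPrime] (n : ℕ) :
    ∀ (f : (Localization.AtPrime p)[X]), f.Monic → f.natDegree = n →
      ∃ s : Multiset (Localization.AtPrime p), f = (s.map fun a => X - C a).prod := by
  induction n with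
  | zero =>
    intro f hf h
    refine ⟨0, ?_⟩
    rw [Multiset.map_zero, Multiset.prod_zero]
    exact (Polynomial.Monic.natDegree_eq_zero hf).1 h
  | succ n ih =>
    intro f hf h
    obtain ⟨a, ha⟩ := exists_root hA p f hf (by omega)
    have hmul := mul_divByMonic_eq_iff_isRoot.2 ha
    have hq : (f /ₘ (X - C a)).Monic := by
      apply Polynomial.Monic.of_mul_monic_left (monic_X_sub_C a)
      rw [hmul]
      exact hf
    have hqdeg : (f /ₘ (X - C a)).natDegree = n := by
      rw [natDegree_divByMonic f (monic_X_sub_C a), natDegree_X_sub_C, h]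
      rfl
    obtain ⟨s, hs⟩ := ih _ hq hqdeg
    exact ⟨a ::ₘ s, by rw [Multiset.map_cons, Multiset.prod_cons, ← hs, hmul]⟩

theorem henselian_sepClosed {A : Type u} [CommRing A]
    (hA : ∀ f : A[X], f.Monic → ∃ s : Multiset A, f = (s.map fun a => X - C a).prod)
    (p : Ideal A) [p.IsPrime] :
    ∃ _ : HenselianLocalRing (Localization.AtPrime p),
      IsSepClosed (IsLocalRing.ResidueField (Localization.AtPrime p)) := by
  refine ⟨{ is_henselian := ?_ }, ?_⟩
  · intro f hf a₀ h₁ _
    obtain ⟨s, hs⟩ := exists_factorization hA p _ f hf rfl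
    have hev : ∀ x, f.eval x = (s.map fun a => x - a).prod := by
      intro x
      rw [hs, eval_multiset_prod, Multiset.map_map]
      congr 1
      apply Multiset.map_congr rfl
      intro a _
      simp
    rw [hev, Ideal.IsPrime.multiset_prod_mem_iff_exists_mem (Ideal.IsMaximal.isPrime
      (maximalIdeal.isMaximal _))] at h₁
    obtain ⟨y, hy, hym⟩ := h₁
    obtain ⟨a, has, rfl⟩ := Multiset.mem_map.1 hy
    refine ⟨a, ?_, ?_⟩
    · rw [IsRoot.def, hev]
      apply Multiset.prod_eq_zero
      exact Multiset.mem_map.2 ⟨a, has, sub_self a⟩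
    · have := Ideal.neg_mem_iff _ |>.2 hym
      rwa [neg_sub] at this
  · apply IsSepClosed.of_exists_root
    intro q hq hirr _
    obtain ⟨f, hfmap, hfdeg, hfm⟩ := Polynomial.lifts_and_natDegree_eq_and_monic
      (f := residue (Localization.AtPrime p)) (p := q)
      ((Polynomial.mem_lifts _).2 (Polynomial.map_surjective _ residue_surjective _)) hq
    have hpos : 1 ≤ f.natDegree := by
      rw [hfdeg]
      exact hirr.natDegree_pos
    obtain ⟨a, ha⟩ := exists_root hA p f hfm hpos
    refine ⟨residue _ a, ?_⟩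
    rw [← hfmap, eval_map_apply, ha.eq_zero, map_zero]

end Groth.Agent.H11.AIC
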