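import Mathlib
import Groth.Prelude.Def_CAlgX

/-!
For `A → B` adically formally smooth (local), `H₁(L_{K/A}) → H₁(L_{K/B})` is injective.
-/

namespace Groth.Agent.H11.AdicH1Inj

open Algebra MvPolynomial

universe u

section Abstract

variable {A B K : Type u} [CommRing A] [CommRing B] [CommRing K] [Algebra A B] [Algebra B K]
  [Algebra A K] [IsScalarTower A B K]
  {P : Extension.{u} A K} {P' : Extension.{u} B K} (f : P.Hom P')

theorem cotangent_map_injective (Φ : P'.Ring →+* P.Ring ⧸ P.ker ^ 2)
    (h1 : ∀ p : P.Ring, Φ (f.toRingHom p) = Ideal.Quotient.mk (P.ker ^ 2) p)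
    (h2 : ∀ y ∈ P'.ker, Φ y ∈ P.ker.map (Ideal.Quotient.mk (P.ker ^ 2))) :
    Function.Injective (Extension.Cotangent.map f) := by
  rw [injective_iff_map_eq_zero]
  intro x hx
  obtain ⟨⟨p, hp⟩, rfl⟩ := Extension.Cotangent.mk_surjective x
  rw [Extension.Cotangent.map_mk, Extension.Cotangent.mk_eq_zero_iff] at hx
  rw [Extension.Cotangent.mk_eq_zero_iff]
  change f.toRingHom p ∈ P'.ker ^ 2 at hx
  obtain ⟨Jb, hJb⟩ : ∃ Jb, Jb = P.ker.map (Ideal.Quotient.mk (P.ker ^ 2)) := ⟨_, rfl⟩
  rw [← hJb] at h2
  have h3 : Φ (f.toRingHom p) ∈ Jb ^ 2 := by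
    have : P'.ker ^ 2 ≤ (Jb ^ 2).comap Φ := by
      rw [pow_two P'.ker, pow_two Jb, Ideal.mul_le]
      intro a ha b hb
      rw [Ideal.mem_comap, map_mul]
      exact Ideal.mul_mem_mul (h2 a ha) (h2 b hb)
    exact this hx
  rw [hJb, ← Ideal.map_pow, Ideal.map_quotient_self, Ideal.mem_bot, h1] at h3
  exact Ideal.Quotient.eq_zero_iff_mem.1 h3

theorem h1Cotangent_map_injective (Φ : P'.Ring →+* P.Ring ⧸ P.ker ^ 2)
    (h1 : ∀ p : P.Ring, Φ (f.toRingHom p) = Ideal.Quotient.mk (P.ker ^ 2) p)
    (h2 : ∀ y ∈ P'.ker, Φ y ∈ P.ker.map (Ideal.Quotient.mk (P.ker ^ 2))) :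
    Function.Injective (Extension.H1Cotangent.map f) := by
  intro x y hxy
  have := congrArg Subtype.val hxy
  change Extension.Cotangent.map f x.1 = Extension.Cotangent.map f y.1 at this
  exact Subtype.ext (cotangent_map_injective f Φ h1 h2 this)

end Abstract

section Concrete

variable (A B : Type u) [CommRing A] [CommRing B] [IsLocalRing B] [Algebra A B]

local notation "KK" => IsLocalRing.ResidueField B

/-- The standard extension of the residue field over `A`. -/
noncomputable abbrev PA : Extension.{u} A (IsLocalRing.ResidueField B) :=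
  (Generators.self A (IsLocalRing.ResidueField B)).toExtension

/-- The standard extension of the residue field over `B`. -/
noncomputable abbrev PB : Extension.{u} B (IsLocalRing.ResidueField B) :=
  (Generators.self B (IsLocalRing.ResidueField B)).toExtension

/-- The standard map between them. -/
noncomputable abbrev ff : (PA A B).Hom (PB B) :=
  (Generators.defaultHom (Generators.self A (IsLocalRing.ResidueField B))
      (Generators.self B (IsLocalRing.ResidueField B))).toExtensionHom

omit [IsLocalRing B] in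
theorem hextA {K : Type u} [CommRing K] [Algebra A K] {T : Type u} [CommRing T]
    (F G : (Generators.self A K).toExtension.Ring →+* T)
    (h1 : ∀ a, F (algebraMap A _ a) = G (algebraMap A _ a))
    (h2 : ∀ k : K, F (X k : MvPolynomial K A) = G (X k : MvPolynomial K A)) : F = G :=
  MvPolynomial.ringHom_ext h1 h2

omit [IsLocalRing B] in
theorem exists_hom {K : Type u} [CommRing K] [Algebra B K] {T : Type u} [CommRing T]
    (χ : B →+* T) (t : K → T) :
    ∃ Φ : (Generators.self B K).toExtension.Ring →+* T,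
      (∀ b, Φ (algebraMap B _ b) = χ b) ∧ ∀ k : K, Φ (X k : MvPolynomial K B) = t k :=
  ⟨MvPolynomial.eval₂Hom χ t, fun b => MvPolynomial.eval₂_C _ _ _,
    fun k => MvPolynomial.eval₂_X _ _ _⟩

theorem ff_C (a : A) : (ff A B).toRingHom (algebraMap A (PA A B).Ring a) =
    algebraMap B (PB B).Ring (algebraMap A B a) :=
  Generators.Hom.toAlgHom_C (Generators.defaultHom
    (Generators.self A (IsLocalRing.ResidueField B))
    (Generators.self B (IsLocalRing.ResidueField B))) a

theorem ff_X (k : KK) : (ff A B).toRingHom (X k : MvPolynomial KK A) = (X k : MvPolynomial KK B) :=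
  Generators.Hom.toAlgHom_X (Generators.defaultHom
    (Generators.self A (IsLocalRing.ResidueField B))
    (Generators.self B (IsLocalRing.ResidueField B))) k

theorem algebraMap_XA (k : KK) : algebraMap (PA A B).Ring KK (X k : MvPolynomial KK A) = k :=
  MvPolynomial.aeval_X _ _

theorem algebraMap_XB (k : KK) : algebraMap (PB B).Ring KK (X k : MvPolynomial KK B) = k :=
  MvPolynomial.aeval_X _ _

theorem algebraMap_CB (b : B) : algebraMap (PB B).Ring KK (algebraMap B (PB B).Ring b) =
    algebraMap B KK b :=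
  MvPolynomial.aeval_C _ _

theorem main (hfs : CAlgX.IsAdicFormallySmooth A B (IsLocalRing.maximalIdeal B)) :
    Function.Injective (Algebra.H1Cotangent.map A B (IsLocalRing.ResidueField B)
      (IsLocalRing.ResidueField B)) := by
  obtain ⟨J, hJdef⟩ : ∃ J : Ideal ((PA A B).Ring ⧸ (PA A B).ker ^ 2),
    J = (PA A B).ker.map (Ideal.Quotient.mk ((PA A B).ker ^ 2)) := ⟨_, rfl⟩
  have hJ : J ^ 2 = ⊥ := by rw [hJdef, ← Ideal.map_pow, Ideal.map_quotient_self]
  let π : (PA A B).Ring →ₐ[A] ((PA A B).Ring ⧸ (PA A B).ker ^ 2) ⧸ J :=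
    (Ideal.Quotient.mkₐ A J).comp (Ideal.Quotient.mkₐ A ((PA A B).ker ^ 2))
  have hπ : ∀ x ∈ (PA A B).ker, π x = 0 := by
    intro x hx
    refine Ideal.Quotient.eq_zero_iff_mem.2 ?_
    rw [hJdef]
    exact Ideal.mem_map_of_mem _ hx
  have hπ' : ∀ x y : (PA A B).Ring, algebraMap (PA A B).Ring KK x = algebraMap (PA A B).Ring KK y →
      π x = π y := by
    intro x y hxy
    rw [← sub_eq_zero, ← map_sub]
    apply hπ
    change algebraMap (PA A B).Ring KK (x - y) = 0
    rw [map_sub, hxy, sub_self]
  let g : KK →ₐ[A] ((PA A B).Ring ⧸ (PA A B).ker ^ 2) ⧸ J :=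
    { toFun := fun k => π ((PA A B).σ k)
      map_one' := by
        rw [← map_one π]
        exact hπ' _ _ (by rw [(PA A B).algebraMap_σ, map_one])
      map_mul' := fun a b => by
        rw [← map_mul π]
        exact hπ' _ _ (by rw [(PA A B).algebraMap_σ, map_mul, (PA A B).algebraMap_σ, (PA A B).algebraMap_σ])
      map_zero' := by
        rw [← map_zero π]
        exact hπ' _ _ (by rw [(PA A B).algebraMap_σ, map_zero])
      map_add' := fun a b => by
        rw [← map_add π]
        exact hπ' _ _ (by rw [(PA A B).algebraMap_σ, map_add, (PA A B).algebraMap_σ, (PA A B).algebraMap_σ])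
      commutes' := fun a => by
        rw [← π.commutes a]
        exact hπ' _ _ (by
          rw [(PA A B).algebraMap_σ, ← IsScalarTower.algebraMap_apply]) }
  have hg : ∀ p : (PA A B).Ring, g (algebraMap (PA A B).Ring KK p) = π p := by
    intro p
    exact hπ' _ _ (by rw [(PA A B).algebraMap_σ])
  let ψ : B →ₐ[A] ((PA A B).Ring ⧸ (PA A B).ker ^ 2) ⧸ J :=
    g.comp (IsScalarTower.toAlgHom A B KK)
  obtain ⟨χ, hχ⟩ := hfs ((PA A B).Ring ⧸ (PA A B).ker ^ 2) J hJ ψ ⟨1, by
    intro x hx
    rw [pow_one] at hx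
    change g (algebraMap B KK x) = 0
    have : algebraMap B KK x = 0 := (IsLocalRing.residue_eq_zero_iff x).2 hx
    rw [this, map_zero]⟩
  obtain ⟨Φ, hΦC, hΦX⟩ := exists_hom (B := B) (K := KK) (χ : B →+* (PA A B).Ring ⧸ (PA A B).ker ^ 2)
    (fun k => Ideal.Quotient.mk ((PA A B).ker ^ 2) (X k : MvPolynomial KK A))
  have h1 : ∀ p : (PA A B).Ring, Φ ((ff A B).toRingHom p) = Ideal.Quotient.mk ((PA A B).ker ^ 2) p := by
    have : Φ.comp (ff A B).toRingHom = Ideal.Quotient.mk ((PA A B).ker ^ 2) := by
      apply hextA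
      · intro a
        rw [RingHom.comp_apply, ff_C, hΦC]
        exact χ.commutes a
      · intro k
        exact (congrArg Φ (ff_X A B k)).trans (hΦX k)
    exact fun p => RingHom.congr_fun this p
  have h2 : ∀ y ∈ (PB B).ker, Φ y ∈ (PA A B).ker.map (Ideal.Quotient.mk ((PA A B).ker ^ 2)) := by
    rw [← hJdef]
    have : (Ideal.Quotient.mk J).comp Φ =
        (g : KK →+* ((PA A B).Ring ⧸ (PA A B).ker ^ 2) ⧸ J).comp (algebraMap (PB B).Ring KK) := by
      apply hextA (A := B) (K := KK)
      · intro b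
        rw [RingHom.comp_apply, RingHom.comp_apply, hΦC, algebraMap_CB]
        exact AlgHom.congr_fun hχ b
      · intro k
        have e1 : Ideal.Quotient.mk J (Φ (X k : MvPolynomial KK B)) =
            π (X k : MvPolynomial KK A) := congrArg (Ideal.Quotient.mk J) (hΦX k)
        have e2 : g (algebraMap (PB B).Ring KK (X k : MvPolynomial KK B)) = g k :=
          congrArg g (algebraMap_XB B k)
        have e3 : g k = π (X k : MvPolynomial KK A) := by
          have := hg (X k : MvPolynomial KK A)
          rwa [algebraMap_XA] at this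
        exact e1.trans (e2.trans e3).symm
    intro y hy
    have h := RingHom.congr_fun this y
    rw [RingHom.comp_apply, RingHom.comp_apply] at h
    have hy0 : algebraMap (PB B).Ring KK y = 0 := hy
    rw [hy0, map_zero] at h
    exact Ideal.Quotient.eq_zero_iff_mem.1 h
  change Function.Injective (Extension.H1Cotangent.map (ff A B))
  exact h1Cotangent_map_injective (ff A B) Φ h1 h2

end Concrete

end Groth.Agent.H11.AdicH1Inj
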