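import Mathlib

/-!
# Injectivity of the conormal map of square-zero extensions
-/

set_option autoImplicit false

universe u

namespace Groth.Agent.H11.ConormalInj

open TensorProduct KaehlerDifferential Algebra

section Inj

variable {R S : Type u} [CommRing R] [CommRing S] [Algebra R S]

/-- If `S` is formally smooth over `R` then the cotangent complex of any square-zero extension
of `S` is injective. -/
theorem cotangentComplex_injective_of_formallySmooth (Q : Extension.{u} R S)
    (hsq : Q.ker ^ 2 = ⊥) [Algebra.FormallySmooth R S] :
    Function.Injective Q.cotangentComplex := by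
  have hsurj : Function.Surjective (IsScalarTower.toAlgHom R Q.Ring S) :=
    Q.algebraMap_surjective
  have hnil : IsNilpotent (RingHom.ker (IsScalarTower.toAlgHom R Q.Ring S)) := ⟨2, hsq⟩
  let g : S →ₐ[R] Q.Ring := Algebra.FormallySmooth.liftOfSurjective (AlgHom.id R S)
    (IsScalarTower.toAlgHom R Q.Ring S) hsurj hnil
  have hg : (IsScalarTower.toAlgHom R Q.Ring S).comp g = AlgHom.id R S :=
    Algebra.FormallySmooth.comp_liftOfSurjective _ _ hsurj hnil
  have hret := retractionOfSectionOfKerSqZero_comp_kerToTensor g hsq hg
  have hinj : Function.Injective (kerToTensor R Q.Ring S) := fun a b h => by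
    have := congrArg (retractionOfSectionOfKerSqZero g hsq hg) h
    rw [← LinearMap.comp_apply, ← LinearMap.comp_apply, hret] at this
    exact this
  intro c₁ c₂ h
  obtain ⟨x₁, rfl⟩ := Extension.Cotangent.mk_surjective c₁
  obtain ⟨x₂, rfl⟩ := Extension.Cotangent.mk_surjective c₂
  rw [Extension.cotangentComplex_mk, Extension.cotangentComplex_mk] at h
  have : x₁ = x₂ := hinj h
  rw [this]

end Inj

section Red

variable {B : Type u} [CommRing B] [IsReduced B] {N : Type u} [AddCommGroup N] [Module B N]
  [Module.Projective B N]

/-- An element of a projective module over a reduced ring which is killed, at every minimal prime,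
by an element outside that prime, is zero. -/
theorem eq_zero_of_forall_minimalPrimes (c : N)
    (h : ∀ p ∈ minimalPrimes B, ∃ t ∉ p, t • c = 0) : c = 0 := by
  obtain ⟨s, hs⟩ := (Module.projective_def' (R := B) (P := N)).1 inferInstance
  have hv : s c = 0 := by
    ext i
    rw [Finsupp.zero_apply]
    have hmem : s c i ∈ sInf (minimalPrimes B) := by
      rw [Ideal.mem_sInf]
      intro p hp
      obtain ⟨t, htp, htc⟩ := h p hp
      haveI : p.IsPrime := hp.1.1
      have h0 : t * s c i = 0 := by
        have := congrArg (fun v => v i) (congrArg s htc)
        simpa using this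
      have : t * s c i ∈ p := by rw [h0]; exact p.zero_mem
      exact (Ideal.IsPrime.mem_or_mem inferInstance this).resolve_left htp
    have hnil : sInf (minimalPrimes B) = ⊥ := by
      have := Ideal.sInf_minimalPrimes (I := (⊥ : Ideal B))
      rw [show (⊥ : Ideal B).radical = nilradical B from rfl, nilradical_eq_zero] at this
      exact this
    rw [hnil] at hmem
    exact hmem
  have := congrArg (fun l => l c) hs
  simp only [LinearMap.comp_apply, LinearMap.id_apply] at this
  rw [← this, hv, map_zero]

end Red

section Loc

variable {R S : Type u} [CommRing R] [CommRing S] [Algebra R S]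
variable (P : Extension.{u} R S) (M : Submonoid S) (S' : Type u) [CommRing S'] [Algebra S S']
  [IsLocalization M S'] [Algebra R S'] [IsScalarTower R S S']

set_option backward.isDefEq.respectTransparency false in
/-- The canonical morphism from an extension to its localization. -/
noncomputable def locHom : P.Hom (P.localization M (S' := S')) where
  toRingHom := algebraMap P.Ring (Localization (M.comap (algebraMap P.Ring S)))
  toRingHom_algebraMap := fun r =>
    (IsScalarTower.algebraMap_apply R P.Ring (Localization (M.comap (algebraMap P.Ring S))) r).symm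
  algebraMap_toRingHom := fun x => by
    change IsLocalization.lift (M := M.comap (algebraMap P.Ring S))
      (g := (algebraMap S S').comp (algebraMap P.Ring S)) _
      (algebraMap P.Ring (Localization (M.comap (algebraMap P.Ring S))) x) = _
    rw [IsLocalization.lift_eq]
    rfl

set_option backward.isDefEq.respectTransparency false in
theorem ker_localization_le :
    (P.localization M (S' := S')).ker ≤
      P.ker.map (algebraMap P.Ring (Localization (M.comap (algebraMap P.Ring S)))) := by
  intro y hy
  have hall : ∀ z : Localization (M.comap (algebraMap P.Ring S)), ∃ e s,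
      IsLocalization.mk' (Localization (M.comap (algebraMap P.Ring S))) e s = z :=
    fun z => IsLocalization.exists_mk'_eq (M.comap (algebraMap P.Ring S)) z
  obtain ⟨e, s, hes⟩ := hall y
  subst hes
  have h1 : algebraMap (P.localization M (S' := S')).Ring S'
      (algebraMap P.Ring (Localization (M.comap (algebraMap P.Ring S))) e) = 0 := by
    have h2 : IsLocalization.mk' (Localization (M.comap (algebraMap P.Ring S))) e s *
        algebraMap P.Ring (Localization (M.comap (algebraMap P.Ring S))) (s : P.Ring) =
        algebraMap P.Ring (Localization (M.comap (algebraMap P.Ring S))) e :=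
      IsLocalization.mk'_spec _ _ _
    rw [← h2, map_mul]
    rw [RingHom.mem_ker] at hy
    rw [hy, zero_mul]
  have h3 : algebraMap S S' (algebraMap P.Ring S e) = 0 := by
    rw [← h1]
    exact ((locHom P M S').algebraMap_toRingHom e).symm
  obtain ⟨⟨t, ht⟩, hte⟩ := (IsLocalization.map_eq_zero_iff M S' _).1 h3
  obtain ⟨u, rfl⟩ := P.algebraMap_surjective t
  have hu : u ∈ M.comap (algebraMap P.Ring S) := ht
  have hue : u * e ∈ P.ker := by
    rw [RingHom.mem_ker, map_mul]
    exact hte
  have h4 : IsLocalization.mk' (Localization (M.comap (algebraMap P.Ring S))) e s *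
      algebraMap P.Ring (Localization (M.comap (algebraMap P.Ring S))) (u * (s : P.Ring)) =
      algebraMap P.Ring (Localization (M.comap (algebraMap P.Ring S))) (u * e) := by
    rw [map_mul, map_mul, mul_left_comm, IsLocalization.mk'_spec]
  have hunit : IsUnit (algebraMap P.Ring (Localization (M.comap (algebraMap P.Ring S)))
      (u * (s : P.Ring))) :=
    IsLocalization.map_units _ (⟨u * s, mul_mem hu s.2⟩ : M.comap (algebraMap P.Ring S))
  refine (Ideal.mul_unit_mem_iff_mem _ hunit).1 ?_
  rw [h4]
  exact Ideal.mem_map_of_mem _ hue

set_option backward.isDefEq.respectTransparency false in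
theorem ker_localization_sq (hsq : P.ker ^ 2 = ⊥) :
    (P.localization M (S' := S')).ker ^ 2 = ⊥ := by
  rw [eq_bot_iff]
  refine (Ideal.pow_right_mono (ker_localization_le P M S') 2).trans ?_
  rw [← Ideal.map_pow, hsq, Ideal.map_bot]

set_option backward.isDefEq.respectTransparency false in
/-- If the localization `S'` of `S` is formally smooth over `R`, then every element of the kernel of
the cotangent complex of a square-zero extension `P` of `S` is killed by an element of `M`. -/
theorem exists_smul_eq_zero (hsq : P.ker ^ 2 = ⊥) [Algebra.FormallySmooth R S']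
    (c : P.Cotangent) (hc : P.cotangentComplex c = 0) : ∃ t ∈ M, t • c = 0 := by
  obtain ⟨x, rfl⟩ := Extension.Cotangent.mk_surjective c
  have hQ := cotangentComplex_injective_of_formallySmooth (P.localization M (S' := S'))
    (ker_localization_sq P M S' hsq)
  have h1 : (P.localization M (S' := S')).cotangentComplex
      (Extension.Cotangent.map (locHom P M S') (Extension.Cotangent.mk x)) = 0 := by
    rw [← Extension.CotangentSpace.map_cotangentComplex, hc, map_zero]
  have h2 := hQ (h1.trans (map_zero _).symm)
  rw [Extension.Cotangent.map_mk, Extension.Cotangent.mk_eq_zero_iff,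
    ker_localization_sq P M S' hsq] at h2
  have h3 : algebraMap P.Ring (Localization (M.comap (algebraMap P.Ring S))) x.1 = 0 := h2
  obtain ⟨⟨u, hu⟩, hux⟩ := (IsLocalization.map_eq_zero_iff (M.comap (algebraMap P.Ring S))
    (Localization (M.comap (algebraMap P.Ring S))) _).1 h3
  refine ⟨algebraMap P.Ring S u, hu, ?_⟩
  rw [algebraMap_smul, ← map_smul]
  have : u • x = 0 := Subtype.ext hux
  rw [this, map_zero]

end Loc

section Generic

variable {A B : Type u} [CommRing A] [CommRing B] [Algebra A B] [IsReduced B]

/-- The conormal map of a square-zero extension with projective kernel of a reduced algebra which is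
smooth at its minimal primes is injective. -/
theorem cotangentComplex_injective
    (hsm : ∀ p : PrimeSpectrum B, p.asIdeal ∈ minimalPrimes B → Algebra.IsSmoothAt A p.asIdeal)
    (P : Algebra.Extension.{u} A B) (hsq : P.ker ^ 2 = ⊥) [Module.Projective B P.Cotangent] :
    Function.Injective P.cotangentComplex := by
  rw [injective_iff_map_eq_zero]
  intro c hc
  apply eq_zero_of_forall_minimalPrimes (B := B) c
  intro p hp
  haveI : p.IsPrime := hp.1.1
  haveI : Algebra.FormallySmooth A (Localization.AtPrime p) := hsm ⟨p, inferInstance⟩ hp
  obtain ⟨t, ht, htc⟩ := exists_smul_eq_zero P p.primeCompl (Localization.AtPrime p) hsq c hc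
  exact ⟨t, ht, htc⟩

end Generic

end Groth.Agent.H11.ConormalInj
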