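import Mathlib

/-!
# `H¹` of the cotangent complex and finite separable residue field extensions
-/

set_option autoImplicit false

universe u

namespace Groth.Agent.H11.H1Sep

open TensorProduct Polynomial Algebra

section Abstract

variable {R S T : Type u} [CommRing R] [CommRing S] [CommRing T] [Algebra R S] [Algebra R T]
  [Algebra S T] [IsScalarTower R S T]

set_option backward.isDefEq.respectTransparency false in
/-- The canonical hom from the standard extension to any extension. -/
noncomputable def selfHom (P : Extension.{u} R S) : (Generators.self R S).toExtension.Hom P where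
  toRingHom := (MvPolynomial.aeval P.σ).toRingHom
  toRingHom_algebraMap := (MvPolynomial.aeval P.σ).commutes
  algebraMap_toRingHom := by
    have : (IsScalarTower.toAlgHom R P.Ring S).comp (MvPolynomial.aeval P.σ) =
        IsScalarTower.toAlgHom _ (Generators.self R S).toExtension.Ring _ := by
      ext i
      change _ = algebraMap (Generators.self R S).Ring _ (.X i)
      simp
    exact DFunLike.congr_fun this

set_option backward.isDefEq.respectTransparency false in
/-- To prove that `T ⊗ H¹(L_{S/R}) → H¹(L_{T/R})` is bijective it suffices to do so for the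
map induced by a morphism of formally smooth extensions. -/
theorem bijective_of_extension_hom (P : Extension.{u} R S) (Q : Extension.{u} R T) (f : P.Hom Q)
    [FormallySmooth R P.Ring] [FormallySmooth R Q.Ring]
    (hf : Function.Bijective ((Extension.H1Cotangent.map f).liftBaseChange T)) :
    Function.Bijective ((Algebra.H1Cotangent.map R R S T).liftBaseChange T) := by
  haveI : FormallySmooth R (Generators.self R S).toExtension.Ring :=
    inferInstanceAs (FormallySmooth R (MvPolynomial _ _))
  haveI : FormallySmooth R (Generators.self R T).toExtension.Ring :=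
    inferInstanceAs (FormallySmooth R (MvPolynomial _ _))
  let gP := selfHom P
  let gQ := selfHom Q
  let std : (Generators.self R S).toExtension.Hom (Generators.self R T).toExtension :=
    (Generators.defaultHom _ _).toExtensionHom
  have hgP : Function.Bijective (Extension.H1Cotangent.map gP) := by
    have := Extension.H1Cotangent.equivOfFormallySmooth_toLinearMap gP
    rw [← LinearMap.coe_restrictScalars (R := S), ← this]
    exact (Extension.H1Cotangent.equivOfFormallySmooth _ _).bijective
  have hgQ : Function.Bijective (Extension.H1Cotangent.map gQ) := by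
    have := Extension.H1Cotangent.equivOfFormallySmooth_toLinearMap gQ
    rw [← LinearMap.coe_restrictScalars (R := T), ← this]
    exact (Extension.H1Cotangent.equivOfFormallySmooth _ _).bijective
  have hcomm : ∀ x, Extension.H1Cotangent.map gQ (Extension.H1Cotangent.map std x) =
      Extension.H1Cotangent.map f (Extension.H1Cotangent.map gP x) := by
    intro x
    rw [← Extension.H1Cotangent.map_comp_apply, ← Extension.H1Cotangent.map_comp_apply]
    exact LinearMap.congr_fun (Extension.H1Cotangent.map_eq _ _) x
  have key : ∀ z, Extension.H1Cotangent.map gQ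
      ((Algebra.H1Cotangent.map R R S T).liftBaseChange T z) =
      (Extension.H1Cotangent.map f).liftBaseChange T
        ((Extension.H1Cotangent.map gP).baseChange T z) := by
    intro z
    induction z with
    | zero => simp
    | add a b ha hb => simp only [map_add, ha, hb]
    | tmul t x =>
      rw [LinearMap.liftBaseChange_tmul, LinearMap.baseChange_tmul,
        LinearMap.liftBaseChange_tmul, map_smul]
      congr 1
      exact hcomm x
  have hB : Function.Bijective ((Extension.H1Cotangent.map gP).baseChange T) := by
    let e := LinearEquiv.ofBijective _ hgP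
    have : ((Extension.H1Cotangent.map gP).baseChange T : _ → _) =
        (LinearEquiv.lTensor T e : _ → _) := by
      ext z
      rw [LinearMap.baseChange_eq_ltensor]
      rfl
    rw [this]
    exact (LinearEquiv.lTensor T e).bijective
  have h2 : Function.Bijective (Extension.H1Cotangent.map gQ ∘
      (Algebra.H1Cotangent.map R R S T).liftBaseChange T) := by
    have : (Extension.H1Cotangent.map gQ ∘
      (Algebra.H1Cotangent.map R R S T).liftBaseChange T) =
      ((Extension.H1Cotangent.map f).liftBaseChange T) ∘
        ((Extension.H1Cotangent.map gP).baseChange T) := funext key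
    rw [this]
    exact hf.comp hB
  exact (Function.Bijective.of_comp_iff' hgQ _).1 h2

end Abstract

section Kernel

variable {Λ K L : Type u} [CommRing Λ] [Field K] [Field L] [Algebra Λ K] [Algebra K L] [Algebra Λ L]
  [IsScalarTower Λ K L]

/-- A polynomial over `Λ` whose image in `K[X]` vanishes evaluates into the extended kernel. -/
theorem aeval_mem_map_of_map_eq_zero {E : Type u} [CommRing E] [Algebra Λ E] (x : E) (r : Λ[X])
    (hr : r.map (algebraMap Λ K) = 0) :
    aeval x r ∈ (RingHom.ker (algebraMap Λ K)).map (algebraMap Λ E) := by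
  rw [Polynomial.aeval_eq_sum_range]
  refine Ideal.sum_mem _ fun i _ => ?_
  rw [Algebra.smul_def]
  refine Ideal.mul_mem_right _ _ (Ideal.mem_map_of_mem _ ?_)
  rw [RingHom.mem_ker]
  have := congrArg (fun q => q.coeff i) hr
  simpa using this

end Kernel

section Main

variable {Λ K L : Type u} [CommRing Λ] [Field K] [Field L] [Algebra Λ K] [Algebra K L] [Algebra Λ L]
  [IsScalarTower Λ K L]

/-- Existence of a standard étale lift of a finite separable extension of a residue field. -/
theorem exists_standardEtale_lift (hsurj : Function.Surjective (algebraMap Λ K))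
    [FiniteDimensional K L] [Algebra.IsSeparable K L] :
    ∃ (P : StandardEtalePair Λ) (φ : P.Ring →ₐ[Λ] L), Function.Surjective φ ∧
      RingHom.ker φ ≤ (RingHom.ker (algebraMap Λ K)).map (algebraMap Λ P.Ring) := by
  obtain ⟨α, hα⟩ := Field.exists_primitive_element K L
  have hαint : IsIntegral K α := Algebra.IsIntegral.isIntegral α
  have hgm : (minpoly K α).Monic := minpoly.monic hαint
  have hlift : ∀ q : K[X], ∃ Q : Λ[X], Q.map (algebraMap Λ K) = q :=
    Polynomial.map_surjective (algebraMap Λ K) hsurj
  obtain ⟨G, hGmap, -, hGm⟩ := Polynomial.lifts_and_degree_eq_and_monic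
    (f := algebraMap Λ K) (p := minpoly K α)
    ((Polynomial.mem_lifts _).2 (hlift _)) hgm
  let P : StandardEtalePair Λ := ⟨G, hGm, derivative G, ⟨1, 0, 1, by simp⟩⟩
  have hmapα : P.HasMap α := by
    constructor
    · show aeval α G = 0
      rw [← Polynomial.aeval_map_algebraMap K, hGmap]
      exact minpoly.aeval K α
    · show IsUnit (aeval α (derivative G))
      rw [← Polynomial.aeval_map_algebraMap K, ← Polynomial.derivative_map, hGmap]
      exact isUnit_iff_ne_zero.2 ((Algebra.IsSeparable.isSeparable K α).aeval_derivative_ne_zero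
        (minpoly.aeval K α))
  let φ : P.Ring →ₐ[Λ] L := P.lift α hmapα
  have hφX : φ P.X = α := P.lift_X α hmapα
  have hφaeval : ∀ Q : Λ[X], φ (aeval P.X Q) = aeval α (Q.map (algebraMap Λ K)) := by
    intro Q
    rw [← Polynomial.aeval_algHom_apply, hφX, Polynomial.aeval_map_algebraMap]
  refine ⟨P, φ, ?_, ?_⟩
  · intro l
    have hl : l ∈ Algebra.adjoin K {α} := by
      rw [← IntermediateField.adjoin_simple_toSubalgebra_of_isAlgebraic hαint.isAlgebraic, hα]
      exact Algebra.mem_top
    rw [Algebra.adjoin_singleton_eq_range_aeval] at hl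
    obtain ⟨q, rfl⟩ := hl
    obtain ⟨Q, rfl⟩ := hlift q
    exact ⟨aeval P.X Q, hφaeval Q⟩
  · intro x hx
    rw [RingHom.mem_ker] at hx
    let pres : StandardEtalePresentation Λ P.Ring :=
      ⟨P, P.X, P.hasMap_X, by simpa [StandardEtalePair.lift_X_left] using Function.bijective_id⟩
    obtain ⟨p, n, hpn⟩ := pres.exists_mul_aeval_x_g_pow_eq_aeval_x x
    change x * aeval P.X P.g ^ n = aeval P.X p at hpn
    have h0 : aeval α (p.map (algebraMap Λ K)) = 0 := by
      rw [← hφaeval, ← hpn, map_mul, hx, zero_mul]
    obtain ⟨q, hq⟩ := minpoly.dvd K α h0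
    obtain ⟨Q, rfl⟩ := hlift q
    have hr : (p - G * Q).map (algebraMap Λ K) = 0 := by
      rw [Polynomial.map_sub, Polynomial.map_mul, hGmap, hq, sub_self]
    have h1 : aeval P.X p = aeval P.X (p - G * Q) := by
      rw [map_sub, map_mul]
      have : aeval P.X G = 0 := P.hasMap_X.1
      rw [this, zero_mul, sub_zero]
    have h2 : x * aeval P.X P.g ^ n ∈
        (RingHom.ker (algebraMap Λ K)).map (algebraMap Λ P.Ring) := by
      rw [hpn, h1]
      exact aeval_mem_map_of_map_eq_zero _ _ hr
    exact (Ideal.mul_unit_mem_iff_mem _ (P.hasMap_X.2.pow n)).1 h2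

end Main

section MapKer

variable {R S T : Type u} [CommRing R] [CommRing S] [CommRing T] [Algebra R S] [Algebra R T]
  [Algebra S T] [IsScalarTower R S T]

omit [IsScalarTower R S T] in
/-- If `Q.Ring` is flat over `P.Ring` and `ker Q` is generated by `ker P`, then
`Q.Ring ⊗ ker P → ker Q` is bijective. -/
theorem bijective_mapKer {P : Extension.{u} R S} {Q : Extension.{u} R T} (f : P.Hom Q)
    [alg : Algebra P.Ring Q.Ring] (halg : algebraMap P.Ring Q.Ring = f.toRingHom)
    [Module.Flat P.Ring Q.Ring] (hker : Q.ker ≤ P.ker.map (algebraMap P.Ring Q.Ring)) :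
    Function.Bijective ((f.mapKer halg).liftBaseChange Q.Ring) := by
  have hcoe : ∀ z : Q.Ring ⊗[P.Ring] P.ker,
      ((f.mapKer halg).liftBaseChange Q.Ring z).1 =
        TensorProduct.rid P.Ring Q.Ring (LinearMap.lTensor Q.Ring (P.ker.subtype) z) := by
    intro z
    induction z with
    | zero => simp
    | add a b ha hb => simp only [map_add, Submodule.coe_add, ha, hb]
    | tmul e a =>
      rw [LinearMap.liftBaseChange_tmul, LinearMap.lTensor_tmul, TensorProduct.rid_tmul]
      change e * f.toRingHom a.1 = _
      rw [mul_comm, Algebra.smul_def, halg]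
      rfl
  constructor
  · intro z₁ z₂ h
    have h1 := hcoe z₁
    rw [h, hcoe z₂] at h1
    have h2 := (TensorProduct.rid P.Ring Q.Ring).injective h1
    exact (Module.Flat.lTensor_preserves_injective_linearMap (M := Q.Ring)
      (P.ker.subtype) Subtype.val_injective h2).symm
  · have hsp : ∀ y ∈ P.ker.map (algebraMap P.Ring Q.Ring),
        ∃ z, ((f.mapKer halg).liftBaseChange Q.Ring z).1 = y := by
      intro y hy
      refine Submodule.span_induction ?_ ?_ ?_ ?_ hy
      · rintro _ ⟨a, ha, rfl⟩
        refine ⟨(1 : Q.Ring) ⊗ₜ ⟨a, ha⟩, ?_⟩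
        rw [LinearMap.liftBaseChange_tmul, one_smul, halg]
        rfl
      · exact ⟨0, by simp⟩
      · rintro y₁ y₂ - - ⟨z₁, rfl⟩ ⟨z₂, rfl⟩
        exact ⟨z₁ + z₂, by simp only [map_add, Submodule.coe_add]⟩
      · rintro e y - ⟨z, rfl⟩
        exact ⟨e • z, by rw [map_smul]; rfl⟩
    intro y
    obtain ⟨z, hz⟩ := hsp y.1 (hker y.2)
    exact ⟨z, Subtype.ext hz⟩

end MapKer

section Final

variable {Λ K L : Type u} [CommRing Λ] [Field K] [Field L] [Algebra Λ K] [Algebra K L] [Algebra Λ L]
  [IsScalarTower Λ K L]

/-- The extension `Λ → K`. -/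
noncomputable def extP (hsurj : Function.Surjective (algebraMap Λ K)) : Extension.{u} Λ K :=
  Extension.ofSurjective (Algebra.ofId Λ K) hsurj

/-- The extension `E → L`. -/
noncomputable def extQ {E : Type u} [CommRing E] [Algebra Λ E] (φ : E →ₐ[Λ] L)
    (hφ : Function.Surjective φ) : Extension.{u} Λ L :=
  Extension.ofSurjective φ hφ

/-- The morphism of extensions. -/
noncomputable def extHom (hsurj : Function.Surjective (algebraMap Λ K))
    {E : Type u} [CommRing E] [Algebra Λ E] (φ : E →ₐ[Λ] L)
    (hφ : Function.Surjective φ) : (extP (K := K) hsurj).Hom (extQ φ hφ) where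
  toRingHom := algebraMap Λ E
  toRingHom_algebraMap := fun x => rfl
  algebraMap_toRingHom := by
    intro x
    have h : ∀ y : Λ, φ (algebraMap Λ E y) = algebraMap K L (algebraMap Λ K y) := fun y => by
      rw [AlgHom.commutes, ← IsScalarTower.algebraMap_apply]
    exact h x

/-- If `Λ → K` is surjective onto a field and `L/K` is finite separable then
`L ⊗_K H¹(L_{K/Λ}) → H¹(L_{L/Λ})` is bijective. -/
theorem bijective_liftBaseChange_of_separable (hsurj : Function.Surjective (algebraMap Λ K))
    [FiniteDimensional K L] [Algebra.IsSeparable K L] :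
    Function.Bijective ((Algebra.H1Cotangent.map Λ Λ K L).liftBaseChange L) := by
  obtain ⟨SP, φ, hφ, hker⟩ := exists_standardEtale_lift (Λ := Λ) (K := K) (L := L) hsurj
  haveI : FormallySmooth Λ (extP (K := K) hsurj).Ring := inferInstanceAs (FormallySmooth Λ Λ)
  haveI : FormallySmooth Λ (extQ φ hφ).Ring := inferInstanceAs (FormallySmooth Λ SP.Ring)
  letI alg : Algebra (extP (K := K) hsurj).Ring (extQ φ hφ).Ring :=
    (inferInstance : Algebra Λ SP.Ring)
  have halg : algebraMap (extP (K := K) hsurj).Ring (extQ φ hφ).Ring =
    (extHom hsurj φ hφ).toRingHom := rfl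
  have H₁ : (extHom hsurj φ hφ).toRingHom.FormallyEtale :=
    RingHom.formallyEtale_algebraMap.mpr (inferInstanceAs (Algebra.FormallyEtale Λ SP.Ring))
  haveI : Module.Flat (extP (K := K) hsurj).Ring (extQ φ hφ).Ring :=
    inferInstanceAs (Module.Flat Λ SP.Ring)
  have H₂ := bijective_mapKer (extHom hsurj φ hφ) halg hker
  haveI : Module.Flat K L := inferInstance
  exact bijective_of_extension_hom _ _ (extHom hsurj φ hφ)
    (Extension.tensorH1CotangentOfFormallyEtale (extHom hsurj φ hφ) halg H₁ H₂).bijective

end Final

end Groth.Agent.H11.H1Sep
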