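import Mathlib

/-!
# Smoothness at a prime via the Jacobi–Zariski sequence
-/

universe u

namespace Groth.Agent.H11.SmoothAtJZ

open TensorProduct

section Local

variable {R' : Type u} [CommRing R'] [IsLocalRing R']
  {M1 M2 P Q W : Type u} [AddCommGroup M1] [AddCommGroup M2] [AddCommGroup P] [AddCommGroup Q]
  [AddCommGroup W] [Module R' M1] [Module R' M2] [Module R' P] [Module R' Q] [Module R' W]

theorem local_criterion [Module.Finite R' P] [Module.Finite R' Q] [Module.Free R' Q]
    (a : M1 →ₗ[R'] M2) (b : M2 →ₗ[R'] P) (φ : P →ₗ[R'] Q) (c : Q →ₗ[R'] W)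
    (hab : Function.Exact a b) (hbφ : Function.Exact b φ) (hφc : Function.Exact φ c)
    (hc : Function.Surjective c) [Subsingleton M1] :
    (Subsingleton M2 ∧ Module.Free R' W) ↔
      Function.Injective (φ.lTensor (IsLocalRing.ResidueField R')) := by
  rw [← IsLocalRing.split_injective_iff_lTensor_residueField_injective]
  constructor
  · rintro ⟨h2, hW⟩
    have hinj : Function.Injective φ := by
      rw [injective_iff_map_eq_zero]
      intro x hx
      obtain ⟨y, rfl⟩ := (hbφ x).mp hx
      rw [Subsingleton.elim y 0, map_zero]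
    obtain ⟨s, hs⟩ := Module.projective_lifting_property c LinearMap.id hc
    exact ((hφc.split_tfae'.out 0 1 rfl rfl).mp ⟨hinj, s, hs⟩).2
  · rintro ⟨l, hl⟩
    have hinj : Function.Injective φ :=
      Function.HasLeftInverse.injective ⟨l, LinearMap.congr_fun hl⟩
    refine ⟨subsingleton_of_forall_eq 0 fun x => ?_, ?_⟩
    · have h1 : b x = 0 := hinj (by rw [hbφ.apply_apply_eq_zero, map_zero])
      obtain ⟨y, rfl⟩ := (hab x).mp h1
      rw [Subsingleton.elim y 0, map_zero]
    · obtain ⟨-, s, hs⟩ := (hφc.split_tfae'.out 1 0 rfl rfl).mp ⟨hc, l, hl⟩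
      haveI : Module.Projective R' W := Module.Projective.of_split s c hs
      haveI : Module.Finite R' W := Module.Finite.of_surjective c hc
      exact Module.free_of_flat_of_isLocalRing

end Local

section Cancel

variable {C : Type u} [CommRing C] (R' κ : Type u) [CommRing R'] [CommRing κ] [Algebra C R']
  [Algebra R' κ] [Algebra C κ] [IsScalarTower C R' κ]
  {M N : Type u} [AddCommGroup M] [AddCommGroup N] [Module C M] [Module C N]

lemma cancel_nat (f : M →ₗ[C] N) (t : κ ⊗[R'] (R' ⊗[C] M)) :
    AlgebraTensorModule.cancelBaseChange C R' κ κ N ((f.baseChange R').lTensor κ t) =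
      f.lTensor κ (AlgebraTensorModule.cancelBaseChange C R' κ κ M t) := by
  induction t using TensorProduct.induction_on with
  | zero => simp
  | tmul k y =>
    induction y using TensorProduct.induction_on with
    | zero => simp
    | tmul r m => simp
    | add y z hy hz => simp only [TensorProduct.tmul_add, map_add, hy, hz]
  | add y z hy hz => simp only [map_add, hy, hz]

lemma injective_lTensor_baseChange_iff (f : M →ₗ[C] N) :
    Function.Injective ((f.baseChange R').lTensor κ) ↔ Function.Injective (f.lTensor κ) := by
  have h : ⇑(AlgebraTensorModule.cancelBaseChange C R' κ κ N) ∘ ⇑((f.baseChange R').lTensor κ) =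
      ⇑(f.lTensor κ) ∘ ⇑(AlgebraTensorModule.cancelBaseChange C R' κ κ M) :=
    funext fun t => cancel_nat R' κ f t
  constructor
  · intro hi
    have h1 : Function.Injective (⇑(f.lTensor κ) ∘
        ⇑(AlgebraTensorModule.cancelBaseChange C R' κ κ M)) := by
      rw [← h]
      exact (AlgebraTensorModule.cancelBaseChange C R' κ κ N).injective.comp hi
    intro x y hxy
    obtain ⟨x', rfl⟩ := (AlgebraTensorModule.cancelBaseChange C R' κ κ M).surjective x
    obtain ⟨y', rfl⟩ := (AlgebraTensorModule.cancelBaseChange C R' κ κ M).surjective y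
    rw [h1 hxy]
  · intro hi
    have h1 : Function.Injective (⇑(AlgebraTensorModule.cancelBaseChange C R' κ κ N) ∘
        ⇑((f.baseChange R').lTensor κ)) := by
      rw [h]
      exact hi.comp (AlgebraTensorModule.cancelBaseChange C R' κ κ M).injective
    exact Function.Injective.of_comp h1

end Cancel

section Main

variable (A B C : Type u) [CommRing A] [CommRing B] [CommRing C] [Algebra A B] [Algebra B C]
  [Algebra A C] [IsScalarTower A B C]
  [Algebra.FinitePresentation A B] [Algebra.FinitePresentation A C] (q : Ideal C) [q.IsPrime]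

open KaehlerDifferential Algebra

lemma subsingleton_iff_notMem_support (M : Type u) [AddCommGroup M] [Module C M] :
    (⟨q, inferInstance⟩ : PrimeSpectrum C) ∉ Module.support C M ↔
      Subsingleton (Localization.AtPrime q ⊗[C] M) := by
  rw [Module.notMem_support_iff]
  exact (LocalizedModule.equivTensorProduct q.primeCompl M).toEquiv.subsingleton_congr

theorem isSmoothAt_iff (hC : Algebra.IsSmoothAt A q) (hB : Algebra.IsSmoothAt A (q.under B)) :
    Algebra.IsSmoothAt B q ↔
      Function.Injective ((KaehlerDifferential.mapBaseChange A B C).lTensor q.ResidueField) := by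
  haveI : Algebra.FiniteType B C := .of_restrictScalars_finiteType A B C
  let R' := Localization.AtPrime q
  let qs : PrimeSpectrum C := ⟨q, inferInstance⟩
  have hC' : qs ∈ Algebra.smoothLocus A C := hC
  rw [Algebra.smoothLocus_eq_compl_support_inter] at hC'
  have hC1 : Subsingleton (R' ⊗[C] H1Cotangent A C) :=
    (subsingleton_iff_notMem_support C q _).mp hC'.1
  have hC2 : Module.Free R' (R' ⊗[C] Ω[C⁄A]) := (Module.mem_freeLocus_iff_tensor qs R').mp hC'.2
  have hB' : (⟨q.under B, inferInstance⟩ : PrimeSpectrum B) ∈ Algebra.smoothLocus A B := hB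
  rw [Algebra.smoothLocus_eq_compl_support_inter] at hB'
  have hB2 : Module.Free R' (R' ⊗[C] (C ⊗[B] Ω[B⁄A])) :=
    (Module.mem_freeLocus_iff_tensor qs R').mp (Module.comap_freeLocus_le hB'.2)
  have hgoal : Algebra.IsSmoothAt B q ↔
      (Subsingleton (R' ⊗[C] H1Cotangent B C) ∧ Module.Free R' (R' ⊗[C] Ω[C⁄B])) := by
    change qs ∈ Algebra.smoothLocus B C ↔ _
    rw [Algebra.smoothLocus_eq_compl_support_inter, Set.mem_inter_iff, Set.mem_compl_iff,
      subsingleton_iff_notMem_support, Module.mem_freeLocus_iff_tensor qs R']
  rw [hgoal, ← injective_lTensor_baseChange_iff R' q.ResidueField]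
  have hflat : Module.Flat C R' := inferInstance
  have e1 : Function.Exact ((H1Cotangent.map A B C C).baseChange R')
      ((H1Cotangent.δ A B C).baseChange R') := by
    rw [LinearMap.baseChange_eq_ltensor, LinearMap.baseChange_eq_ltensor]
    exact Module.Flat.lTensor_exact R' (H1Cotangent.exact_map_δ (R := A) (S := B) (T := C))
  have e2 : Function.Exact ((H1Cotangent.δ A B C).baseChange R')
      ((KaehlerDifferential.mapBaseChange A B C).baseChange R') := by
    rw [LinearMap.baseChange_eq_ltensor, LinearMap.baseChange_eq_ltensor]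
    exact Module.Flat.lTensor_exact R' (H1Cotangent.exact_δ_mapBaseChange (R := A) (S := B) (T := C))
  have e3 : Function.Exact ((KaehlerDifferential.mapBaseChange A B C).baseChange R')
      ((KaehlerDifferential.map A B C C).baseChange R') := by
    rw [LinearMap.baseChange_eq_ltensor, LinearMap.baseChange_eq_ltensor]
    exact Module.Flat.lTensor_exact R' (KaehlerDifferential.exact_mapBaseChange_map A B C)
  have e4 : Function.Surjective ((KaehlerDifferential.map A B C C).baseChange R') := by
    rw [LinearMap.baseChange_eq_ltensor]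
    exact LinearMap.lTensor_surjective R' (KaehlerDifferential.map_surjective A B C)
  exact local_criterion _ _ _ _ e1 e2 e3 e4

end Main

end Groth.Agent.H11.SmoothAtJZ
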