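import Mathlib
import Groth.Agent.H11.SmoothAtJZ
import Groth.Agent.H11.H1Sep
import Groth.Agent.H11.ConormalInj

/-!
# The Jacobian criterion at a prime for quotients of formally smooth algebras
-/

set_option autoImplicit false

universe u

namespace Groth.Agent.H11.JacPrime

open TensorProduct

section FiniteSupport

variable {R : Type u} [CommRing R] {M : Type u} [AddCommGroup M] [Module R M] [Module.Finite R M]
  {ι : Type u}

/-- A linear map from a finite module to a free module lands in a finite free summand. -/
theorem exists_finset_support (ψ : M →ₗ[R] (ι →₀ R)) :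
    ∃ S : Finset ι, ∀ m, ((ψ m).support : Set ι) ⊆ S := by
  classical
  obtain ⟨G, hG⟩ := (Module.finite_def (R := R) (M := M)).1 inferInstance
  refine ⟨G.biUnion fun g => (ψ g).support, fun m => ?_⟩
  have hm : m ∈ Submodule.span R (G : Set M) := by rw [hG]; trivial
  induction hm using Submodule.span_induction with
  | mem x hx =>
    intro i hi
    simp only [Finset.coe_biUnion, Set.mem_iUnion]
    exact ⟨x, hx, hi⟩
  | zero => simp
  | add x y _ _ hx hy =>
    intro i hi
    rw [map_add] at hi
    rcases Finset.mem_union.1 (Finsupp.support_add hi) with h | h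
    · exact hx h
    · exact hy h
  | smul a x _ hx =>
    intro i hi
    rw [map_smul] at hi
    exact hx (Finsupp.support_smul hi)

end FiniteSupport

section Reduce

variable {R : Type u} [CommRing R] {M N : Type u} [AddCommGroup M] [Module R M] [Module.Finite R M]
  [AddCommGroup N] [Module R N] [Module.Projective R N]

/-- A map from a finite module to a projective module factors, compatibly in both directions,
through a map to a finite free module. -/
theorem exists_finite_free_factor (φ : M →ₗ[R] N) :
    ∃ (σ : Type u) (_ : Fintype σ) (ψ : M →ₗ[R] (σ → R)) (a : N →ₗ[R] (σ → R))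
      (b : (σ → R) →ₗ[R] N), ψ = a ∘ₗ φ ∧ φ = b ∘ₗ ψ := by
  classical
  obtain ⟨i, hi⟩ := (Module.projective_def' (R := R) (P := N)).1 inferInstance
  obtain ⟨S, hS⟩ := exists_finset_support (i ∘ₗ φ)
  let ρ : (N →₀ R) →ₗ[R] (S → R) := LinearMap.pi fun s => Finsupp.lapply s.1
  let incl : (S → R) →ₗ[R] (N →₀ R) :=
    Fintype.linearCombination R (fun s : S => Finsupp.single s.1 (1 : R))
  have hincl : ∀ x : N →₀ R, ((x.support : Set N) ⊆ S) → incl (ρ x) = x := by
    intro x hx
    ext n
    simp only [incl, ρ, Fintype.linearCombination_apply, LinearMap.pi_apply, Finsupp.lapply_apply,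
      Finsupp.coe_finsetSum, Finsupp.coe_smul, Finset.sum_apply, Pi.smul_apply,
      Finsupp.single_apply, smul_eq_mul, mul_ite, mul_one, mul_zero]
    by_cases hn : n ∈ S
    · rw [Finset.sum_eq_single (⟨n, hn⟩ : S)]
      · simp
      · intro b _ hb
        rw [if_neg]
        intro h
        exact hb (Subtype.ext h)
      · intro h
        exact absurd (Finset.mem_univ _) h
    · rw [Finset.sum_eq_zero]
      · by_contra hne
        exact hn (hx (Finsupp.mem_support_iff.2 (Ne.symm hne)))
      · intro b _
        rw [if_neg]
        intro h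
        exact hn (h ▸ b.2)
  refine ⟨S, inferInstance, ρ ∘ₗ i ∘ₗ φ, ρ ∘ₗ i, (Finsupp.linearCombination R id) ∘ₗ incl, rfl, ?_⟩
  ext m
  simp only [LinearMap.comp_apply]
  have h3 : incl (ρ (i (φ m))) = i (φ m) := hincl _ (hS m)
  rw [h3]
  exact (LinearMap.congr_fun hi (φ m)).symm

end Reduce

section LocalSplit

variable {R : Type u} [CommRing R] [IsLocalRing R] {M N : Type u} [AddCommGroup M] [Module R M]
  [Module.Finite R M] [AddCommGroup N] [Module R N] [Module.Projective R N]

/-- Over a local ring, a map from a finite module to a projective module which is injective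
modulo the maximal ideal is split injective. -/
theorem exists_retraction_of_injective_lTensor (φ : M →ₗ[R] N)
    (h : Function.Injective (φ.lTensor (IsLocalRing.ResidueField R))) :
    ∃ l : N →ₗ[R] M, l ∘ₗ φ = LinearMap.id := by
  obtain ⟨σ, _, ψ, a, b, h1, h2⟩ := exists_finite_free_factor φ
  have hψ : Function.Injective (ψ.lTensor (IsLocalRing.ResidueField R)) := by
    have : φ.lTensor (IsLocalRing.ResidueField R) =
        b.lTensor (IsLocalRing.ResidueField R) ∘ₗ ψ.lTensor (IsLocalRing.ResidueField R) := by
      rw [← LinearMap.lTensor_comp, ← h2]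
    rw [this] at h
    exact Function.Injective.of_comp h
  obtain ⟨l', hl'⟩ :=
    (IsLocalRing.split_injective_iff_lTensor_residueField_injective ψ).2 hψ
  exact ⟨l' ∘ₗ a, by rw [LinearMap.comp_assoc, ← h1, hl']⟩

end LocalSplit

section Spread

variable {C : Type u} [CommRing C] (p : Ideal C) [p.IsPrime]
  {M : Type u} [AddCommGroup M] [Module C M] [Module.Finite C M]

/-- Every element of `C_p ⊗ M` is a fraction. -/
theorem exists_smul_eq_one_tmul (z : Localization.AtPrime p ⊗[C] M) :
    ∃ t ∈ p.primeCompl, ∃ m : M, t • z = (1 : Localization.AtPrime p) ⊗ₜ[C] m := by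
  induction z using TensorProduct.induction_on with
  | zero => exact ⟨1, Submonoid.one_mem _, 0, by simp⟩
  | tmul r m =>
    obtain ⟨⟨c, t⟩, hct⟩ := IsLocalization.surj p.primeCompl r
    refine ⟨t.1, t.2, c • m, ?_⟩
    rw [TensorProduct.smul_tmul', TensorProduct.tmul_smul, TensorProduct.smul_tmul',
      Algebra.smul_def, Algebra.smul_def, mul_one, mul_comm]
    exact congrArg (· ⊗ₜ[C] m) hct
  | add z₁ z₂ h₁ h₂ =>
    obtain ⟨t₁, ht₁, m₁, e₁⟩ := h₁
    obtain ⟨t₂, ht₂, m₂, e₂⟩ := h₂
    refine ⟨t₁ * t₂, mul_mem ht₁ ht₂, t₂ • m₁ + t₁ • m₂, ?_⟩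
    have h1 : (t₁ * t₂) • z₁ = t₂ • (t₁ • z₁) := by rw [mul_comm, mul_smul]
    have h2 : (t₁ * t₂) • z₂ = t₁ • (t₂ • z₂) := by rw [mul_smul]
    rw [smul_add, h1, h2, e₁, e₂, TensorProduct.tmul_add, TensorProduct.tmul_smul,
      TensorProduct.tmul_smul]

omit [Module.Finite C M] in
/-- An element of `M` vanishing in `C_p ⊗ M` is killed by an element outside `p`. -/
theorem exists_smul_eq_zero_of_one_tmul_eq_zero (m : M)
    (h : (1 : Localization.AtPrime p) ⊗ₜ[C] m = 0) : ∃ u ∈ p.primeCompl, u • m = 0 := by
  have h1 : (LocalizedModule.equivTensorProduct p.primeCompl M)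
      (LocalizedModule.mkLinearMap p.primeCompl M m) = 0 := by
    rw [LocalizedModule.mkLinearMap_apply, LocalizedModule.equivTensorProduct_apply_mk,
      Localization.mk_one]
    exact h
  have h2 : LocalizedModule.mkLinearMap p.primeCompl M m = 0 := by
    have := (LocalizedModule.equivTensorProduct p.primeCompl M).injective (h1.trans (map_zero _).symm)
    exact this
  rw [LocalizedModule.mkLinearMap_apply, ← LocalizedModule.zero_mk 1,
    LocalizedModule.mk_eq] at h2
  obtain ⟨u, hu⟩ := h2
  refine ⟨u.1, u.2, ?_⟩
  simpa [Submonoid.smul_def] using hu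

end Spread

section SpreadFree

variable {C : Type u} [CommRing C] (p : Ideal C) [p.IsPrime]
  {M : Type u} [AddCommGroup M] [Module C M] [Module.Finite C M]

omit [Module.Finite C M] in
/-- In `C_f ⊗ M`, `c ⊗ x = 0` if `u • x = 0` with `u` invertible in `C_f`. -/
theorem tmul_eq_zero_of_smul_eq_zero {Cf : Type u} [CommRing Cf] [Algebra C Cf] (u : C)
    (hu : IsUnit (algebraMap C Cf u)) (x : M) (hx : u • x = 0) (c : Cf) :
    c ⊗ₜ[C] x = 0 := by
  obtain ⟨v, hv⟩ := hu
  have : c = (c * ↑v⁻¹) * algebraMap C Cf u := by
    rw [← hv, mul_assoc, Units.inv_mul, mul_one]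
  rw [this, mul_comm, ← Algebra.smul_def, TensorProduct.smul_tmul, hx, TensorProduct.tmul_zero]

/-- Spreading out a retraction from the localization at a prime to a basic open neighbourhood,
for maps from a finite module into a finite free module. -/
theorem exists_away_retraction_free {σ : Type u} [Fintype σ] (ψ : M →ₗ[C] (σ → C))
    (l : Localization.AtPrime p ⊗[C] (σ → C) →ₗ[Localization.AtPrime p]
      Localization.AtPrime p ⊗[C] M)
    (hl : l ∘ₗ ψ.baseChange (Localization.AtPrime p) = LinearMap.id) :
    ∃ f, f ∉ p ∧ ∃ l' : Localization.Away f ⊗[C] (σ → C) →ₗ[Localization.Away f]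
        Localization.Away f ⊗[C] M,
      l' ∘ₗ ψ.baseChange (Localization.Away f) = LinearMap.id := by
  classical
  let e : σ → (σ → C) := fun s => Pi.single s (1 : C)
  choose t ht m hm using fun s : σ =>
    exists_smul_eq_one_tmul p (l ((1 : Localization.AtPrime p) ⊗ₜ[C] e s))
  let T : C := ∏ s, t s
  have hT : T ∈ p.primeCompl := prod_mem fun s _ => ht s
  let m' : σ → M := fun s => (∏ s' ∈ Finset.univ.erase s, t s') • m s
  have hm' : ∀ s, T • l ((1 : Localization.AtPrime p) ⊗ₜ[C] e s) =
      (1 : Localization.AtPrime p) ⊗ₜ[C] m' s := by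
    intro s
    have : T = (∏ s' ∈ Finset.univ.erase s, t s') * t s := by
      rw [mul_comm]
      exact (Finset.mul_prod_erase _ _ (Finset.mem_univ s)).symm
    rw [this, mul_smul, hm s, TensorProduct.tmul_smul]
  let lam : (σ → C) →ₗ[C] M := Fintype.linearCombination C m'
  have hlam : ∀ x : σ → C, (1 : Localization.AtPrime p) ⊗ₜ[C] lam x =
      T • l ((1 : Localization.AtPrime p) ⊗ₜ[C] x) := by
    have key : (TensorProduct.mk C (Localization.AtPrime p) M 1) ∘ₗ lam =
        T • ((l.restrictScalars C) ∘ₗ (TensorProduct.mk C (Localization.AtPrime p) (σ → C) 1)) := by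
      apply LinearMap.pi_ext'
      intro s
      ext
      simp only [LinearMap.coe_comp, LinearMap.coe_single, Function.comp_apply, mk_apply,
        LinearMap.smul_apply, LinearMap.coe_restrictScalars]
      rw [show lam (Pi.single s 1) = m' s from Fintype.linearCombination_apply_single C m' s 1 |>.trans
        (one_smul _ _)]
      exact (hm' s).symm
    intro x
    exact LinearMap.congr_fun key x
  have hψ : ∀ x : M, (1 : Localization.AtPrime p) ⊗ₜ[C] (lam (ψ x) - T • x) = 0 := by
    intro x
    rw [TensorProduct.tmul_sub, hlam, TensorProduct.tmul_smul]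
    have h1 : l ((1 : Localization.AtPrime p) ⊗ₜ[C] ψ x) = (1 : Localization.AtPrime p) ⊗ₜ[C] x := by
      have := LinearMap.congr_fun hl ((1 : Localization.AtPrime p) ⊗ₜ[C] x)
      simpa using this
    rw [h1, sub_self]
  choose u hu hux using fun x : M => exists_smul_eq_zero_of_one_tmul_eq_zero p _ (hψ x)
  obtain ⟨G, hG⟩ := (Module.finite_def (R := C) (M := M)).1 inferInstance
  let U : C := ∏ g ∈ G, u g
  have hU : U ∈ p.primeCompl := prod_mem fun g _ => hu g
  have hUx : ∀ x : M, U • (lam (ψ x) - T • x) = 0 := by
    intro x
    have hx : x ∈ Submodule.span C (G : Set M) := by rw [hG]; trivial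
    induction hx using Submodule.span_induction with
    | mem g hg =>
      have : U = (∏ g' ∈ G.erase g, u g') * u g := by
        rw [mul_comm]
        exact (Finset.mul_prod_erase _ _ hg).symm
      rw [this, mul_smul, hux g, smul_zero]
    | zero => simp
    | add x y _ _ hx hy =>
      rw [map_add, map_add, smul_add, add_sub_add_comm, smul_add, hx, hy, add_zero]
    | smul a x _ hx =>
      rw [map_smul, map_smul, smul_comm T a x, ← smul_sub, smul_comm, hx, smul_zero]
  refine ⟨T * U, ?_, ?_⟩
  · exact mul_mem hT hU
  have hfu : IsUnit (algebraMap C (Localization.Away (T * U)) (T * U)) :=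
    IsLocalization.Away.algebraMap_isUnit (T * U)
  rw [map_mul] at hfu
  have hTu : IsUnit (algebraMap C (Localization.Away (T * U)) T) := isUnit_of_mul_isUnit_left hfu
  have hUu : IsUnit (algebraMap C (Localization.Away (T * U)) U) := isUnit_of_mul_isUnit_right hfu
  refine ⟨(↑(hTu.unit⁻¹) : Localization.Away (T * U)) • lam.baseChange (Localization.Away (T * U)), ?_⟩
  ext x
  simp only [AlgebraTensorModule.curry_apply, LinearMap.restrictScalars_comp, curry_apply,
    LinearMap.coe_comp, LinearMap.coe_restrictScalars, Function.comp_apply,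
    LinearMap.baseChange_tmul, LinearMap.smul_apply, LinearMap.id_coe, id_eq]
  have h0 := tmul_eq_zero_of_smul_eq_zero (Cf := Localization.Away (T * U)) U hUu _ (hUx x) 1
  rw [TensorProduct.tmul_sub, sub_eq_zero] at h0
  rw [h0, TensorProduct.tmul_smul, ← algebraMap_smul (Localization.Away (T * U)) T, smul_smul]
  have : (↑(hTu.unit⁻¹) : Localization.Away (T * U)) * algebraMap C _ T = 1 := by
    simp
  rw [this, one_smul]

end SpreadFree

section SpreadProj

variable {C : Type u} [CommRing C] (p : Ideal C) [p.IsPrime]
  {M N : Type u} [AddCommGroup M] [Module C M] [Module.Finite C M]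
  [AddCommGroup N] [Module C N] [Module.Projective C N]

/-- Split injectivity at a prime is detected on the fibre. -/
theorem exists_atPrime_retraction_iff (φ : M →ₗ[C] N) :
    (∃ l : Localization.AtPrime p ⊗[C] N →ₗ[Localization.AtPrime p] Localization.AtPrime p ⊗[C] M,
      l ∘ₗ φ.baseChange (Localization.AtPrime p) = LinearMap.id) ↔
      Function.Injective (φ.lTensor p.ResidueField) := by
  rw [← Groth.Agent.H11.SmoothAtJZ.injective_lTensor_baseChange_iff (Localization.AtPrime p)
    p.ResidueField φ]
  constructor
  · rintro ⟨l, hl⟩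
    have : l.lTensor p.ResidueField ∘ₗ
        (φ.baseChange (Localization.AtPrime p)).lTensor p.ResidueField = LinearMap.id := by
      rw [← LinearMap.lTensor_comp, hl, LinearMap.lTensor_id]
    exact Function.HasLeftInverse.injective ⟨_, LinearMap.congr_fun this⟩
  · intro h
    exact exists_retraction_of_injective_lTensor (φ.baseChange (Localization.AtPrime p)) h

/-- Spreading out split injectivity from a prime to a basic open neighbourhood. -/
theorem exists_away_retraction (φ : M →ₗ[C] N)
    (h : Function.Injective (φ.lTensor p.ResidueField)) :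
    ∃ f, f ∉ p ∧ ∃ l' : Localization.Away f ⊗[C] N →ₗ[Localization.Away f]
        Localization.Away f ⊗[C] M,
      l' ∘ₗ φ.baseChange (Localization.Away f) = LinearMap.id := by
  obtain ⟨σ, _, ψ, a, b, h1, h2⟩ := exists_finite_free_factor φ
  have hψ : Function.Injective (ψ.lTensor p.ResidueField) := by
    have : φ.lTensor p.ResidueField = b.lTensor p.ResidueField ∘ₗ ψ.lTensor p.ResidueField := by
      rw [← LinearMap.lTensor_comp, ← h2]
    rw [this] at h
    exact Function.Injective.of_comp h
  haveI : Module.Projective C (σ → C) := inferInstance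
  obtain ⟨l, hl⟩ := (exists_atPrime_retraction_iff p ψ).2 hψ
  obtain ⟨f, hf, l', hl'⟩ := exists_away_retraction_free p ψ l hl
  refine ⟨f, hf, l' ∘ₗ a.baseChange (Localization.Away f), ?_⟩
  rw [LinearMap.comp_assoc, ← LinearMap.baseChange_comp, ← h1, hl']

end SpreadProj

section Criterion

open Algebra

variable {A C : Type u} [CommRing A] [CommRing C] [Algebra A C]
variable (P : Extension.{u} A C) [Algebra.FormallySmooth A P.Ring]
  (M : Submonoid C) (C' : Type u) [CommRing C'] [Algebra C C']
  [IsLocalization M C'] [Algebra A C'] [IsScalarTower A C C']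

set_option backward.isDefEq.respectTransparency false in
/-- The localized extension ring is formally smooth. -/
theorem formallySmooth_localization_ring :
    Algebra.FormallySmooth A (P.localization M (S' := C')).Ring := by
  haveI : Algebra.FormallySmooth P.Ring (Localization (M.comap (algebraMap P.Ring C))) :=
    Algebra.FormallySmooth.of_isLocalization (M.comap (algebraMap P.Ring C))
  exact Algebra.FormallySmooth.comp A P.Ring (Localization (M.comap (algebraMap P.Ring C)))

set_option backward.isDefEq.respectTransparency false in
include M in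
/-- Formal smoothness of a localization of `C` in terms of the localized conormal map. -/
theorem formallySmooth_localization_iff :
    Algebra.FormallySmooth A C' ↔
      ∃ l : C' ⊗[C] P.CotangentSpace →ₗ[C'] C' ⊗[C] P.Cotangent,
        l ∘ₗ P.cotangentComplex.baseChange C' = LinearMap.id := by
  haveI := formallySmooth_localization_ring P M C'
  rw [Extension.formallySmooth_iff_split_injection (P.localization M (S' := C'))]
  let f := Groth.Agent.H11.ConormalInj.locHom P M C'
  letI alg : Algebra P.Ring (P.localization M (S' := C')).Ring :=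
    (inferInstance : Algebra P.Ring (Localization (M.comap (algebraMap P.Ring C))))
  have halg : algebraMap P.Ring (P.localization M (S' := C')).Ring = f.toRingHom := rfl
  have H₁ : f.toRingHom.FormallyEtale :=
    RingHom.formallyEtale_algebraMap.mpr
      (Algebra.FormallyEtale.of_isLocalization (M := M.comap (algebraMap P.Ring C))
        (Rₘ := Localization (M.comap (algebraMap P.Ring C))))
  haveI : Module.Flat P.Ring (P.localization M (S' := C')).Ring :=
    IsLocalization.flat (Localization (M.comap (algebraMap P.Ring C)))
      (M.comap (algebraMap P.Ring C))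
  have H₂ := Groth.Agent.H11.H1Sep.bijective_mapKer f halg
    (Groth.Agent.H11.ConormalInj.ker_localization_le P M C')
  let ecot := Extension.tensorCotangent f halg H₂
  let esp := Extension.tensorCotangentSpaceOfFormallyEtale f H₁
  have hcompat : esp.toLinearMap ∘ₗ P.cotangentComplex.baseChange C' =
      (P.localization M (S' := C')).cotangentComplex ∘ₗ ecot.toLinearMap := by
    change (Extension.CotangentSpace.map f).liftBaseChange C' ∘ₗ P.cotangentComplex.baseChange C' =
      (P.localization M (S' := C')).cotangentComplex ∘ₗ (Extension.Cotangent.map f).liftBaseChange C'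
    ext x
    obtain ⟨x, rfl⟩ := Extension.Cotangent.mk_surjective x
    simp only [AlgebraTensorModule.curry_apply, LinearMap.restrictScalars_comp, curry_apply,
      LinearMap.coe_comp, LinearMap.coe_restrictScalars, Function.comp_apply,
      LinearMap.baseChange_tmul, LinearMap.liftBaseChange_tmul,
      Extension.CotangentSpace.map_tmul, map_one, Extension.Hom.toAlgHom_apply, one_smul,
      Extension.cotangentComplex_mk, Extension.Cotangent.map_mk]
  have hc : ∀ z, esp (P.cotangentComplex.baseChange C' z) =
      (P.localization M (S' := C')).cotangentComplex (ecot z) :=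
    fun z => LinearMap.congr_fun hcompat z
  constructor
  · rintro ⟨l, hl⟩
    refine ⟨ecot.symm.toLinearMap ∘ₗ l ∘ₗ esp.toLinearMap, ?_⟩
    apply LinearMap.ext
    intro z
    simp only [LinearMap.coe_comp, LinearEquiv.coe_coe, Function.comp_apply, LinearMap.id_coe,
      id_eq]
    rw [hc z]
    have := LinearMap.congr_fun hl (ecot z)
    simp only [LinearMap.coe_comp, Function.comp_apply, LinearMap.id_coe, id_eq] at this
    rw [this, LinearEquiv.symm_apply_apply]
  · rintro ⟨l, hl⟩
    refine ⟨ecot.toLinearMap ∘ₗ l ∘ₗ esp.symm.toLinearMap, ?_⟩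
    apply LinearMap.ext
    intro w
    obtain ⟨z, rfl⟩ := ecot.surjective w
    simp only [LinearMap.coe_comp, LinearEquiv.coe_coe, Function.comp_apply, LinearMap.id_coe,
      id_eq]
    rw [← hc z, LinearEquiv.symm_apply_apply]
    have := LinearMap.congr_fun hl z
    simp only [LinearMap.coe_comp, Function.comp_apply, LinearMap.id_coe, id_eq] at this
    rw [this]

end Criterion

section TFAE

open Algebra

variable {A C : Type u} [CommRing A] [CommRing C] [Algebra A C]
variable (P : Extension.{u} A C) [Algebra.FormallySmooth A P.Ring] [Module.Finite C P.Cotangent]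
  (p : Ideal C) [p.IsPrime]

/-- The Jacobian criterion at a prime, for an extension with formally smooth ring and finite
conormal module. -/
theorem tfae_extension :
    [Algebra.FormallySmooth A (Localization.AtPrime p),
     Function.Injective (P.cotangentComplex.lTensor p.ResidueField),
     ∃ f : C, f ∉ p ∧ Algebra.FormallySmooth A (Localization.Away f)].TFAE := by
  haveI : Module.Projective P.Ring (Ω[P.Ring⁄A]) := inferInstance
  haveI : Module.Projective C P.CotangentSpace := inferInstance
  tfae_have 1 ↔ 2 := by
    rw [formallySmooth_localization_iff P p.primeCompl (Localization.AtPrime p),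
      exists_atPrime_retraction_iff p P.cotangentComplex]
  tfae_have 2 → 3 := by
    intro h
    obtain ⟨f, hf, l, hl⟩ := exists_away_retraction p P.cotangentComplex h
    refine ⟨f, hf, ?_⟩
    rw [formallySmooth_localization_iff P (Submonoid.powers f) (Localization.Away f)]
    exact ⟨l, hl⟩
  tfae_have 3 → 2 := by
    rintro ⟨f, hf, hsm⟩
    rw [formallySmooth_localization_iff P (Submonoid.powers f) (Localization.Away f)] at hsm
    obtain ⟨l, hl⟩ := hsm
    have hunit : IsUnit (algebraMap C p.ResidueField f) := by
      rw [isUnit_iff_ne_zero]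
      intro h0
      exact hf (Ideal.algebraMap_residueField_eq_zero.1 h0)
    letI : Algebra (Localization.Away f) p.ResidueField :=
      (IsLocalization.Away.lift f hunit).toAlgebra
    haveI : IsScalarTower C (Localization.Away f) p.ResidueField :=
      IsScalarTower.of_algebraMap_eq fun c => (IsLocalization.Away.lift_eq f hunit c).symm
    rw [← Groth.Agent.H11.SmoothAtJZ.injective_lTensor_baseChange_iff (Localization.Away f)
      p.ResidueField P.cotangentComplex]
    have : l.lTensor p.ResidueField ∘ₗ
        (P.cotangentComplex.baseChange (Localization.Away f)).lTensor p.ResidueField =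
        LinearMap.id := by
      rw [← LinearMap.lTensor_comp, hl, LinearMap.lTensor_id]
    exact Function.HasLeftInverse.injective ⟨_, LinearMap.congr_fun this⟩
  tfae_finish

end TFAE

section Compat

variable {B C : Type u} [CommRing B] [CommRing C] [Algebra B C]
  (hsurj : Function.Surjective (algebraMap B C))
  (κ : Type u) [CommRing κ] [Algebra C κ] [Algebra B κ] [IsScalarTower B C κ]
  {X Y : Type u} [AddCommGroup X] [AddCommGroup Y] [Module C X] [Module C Y] [Module B X]
  [Module B Y] [IsScalarTower B C X] [IsScalarTower B C Y]

include hsurj in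
theorem compatibleSMul_of_surjective : TensorProduct.CompatibleSMul B C κ X :=
  ⟨fun c m n => by
    obtain ⟨b, rfl⟩ := hsurj c
    rw [algebraMap_smul, algebraMap_smul, TensorProduct.smul_tmul]⟩

include hsurj in
/-- For a surjection `B → C`, injectivity of `κ ⊗_B g` and of `κ ⊗_C g` are equivalent. -/
theorem injective_lTensor_restrictScalars_iff (g : X →ₗ[C] Y) :
    Function.Injective ((g.restrictScalars B).lTensor κ) ↔ Function.Injective (g.lTensor κ) := by
  haveI := compatibleSMul_of_surjective hsurj κ (X := X)
  haveI := compatibleSMul_of_surjective hsurj κ (X := Y)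
  let eX : κ ⊗[C] X ≃ₗ[B] κ ⊗[B] X := TensorProduct.equivOfCompatibleSMul B C B κ X
  let eY : κ ⊗[C] Y ≃ₗ[B] κ ⊗[B] Y := TensorProduct.equivOfCompatibleSMul B C B κ Y
  have hnat : ∀ z, eY (g.lTensor κ z) = (g.restrictScalars B).lTensor κ (eX z) := by
    intro z
    induction z using TensorProduct.induction_on with
    | zero => simp
    | add a b ha hb => simp only [map_add, ha, hb]
    | tmul k x => rfl
  constructor
  · intro h a b hab
    apply eX.injective
    apply h
    rw [← hnat, ← hnat, hab]
  · intro h a b hab
    obtain ⟨a, rfl⟩ := eX.surjective a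
    obtain ⟨b, rfl⟩ := eX.surjective b
    rw [← hnat, ← hnat] at hab
    rw [h (eY.injective hab)]

end Compat

section Quotient

open KaehlerDifferential Algebra

variable {A B C : Type u} [CommRing A] [CommRing B] [CommRing C] [Algebra A B] [Algebra B C]
  [Algebra A C] [IsScalarTower A B C] [Algebra.FormallySmooth A B]

/-- The Jacobian criterion at a prime for a quotient of a formally smooth algebra. -/
theorem tfae_quotient (hsurj : Function.Surjective (algebraMap B C))
    [Module.Finite B (RingHom.ker (algebraMap B C)).Cotangent] (p : Ideal C) [p.IsPrime] :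
    [Algebra.FormallySmooth A (Localization.AtPrime p),
     Function.Injective ((kerCotangentToTensor A B C).lTensor p.ResidueField),
     ∃ f : C, f ∉ p ∧ Algebra.FormallySmooth A (Localization.Away f)].TFAE := by
  let P : Extension.{u} A C :=
    { Ring := B, σ := Function.surjInv hsurj, algebraMap_σ := Function.surjInv_eq hsurj }
  haveI : Algebra.FormallySmooth A P.Ring := ‹Algebra.FormallySmooth A B›
  haveI : Module.Finite B P.Cotangent :=
    Module.Finite.equiv (P.cotangentEquivCotangentKer).symm
  haveI : Module.Finite C P.Cotangent := Module.Finite.of_restrictScalars_finite B C P.Cotangent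
  have key : Function.Injective ((kerCotangentToTensor A B C).lTensor p.ResidueField) ↔
      Function.Injective (P.cotangentComplex.lTensor p.ResidueField) := by
    rw [← injective_lTensor_restrictScalars_iff hsurj p.ResidueField P.cotangentComplex]
    have h1 : P.cotangentComplex.restrictScalars B =
        kerCotangentToTensor A B C ∘ₗ P.cotangentEquivCotangentKer.toLinearMap := rfl
    rw [h1, LinearMap.lTensor_comp]
    have h2 : Function.Bijective
        (P.cotangentEquivCotangentKer.toLinearMap.lTensor p.ResidueField) :=
      (LinearEquiv.lTensor p.ResidueField P.cotangentEquivCotangentKer).bijective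
    rw [LinearMap.coe_comp]
    exact (Function.Injective.of_comp_iff' _ h2).symm
  rw [key]
  exact tfae_extension P p

end Quotient

end Groth.Agent.H11.JacPrime
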