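import Mathlib
import Groth.Agent.H11.AdicJac
import Groth.Agent.H11.JacPrime

/-!
The elementwise local Jacobian criterion without finiteness of the differentials.
-/

namespace Groth.Agent.H11.AdicJac2

open IsLocalRing KaehlerDifferential TensorProduct

universe u

variable {R₀ L S' : Type u} [CommRing R₀] [CommRing L] [CommRing S'] [Algebra R₀ L]
  [Algebra L S'] [Algebra R₀ S'] [IsScalarTower R₀ L S'] [IsLocalRing L] [IsLocalRing S']
  [Algebra.FormallySmooth R₀ L] [IsNoetherianRing L]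

theorem formallySmooth_of_forall (h₁ : Function.Surjective (algebraMap L S'))
    (H : ∀ f ∈ RingHom.ker (algebraMap L S'),
      D R₀ L f ∈ (maximalIdeal L • ⊤ : Submodule L (Ω[L⁄R₀])) →
      f ∈ maximalIdeal L * RingHom.ker (algebraMap L S')) :
    Algebra.FormallySmooth R₀ S' := by
  haveI : Module.Finite L (RingHom.ker (algebraMap L S')).Cotangent :=
    Module.Finite.of_surjective (RingHom.ker (algebraMap L S')).toCotangent
      (Ideal.toCotangent_surjective _)
  have h21 := (Groth.Agent.H11.JacPrime.tfae_quotient (A := R₀) (B := L) (C := S') h₁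
    (maximalIdeal S')).out 1 0
  suffices hinj : Function.Injective
      ((kerCotangentToTensor R₀ L S').lTensor (maximalIdeal S').ResidueField) by
    haveI : Algebra.FormallySmooth R₀ (Localization.AtPrime (maximalIdeal S')) := h21.1 hinj
    let e : S' ≃ₐ[S'] Localization.AtPrime (maximalIdeal S') :=
      IsLocalization.atUnits S' (maximalIdeal S').primeCompl
        (fun x hx => (IsLocalRing.notMem_maximalIdeal).1 hx)
    exact Algebra.FormallySmooth.of_equiv (e.restrictScalars R₀).symm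
  obtain ⟨K, hK⟩ : ∃ K : Ideal L, K = RingHom.ker (algebraMap L S') := ⟨_, rfl⟩
  have hKm : K ≤ maximalIdeal L := hK ▸ le_maximalIdeal (RingHom.ker_ne_top _)
  have hsurjκ : Function.Surjective (algebraMap L (maximalIdeal S').ResidueField) := by
    rw [IsScalarTower.algebraMap_eq L S' (maximalIdeal S').ResidueField]
    exact (Ideal.algebraMap_residueField_surjective (maximalIdeal S')).comp h₁
  have hkerκ : RingHom.ker (algebraMap L (maximalIdeal S').ResidueField) = maximalIdeal L := by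
    haveI : IsLocalHom (algebraMap L S') := IsLocalHom.of_surjective _ h₁
    ext x
    rw [RingHom.mem_ker, IsScalarTower.algebraMap_apply L S' (maximalIdeal S').ResidueField,
      Ideal.algebraMap_residueField_eq_zero, mem_maximalIdeal, mem_maximalIdeal,
      mem_nonunits_iff, mem_nonunits_iff, isUnit_map_iff]
  have hrep : ∀ z : (maximalIdeal S').ResidueField ⊗[L] (RingHom.ker (algebraMap L S')).Cotangent,
      ∃ f : RingHom.ker (algebraMap L S'),
        z = (1 : (maximalIdeal S').ResidueField) ⊗ₜ[L] Ideal.toCotangent _ f := by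
    intro z
    induction z using TensorProduct.induction_on with
    | zero => exact ⟨0, by rw [map_zero, tmul_zero]⟩
    | tmul a y =>
      obtain ⟨a', rfl⟩ := hsurjκ a
      obtain ⟨f, rfl⟩ := Ideal.toCotangent_surjective _ y
      exact ⟨a' • f, by rw [Algebra.algebraMap_eq_smul_one, smul_tmul, map_smul]⟩
    | add x y hx hy =>
      obtain ⟨f, rfl⟩ := hx
      obtain ⟨g, rfl⟩ := hy
      exact ⟨f + g, by rw [map_add, tmul_add]⟩
  have hzero : ∀ f ∈ maximalIdeal L * RingHom.ker (algebraMap L S'),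
      ∃ hf : f ∈ RingHom.ker (algebraMap L S'),
        (1 : (maximalIdeal S').ResidueField) ⊗ₜ[L]
          Ideal.toCotangent _ (⟨f, hf⟩ : RingHom.ker (algebraMap L S')) = 0 := by
    intro f hf
    refine Submodule.mul_induction_on hf ?_ ?_
    · intro a ha k hk
      refine ⟨Ideal.mul_mem_left _ _ hk, ?_⟩
      have : (⟨a * k, Ideal.mul_mem_left _ _ hk⟩ : RingHom.ker (algebraMap L S')) =
          a • ⟨k, hk⟩ := rfl
      rw [this, map_smul, ← smul_tmul, ← Algebra.algebraMap_eq_smul_one]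
      have : algebraMap L (maximalIdeal S').ResidueField a = 0 := by
        rw [← RingHom.mem_ker, hkerκ]
        exact ha
      rw [this, zero_tmul]
    · rintro x y ⟨hx, hx'⟩ ⟨hy, hy'⟩
      refine ⟨add_mem hx hy, ?_⟩
      have : (⟨x + y, add_mem hx hy⟩ : RingHom.ker (algebraMap L S')) = ⟨x, hx⟩ + ⟨y, hy⟩ := rfl
      rw [this, map_add, tmul_add, hx', hy', add_zero]
  rw [injective_iff_map_eq_zero]
  intro z hz
  obtain ⟨⟨f, hf⟩, rfl⟩ := hrep z
  rw [LinearMap.lTensor_tmul, KaehlerDifferential.kerCotangentToTensor_toCotangent] at hz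
  change (1 : (maximalIdeal S').ResidueField) ⊗ₜ[L] ((1 : S') ⊗ₜ[L] D R₀ L f) = 0 at hz
  have h2 := Groth.Agent.H11.AdicJac.mem_smul_of_one_tmul_eq_zero (P := L)
    (A := (maximalIdeal S').ResidueField) (S' ⊗[L] Ω[L⁄R₀]) hsurjκ _ hz
  rw [hkerκ] at h2
  -- pull back along `ω ↦ 1 ⊗ ω`
  let μ : Ω[L⁄R₀] →ₗ[L] S' ⊗[L] Ω[L⁄R₀] := TensorProduct.mk L S' Ω[L⁄R₀] 1
  have hμ : Function.Surjective μ := TensorProduct.mk_surjective L Ω[L⁄R₀] S' h₁
  have h3 : (1 : S') ⊗ₜ[L] D R₀ L f ∈ Submodule.map μ (maximalIdeal L • ⊤) := by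
    rw [Submodule.map_smul'', Submodule.map_top, LinearMap.range_eq_top.2 hμ]
    exact h2
  obtain ⟨ω', hω', hω'eq⟩ := h3
  have h4 : (1 : S') ⊗ₜ[L] (D R₀ L f - ω') = 0 := by
    rw [tmul_sub]
    change _ - μ ω' = 0
    rw [hω'eq, sub_self]
  have h5 := Groth.Agent.H11.AdicJac.mem_smul_of_one_tmul_eq_zero (P := L) (A := S')
    (Ω[L⁄R₀]) h₁ _ h4
  have h6 : D R₀ L f - ω' ∈ (maximalIdeal L • ⊤ : Submodule L (Ω[L⁄R₀])) :=
    Submodule.smul_mono (hK ▸ hKm) le_rfl h5
  have hdf : D R₀ L f ∈ (maximalIdeal L • ⊤ : Submodule L (Ω[L⁄R₀])) := by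
    have := add_mem h6 hω'
    rwa [sub_add_cancel] at this
  obtain ⟨_, h0⟩ := hzero f (H f hf hdf)
  exact h0

end Groth.Agent.H11.AdicJac2
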