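import Mathlib
import Groth.Prelude.Def_EGA41

/-!
# Adic formal smoothness and differentials

`IsFormallySmoothAdic A 𝔞 B 𝔪` implies that `(B ⧸ 𝔟) ⊗[B] Ω[B⁄A]` is projective over `B ⧸ 𝔟`
for every ideal of definition `𝔟`.
-/

universe u

namespace Groth.Agent.H11.AdicOmega

open TensorProduct

section Lift

variable {A B : Type u} [CommRing A] [CommRing B] [Algebra A B] {𝔞 : Ideal A} {𝔪 : Ideal B}

/-- Restatement of adic formal smoothness for a surjection with nilpotent kernel. -/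
theorem lift_of_surjective (h : EGA41.IsFormallySmoothAdic A 𝔞 B 𝔪)
    {E E' : Type u} [CommRing E] [CommRing E'] [Algebra A E] [Algebra A E'] (π : E →ₐ[A] E')
    (hπ : Function.Surjective π) (hnil : IsNilpotent (RingHom.ker π))
    (ha : ∃ k : ℕ, (𝔞 ^ k).map (algebraMap A E) = ⊥) (u : B →ₐ[A] E')
    (hu : ∃ k : ℕ, ∀ x ∈ 𝔪 ^ k, u x = 0) :
    ∃ v : B →ₐ[A] E, π.comp v = u := by
  let e := Ideal.quotientKerAlgEquivOfSurjective hπ
  obtain ⟨v, hv⟩ := h E (RingHom.ker π) hnil ha (e.symm.toAlgHom.comp u) (by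
    obtain ⟨k, hk⟩ := hu
    refine ⟨k, fun x hx => ?_⟩
    simp [hk x hx])
  refine ⟨v, ?_⟩
  ext b
  have h1 := congrArg (fun w : B →ₐ[A] (E ⧸ RingHom.ker π) => e (w b)) hv
  simp only [AlgHom.comp_apply, Ideal.Quotient.mkₐ_eq_mk] at h1
  have h2 : e ((e.symm : E' →ₐ[A] (E ⧸ RingHom.ker π)) (u b)) = u b := e.apply_symm_apply _
  rw [h2] at h1
  rw [← h1]
  rfl

end Lift

section Der

open TrivSqZeroExt

variable {A B : Type u} [CommRing A] [CommRing B] [Algebra A B] {𝔞 : Ideal A} {𝔪 : Ideal B}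
variable (C₀ : Type u) [CommRing C₀] [Algebra A C₀] [Algebra B C₀] [IsScalarTower A B C₀]
variable {M N : Type u} [AddCommGroup M] [AddCommGroup N]
  [Module C₀ M] [Module C₀ᵐᵒᵖ M] [IsCentralScalar C₀ M] [Module A M] [Module B M]
  [IsScalarTower A C₀ M] [IsScalarTower B C₀ M]
  [Module C₀ N] [Module C₀ᵐᵒᵖ N] [IsCentralScalar C₀ N] [Module A N] [Module B N]
  [IsScalarTower A C₀ N] [IsScalarTower B C₀ N]

/-- The algebra map to the trivial square-zero extension attached to a derivation. -/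
noncomputable def derHom (D : Derivation A B M) : B →ₐ[A] TrivSqZeroExt C₀ M where
  toFun b := inl (algebraMap B C₀ b) + inr (D b)
  map_one' := by simp
  map_zero' := by simp
  map_add' x y := by
    simp only [map_add, inl_add, inr_add]; abel
  map_mul' x y := by
    apply TrivSqZeroExt.ext
    · simp
    · simp only [snd_add, snd_inl, snd_inr, zero_add, snd_mul, fst_add, fst_inl, fst_inr,
        add_zero, Derivation.leibniz, op_smul_eq_smul, algebraMap_smul]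
  commutes' a := by
    rw [TrivSqZeroExt.algebraMap_eq_inl', Derivation.map_algebraMap, inr_zero, add_zero,
      ← IsScalarTower.algebraMap_apply]

omit [IsScalarTower A B C₀] in
lemma ker_map_sq (f : N →ₗ[C₀] M) :
    IsNilpotent (RingHom.ker (TrivSqZeroExt.map f)) := by
  refine ⟨2, ?_⟩
  rw [Ideal.zero_eq_bot, ← le_bot_iff, pow_two, Ideal.mul_le]
  intro x hx y hy
  have hx0 : x.fst = 0 := by
    have := congrArg TrivSqZeroExt.fst ((RingHom.mem_ker).mp hx)
    simpa using this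
  have hy0 : y.fst = 0 := by
    have := congrArg TrivSqZeroExt.fst ((RingHom.mem_ker).mp hy)
    simpa using this
  rw [Ideal.mem_bot]
  apply TrivSqZeroExt.ext
  · simp [hx0]
  · simp [hx0, hy0]

theorem exists_derivation_lift (h : EGA41.IsFormallySmoothAdic A 𝔞 B 𝔪)
    (hm : ∃ k : ℕ, ∀ x ∈ 𝔪 ^ k, algebraMap B C₀ x = 0)
    (ha : ∃ k : ℕ, ∀ a ∈ 𝔞 ^ k, algebraMap A C₀ a = 0)
    (f : N →ₗ[C₀] M) (hf : Function.Surjective f) (D : Derivation A B M) :
    ∃ D' : Derivation A B N, ∀ b, f (D' b) = D b := by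
  let π : TrivSqZeroExt C₀ N →ₐ[A] TrivSqZeroExt C₀ M := (TrivSqZeroExt.map f).restrictScalars A
  have hπ : Function.Surjective π := by
    intro x
    obtain ⟨n, hn⟩ := hf x.snd
    refine ⟨inl x.fst + inr n, ?_⟩
    change TrivSqZeroExt.map f _ = _
    apply TrivSqZeroExt.ext
    · simp
    · simp [hn]
  have hnil : IsNilpotent (RingHom.ker π) := ker_map_sq C₀ f
  have ha' : ∃ k : ℕ, (𝔞 ^ k).map (algebraMap A (TrivSqZeroExt C₀ N)) = ⊥ := by
    obtain ⟨k, hk⟩ := ha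
    refine ⟨k, ?_⟩
    rw [Ideal.map_eq_bot_iff_le_ker]
    intro a ha
    rw [RingHom.mem_ker, TrivSqZeroExt.algebraMap_eq_inl', hk a ha, inl_zero]
  have hu : ∃ k : ℕ, ∀ x ∈ 𝔪 ^ k, derHom C₀ D x = 0 := by
    obtain ⟨k, hk⟩ := hm
    refine ⟨k + k, fun x hx => ?_⟩
    rw [pow_add] at hx
    refine Submodule.mul_induction_on hx (fun y hy z hz => ?_) (fun y z hy hz => ?_)
    · rw [map_mul]
      have h1 : derHom C₀ D y = inr (D y) := by
        change inl (algebraMap B C₀ y) + inr (D y) = _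
        rw [hk y hy, inl_zero, zero_add]
      have h2 : derHom C₀ D z = inr (D z) := by
        change inl (algebraMap B C₀ z) + inr (D z) = _
        rw [hk z hz, inl_zero, zero_add]
      rw [h1, h2, inr_mul_inr]
    · rw [map_add, hy, hz, add_zero]
  obtain ⟨v, hv⟩ := lift_of_surjective h π hπ hnil ha' (derHom C₀ D) hu
  have hvb : ∀ b, TrivSqZeroExt.map f (v b) = inl (algebraMap B C₀ b) + inr (D b) := fun b =>
    congrArg (fun w : B →ₐ[A] TrivSqZeroExt C₀ M => w b) hv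
  have hfst : ∀ b, (v b).fst = algebraMap B C₀ b := fun b => by
    have := congrArg TrivSqZeroExt.fst (hvb b)
    simpa using this
  have hsnd : ∀ b, f (v b).snd = D b := fun b => by
    have := congrArg TrivSqZeroExt.snd (hvb b)
    simpa using this
  let l : B →ₗ[A] N :=
    { toFun := fun b => (v b).snd
      map_add' := fun x y => by simp
      map_smul' := fun a x => by simp }
  refine ⟨Derivation.mk' l (fun b b' => ?_), hsnd⟩
  change (v (b * b')).snd = b • (v b').snd + b' • (v b).snd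
  rw [map_mul, snd_mul, hfst, hfst, op_smul_eq_smul, algebraMap_smul, algebraMap_smul]

end Der

section Main

variable {A B : Type u} [CommRing A] [CommRing B] [Algebra A B] {𝔞 : Ideal A} {𝔪 : Ideal B}

theorem projective_of_formallySmoothAdic (h : EGA41.IsFormallySmoothAdic A 𝔞 B 𝔪) (𝔟 : Ideal B)
    (hpow : ∃ k : ℕ, 𝔪 ^ k ≤ 𝔟) (ha : ∃ k : ℕ, (𝔞 ^ k).map (algebraMap A B) ≤ 𝔟) :
    Module.Projective (B ⧸ 𝔟) ((B ⧸ 𝔟) ⊗[B] Ω[B⁄A]) := by
  apply Module.Projective.of_lifting_property''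
  intro f hf
  let D : Derivation A B ((B ⧸ 𝔟) ⊗[B] Ω[B⁄A]) :=
    (TensorProduct.mk B (B ⧸ 𝔟) Ω[B⁄A] 1).compDer (KaehlerDifferential.D A B)
  have hm : ∃ k : ℕ, ∀ x ∈ 𝔪 ^ k, algebraMap B (B ⧸ 𝔟) x = 0 := by
    obtain ⟨k, hk⟩ := hpow
    exact ⟨k, fun x hx => Ideal.Quotient.eq_zero_iff_mem.mpr (hk hx)⟩
  have ha' : ∃ k : ℕ, ∀ a ∈ 𝔞 ^ k, algebraMap A (B ⧸ 𝔟) a = 0 := by
    obtain ⟨k, hk⟩ := ha
    refine ⟨k, fun a ha => ?_⟩
    rw [IsScalarTower.algebraMap_apply A B (B ⧸ 𝔟)]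
    exact Ideal.Quotient.eq_zero_iff_mem.mpr (hk (Ideal.mem_map_of_mem _ ha))
  obtain ⟨D', hD'⟩ := exists_derivation_lift (B ⧸ 𝔟) h hm ha' f hf D
  let g₀ : Ω[B⁄A] →ₗ[B] (((B ⧸ 𝔟) ⊗[B] Ω[B⁄A]) →₀ (B ⧸ 𝔟)) := D'.liftKaehlerDifferential
  refine ⟨LinearMap.liftBaseChange (B ⧸ 𝔟) g₀, ?_⟩
  have key : (f.restrictScalars B) ∘ₗ g₀ = TensorProduct.mk B (B ⧸ 𝔟) Ω[B⁄A] 1 := by
    apply Derivation.liftKaehlerDifferential_unique
    ext b
    change f (g₀ (KaehlerDifferential.D A B b)) = _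
    rw [show g₀ (KaehlerDifferential.D A B b) = D' b from
      Derivation.liftKaehlerDifferential_comp_D D' b, hD']
  apply TensorProduct.AlgebraTensorModule.ext
  intro c ω
  have h1 : c ⊗ₜ[B] ω = c • ((1 : B ⧸ 𝔟) ⊗ₜ[B] ω) := by
    rw [TensorProduct.smul_tmul', smul_eq_mul, mul_one]
  rw [h1, map_smul, map_smul]
  congr 1
  simp only [LinearMap.comp_apply, LinearMap.liftBaseChange_tmul, one_smul, LinearMap.id_apply]
  exact LinearMap.congr_fun key ω

end Main

end Groth.Agent.H11.AdicOmega
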