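import Mathlib

/-! Precompleteness of finite powers (helper11). -/

namespace Groth.Agent.H11

theorem isPrecomplete_pi (R : Type*) [CommRing R] (I : Ideal R) [IsPrecomplete I R] (r : ℕ) :
    IsPrecomplete I (Fin r → R) := by
  refine ⟨fun f hf => ?_⟩
  have hcoord : ∀ i : Fin r, ∀ {m n : ℕ}, m ≤ n →
      (fun k => f k i) m ≡ (fun k => f k i) n [SMOD (I ^ m • ⊤ : Submodule R R)] := by
    intro i m n hmn
    have h1 := hf hmn
    rw [SModEq.sub_mem] at h1 ⊢
    have h2 := Submodule.mem_map_of_mem (f := (LinearMap.proj i : (Fin r → R) →ₗ[R] R)) h1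
    rw [Submodule.map_smul''] at h2
    exact Submodule.smul_mono le_rfl le_top h2
  choose L hL using fun i => IsPrecomplete.prec' (I := I) (fun k => f k i) (hcoord i)
  refine ⟨L, fun n => ?_⟩
  rw [SModEq.sub_mem]
  have hdecomp : f n - L = ∑ i, (f n i - L i) • (Pi.single i (1 : R) : Fin r → R) := by
    funext j
    simp [Finset.sum_apply, Pi.single_apply]
  rw [hdecomp]
  refine Submodule.sum_mem _ fun i _ => ?_
  apply Submodule.smul_mem_smul _ Submodule.mem_top
  have h3 := hL i n
  rw [SModEq.sub_mem] at h3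
  simpa using h3

end Groth.Agent.H11
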