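import Mathlib

/-! Nakayama-type lemma: generators modulo `I` of a finite projective module that are
"independent modulo `I`" become a basis after inverting some `h ∈ 1 + I`. -/

namespace Groth.Agent.H11.BasisAway

open scoped Pointwise

variable {B : Type*} [CommRing B] (I : Ideal B) {M : Type*} [AddCommGroup M] [Module B M]
  [Module.Finite B M] [Module.Projective B M] {n : ℕ} (m : Fin n → M)

theorem main (h1 : Submodule.span B (Set.range m) ⊔ I • (⊤ : Submodule B M) = ⊤)
    (h2 : ∀ k : Fin n → B, ∑ j, k j • m j = 0 → ∀ j, k j ∈ I) :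
    ∃ h : B, h - 1 ∈ I ∧ (∀ x : M, h • x ∈ Submodule.span B (Set.range m)) ∧
      (∀ k : Fin n → B, ∑ j, k j • m j = 0 → ∀ j, h * k j = 0) := by
  classical
  -- Step 1: Nakayama
  obtain ⟨h₁, hh₁, hle⟩ := Submodule.exists_sub_one_mem_and_smul_le_of_fg_of_le_sup
    (I := I) (N := Submodule.span B (Set.range m)) (N' := (⊤ : Submodule B M)) (P := ⊤)
    (Module.Finite.fg_top) le_rfl (by rw [h1])
  have hgen : ∀ x : M, h₁ • x ∈ Submodule.span B (Set.range m) := fun x =>
    hle (Submodule.smul_mem_pointwise_smul x h₁ ⊤ Submodule.mem_top)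
  -- the map ψ
  let ψ : (Fin n → B) →ₗ[B] M := Fintype.linearCombination B m
  have hψ : ∀ k, ψ k = ∑ j, k j • m j := fun k => Fintype.linearCombination_apply B m k
  have hrange : LinearMap.range ψ = Submodule.span B (Set.range m) :=
    Fintype.range_linearCombination B m
  -- lift h₁ • id through ψ
  let ψ' : (Fin n → B) →ₗ[B] LinearMap.range ψ := ψ.rangeRestrict
  have hψ'surj : Function.Surjective ψ' := LinearMap.surjective_rangeRestrict ψ
  let g : M →ₗ[B] LinearMap.range ψ :=
    LinearMap.codRestrict (LinearMap.range ψ) (h₁ • LinearMap.id) (fun x => by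
      rw [hrange]; exact hgen x)
  obtain ⟨s, hs⟩ := Module.projective_lifting_property ψ' g hψ'surj
  have hs' : ∀ x, ψ (s x) = h₁ • x := fun x => by
    have := congrArg (fun f => (f x : M)) hs
    simpa [ψ', g] using this
  -- e = h₁ - s ∘ ψ
  let e : (Fin n → B) →ₗ[B] (Fin n → B) := h₁ • LinearMap.id - s ∘ₗ ψ
  have he_ker : ∀ k, ψ (e k) = 0 := fun k => by
    simp only [e, LinearMap.sub_apply, LinearMap.smul_apply, LinearMap.id_apply,
      LinearMap.comp_apply, map_sub, map_smul, hs']
    exact sub_self _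
  have he_on_ker : ∀ k, ψ k = 0 → e k = h₁ • k := fun k hk => by
    simp only [e, LinearMap.sub_apply, LinearMap.smul_apply, LinearMap.id_apply,
      LinearMap.comp_apply, hk, map_zero, sub_zero]
  have hkerI : ∀ k, ψ k = 0 → ∀ j, k j ∈ I := fun k hk => h2 k (by rw [← hψ]; exact hk)
  -- K' = range e
  let K' : Submodule B (Fin n → B) := LinearMap.range e
  have hK'fg : K'.FG := by
    change (LinearMap.range e).FG
    rw [LinearMap.range_eq_map]
    exact Submodule.FG.map e Module.Finite.fg_top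
  have hK'le : K' ≤ I • K' := by
    rintro _ ⟨k, rfl⟩
    set κ := e k with hκ
    have hκ0 : ψ κ = 0 := he_ker k
    have hκI := hkerI κ hκ0
    -- e κ = h₁ • κ
    have h3 : e κ = h₁ • κ := he_on_ker κ hκ0
    -- e κ = ∑ κ_i • e (single i 1) ∈ I • K'
    have h4 : e κ ∈ I • K' := by
      have : κ = ∑ i, κ i • (Pi.single i (1 : B) : Fin n → B) := by
        ext j
        simp [Finset.sum_apply, Pi.single_apply]
      rw [this, map_sum]
      refine Submodule.sum_mem _ fun i _ => ?_
      rw [map_smul]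
      exact Submodule.smul_mem_smul (hκI i) ⟨_, rfl⟩
    have h5 : (h₁ - 1) • κ ∈ I • K' := Submodule.smul_mem_smul hh₁ ⟨k, rfl⟩
    have h6 : κ = e κ - (h₁ - 1) • κ := by
      rw [h3, sub_smul, one_smul]; abel
    rw [h6]
    exact Submodule.sub_mem _ h4 h5
  obtain ⟨h₂, hh₂, hann⟩ :=
    Submodule.exists_sub_one_mem_and_smul_eq_zero_of_fg_of_le_smul I K' hK'fg hK'le
  refine ⟨h₂ * h₁, ?_, ?_, ?_⟩
  · have : h₂ * h₁ - 1 = (h₂ - 1) * h₁ + (h₁ - 1) := by ring
    rw [this]
    exact I.add_mem (I.mul_mem_right _ hh₂) hh₁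
  · intro x
    rw [mul_smul]
    exact Submodule.smul_mem _ _ (hgen x)
  · intro k hk j
    have hk' : ψ k = 0 := by rw [hψ]; exact hk
    have h7 : h₂ • (h₁ • k) = 0 := by
      rw [← he_on_ker k hk']
      exact hann _ ⟨k, rfl⟩
    have := congrFun h7 j
    simpa [mul_assoc] using this

end Groth.Agent.H11.BasisAway
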