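import Mathlib

/-!
# Naturality of the Jacobi–Zariski connecting map in the top algebra
-/

set_option autoImplicit false

universe u₁ u₂ u₃ u₄

namespace Groth.Agent.H11.H1Nat

open Algebra TensorProduct KaehlerDifferential MvPolynomial

variable {R : Type u₁} {S : Type u₂} {T : Type u₃} {T' : Type u₄}
  [CommRing R] [CommRing S] [CommRing T] [CommRing T']
  [Algebra R S] [Algebra R T] [Algebra S T] [IsScalarTower R S T]
  [Algebra R T'] [Algebra S T'] [IsScalarTower R S T']
  [Algebra T T'] [IsScalarTower S T T']

/-- The renaming hom between the tautological generators. -/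
noncomputable def renameHom : (Generators.self S T).Hom (Generators.self S T') where
  val t := X (algebraMap T T' t)
  aeval_val t := by simp [Generators.self]

variable (R) in
theorem δAux_rename (y : (Generators.self S T).Ring) :
    Generators.H1Cotangent.δAux R (Generators.self S T')
        ((renameHom (S := S) (T := T) (T' := T')).toAlgHom y) =
      LinearMap.rTensor (Ω[S⁄R]) (IsScalarTower.toAlgHom S T T').toLinearMap
        (Generators.H1Cotangent.δAux R (Generators.self S T) y) := by
  induction y using MvPolynomial.induction_on' with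
  | monomial n r =>
    rw [Generators.H1Cotangent.δAux_monomial]
    have h1 : (renameHom (S := S) (T := T) (T' := T')).toAlgHom (monomial n r) =
        monomial (n.mapDomain (algebraMap T T')) r := by
      have : (renameHom (S := S) (T := T) (T' := T')).toAlgHom =
          MvPolynomial.rename (algebraMap T T') := by
        apply MvPolynomial.algHom_ext
        intro i
        simp [Generators.Hom.toAlgHom, renameHom]
      rw [this, MvPolynomial.rename_monomial]
    rw [h1, Generators.H1Cotangent.δAux_monomial, LinearMap.rTensor_tmul]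
    congr 1
    rw [Finsupp.prod_mapDomain_index (by simp) (by intros; rw [pow_add])]
    simp only [Generators.self, AlgHom.toLinearMap_apply, IsScalarTower.coe_toAlgHom']
    rw [Finsupp.prod, Finsupp.prod, map_prod]
    simp
  | add y₁ y₂ h₁ h₂ => simp only [map_add, h₁, h₂]

variable (R S T T') in
/-- Naturality of the connecting map `δ` in the top algebra. -/
theorem δ_natural (x : Algebra.H1Cotangent S T) :
    Algebra.H1Cotangent.δ R S T' (Algebra.H1Cotangent.map S S T T' x) =
      LinearMap.rTensor (Ω[S⁄R]) (IsScalarTower.toAlgHom S T T').toLinearMap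
        (Algebra.H1Cotangent.δ R S T x) := by
  obtain ⟨c, hc⟩ := x
  obtain ⟨y, rfl⟩ := Extension.Cotangent.mk_surjective c
  have h1 : Algebra.H1Cotangent.map S S T T' ⟨Extension.Cotangent.mk y, hc⟩ =
      Extension.H1Cotangent.map (renameHom (S := S) (T := T) (T' := T')).toExtensionHom
        ⟨Extension.Cotangent.mk y, hc⟩ := by
    rw [Algebra.H1Cotangent.map, Extension.H1Cotangent.map_eq _
      (renameHom (S := S) (T := T) (T' := T')).toExtensionHom]
  rw [h1]
  set g := (renameHom (S := S) (T := T) (T' := T')).toExtensionHom with hg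
  have hm : g.toAlgHom y.1 ∈ (Generators.self S T').toExtension.ker := by
    simpa [-map_aeval] using RingHom.congr_arg (algebraMap T T') y.2
  have hval : (Extension.H1Cotangent.map g ⟨Extension.Cotangent.mk y, hc⟩).1 =
      Extension.Cotangent.mk ⟨g.toAlgHom y.1, hm⟩ := by
    rw [Extension.H1Cotangent.map_apply_coe, Extension.Cotangent.map_mk]
  have hz : Extension.Cotangent.mk ⟨g.toAlgHom y.1, hm⟩ ∈
      LinearMap.ker (Generators.self S T').toExtension.cotangentComplex := by
    rw [← hval]
    exact (Extension.H1Cotangent.map g ⟨Extension.Cotangent.mk y, hc⟩).2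
  have h2 : Extension.H1Cotangent.map g ⟨Extension.Cotangent.mk y, hc⟩ =
      ⟨Extension.Cotangent.mk ⟨g.toAlgHom y.1, hm⟩, hz⟩ := Subtype.ext hval
  rw [h2]
  have e1 := Generators.H1Cotangent.δ_eq_δAux (R := R) (Generators.self S T')
    (Generators.self R S) ⟨g.toAlgHom y.1, hm⟩ hz
  have e2 := Generators.H1Cotangent.δ_eq_δAux (R := R) (Generators.self S T)
    (Generators.self R S) y hc
  exact e1.trans ((δAux_rename R y.1).trans (congrArg _ e2.symm))

section BaseNat

variable {R : Type u₁} {R' : Type u₄} {S : Type u₂} {T : Type u₃}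
  [CommRing R] [CommRing R'] [CommRing S] [CommRing T]
  [Algebra R R'] [Algebra R S] [Algebra R' S] [IsScalarTower R R' S]
  [Algebra R T] [Algebra R' T] [Algebra S T] [IsScalarTower R S T] [IsScalarTower R' S T]

variable (R R') in
theorem δAux_base {ι : Type*} (Q : Generators S T ι) (y : Q.Ring) :
    Generators.H1Cotangent.δAux R' Q y =
      LinearMap.lTensor T (KaehlerDifferential.map R R' S S)
        (Generators.H1Cotangent.δAux R Q y) := by
  induction y using MvPolynomial.induction_on' with
  | monomial n r =>
    rw [Generators.H1Cotangent.δAux_monomial, Generators.H1Cotangent.δAux_monomial,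
      LinearMap.lTensor_tmul, KaehlerDifferential.map_D]
    rfl
  | add y₁ y₂ h₁ h₂ => simp only [map_add, h₁, h₂]

variable (R R' S T) in
/-- Naturality of the connecting map `δ` in the base ring. -/
theorem δ_base (x : Algebra.H1Cotangent S T) :
    Algebra.H1Cotangent.δ R' S T x =
      LinearMap.lTensor T (KaehlerDifferential.map R R' S S) (Algebra.H1Cotangent.δ R S T x) := by
  obtain ⟨c, hc⟩ := x
  obtain ⟨y, rfl⟩ := Extension.Cotangent.mk_surjective c
  have e1 := Generators.H1Cotangent.δ_eq_δAux (R := R') (Generators.self S T)
    (Generators.self R' S) y hc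
  have e2 := Generators.H1Cotangent.δ_eq_δAux (R := R) (Generators.self S T)
    (Generators.self R S) y hc
  exact e1.trans ((δAux_base R R' (Generators.self S T) y.1).trans (congrArg _ e2.symm))

end BaseNat

/-- If `H¹(L_{L/F}) = 0`, then `H¹(L_{L/K}) ⊗_L M → H¹(L_{M/K})` is injective for `M` flat over
`L`. -/
theorem injective_liftBaseChange_of_subsingleton (F : Type u₁) (K : Type u₂) (L : Type u₃)
    (M : Type u₄) [CommRing F] [CommRing K] [CommRing L] [CommRing M]
    [Algebra F K] [Algebra F L] [Algebra F M] [Algebra K L] [Algebra K M] [Algebra L M]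
    [IsScalarTower F K L] [IsScalarTower F K M] [IsScalarTower K L M] [Module.Flat L M]
    [Subsingleton (Algebra.H1Cotangent F L)] :
    Function.Injective ((Algebra.H1Cotangent.map K K L M).liftBaseChange M) := by
  have hδ : Function.Injective (Algebra.H1Cotangent.δ F K L) := by
    rw [injective_iff_map_eq_zero]
    intro x hx
    obtain ⟨y, rfl⟩ := (Algebra.H1Cotangent.exact_map_δ F K L x).mp hx
    rw [Subsingleton.elim y 0, map_zero]
  let Φ := TensorProduct.AlgebraTensorModule.cancelBaseChange K L M M (Ω[K⁄F])
  have hΦ : ∀ (m : M) (t : L ⊗[K] Ω[K⁄F]), Φ (m ⊗ₜ t) =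
      m • LinearMap.rTensor (Ω[K⁄F]) (IsScalarTower.toAlgHom K L M).toLinearMap t := by
    intro m t
    induction t with
    | zero => simp
    | add a b ha hb => rw [TensorProduct.tmul_add, map_add, ha, hb, map_add, smul_add]
    | tmul l w =>
      rw [TensorProduct.AlgebraTensorModule.cancelBaseChange_tmul, LinearMap.rTensor_tmul,
        TensorProduct.smul_tmul', Algebra.smul_def, smul_eq_mul, mul_comm]
      rfl
  have key : ∀ z : M ⊗[L] Algebra.H1Cotangent K L,
      Algebra.H1Cotangent.δ F K M ((Algebra.H1Cotangent.map K K L M).liftBaseChange M z) =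
        Φ ((Algebra.H1Cotangent.δ F K L).baseChange M z) := by
    intro z
    induction z with
    | zero => simp
    | add a b ha hb => simp only [map_add, ha, hb]
    | tmul m x =>
      rw [LinearMap.liftBaseChange_tmul, map_smul, δ_natural F K L M x,
        LinearMap.baseChange_tmul, hΦ]
  rw [injective_iff_map_eq_zero]
  intro z hz
  have h1 : Φ ((Algebra.H1Cotangent.δ F K L).baseChange M z) = 0 := by
    rw [← key, hz, map_zero]
  have h2 : (Algebra.H1Cotangent.δ F K L).baseChange M z = 0 := by
    simpa using h1
  have hinj : Function.Injective ((Algebra.H1Cotangent.δ F K L).baseChange M) := by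
    rw [LinearMap.baseChange_eq_ltensor]
    exact Module.Flat.lTensor_preserves_injective_linearMap _ hδ
  exact hinj (by rw [h2, map_zero])

end Groth.Agent.H11.H1Nat
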