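import Mathlib
import Groth.Agent.H11.H1Nat
import Groth.Agent.H27.FieldSmooth

/-!
# Left exactness of the Jacobi–Zariski sequence for towers of fields
-/

set_option autoImplicit false

universe u

namespace Groth.Agent.H11.H1Fields

open TensorProduct

/-- For a tower of fields `K ⊆ L ⊆ M`, `H¹(L_{L/K}) ⊗_L M → H¹(L_{M/K})` is injective. -/
theorem injective_liftBaseChange {K L M : Type u} [Field K] [Field L] [Field M] [Algebra K L]
    [Algebra L M] [Algebra K M] [IsScalarTower K L M] :
    Function.Injective ((Algebra.H1Cotangent.map K K L M).liftBaseChange M) := by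
  obtain ⟨p, hc⟩ := CharP.exists K
  rcases CharP.char_is_prime_or_zero K p with hp | rfl
  · haveI : Fact p.Prime := ⟨hp⟩
    letI : Algebra (ZMod p) K := ZMod.algebra K p
    letI : Algebra (ZMod p) L := ((algebraMap K L).comp (algebraMap (ZMod p) K)).toAlgebra
    letI : Algebra (ZMod p) M := ((algebraMap K M).comp (algebraMap (ZMod p) K)).toAlgebra
    haveI : IsScalarTower (ZMod p) K L := .of_algebraMap_eq' rfl
    haveI : IsScalarTower (ZMod p) K M := .of_algebraMap_eq' rfl
    haveI : Algebra.FormallySmooth (ZMod p) L :=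
      Groth.Agent.H27.FieldSmooth.formallySmooth_zmod p L
    exact Groth.Agent.H11.H1Nat.injective_liftBaseChange_of_subsingleton (ZMod p) K L M
  · haveI := CharP.charP_to_charZero K
    haveI : Algebra.FormallySmooth K L :=
      Groth.Agent.H27.FieldSmooth.formallySmooth_of_charZero K L
    haveI : Subsingleton (M ⊗[L] Algebra.H1Cotangent K L) := inferInstance
    exact Function.injective_of_subsingleton _

/-- For fields, the connecting map `H¹(L_{L/K}) → L ⊗_K Ω_{K/ℤ}` is injective. -/
theorem injective_δ_int {K L : Type u} [Field K] [Field L] [Algebra K L] :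
    Function.Injective (Algebra.H1Cotangent.δ ℤ K L) := by
  obtain ⟨p, hc⟩ := CharP.exists K
  rcases CharP.char_is_prime_or_zero K p with hp | rfl
  · haveI : Fact p.Prime := ⟨hp⟩
    letI : Algebra (ZMod p) K := ZMod.algebra K p
    letI : Algebra (ZMod p) L := ((algebraMap K L).comp (algebraMap (ZMod p) K)).toAlgebra
    haveI : IsScalarTower (ZMod p) K L := .of_algebraMap_eq' rfl
    haveI : Algebra.FormallySmooth (ZMod p) L :=
      Groth.Agent.H27.FieldSmooth.formallySmooth_zmod p L
    have hδ : Function.Injective (Algebra.H1Cotangent.δ (ZMod p) K L) := by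
      rw [injective_iff_map_eq_zero]
      intro x hx
      obtain ⟨y, rfl⟩ := (Algebra.H1Cotangent.exact_map_δ (ZMod p) K L x).mp hx
      rw [Subsingleton.elim y 0, map_zero]
    rw [injective_iff_map_eq_zero]
    intro x hx
    apply (injective_iff_map_eq_zero _).mp hδ
    rw [Groth.Agent.H11.H1Nat.δ_base ℤ (ZMod p) K L x, hx, map_zero]
  · haveI := CharP.charP_to_charZero K
    haveI : Algebra.FormallySmooth K L :=
      Groth.Agent.H27.FieldSmooth.formallySmooth_of_charZero K L
    exact Function.injective_of_subsingleton _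

/-- The imperfection module `ker (L ⊗_K Ω_{K/ℤ} → Ω_{L/ℤ})` is isomorphic to `H¹(L_{L/K})`. -/
noncomputable def h1EquivImperfection (K L : Type u) [Field K] [Field L] [Algebra K L] :
    Algebra.H1Cotangent K L ≃ₗ[L] LinearMap.ker (KaehlerDifferential.mapBaseChange ℤ K L) :=
  (LinearEquiv.ofInjective (Algebra.H1Cotangent.δ ℤ K L) injective_δ_int).trans
    (LinearEquiv.ofEq _ _
      (Algebra.H1Cotangent.exact_δ_mapBaseChange ℤ K L).linearMap_ker_eq.symm)

end Groth.Agent.H11.H1Fields
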