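import Mathlib
import Groth.Agent.H11.H1Fields

/-!
# Cartier's equality for finitely generated field extensions
-/

set_option autoImplicit false

universe u

namespace Groth.Agent.H11.Cartier

open TensorProduct Module

/-- Middle term of an exact sequence with finite outer terms is finite (over a field). -/
theorem finite_of_exact {F V₁ V₂ V₃ : Type*} [Field F] [AddCommGroup V₁] [AddCommGroup V₂]
    [AddCommGroup V₃] [Module F V₁] [Module F V₂] [Module F V₃]
    (f : V₁ →ₗ[F] V₂) (g : V₂ →ₗ[F] V₃) (h : Function.Exact f g)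
    [Module.Finite F V₁] [Module.Finite F V₃] : Module.Finite F V₂ := by
  haveI : Module.Finite F (LinearMap.ker g) := by
    rw [h.linearMap_ker_eq]
    infer_instance
  haveI : Module.Finite F (V₂ ⧸ LinearMap.ker g) :=
    Module.Finite.equiv g.quotKerEquivRange.symm
  exact Module.Finite.of_submodule_quotient (LinearMap.ker g)

/-- The Euler characteristic `dim Ω − dim H¹` is additive in towers of fields. -/
theorem additivity {K L M : Type u} [Field K] [Field L] [Field M] [Algebra K L]
    [Algebra L M] [Algebra K M] [IsScalarTower K L M]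
    [Module.Finite L (Ω[L⁄K])] [Module.Finite L (Algebra.H1Cotangent K L)]
    [Module.Finite M (Ω[M⁄L])] [Module.Finite M (Algebra.H1Cotangent L M)] :
    Module.Finite M (Ω[M⁄K]) ∧ Module.Finite M (Algebra.H1Cotangent K M) ∧
      (finrank M (Ω[M⁄K]) : ℤ) - finrank M (Algebra.H1Cotangent K M) =
        ((finrank L (Ω[L⁄K]) : ℤ) - finrank L (Algebra.H1Cotangent K L)) +
        ((finrank M (Ω[M⁄L]) : ℤ) - finrank M (Algebra.H1Cotangent L M)) := by
  have e01 := Groth.Agent.H11.H1Fields.injective_liftBaseChange (K := K) (L := L) (M := M)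
  have e12 := Algebra.H1Cotangent.exact_liftBaseChange_map_of_flat (R := K) (S := L) (T := M)
  have e23 := Algebra.H1Cotangent.exact_map_δ K L M
  have e34 := Algebra.H1Cotangent.exact_δ_mapBaseChange K L M
  have e45 := KaehlerDifferential.exact_mapBaseChange_map K L M
  have e5 := KaehlerDifferential.map_surjective K L M
  haveI h1 : Module.Finite M (Algebra.H1Cotangent K M) := finite_of_exact _ _ e12
  haveI h4 : Module.Finite M (Ω[M⁄K]) := finite_of_exact _ _ e45
  refine ⟨h4, h1, ?_⟩
  have key := Module.sum_neg_one_pow_finrank_eq_zero_of_exact_six _ _ _ _ _ e01 e12 e23 e34 e45 e5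
  rw [Module.finrank_baseChange, Module.finrank_baseChange] at key
  linarith

open Polynomial in
/-- Simple transcendental extensions: `Ω` has dimension one and `H¹` vanishes. -/
theorem simple_transcendental {K M : Type u} [Field K] [Field M] [Algebra K M] (a : M)
    (ha : Transcendental K a)
    (hgen : ∀ z : M, ∃ p q : K[X], z = aeval a p / aeval a q) :
    Module.Finite M (Ω[M⁄K]) ∧ Module.Finite M (Algebra.H1Cotangent K M) ∧
      finrank M (Ω[M⁄K]) = 1 ∧ finrank M (Algebra.H1Cotangent K M) = 0 ∧
      Algebra.trdeg K M = 1 := by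
  letI : Algebra K[X] M := (aeval a).toRingHom.toAlgebra
  haveI : IsScalarTower K K[X] M := .of_algebraMap_eq fun r => by
    change algebraMap K M r = aeval a (C r)
    rw [aeval_C]
  have hinj : Function.Injective (algebraMap K[X] M) := by
    change Function.Injective (aeval a)
    exact transcendental_iff_injective.mp ha
  haveI : FaithfulSMul K[X] M := (faithfulSMul_iff_algebraMap_injective _ _).mpr hinj
  haveI : IsFractionRing K[X] M := IsFractionRing.of_field (R := K[X]) (K := M) (fun z => by
    obtain ⟨p, q, h⟩ := hgen z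
    exact ⟨p, q, h⟩)
  haveI : Algebra.FormallyEtale K[X] M := .of_isLocalization (nonZeroDivisors K[X])
  haveI : Algebra.FormallySmooth K M := .comp K K[X] M
  let e : M ⊗[K[X]] Ω[K[X]⁄K] ≃ₗ[M] Ω[M⁄K] :=
    KaehlerDifferential.tensorKaehlerEquivOfFormallyEtale K K[X] M
  let e2 : M ⊗[K[X]] Ω[K[X]⁄K] ≃ₗ[M] M ⊗[K[X]] K[X] :=
    LinearEquiv.baseChange K[X] M _ _ (KaehlerDifferential.polynomialEquiv K)
  let e3 : M ⊗[K[X]] K[X] ≃ₗ[M] M := TensorProduct.AlgebraTensorModule.rid K[X] M M
  let E : Ω[M⁄K] ≃ₗ[M] M := e.symm.trans (e2.trans e3)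
  haveI h1 : Module.Finite M (Ω[M⁄K]) := Module.Finite.equiv E.symm
  haveI h2 : Module.Finite M (Algebra.H1Cotangent K M) := inferInstance
  refine ⟨h1, h2, ?_, ?_, ?_⟩
  · rw [E.finrank_eq, Module.finrank_self]
  · exact Module.finrank_zero_of_subsingleton
  · have h3 := trdeg_add_eq K K[X] (A := M)
    haveI : Algebra.IsAlgebraic K[X] M := IsLocalization.isAlgebraic M (nonZeroDivisors K[X])
    rw [Polynomial.trdeg_of_isDomain, trdeg_eq_zero, add_zero] at h3
    exact h3.symm

/-- If a presentation of a field `M` over `L` by `n` generators has conormal module of dimension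
`n`, then `dim Ω = dim H¹`. -/
theorem chi_zero_of_generators {L M : Type u} [Field L] [Field M] [Algebra L M] {ι : Type}
    [Fintype ι] (P : Algebra.Generators L M ι) [Module.Finite M P.toExtension.Cotangent]
    (h : finrank M P.toExtension.Cotangent = Fintype.card ι) :
    Module.Finite M (Ω[M⁄L]) ∧ Module.Finite M (Algebra.H1Cotangent L M) ∧
      finrank M (Ω[M⁄L]) = finrank M (Algebra.H1Cotangent L M) := by
  haveI : Module.Finite M P.toExtension.CotangentSpace :=
    Module.Finite.of_basis P.cotangentSpaceBasis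
  have hcs : finrank M P.toExtension.CotangentSpace = Fintype.card ι :=
    Module.finrank_eq_card_basis P.cotangentSpaceBasis
  have hsurj := P.toExtension.toKaehler_surjective
  have hex := P.toExtension.exact_cotangentComplex_toKaehler
  haveI h1 : Module.Finite M (Ω[M⁄L]) := Module.Finite.of_surjective _ hsurj
  let e := Algebra.Generators.H1Cotangent.equiv (Algebra.Generators.self L M) P
  haveI : Module.Finite M P.toExtension.H1Cotangent :=
    inferInstanceAs (Module.Finite M (LinearMap.ker P.toExtension.cotangentComplex))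
  haveI h2 : Module.Finite M (Algebra.H1Cotangent L M) := Module.Finite.equiv e.symm
  refine ⟨h1, h2, ?_⟩
  rw [e.finrank_eq]
  have r1 := P.toExtension.cotangentComplex.finrank_range_add_finrank_ker
  have r2 := P.toExtension.toKaehler.finrank_range_add_finrank_ker
  rw [LinearMap.range_eq_top.mpr hsurj, finrank_top, hex.linearMap_ker_eq, hcs] at r2
  rw [h] at r1
  change finrank M (Ω[M⁄L]) = finrank M (LinearMap.ker P.toExtension.cotangentComplex)
  omega

open Polynomial in
/-- Simple algebraic extensions: `dim Ω = dim H¹` (both finite). -/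
theorem simple_algebraic {L M : Type u} [Field L] [Field M] [Algebra L M] (α : M)
    (hα : IsIntegral L α) (hgen : ∀ z : M, ∃ p : L[X], z = aeval α p) :
    Module.Finite M (Ω[M⁄L]) ∧ Module.Finite M (Algebra.H1Cotangent L M) ∧
      finrank M (Ω[M⁄L]) = finrank M (Algebra.H1Cotangent L M) := by
  classical
  have hsurj : Function.Surjective (MvPolynomial.aeval (R := L) (fun _ : Unit => α)) := by
    intro z
    obtain ⟨p, rfl⟩ := hgen z
    refine ⟨Polynomial.eval₂ MvPolynomial.C (MvPolynomial.X ()) p, ?_⟩
    have := Polynomial.hom_eval₂ p (MvPolynomial.C (σ := Unit) (R := L))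
      (MvPolynomial.aeval (R := L) (fun _ : Unit => α)).toRingHom (MvPolynomial.X ())
    simp only [AlgHom.toRingHom_eq_coe, RingHom.coe_coe, MvPolynomial.aeval_X] at this
    rw [this]
    congr 1
    ext r
    simp
  let P : Algebra.Generators L M Unit := Algebra.Generators.ofSurjective (fun _ => α) hsurj
  -- the kernel is principal, nonzero, proper
  haveI : IsPrincipalIdealRing (MvPolynomial Unit L) :=
    IsPrincipalIdealRing.of_surjective (MvPolynomial.uniqueAlgEquiv L Unit).symm.toRingEquiv.toRingHom
      (MvPolynomial.uniqueAlgEquiv L Unit).symm.surjective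
  let I : Ideal (MvPolynomial Unit L) :=
    RingHom.ker (MvPolynomial.aeval (R := L) (fun _ : Unit => α))
  have hEq : P.toExtension.ker = I := P.ker_eq_ker_aeval_val
  have hPI : ∀ x : MvPolynomial Unit L, x ∈ P.toExtension.ker ↔ x ∈ I := fun x => by
    rw [hEq]; exact Iff.rfl
  have hPI2 : ∀ x : MvPolynomial Unit L, x ∈ P.toExtension.ker ^ 2 ↔ x ∈ I ^ 2 := fun x => by
    rw [hEq]; exact Iff.rfl
  obtain ⟨g, hg⟩ : ∃ g : MvPolynomial Unit L, I = Ideal.span {g} :=
    ((inferInstance : IsPrincipalIdealRing (MvPolynomial Unit L)).principal I).principal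
  have hgmem : g ∈ I := by
    rw [hg]; exact Ideal.mem_span_singleton_self g
  have hne_top : I ≠ ⊤ := RingHom.ker_ne_top _
  have hg0 : g ≠ 0 := by
    rintro rfl
    have hbot : I = ⊥ := by rw [hg]; simp
    -- minimal polynomial gives a nonzero element of the kernel
    have hmp : Polynomial.eval₂ MvPolynomial.C (MvPolynomial.X ()) (minpoly L α) ∈ I := by
      rw [RingHom.mem_ker]
      have := Polynomial.hom_eval₂ (minpoly L α) (MvPolynomial.C (σ := Unit) (R := L))
        (MvPolynomial.aeval (R := L) (fun _ : Unit => α)).toRingHom (MvPolynomial.X ())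
      simp only [AlgHom.toRingHom_eq_coe, RingHom.coe_coe, MvPolynomial.aeval_X] at this
      rw [this]
      have h2 : ((MvPolynomial.aeval (R := L) (fun _ : Unit => α)) : MvPolynomial Unit L →+* M).comp
          (MvPolynomial.C (σ := Unit) (R := L)) = algebraMap L M := by
        ext r; simp
      rw [h2]
      exact minpoly.aeval L α
    rw [hbot, Ideal.mem_bot] at hmp
    have h3 : (MvPolynomial.uniqueAlgEquiv L Unit).symm (minpoly L α) = 0 := hmp
    rw [map_eq_zero_iff _ (MvPolynomial.uniqueAlgEquiv L Unit).symm.injective] at h3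
    exact minpoly.ne_zero hα h3
  -- the generator of the conormal module
  let v : P.toExtension.Cotangent := Algebra.Extension.Cotangent.mk ⟨g, (hPI g).mpr hgmem⟩
  have hv : v ≠ 0 := by
    intro h0
    rw [Algebra.Extension.Cotangent.mk_eq_zero_iff] at h0
    have h0' : g ∈ I ^ 2 := (hPI2 g).mp h0
    rw [hg, Ideal.span_singleton_pow, Ideal.mem_span_singleton] at h0'
    obtain ⟨c, hc⟩ := h0'
    have h1 : g * (1 - g * c) = 0 := by
      rw [mul_sub, mul_one, ← mul_assoc, ← pow_two, ← hc, sub_self]
    rcases mul_eq_zero.mp h1 with h | h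
    · exact hg0 h
    · apply hne_top
      rw [Ideal.eq_top_iff_one, hg, Ideal.mem_span_singleton]
      exact ⟨c, (sub_eq_zero.mp h)⟩
  have hspan : ∀ w : P.toExtension.Cotangent, ∃ c : M, c • v = w := by
    intro w
    obtain ⟨⟨x, hx⟩, rfl⟩ := Algebra.Extension.Cotangent.mk_surjective w
    have hx' : x ∈ (Ideal.span {g} : Ideal (MvPolynomial Unit L)) := hg ▸ (hPI x).mp hx
    obtain ⟨r, hr⟩ := Ideal.mem_span_singleton'.mp hx'
    refine ⟨algebraMap P.toExtension.Ring M r, ?_⟩
    have e1 : Algebra.Extension.Cotangent.mk (P := P.toExtension) ⟨x, hx⟩ = r • v := by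
      rw [← map_smul]
      congr 1
      exact Subtype.ext hr.symm
    have e2 : (algebraMap P.toExtension.Ring M r) • v = r • v := algebraMap_smul M r v
    rw [e1]; exact e2
  have hfr : finrank M P.toExtension.Cotangent = 1 := (finrank_eq_one_iff_of_nonzero' v hv).mpr hspan
  haveI : Module.Finite M P.toExtension.Cotangent :=
    Module.finite_of_finrank_pos (by rw [hfr]; exact Nat.one_pos)
  exact chi_zero_of_generators P (by rw [hfr]; simp)

/-- The Cartier package for a field extension. -/
def CartierProp (K L : Type u) [Field K] [Field L] [Algebra K L] : Prop :=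
  Module.Finite L (Ω[L⁄K]) ∧ Module.Finite L (Algebra.H1Cotangent K L) ∧
    Algebra.trdeg K L < Cardinal.aleph0 ∧
    (finrank L (Ω[L⁄K]) : ℤ) - finrank L (Algebra.H1Cotangent K L) =
      (Cardinal.toNat (Algebra.trdeg K L) : ℤ)

open IntermediateField Polynomial in
/-- Simple extensions satisfy Cartier's equality. -/
theorem cartier_simple (K L : Type u) [Field K] [Field L] [Algebra K L] (a : L) :
    CartierProp K K⟮a⟯ := by
  by_cases h : IsIntegral K a
  · have h1 : IsIntegral K (AdjoinSimple.gen K a) := (IntermediateField.AdjoinSimple.isIntegral_gen (F := K) (α := a)).mpr h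
    have hgen : ∀ z : K⟮a⟯, ∃ p : K[X], z = aeval (AdjoinSimple.gen K a) p := by
      intro z
      have hz : (z : L) ∈ K⟮a⟯.toSubalgebra := z.2
      rw [adjoin_simple_toSubalgebra_of_isAlgebraic h.isAlgebraic,
        Algebra.adjoin_singleton_eq_range_aeval] at hz
      obtain ⟨p, hp⟩ := hz
      refine ⟨p, Subtype.ext ?_⟩
      rw [AdjoinSimple.coe_aeval_gen_apply]
      exact hp.symm
    obtain ⟨f1, f2, e⟩ := simple_algebraic (AdjoinSimple.gen K a) h1 hgen
    haveI : Algebra.IsAlgebraic K K⟮a⟯ := isAlgebraic_adjoin_simple h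
    refine ⟨f1, f2, ?_, ?_⟩
    · rw [trdeg_eq_zero]; exact Cardinal.aleph0_pos
    · rw [trdeg_eq_zero, e]; simp
  · have h1 : Transcendental K (AdjoinSimple.gen K a) := by
      intro halg
      apply h
      have : IsAlgebraic K (algebraMap K⟮a⟯ L (AdjoinSimple.gen K a)) :=
        halg.algebraMap
      exact this.isIntegral
    have hgen : ∀ z : K⟮a⟯, ∃ p q : K[X],
        z = aeval (AdjoinSimple.gen K a) p / aeval (AdjoinSimple.gen K a) q := by
      intro z
      obtain ⟨r, s, hrs⟩ := (mem_adjoin_simple_iff K (z : L)).mp z.2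
      refine ⟨r, s, Subtype.ext ?_⟩
      rw [IntermediateField.coe_div, AdjoinSimple.coe_aeval_gen_apply,
        AdjoinSimple.coe_aeval_gen_apply]
      exact hrs
    obtain ⟨f1, f2, e1, e2, e3⟩ := simple_transcendental (AdjoinSimple.gen K a) h1 hgen
    refine ⟨f1, f2, ?_, ?_⟩
    · rw [e3]; exact Cardinal.one_lt_aleph0
    · rw [e1, e2, e3]; simp

/-- Transitivity of the Cartier package. -/
theorem CartierProp.trans {K E L : Type u} [Field K] [Field E] [Field L] [Algebra K E]
    [Algebra E L] [Algebra K L] [IsScalarTower K E L]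
    (h1 : CartierProp K E) (h2 : CartierProp E L) : CartierProp K L := by
  obtain ⟨a1, a2, a3, a4⟩ := h1
  obtain ⟨b1, b2, b3, b4⟩ := h2
  obtain ⟨c1, c2, c3⟩ := additivity (K := K) (L := E) (M := L)
  have ht := trdeg_add_eq K E (A := L)
  refine ⟨c1, c2, ?_, ?_⟩
  · rw [← ht]; exact Cardinal.add_lt_aleph0 a3 b3
  · rw [c3, a4, b4, ← ht, Cardinal.toNat_add a3 b3]; push_cast; ring

open IntermediateField in
/-- Cartier's equality for finitely generated field extensions, by induction on generators. -/
theorem cartier_of_finset : ∀ (n : ℕ) (K L : Type u) [Field K] [Field L] [Algebra K L]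
    (s : Finset L), s.card = n → IntermediateField.adjoin K (s : Set L) = ⊤ →
    CartierProp K L := by
  intro n
  induction n with
  | zero =>
    intro K L _ _ _ s hs htop
    rw [Finset.card_eq_zero] at hs
    subst hs
    rw [Finset.coe_empty, IntermediateField.adjoin_empty] at htop
    -- every element is in the image of `K`
    have hsurj : ∀ z : L, ∃ k : K, algebraMap K L k = z := by
      intro z
      have : z ∈ (⊥ : IntermediateField K L) := htop ▸ IntermediateField.mem_top
      exact IntermediateField.mem_bot.mp this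
    have hgen : ∀ z : L, ∃ p : Polynomial K, z = Polynomial.aeval (0 : L) p := by
      intro z
      obtain ⟨k, rfl⟩ := hsurj z
      exact ⟨Polynomial.C k, by simp⟩
    obtain ⟨f1, f2, e⟩ := simple_algebraic (0 : L) isIntegral_zero hgen
    haveI : Algebra.IsAlgebraic K L := ⟨fun z => by
      obtain ⟨k, rfl⟩ := hsurj z
      exact isAlgebraic_algebraMap k⟩
    refine ⟨f1, f2, ?_, ?_⟩
    · rw [trdeg_eq_zero]; exact Cardinal.aleph0_pos
    · rw [trdeg_eq_zero, e]; simp
  | succ n ih =>
    intro K L _ _ _ s hs htop
    classical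
    obtain ⟨a, ha⟩ : s.Nonempty := by
      rw [← Finset.card_pos, hs]; exact Nat.succ_pos n
    have h1 : CartierProp K K⟮a⟯ := cartier_simple K L a
    have hcard : (s.erase a).card = n := by
      rw [Finset.card_erase_of_mem ha, hs]; rfl
    have htop' : IntermediateField.adjoin K⟮a⟯ ((s.erase a : Finset L) : Set L) = ⊤ := by
      have h3 := IntermediateField.adjoin_adjoin_left K ({a} : Set L) ((s.erase a : Finset L) : Set L)
      have h4 : ({a} : Set L) ∪ ((s.erase a : Finset L) : Set L) = (s : Set L) := by
        rw [Finset.coe_erase, Set.union_sdiff_self, Set.union_eq_self_of_subset_left]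
        exact Set.singleton_subset_iff.mpr ha
      rw [h4, htop] at h3
      rw [eq_top_iff]
      intro x _
      have : x ∈ (IntermediateField.adjoin K⟮a⟯ ((s.erase a : Finset L) : Set L)).restrictScalars K := by
        rw [h3]; exact IntermediateField.mem_top
      exact this
    have h2 : CartierProp K⟮a⟯ L := ih K⟮a⟯ L (s.erase a) hcard htop'
    exact h1.trans h2

/-- Cartier's equality for essentially finite type field extensions. -/
theorem cartier (K L : Type u) [Field K] [Field L] [Algebra K L] [Algebra.EssFiniteType K L] :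
    CartierProp K L := by
  obtain ⟨s, hs⟩ := IntermediateField.fg_top (F := K) (E := L)
  exact cartier_of_finset s.card K L s rfl hs

/-- The relative imperfection module is a quotient of `H¹(L_{L/K})`. -/
theorem imperfection_le {k K L : Type u} [Field k] [Field K] [Field L] [Algebra k K]
    [Algebra K L] [Algebra k L] [IsScalarTower k K L]
    [Module.Finite L (Algebra.H1Cotangent K L)] :
    Module.Finite L (LinearMap.ker (KaehlerDifferential.mapBaseChange k K L)) ∧
      finrank L (LinearMap.ker (KaehlerDifferential.mapBaseChange k K L)) ≤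
        finrank L (Algebra.H1Cotangent K L) := by
  rw [(Algebra.H1Cotangent.exact_δ_mapBaseChange k K L).linearMap_ker_eq]
  exact ⟨inferInstance, LinearMap.finrank_range_le _⟩

/-- Inequality form of Cartier's equality with a relative imperfection module. -/
theorem cartier_imperfection {k K L : Type u} [Field k] [Field K] [Field L] [Algebra k K]
    [Algebra K L] [Algebra k L] [IsScalarTower k K L] [Algebra.EssFiniteType K L] :
    Module.Finite L (Ω[L⁄K]) ∧
      Module.Finite L (LinearMap.ker (KaehlerDifferential.mapBaseChange k K L)) ∧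
      (Cardinal.toNat (Algebra.trdeg K L) : ℤ) ≤ (finrank L (Ω[L⁄K]) : ℤ) -
        finrank L (LinearMap.ker (KaehlerDifferential.mapBaseChange k K L)) := by
  obtain ⟨f1, f2, _, e⟩ := cartier K L
  haveI := f2
  obtain ⟨f3, hle⟩ := imperfection_le (k := k) (K := K) (L := L)
  refine ⟨f1, f3, ?_⟩
  rw [← e]
  have : (finrank L (LinearMap.ker (KaehlerDifferential.mapBaseChange k K L)) : ℤ) ≤
      finrank L (Algebra.H1Cotangent K L) := by exact_mod_cast hle
  linarith

/-- Inequality `dim Ω_{L/k} − dim Ω_{K/k} ≥ trdeg_K L`. -/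
theorem cartier_tower {k K L : Type u} [Field k] [Field K] [Field L] [Algebra k K]
    [Algebra K L] [Algebra k L] [IsScalarTower k K L] [Algebra.EssFiniteType k L] :
    Module.Finite L (Ω[L⁄k]) ∧ Module.Finite K (Ω[K⁄k]) ∧
      (Cardinal.toNat (Algebra.trdeg K L) : ℤ) ≤
        (finrank L (Ω[L⁄k]) : ℤ) - finrank K (Ω[K⁄k]) := by
  haveI : Algebra.EssFiniteType K L := Algebra.EssFiniteType.of_comp k K L
  obtain ⟨f1, _, _, _⟩ := cartier k L
  obtain ⟨g1, g2, _, e⟩ := cartier K L
  haveI := f1
  haveI := g1
  haveI := g2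
  have e34 := Algebra.H1Cotangent.exact_δ_mapBaseChange k K L
  have e45 := KaehlerDifferential.exact_mapBaseChange_map k K L
  have e5 := KaehlerDifferential.map_surjective k K L
  haveI hT : Module.Finite L (L ⊗[K] Ω[K⁄k]) := finite_of_exact _ _ e34
  have hK : Module.Finite K (Ω[K⁄k]) := by
    rw [← Module.rank_lt_aleph0_iff] at hT ⊢
    rw [Module.rank_baseChange, Cardinal.lift_id] at hT
    exact hT
  refine ⟨f1, hK, ?_⟩
  haveI := hK
  have r1 := (KaehlerDifferential.map k K L L).finrank_range_add_finrank_ker
  rw [LinearMap.range_eq_top.mpr e5, finrank_top, e45.linearMap_ker_eq] at r1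
  have r2 := (KaehlerDifferential.mapBaseChange k K L).finrank_range_add_finrank_ker
  rw [e34.linearMap_ker_eq, Module.finrank_baseChange] at r2
  have r3 := LinearMap.finrank_range_le (Algebra.H1Cotangent.δ k K L)
  rw [← e]
  have r1' : (finrank L (Ω[L⁄K]) : ℤ) +
      finrank L (LinearMap.range (KaehlerDifferential.mapBaseChange k K L)) =
      finrank L (Ω[L⁄k]) := by exact_mod_cast r1
  have r2' : (finrank L (LinearMap.range (KaehlerDifferential.mapBaseChange k K L)) : ℤ) +
      finrank L (LinearMap.range (Algebra.H1Cotangent.δ k K L)) = finrank K (Ω[K⁄k]) := by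
    exact_mod_cast r2
  have r3' : (finrank L (LinearMap.range (Algebra.H1Cotangent.δ k K L)) : ℤ) ≤
      finrank L (Algebra.H1Cotangent K L) := by exact_mod_cast r3
  linarith

end Groth.Agent.H11.Cartier
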