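import Mathlib

namespace Groth.Agent.H11.CM

open Finset Polynomial

variable {k : Type*} [Field k]

theorem sum_range_mul (F : ℕ → k) (n q : ℕ) :
    ∑ l ∈ range (n * q), F l = ∑ I ∈ range n, ∑ b ∈ range q, F (I * q + b) := by
  induction n with
  | zero => simp
  | succ n ih => rw [Nat.succ_mul, sum_range_add, ih, sum_range_succ]

theorem choose_cast (p : ℕ) [Fact p.Prime] [CharP k p] (I b i s : ℕ) (hb : b < p) (hs : s < p) :
    ((Nat.choose (I * p + b) (i * p + s) : ℕ) : k) =
      ((Nat.choose b s : ℕ) : k) * ((Nat.choose I i : ℕ) : k) := by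
  have hp : 0 < p := (Fact.out : p.Prime).pos
  have h := Choose.choose_modEq_choose_mod_mul_choose_div_nat (p := p) (n := I * p + b)
    (k := i * p + s)
  have h1 : (I * p + b) % p = b := by
    rw [Nat.mul_comm, Nat.mul_add_mod, Nat.mod_eq_of_lt hb]
  have h2 : (i * p + s) % p = s := by
    rw [Nat.mul_comm, Nat.mul_add_mod, Nat.mod_eq_of_lt hs]
  have h3 : (I * p + b) / p = I := by
    rw [Nat.mul_comm, Nat.mul_add_div hp, Nat.div_eq_of_lt hb, add_zero]
  have h4 : (i * p + s) / p = i := by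
    rw [Nat.mul_comm, Nat.mul_add_div hp, Nat.div_eq_of_lt hs, add_zero]
  rw [h1, h2, h3, h4] at h
  have := CharP.natCast_eq_natCast' k p h
  rw [this, Nat.cast_mul]

theorem coeff_comp_X_add_C (h : k[X]) (α : k) (r M : ℕ) (hM : h.natDegree < M) :
    (h.comp (X + C α)).coeff r =
      ∑ l ∈ range M, ((Nat.choose l r : ℕ) : k) * h.coeff l * α ^ (l - r) := by
  rw [← taylor_apply, taylor_coeff, hasseDeriv_apply, eval_sum]
  rw [sum_over_range' _ _ M hM]
  · refine Finset.sum_congr rfl fun l _ => ?_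
    rw [eval_monomial]
  · intro n
    simp

theorem key (p : ℕ) [Fact p.Prime] [CharP k p] (g : ℕ) (hg : g ≤ p) (h : k[X])
    (hdeg : h.natDegree ≤ (g + 1) * (p - 1)) (α : k) (i j : ℕ) (hj : j < g) :
    (h.comp (X + C α)).coeff ((i + 1) * p - (j + 1)) =
      ∑ I ∈ range g, ∑ J ∈ range g, ((I.choose i : ℕ) : k) * α ^ ((I - i) * p) *
        h.coeff ((I + 1) * p - (J + 1)) * (((p - (J + 1)).choose (p - (j + 1)) : ℕ) : k) *
          α ^ (j - J) := by
  have hp : 0 < p := (Fact.out : p.Prime).pos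
  have hM : h.natDegree < (g + 1) * p := by
    refine lt_of_le_of_lt hdeg ?_
    exact Nat.mul_lt_mul_of_pos_left (by omega) (by omega)
  obtain ⟨s, hs⟩ : ∃ s, s = p - (j + 1) := ⟨_, rfl⟩
  have hsp : s < p := by omega
  have hr : (i + 1) * p - (j + 1) = i * p + s := by
    rw [hs, Nat.succ_mul]
    omega
  rw [hr, coeff_comp_X_add_C h α _ _ hM, sum_range_mul, ← hs]
  -- the summand after reflection
  obtain ⟨T, hT⟩ : ∃ T : ℕ → ℕ → k, T = fun I J =>
      ((Nat.choose (I * p + (p - 1 - J)) (i * p + s) : ℕ) : k) * h.coeff (I * p + (p - 1 - J)) *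
        α ^ (I * p + (p - 1 - J) - (i * p + s)) := ⟨_, rfl⟩
  have hA : ∀ I, ∑ b ∈ range p, ((Nat.choose (I * p + b) (i * p + s) : ℕ) : k) *
      h.coeff (I * p + b) * α ^ (I * p + b - (i * p + s)) = ∑ J ∈ range p, T I J := by
    intro I
    rw [hT]
    exact (sum_range_reflect (fun b => ((Nat.choose (I * p + b) (i * p + s) : ℕ) : k) *
      h.coeff (I * p + b) * α ^ (I * p + b - (i * p + s))) p).symm
  simp only [hA]
  have hB1 : ∀ I J, J < p → T I J = ((I.choose i : ℕ) : k) * (((p - (J + 1)).choose s : ℕ) : k) *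
      h.coeff ((I + 1) * p - (J + 1)) * α ^ (I * p + (p - 1 - J) - (i * p + s)) := by
    intro I J hJ
    rw [hT]
    have e1 : p - 1 - J = p - (J + 1) := by omega
    have e2 : I * p + (p - (J + 1)) = (I + 1) * p - (J + 1) := by
      rw [Nat.succ_mul]; omega
    simp only [e1]
    rw [choose_cast p I (p - (J + 1)) i s (by omega) hsp, e2]
    ring
  have hB2 : ∀ I J, J < p → j < J → T I J = 0 := by
    intro I J hJ hjJ
    rw [hB1 I J hJ, Nat.choose_eq_zero_of_lt (show p - (J + 1) < s by omega)]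
    simp
  have hB3 : ∀ J, J ≤ j → T g J = 0 := by
    intro J hJj
    rw [hB1 g J (by omega)]
    have : h.coeff ((g + 1) * p - (J + 1)) = 0 := by
      apply coeff_eq_zero_of_natDegree_lt
      refine lt_of_le_of_lt hdeg ?_
      have h1 : (g + 1) * (p - 1) = (g + 1) * p - (g + 1) := by
        rw [Nat.mul_sub, mul_one]
      have h2 : g + 1 ≤ (g + 1) * p := Nat.le_mul_of_pos_right _ hp
      omega
    rw [this]
    simp
  have hB4 : ∀ I J, I < g → J < g → T I J = ((I.choose i : ℕ) : k) * α ^ ((I - i) * p) *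
      h.coeff ((I + 1) * p - (J + 1)) * (((p - (J + 1)).choose s : ℕ) : k) * α ^ (j - J) := by
    intro I J hI hJ
    rw [hB1 I J (by omega)]
    by_cases hIi : I < i
    · rw [Nat.choose_eq_zero_of_lt hIi]; simp
    by_cases hjJ : j < J
    · rw [Nat.choose_eq_zero_of_lt (show p - (J + 1) < s by omega)]; simp
    have e3 : I * p + (p - 1 - J) - (i * p + s) = (I - i) * p + (j - J) := by
      rw [Nat.sub_mul]
      have : i * p ≤ I * p := Nat.mul_le_mul_right p (by omega)
      omega
    rw [e3, pow_add]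
    ring
  rw [sum_range_succ]
  have hlast : ∑ J ∈ range p, T g J = 0 := by
    refine Finset.sum_eq_zero fun J hJ => ?_
    rw [Finset.mem_range] at hJ
    by_cases hjJ : j < J
    · exact hB2 g J hJ hjJ
    · exact hB3 J (by omega)
  rw [hlast, add_zero]
  refine Finset.sum_congr rfl fun I hI => ?_
  rw [Finset.mem_range] at hI
  have hsub : range g ⊆ range p := Finset.range_subset_range.2 hg
  rw [← Finset.sum_subset hsub]
  · refine Finset.sum_congr rfl fun J hJ => ?_
    rw [Finset.mem_range] at hJ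
    exact hB4 I J hI hJ
  · intro J hJp hJg
    rw [Finset.mem_range] at hJp hJg
    exact hB2 I J hJp (by omega)

end Groth.Agent.H11.CM
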