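import Mathlib
import Groth.Agent.H11.Cartier

/-!
# The index formula for a commutative square of finitely generated field extensions
-/

set_option autoImplicit false

universe u

namespace Groth.Agent.H11.CartierSq

open TensorProduct Module Groth.Agent.H11.Cartier

variable {k k' K K' : Type u} [Field k] [Field k'] [Field K] [Field K']
  [Algebra k k'] [Algebra k K] [Algebra k K'] [Algebra k' K'] [Algebra K K']
  [IsScalarTower k k' K'] [IsScalarTower k K K']

/-- Factorisation of the comparison map on differentials. -/
theorem alpha_eq :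
    (KaehlerDifferential.map k k' K K').liftBaseChange K' =
      (KaehlerDifferential.map k k' K' K') ∘ₗ (KaehlerDifferential.mapBaseChange k K K') := by
  apply LinearMap.ext
  intro z
  induction z with
  | zero => simp
  | add a b ha hb => simp only [map_add, ha, hb]
  | tmul c w =>
    simp only [LinearMap.liftBaseChange_tmul, LinearMap.coe_comp, Function.comp_apply,
      KaehlerDifferential.mapBaseChange_tmul, map_smul]
    congr 1
    have hw : w ∈ Submodule.span K (Set.range (KaehlerDifferential.D k K)) := by
      rw [KaehlerDifferential.span_range_derivation]; trivial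
    induction hw using Submodule.span_induction with
    | mem w hw =>
      obtain ⟨a, rfl⟩ := hw
      simp
    | zero => simp
    | add a b _ _ ha hb => simp only [map_add, ha, hb]
    | smul c a _ ha =>
      rw [map_smul, map_smul, ha, ← algebraMap_smul K' c
        ((KaehlerDifferential.map k k K K') a), map_smul, algebraMap_smul]

/-- Factorisation of the comparison map on `H¹`. -/
theorem beta_eq :
    (Algebra.H1Cotangent.map k k' K K').liftBaseChange K' =
      (Algebra.H1Cotangent.map k k' K' K') ∘ₗ
        ((Algebra.H1Cotangent.map k k K K').liftBaseChange K') := by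
  apply LinearMap.ext
  intro z
  induction z with
  | zero => simp
  | add a b ha hb => simp only [map_add, ha, hb]
  | tmul c w =>
    simp only [LinearMap.liftBaseChange_tmul, LinearMap.coe_comp, Function.comp_apply, map_smul]
    congr 1
    simp only [Algebra.H1Cotangent.map]
    rw [← Algebra.Extension.H1Cotangent.map_comp_apply]
    exact congrFun (congrArg _ (Algebra.Extension.H1Cotangent.map_eq _ _)) w

/-- Cokernel of `f` is the range of `g` in an exact pair. -/
noncomputable def cokerEquiv {F A B C : Type*} [Field F] [AddCommGroup A] [AddCommGroup B]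
    [AddCommGroup C] [Module F A] [Module F B] [Module F C] (f : A →ₗ[F] B) (g : B →ₗ[F] C)
    (h : Function.Exact f g) : (B ⧸ LinearMap.range f) ≃ₗ[F] LinearMap.range g :=
  (Submodule.quotEquivOfEq _ _ h.linearMap_ker_eq.symm).trans g.quotKerEquivRange

set_option maxHeartbeats 800000 in
/-- The index formula. -/
theorem index_formula [Algebra.EssFiniteType k k'] [Algebra.EssFiniteType K K'] :
    Module.Finite K' (LinearMap.ker ((KaehlerDifferential.map k k' K K').liftBaseChange K')) ∧
    Module.Finite K'
      (Ω[K'⁄k'] ⧸ LinearMap.range ((KaehlerDifferential.map k k' K K').liftBaseChange K')) ∧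
    Module.Finite K' (LinearMap.ker ((Algebra.H1Cotangent.map k k' K K').liftBaseChange K')) ∧
    Module.Finite K' (Algebra.H1Cotangent k' K' ⧸
      LinearMap.range ((Algebra.H1Cotangent.map k k' K K').liftBaseChange K')) ∧
    ((KaehlerDifferential.map k k' K K').liftBaseChange K').index -
      ((Algebra.H1Cotangent.map k k' K K').liftBaseChange K').index =
      (Cardinal.toNat (Algebra.trdeg k k') : ℤ) - Cardinal.toNat (Algebra.trdeg K K') := by
  obtain ⟨a1, a2, _, a4⟩ := cartier k k'
  obtain ⟨b1, b2, _, b4⟩ := cartier K K'
  haveI := a1; haveI := a2; haveI := b1; haveI := b2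
  -- names
  set j := KaehlerDifferential.mapBaseChange k K K' with hj
  set q := KaehlerDifferential.map k k' K' K' with hq
  set j' := (Algebra.H1Cotangent.map k k K K').liftBaseChange K' with hj'
  set q' := Algebra.H1Cotangent.map k k' K' K' with hq'
  set δ₁ := Algebra.H1Cotangent.δ k K K' with hδ₁
  set m₁ := KaehlerDifferential.map k K K' K' with hm₁
  set h₁ := Algebra.H1Cotangent.map k K K' K' with hh₁
  set δ₂ := Algebra.H1Cotangent.δ k k' K' with hδ₂
  set mBC₂ := KaehlerDifferential.mapBaseChange k k' K' with hmBC₂
  set i₂ := (Algebra.H1Cotangent.map k k k' K').liftBaseChange K' with hi₂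
  have E1 : Function.Exact j' h₁ :=
    Algebra.H1Cotangent.exact_liftBaseChange_map_of_flat (R := k) (S := K) (T := K')
  have E2 : Function.Exact h₁ δ₁ := Algebra.H1Cotangent.exact_map_δ k K K'
  have E3 : Function.Exact δ₁ j := Algebra.H1Cotangent.exact_δ_mapBaseChange k K K'
  have E4 : Function.Exact j m₁ := KaehlerDifferential.exact_mapBaseChange_map k K K'
  have S1 : Function.Surjective m₁ := KaehlerDifferential.map_surjective k K K'
  have E1' : Function.Exact i₂ q' :=
    Algebra.H1Cotangent.exact_liftBaseChange_map_of_flat (R := k) (S := k') (T := K')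
  have E2' : Function.Exact q' δ₂ := Algebra.H1Cotangent.exact_map_δ k k' K'
  have E3' : Function.Exact δ₂ mBC₂ := Algebra.H1Cotangent.exact_δ_mapBaseChange k k' K'
  have E4' : Function.Exact mBC₂ q := KaehlerDifferential.exact_mapBaseChange_map k k' K'
  have S2 : Function.Surjective q := KaehlerDifferential.map_surjective k k' K'
  have I1 : Function.Injective j' :=
    Groth.Agent.H11.H1Fields.injective_liftBaseChange (K := k) (L := K) (M := K')
  have I2 : Function.Injective i₂ :=
    Groth.Agent.H11.H1Fields.injective_liftBaseChange (K := k) (L := k') (M := K')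
  -- finiteness of kernels and cokernels of the four maps
  haveI fkj : Module.Finite K' (LinearMap.ker j) := by
    rw [E3.linearMap_ker_eq]; infer_instance
  haveI fcj : Module.Finite K' (Ω[K'⁄k] ⧸ LinearMap.range j) :=
    Module.Finite.equiv (cokerEquiv j m₁ E4).symm
  haveI fkq : Module.Finite K' (LinearMap.ker q) := by
    rw [E4'.linearMap_ker_eq]; infer_instance
  haveI fcq : Module.Finite K' (Ω[K'⁄k'] ⧸ LinearMap.range q) := by
    rw [LinearMap.range_eq_top.mpr S2]; infer_instance
  haveI fkj' : Module.Finite K' (LinearMap.ker j') := by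
    rw [LinearMap.ker_eq_bot.mpr I1]; infer_instance
  haveI fcj' : Module.Finite K' (Algebra.H1Cotangent k K' ⧸ LinearMap.range j') :=
    Module.Finite.equiv (cokerEquiv j' h₁ E1).symm
  haveI fkq' : Module.Finite K' (LinearMap.ker q') := by
    rw [E1'.linearMap_ker_eq]; infer_instance
  haveI fcq' : Module.Finite K' (Algebra.H1Cotangent k' K' ⧸ LinearMap.range q') :=
    Module.Finite.equiv (cokerEquiv q' δ₂ E2').symm
  have hα := alpha_eq (k := k) (k' := k') (K := K) (K' := K')
  have hβ := beta_eq (k := k) (k' := k') (K := K) (K' := K')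
  rw [hα, hβ]
  refine ⟨?_, ?_, ?_, ?_, ?_⟩
  · rw [LinearMap.ker_comp]; infer_instance
  · rw [LinearMap.range_comp]; infer_instance
  · rw [LinearMap.ker_comp]; infer_instance
  · rw [LinearMap.range_comp]; infer_instance
  · rw [LinearMap.index_comp, LinearMap.index_comp]
    -- index computations
    have ij : j.index = (finrank K' (LinearMap.range δ₁) : ℤ) - finrank K' (Ω[K'⁄K]) := by
      rw [LinearMap.index_eq_finrank_sub, E3.linearMap_ker_eq, (cokerEquiv j m₁ E4).finrank_eq,
        LinearMap.range_eq_top.mpr S1, finrank_top]
    have iq : q.index = (finrank K' (LinearMap.range mBC₂) : ℤ) := by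
      rw [LinearMap.index_of_surjective S2, E4'.linearMap_ker_eq]
    have ij' : j'.index = - (finrank K' (LinearMap.ker δ₁) : ℤ) := by
      rw [LinearMap.index_of_injective I1, (cokerEquiv j' h₁ E1).finrank_eq, E2.linearMap_ker_eq]
    have iq' : q'.index = (finrank k' (Algebra.H1Cotangent k k') : ℤ) -
        finrank K' (LinearMap.ker mBC₂) := by
      rw [LinearMap.index_eq_finrank_sub, E1'.linearMap_ker_eq, LinearMap.finrank_range_of_inj I2,
        Module.finrank_baseChange, (cokerEquiv q' δ₂ E2').finrank_eq, E3'.linearMap_ker_eq]
    have r1 := δ₁.finrank_range_add_finrank_ker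
    have r2 := mBC₂.finrank_range_add_finrank_ker
    rw [Module.finrank_baseChange] at r2
    rw [ij, iq, ij', iq', ← a4, ← b4]
    have r1' : (finrank K' (LinearMap.range δ₁) : ℤ) + finrank K' (LinearMap.ker δ₁) =
        finrank K' (Algebra.H1Cotangent K K') := by exact_mod_cast r1
    have r2' : (finrank K' (LinearMap.range mBC₂) : ℤ) + finrank K' (LinearMap.ker mBC₂) =
        finrank k' (Ω[k'⁄k]) := by exact_mod_cast r2
    linarith

end Groth.Agent.H11.CartierSq
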