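import Mathlib

/-! Helper lemmas on Henselian pairs (helper11). -/

namespace Groth.Agent.H11

open Polynomial

variable {A : Type*} [CommRing A]

/-- unit mod `I` iff invertible up to `I` -/
theorem isUnit_mk_iff (I : Ideal A) (x : A) :
    IsUnit (Ideal.Quotient.mk I x) ↔ ∃ b, x * b - 1 ∈ I := by
  constructor
  · intro h
    obtain ⟨b', hb'⟩ := h.exists_right_inv
    obtain ⟨b, rfl⟩ := Ideal.Quotient.mk_surjective b'
    refine ⟨b, ?_⟩
    rw [← Ideal.Quotient.eq_zero_iff_mem, map_sub, map_mul, map_one, hb', sub_self]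
  · rintro ⟨b, hb⟩
    have : Ideal.Quotient.mk I x * Ideal.Quotient.mk I b = 1 := by
      rw [← Ideal.Quotient.eq_zero_iff_mem, map_sub, map_mul, map_one, sub_eq_zero] at hb
      exact hb
    exact IsUnit.of_mul_eq_one _ this

theorem isUnit_of_isUnit_mk (I : Ideal A) (hI : I ≤ Ideal.jacobson ⊥) (x : A)
    (h : IsUnit (Ideal.Quotient.mk I x)) : IsUnit x :=
  (isLocalHom_of_le_jacobson_bot I hI).map_nonunit x h

theorem isUnit_add_of_mem_jacobson {x j : A} (hx : IsUnit x)
    (hj : j ∈ Ideal.jacobson (⊥ : Ideal A)) : IsUnit (x + j) := by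
  obtain ⟨u, rfl⟩ := hx
  have h1 := (Ideal.mem_jacobson_bot.1 hj) (↑u⁻¹ : A)
  have : (u : A) + j = u * (j * (↑u⁻¹ : A) + 1) := by
    have := u.mul_inv
    linear_combination (-j) * this
  rw [this]
  exact u.isUnit.mul h1

/-- unit mod `I` is preserved by adding an element of a bigger ideal modulo which we look -/
theorem isUnit_mk_add_of_mem (I : Ideal A) {x j : A} (hx : IsUnit (Ideal.Quotient.mk I x))
    (hj : j ∈ I) : IsUnit (Ideal.Quotient.mk I (x + j)) := by
  have : Ideal.Quotient.mk I (x + j) = Ideal.Quotient.mk I x := by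
    rw [map_add, Ideal.Quotient.eq_zero_iff_mem.2 hj, add_zero]
  rw [this]; exact hx

theorem isUnit_mk_of_le {I J : Ideal A} (hIJ : I ≤ J) {x : A}
    (hx : IsUnit (Ideal.Quotient.mk I x)) : IsUnit (Ideal.Quotient.mk J x) := by
  rw [isUnit_mk_iff] at hx ⊢
  obtain ⟨b, hb⟩ := hx
  exact ⟨b, hIJ hb⟩

/-- Key lemma: distance between an approximate root and a root. -/
theorem root_sub_mem (K : Ideal A) (f : A[X]) (a a₀ : A) (ha : f.eval a ∈ K)
    (ha₀ : f.eval a₀ ∈ K)
    (hu : ∀ c : A, IsUnit (Ideal.Quotient.mk K (f.derivative.eval a₀ + c * (a - a₀)))) :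
    a - a₀ ∈ K := by
  obtain ⟨c, hc⟩ := binomExpansion f a₀ (a - a₀)
  rw [add_sub_cancel] at hc
  have h1 : (f.derivative.eval a₀ + c * (a - a₀)) * (a - a₀) ∈ K := by
    have : (f.derivative.eval a₀ + c * (a - a₀)) * (a - a₀) = f.eval a - f.eval a₀ := by
      rw [hc]; ring
    rw [this]
    exact K.sub_mem ha ha₀
  rw [← Ideal.Quotient.eq_zero_iff_mem, map_mul] at h1
  rw [← Ideal.Quotient.eq_zero_iff_mem]
  exact ((hu c).mul_right_eq_zero).1 h1

/-- derivative values at congruent points are congruent. -/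
theorem derivative_eval_sub_mem (K : Ideal A) (g : A[X]) (a a₀ : A) (h : a - a₀ ∈ K) :
    g.eval a - g.eval a₀ ∈ K := by
  obtain ⟨c, hc⟩ := binomExpansion g a₀ (a - a₀)
  rw [add_sub_cancel] at hc
  have : g.eval a - g.eval a₀ = (g.derivative.eval a₀ + c * (a - a₀)) * (a - a₀) := by
    rw [hc]; ring
  rw [this]
  exact K.mul_mem_left _ h

theorem isUnit_mk_eval_of_sub_mem (K : Ideal A) (g : A[X]) (a a₀ : A) (h : a - a₀ ∈ K)
    (hu : IsUnit (Ideal.Quotient.mk K (g.eval a₀))) : IsUnit (Ideal.Quotient.mk K (g.eval a)) := by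
  have := derivative_eval_sub_mem K g a a₀ h
  have h2 : Ideal.Quotient.mk K (g.eval a) = Ideal.Quotient.mk K (g.eval a₀) := by
    rw [← sub_eq_zero, ← map_sub, Ideal.Quotient.eq_zero_iff_mem]; exact this
  rw [h2]; exact hu

end Groth.Agent.H11
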