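import Mathlib
import Groth.Agent.H11.Hens

/-! Henselian at `I` iff Henselian at `rad I`; quotient/extension lemmas (helper11). -/

namespace Groth.Agent.H11

open Polynomial

variable {A : Type*} [CommRing A]

theorem radical_le_jacobson_bot {I : Ideal A} (hI : I ≤ Ideal.jacobson ⊥) :
    I.radical ≤ Ideal.jacobson ⊥ := by
  refine le_trans Ideal.radical_le_jacobson ?_
  have := Ideal.jacobson_mono hI
  rwa [Ideal.jacobson_idem] at this

theorem hens_radical_of_hens (I : Ideal A) (h : HenselianRing A I) : HenselianRing A I.radical := by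
  have hjac : I.radical ≤ Ideal.jacobson ⊥ := radical_le_jacobson_bot h.jac
  refine ⟨hjac, ?_⟩
  intro f hf a₀ h₁ h₂
  have hu : IsUnit (f.derivative.eval a₀) := isUnit_of_isUnit_mk _ hjac _ h₂
  -- Newton in the quotient
  have hn : IsNilpotent (aeval (Ideal.Quotient.mk I a₀) f) := by
    have : aeval (Ideal.Quotient.mk I a₀) f = Ideal.Quotient.mk I (f.eval a₀) :=
      aeval_algebraMap_apply_eq_algebraMap_eval a₀ f
    rw [this]
    obtain ⟨k, hk⟩ := h₁
    refine ⟨k, ?_⟩
    rw [← map_pow, Ideal.Quotient.eq_zero_iff_mem]; exact hk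
  have hu' : IsUnit (aeval (Ideal.Quotient.mk I a₀) (derivative f)) := by
    have : aeval (Ideal.Quotient.mk I a₀) (derivative f)
        = Ideal.Quotient.mk I (f.derivative.eval a₀) :=
      aeval_algebraMap_apply_eq_algebraMap_eval a₀ _
    rw [this]; exact hu.map _
  obtain ⟨r', ⟨hr1, hr2⟩, -⟩ := existsUnique_nilpotent_sub_and_aeval_eq_zero hn hu'
  obtain ⟨a₁, rfl⟩ := Ideal.Quotient.mk_surjective r'
  have h10 : a₁ - a₀ ∈ I.radical := by
    obtain ⟨k, hk⟩ := hr1.neg
    refine ⟨k, ?_⟩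
    rw [← Ideal.Quotient.eq_zero_iff_mem, map_pow, map_sub]
    simpa using hk
  have hfa₁ : f.eval a₁ ∈ I := by
    have : aeval (Ideal.Quotient.mk I a₁) f = Ideal.Quotient.mk I (f.eval a₁) :=
      aeval_algebraMap_apply_eq_algebraMap_eval a₁ f
    rw [this] at hr2
    exact Ideal.Quotient.eq_zero_iff_mem.1 hr2
  have hu₁ : IsUnit (f.derivative.eval a₁) := by
    have h3 := derivative_eval_sub_mem I.radical f.derivative a₁ a₀ h10
    have : f.derivative.eval a₁ = f.derivative.eval a₀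
        + (f.derivative.eval a₁ - f.derivative.eval a₀) := by ring
    rw [this]
    exact isUnit_add_of_mem_jacobson hu (hjac h3)
  obtain ⟨a, ha, haa⟩ := h.is_henselian f hf a₁ hfa₁ (hu₁.map _)
  refine ⟨a, ha, ?_⟩
  have : a - a₀ = (a - a₁) + (a₁ - a₀) := by ring
  rw [this]
  exact I.radical.add_mem (Ideal.le_radical haa) h10

theorem hens_of_hens_of_le {I J : Ideal A} (hIJ : I ≤ J) (h : HenselianRing A J) :
    HenselianRing A I := by
  have hjac : I ≤ Ideal.jacobson ⊥ := le_trans hIJ h.jac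
  refine ⟨hjac, ?_⟩
  intro f hf a₀ h₁ h₂
  have h₂' := isUnit_mk_of_le hIJ h₂
  have hu : IsUnit (f.derivative.eval a₀) := isUnit_of_isUnit_mk _ h.jac _ h₂'
  obtain ⟨a, ha, haa⟩ := h.is_henselian f hf a₀ (hIJ h₁) h₂'
  refine ⟨a, ha, ?_⟩
  apply root_sub_mem I f a a₀ (by rw [ha]; exact I.zero_mem) h₁
  intro c
  apply IsUnit.map
  exact isUnit_add_of_mem_jacobson hu (h.jac (J.mul_mem_left _ haa))

theorem hens_radical_iff (I : Ideal A) : HenselianRing A I ↔ HenselianRing A I.radical :=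
  ⟨hens_radical_of_hens I, hens_of_hens_of_le Ideal.le_radical⟩

end Groth.Agent.H11
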