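import Mathlib
import Groth.Agent.H11.HensRad

/-! Henselian pairs: `I ≤ J` devissage (helper11). -/

namespace Groth.Agent.H11

open Polynomial

variable {A : Type*} [CommRing A]

theorem mem_of_mk_mem_map {I J : Ideal A} (hIJ : I ≤ J) {x : A}
    (h : Ideal.Quotient.mk I x ∈ Ideal.map (Ideal.Quotient.mk I) J) : x ∈ J := by
  rw [Ideal.mem_map_iff_of_surjective _ Ideal.Quotient.mk_surjective] at h
  obtain ⟨j, hj, hjx⟩ := h
  have : x - j ∈ I := by
    rw [← Ideal.Quotient.eq_zero_iff_mem, map_sub, hjx, sub_self]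
  have h2 : x = (x - j) + j := by ring
  rw [h2]
  exact J.add_mem (hIJ this) hj

theorem map_mk_le_jacobson {I J : Ideal A} (hJ : J ≤ Ideal.jacobson ⊥) :
    Ideal.map (Ideal.Quotient.mk I) J ≤ Ideal.jacobson ⊥ := by
  intro x hx
  rw [Ideal.mem_map_iff_of_surjective _ Ideal.Quotient.mk_surjective] at hx
  obtain ⟨j, hj, rfl⟩ := hx
  rw [Ideal.mem_jacobson_bot]
  intro y
  obtain ⟨y, rfl⟩ := Ideal.Quotient.mk_surjective y
  have := (Ideal.mem_jacobson_bot.1 (hJ hj)) y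
  have h2 := this.map (Ideal.Quotient.mk I)
  simpa using h2

theorem isUnit_mk_of_isUnit_mk_map {I J : Ideal A} (hIJ : I ≤ J) {x : A}
    (h : IsUnit (Ideal.Quotient.mk (Ideal.map (Ideal.Quotient.mk I) J) (Ideal.Quotient.mk I x))) :
    IsUnit (Ideal.Quotient.mk J x) := by
  rw [isUnit_mk_iff] at h ⊢
  obtain ⟨b, hb⟩ := h
  obtain ⟨b, rfl⟩ := Ideal.Quotient.mk_surjective b
  refine ⟨b, ?_⟩
  apply mem_of_mk_mem_map hIJ
  simpa using hb

theorem isUnit_mk_map_of_isUnit_mk {I J : Ideal A} {x : A}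
    (h : IsUnit (Ideal.Quotient.mk J x)) :
    IsUnit (Ideal.Quotient.mk (Ideal.map (Ideal.Quotient.mk I) J) (Ideal.Quotient.mk I x)) := by
  rw [isUnit_mk_iff] at h ⊢
  obtain ⟨b, hb⟩ := h
  refine ⟨Ideal.Quotient.mk I b, ?_⟩
  have := Ideal.mem_map_of_mem (Ideal.Quotient.mk I) hb
  simpa using this

/-- Quotient by a smaller ideal. -/
theorem hens_quot_of_le {I J : Ideal A} (hIJ : I ≤ J) (h : HenselianRing A J) :
    HenselianRing (A ⧸ I) (Ideal.map (Ideal.Quotient.mk I) J) := by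
  refine ⟨map_mk_le_jacobson h.jac, ?_⟩
  intro g hg b₀ h₁ h₂
  obtain ⟨f, rfl, -, hf⟩ := lifts_and_natDegree_eq_and_monic
    (mem_lifts_of_surjective Ideal.Quotient.mk_surjective g) hg
  obtain ⟨a₀, rfl⟩ := Ideal.Quotient.mk_surjective b₀
  rw [eval_map_apply] at h₁
  rw [derivative_map, eval_map_apply] at h₂
  obtain ⟨a, ha, haa⟩ := h.is_henselian f hf a₀ (mem_of_mk_mem_map hIJ h₁)
    (isUnit_mk_of_isUnit_mk_map hIJ h₂)
  refine ⟨Ideal.Quotient.mk I a, ?_, ?_⟩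
  · rw [IsRoot.def, eval_map_apply, ha, map_zero]
  · rw [← map_sub]
    exact Ideal.mem_map_of_mem _ haa

/-- Extension: Henselian at `I` and quotient Henselian at `J/I` gives Henselian at `J`. -/
theorem hens_of_hens_quot {I J : Ideal A} (hIJ : I ≤ J) (hI : HenselianRing A I)
    (hq : HenselianRing (A ⧸ I) (Ideal.map (Ideal.Quotient.mk I) J)) : HenselianRing A J := by
  have hjac : J ≤ Ideal.jacobson ⊥ := by
    intro x hx
    rw [Ideal.mem_jacobson_bot]
    intro y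
    apply isUnit_of_isUnit_mk I hI.jac
    have h1 : Ideal.Quotient.mk I x ∈ Ideal.jacobson (⊥ : Ideal (A ⧸ I)) :=
      hq.jac (Ideal.mem_map_of_mem _ hx)
    have := (Ideal.mem_jacobson_bot.1 h1) (Ideal.Quotient.mk I y)
    simpa using this
  refine ⟨hjac, ?_⟩
  intro f hf a₀ h₁ h₂
  have e1 : (f.map (Ideal.Quotient.mk I)).eval (Ideal.Quotient.mk I a₀)
      ∈ Ideal.map (Ideal.Quotient.mk I) J := by
    rw [eval_map_apply]; exact Ideal.mem_map_of_mem _ h₁
  have e2 : IsUnit (Ideal.Quotient.mk (Ideal.map (Ideal.Quotient.mk I) J)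
      ((f.map (Ideal.Quotient.mk I)).derivative.eval (Ideal.Quotient.mk I a₀))) := by
    rw [derivative_map, eval_map_apply]
    exact isUnit_mk_map_of_isUnit_mk h₂
  obtain ⟨b₁, hb₁, hbb⟩ := hq.is_henselian (f.map (Ideal.Quotient.mk I)) (hf.map _)
    (Ideal.Quotient.mk I a₀) e1 e2
  obtain ⟨a₁, rfl⟩ := Ideal.Quotient.mk_surjective b₁
  rw [← map_sub] at hbb
  have h10 : a₁ - a₀ ∈ J := mem_of_mk_mem_map hIJ hbb
  rw [IsRoot.def, eval_map_apply, Ideal.Quotient.eq_zero_iff_mem] at hb₁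
  have hu1 : IsUnit (Ideal.Quotient.mk J (f.derivative.eval a₁)) :=
    isUnit_mk_eval_of_sub_mem J f.derivative a₁ a₀ h10 h₂
  have hu2 : IsUnit (f.derivative.eval a₁) := isUnit_of_isUnit_mk J hjac _ hu1
  obtain ⟨a, ha, haa⟩ := hI.is_henselian f hf a₁ hb₁ (hu2.map _)
  refine ⟨a, ha, ?_⟩
  have : a - a₀ = (a - a₁) + (a₁ - a₀) := by ring
  rw [this]
  exact J.add_mem (hIJ haa) h10

end Groth.Agent.H11
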