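import Mathlib
import Groth.Agent.H11.HensQuot

/-! Gabber-type characterisation of Henselian pairs and images under surjections (helper11). -/

namespace Groth.Agent.H11

open Polynomial

variable {A : Type*} [CommRing A]

theorem eval_mem_of_coeff_mem (I : Ideal A) (p : A[X]) (hp : ∀ i, p.coeff i ∈ I) (x : A) :
    p.eval x ∈ I := by
  rw [eval_eq_sum_range]
  exact I.sum_mem fun i _ => I.mul_mem_right _ (hp i)

theorem gabberPoly_monic (n : ℕ) (p : A[X]) (hp : p.natDegree ≤ n) :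
    (X ^ n * (X - 1) + p).Monic := by
  nontriviality A
  have h0 : (X - 1 : A[X]) = X - C 1 := by simp
  have h1 : (X ^ n * (X - 1) : A[X]).Monic := by
    rw [h0]; exact (monic_X_pow n).mul (monic_X_sub_C (1 : A))
  have hnd : (X ^ n * (X - 1) : A[X]).natDegree = n + 1 := by
    rw [h0, (monic_X_pow n).natDegree_mul (monic_X_sub_C 1), natDegree_X_pow, natDegree_X_sub_C]
  apply h1.add_of_left
  apply degree_lt_degree
  rw [hnd]; omega

theorem gabber_of_hens (I : Ideal A) (h : HenselianRing A I) (n : ℕ) (p : A[X])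
    (hp : p.natDegree ≤ n) (hpI : ∀ i, p.coeff i ∈ I) :
    ∃! α : A, α - 1 ∈ I ∧ IsRoot (X ^ n * (X - 1) + p) α := by
  obtain ⟨F, hF⟩ : ∃ F : A[X], F = X ^ n * (X - 1) + p := ⟨_, rfl⟩
  rw [← hF]
  have hmon : F.Monic := by rw [hF]; exact gabberPoly_monic n p hp
  have e1 : F.eval 1 = p.eval 1 := by simp [hF]
  have e2 : F.derivative.eval 1 = 1 + p.derivative.eval 1 := by
    simp [hF, derivative_mul]
  have hd : ∀ i, p.derivative.coeff i ∈ I := by
    intro i; rw [coeff_derivative]; exact I.mul_mem_right _ (hpI _)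
  have h1 : F.eval 1 ∈ I := by rw [e1]; exact eval_mem_of_coeff_mem I p hpI 1
  have h2 : IsUnit (Ideal.Quotient.mk I (F.derivative.eval 1)) := by
    rw [e2, map_add, map_one, Ideal.Quotient.eq_zero_iff_mem.2 (eval_mem_of_coeff_mem I _ hd 1),
      add_zero]
    exact isUnit_one
  obtain ⟨α, hα, hα1⟩ := h.is_henselian F hmon 1 h1 h2
  have hα' : F.eval α = 0 := hα
  refine ⟨α, ⟨hα1, hα⟩, ?_⟩
  rintro β ⟨hβ1, hβ⟩
  have hβ' : F.eval β = 0 := hβ
  have hu : IsUnit (F.derivative.eval α) := by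
    apply isUnit_of_isUnit_mk I h.jac
    exact isUnit_mk_eval_of_sub_mem I F.derivative α 1 hα1 h2
  have hmem : β - α ∈ (⊥ : Ideal A) := by
    apply root_sub_mem ⊥ F β α (by rw [hβ']; exact Ideal.zero_mem _)
      (by rw [hα']; exact Ideal.zero_mem _)
    intro c
    apply IsUnit.map
    apply isUnit_add_of_mem_jacobson hu
    apply h.jac
    apply I.mul_mem_left
    have : β - α = (β - 1) - (α - 1) := by ring
    rw [this]; exact I.sub_mem hβ1 hα1
  rw [Ideal.mem_bot, sub_eq_zero] at hmem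
  exact hmem

theorem gabber_key (c : ℕ → A) (m : ℕ) (u u' v s c₀ : A) (huu : u * u' = 1) (hvs : v * s = 1) :
    v ^ (m + 2) * (∑ i ∈ Finset.range (m + 1), c (i + 2) * (-c₀ * u' * s) ^ (i + 2)
        + u * (-c₀ * u' * s) + c₀)
      = c₀ * (v ^ (m + 1) * (v - 1)
        + ∑ i ∈ Finset.range (m + 1), (c (i + 2) * (-c₀ * u') ^ (i + 1) * (-u')) * v ^ (m - i)) := by
  have hterm : ∀ i ∈ Finset.range (m + 1),
      v ^ (m + 2) * (c (i + 2) * (-c₀ * u' * s) ^ (i + 2))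
        = c₀ * ((c (i + 2) * (-c₀ * u') ^ (i + 1) * (-u')) * v ^ (m - i)) := by
    intro i hi
    have hi' := Finset.mem_range.1 hi
    obtain ⟨k, hk⟩ : ∃ k, m = i + k := ⟨m - i, by omega⟩
    have e1 : m - i = k := by omega
    have e2 : m + 2 = k + (i + 2) := by omega
    rw [e1, e2]
    calc v ^ (k + (i + 2)) * (c (i + 2) * (-c₀ * u' * s) ^ (i + 2))
        = c (i + 2) * v ^ k * (-c₀ * u') ^ (i + 2) * (v * s) ^ (i + 2) := by ring
      _ = c (i + 2) * v ^ k * (-c₀ * u') ^ (i + 2) := by rw [hvs, one_pow, mul_one]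
      _ = c₀ * ((c (i + 2) * (-c₀ * u') ^ (i + 1) * (-u')) * v ^ k) := by ring
  have hlin : v ^ (m + 2) * (u * (-c₀ * u' * s)) = -c₀ * v ^ (m + 1) := by
    calc v ^ (m + 2) * (u * (-c₀ * u' * s)) = -c₀ * v ^ (m + 1) * (u * u') * (v * s) := by ring
      _ = -c₀ * v ^ (m + 1) := by rw [huu, hvs]; ring
  rw [mul_add, mul_add, Finset.mul_sum, mul_add, Finset.mul_sum, Finset.sum_congr rfl hterm, hlin]
  ring

theorem hens_of_gabber (I : Ideal A) (hjac : I ≤ Ideal.jacobson ⊥)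
    (hG : ∀ n : ℕ, 0 < n → ∀ p : A[X], p.natDegree ≤ n → (∀ i, p.coeff i ∈ I) →
      ∃ α : A, α - 1 ∈ I ∧ IsRoot (X ^ n * (X - 1) + p) α) : HenselianRing A I := by
  refine ⟨hjac, ?_⟩
  intro f _ a₀ h₁ h₂
  obtain ⟨u, hu⟩ := isUnit_of_isUnit_mk I hjac _ h₂
  obtain ⟨m, hm⟩ : ∃ m, m = f.natDegree := ⟨_, rfl⟩
  obtain ⟨h, hh⟩ : ∃ h : A[X], h = taylor a₀ f := ⟨_, rfl⟩
  have hdeg : h.natDegree = m := by rw [hh, hm]; exact natDegree_taylor f a₀
  obtain ⟨c₀, hc₀⟩ : ∃ c₀ : A, c₀ = f.eval a₀ := ⟨_, rfl⟩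
  have hc0 : h.coeff 0 = c₀ := by rw [hh, hc₀]; exact taylor_coeff_zero ..
  have hc1 : h.coeff 1 = (u : A) := by rw [hh, hu]; exact taylor_coeff_one ..
  have hc₀I : c₀ ∈ I := by rw [hc₀]; exact h₁
  have hyI : -c₀ * (↑u⁻¹ : A) ∈ I := I.mul_mem_right _ (I.neg_mem hc₀I)
  obtain ⟨p, hp⟩ : ∃ p : A[X], p = ∑ i ∈ Finset.range (m + 1),
      C (h.coeff (i + 2) * (-c₀ * (↑u⁻¹ : A)) ^ (i + 1) * (-(↑u⁻¹ : A))) * X ^ (m - i) := ⟨_, rfl⟩
  have heI : ∀ i, h.coeff (i + 2) * (-c₀ * (↑u⁻¹ : A)) ^ (i + 1) * (-(↑u⁻¹ : A)) ∈ I := fun i =>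
    I.mul_mem_right _ (I.mul_mem_left _ (I.pow_mem_of_mem hyI _ (Nat.succ_pos i)))
  have hpdeg : p.natDegree ≤ m + 1 := by
    rw [hp]
    apply natDegree_sum_le_of_forall_le
    intro i _
    exact le_trans (natDegree_C_mul_X_pow_le _ _) (by omega)
  have hpI : ∀ j, p.coeff j ∈ I := by
    intro j
    rw [hp, finsetSum_coeff]
    refine I.sum_mem fun i _ => ?_
    rw [coeff_C_mul]
    exact I.mul_mem_right _ (heI i)
  obtain ⟨α, hα1, hα⟩ := hG (m + 1) (Nat.succ_pos m) p hpdeg hpI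
  obtain ⟨v, rfl⟩ := Ideal.isUnit_of_sub_one_mem_jacobson_bot α (hjac hα1)
  have hα' : (X ^ (m + 1) * (X - 1) + p).eval (v : A) = 0 := hα
  have hxI : -c₀ * (↑u⁻¹ : A) * (↑v⁻¹ : A) ∈ I := I.mul_mem_right _ hyI
  have hpe : p.eval (v : A) = ∑ i ∈ Finset.range (m + 1),
      (h.coeff (i + 2) * (-c₀ * (↑u⁻¹ : A)) ^ (i + 1) * (-(↑u⁻¹ : A))) * (v : A) ^ (m - i) := by
    rw [hp, eval_finsetSum]
    apply Finset.sum_congr rfl
    intro i _
    simp
  have key := gabber_key (fun i => h.coeff i) m (u : A) (↑u⁻¹ : A) (v : A) (↑v⁻¹ : A) c₀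
    u.mul_inv v.mul_inv
  have hev : h.eval (-c₀ * (↑u⁻¹ : A) * (↑v⁻¹ : A))
      = ∑ i ∈ Finset.range (m + 1), h.coeff (i + 2) * (-c₀ * (↑u⁻¹ : A) * (↑v⁻¹ : A)) ^ (i + 2)
        + (u : A) * (-c₀ * (↑u⁻¹ : A) * (↑v⁻¹ : A)) + c₀ := by
    rw [eval_eq_sum_range' (show h.natDegree < m + 3 by omega), Finset.sum_range_succ',
      Finset.sum_range_succ', hc0, hc1]
    simp
  have hzero : (v : A) ^ (m + 2) * h.eval (-c₀ * (↑u⁻¹ : A) * (↑v⁻¹ : A)) = 0 := by
    rw [hev, key, ← hpe]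
    have : (v : A) ^ (m + 1) * ((v : A) - 1) + p.eval (v : A)
        = (X ^ (m + 1) * (X - 1) + p).eval (v : A) := by simp
    rw [this, hα', mul_zero]
  have hroot : h.eval (-c₀ * (↑u⁻¹ : A) * (↑v⁻¹ : A)) = 0 :=
    ((v.isUnit.pow (m + 2)).mul_right_eq_zero).1 hzero
  refine ⟨-c₀ * (↑u⁻¹ : A) * (↑v⁻¹ : A) + a₀, ?_, ?_⟩
  · rw [IsRoot.def, ← taylor_eval, ← hh]; exact hroot
  · rw [add_sub_cancel_right]; exact hxI

/-- Henselian pairs pass to surjective images. -/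
theorem hens_map_of_surjective {B : Type*} [CommRing B] (φ : A →+* B)
    (hφ : Function.Surjective φ) (I : Ideal A) (h : HenselianRing A I) :
    HenselianRing B (I.map φ) := by
  have hjac : I.map φ ≤ Ideal.jacobson ⊥ := by
    intro x hx
    rw [Ideal.mem_map_iff_of_surjective _ hφ] at hx
    obtain ⟨j, hj, rfl⟩ := hx
    rw [Ideal.mem_jacobson_bot]
    intro y
    obtain ⟨y, rfl⟩ := hφ y
    have h2 := ((Ideal.mem_jacobson_bot.1 (h.jac hj)) y).map φ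
    simpa using h2
  apply hens_of_gabber _ hjac
  intro n hn p hp hpI
  have hq : ∀ i, ∃ q : A, q ∈ I ∧ φ q = p.coeff i := fun i =>
    (Ideal.mem_map_iff_of_surjective _ hφ).1 (hpI i)
  choose q hqI hqφ using hq
  obtain ⟨P, hP⟩ : ∃ P : A[X], P = ∑ i ∈ Finset.range (n + 1), C (q i) * X ^ i := ⟨_, rfl⟩
  have hPdeg : P.natDegree ≤ n := by
    rw [hP]
    apply natDegree_sum_le_of_forall_le
    intro i hi
    have := Finset.mem_range.1 hi
    exact le_trans (natDegree_C_mul_X_pow_le _ _) (by omega)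
  have hPI : ∀ j, P.coeff j ∈ I := by
    intro j
    rw [hP, finsetSum_coeff]
    refine I.sum_mem fun i _ => ?_
    rw [coeff_C_mul]
    exact I.mul_mem_right _ (hqI i)
  have hPmap : P.map φ = p := by
    rw [hP, Polynomial.map_sum]
    conv_rhs => rw [as_sum_range' p (n + 1) (by omega)]
    apply Finset.sum_congr rfl
    intro i _
    rw [Polynomial.map_mul, map_C, Polynomial.map_pow, map_X, hqφ, C_mul_X_pow_eq_monomial]
  obtain ⟨α, ⟨hα1, hα⟩, -⟩ := gabber_of_hens I h n P hPdeg hPI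
  refine ⟨φ α, ?_, ?_⟩
  · have : φ α - 1 = φ (α - 1) := by simp
    rw [this]; exact Ideal.mem_map_of_mem _ hα1
  · have hmap : (X ^ n * (X - 1) + P).map φ = X ^ n * (X - 1) + p := by
      simp [hPmap]
    rw [IsRoot.def, ← hmap, eval_map_apply, hα, map_zero]

end Groth.Agent.H11
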