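import Mathlib

open TensorProduct

universe u

namespace Groth.Agent.H11.FibF

/-- Every element is in the image of an étale algebra over the base field. -/
def IsIndEtaleOverField (κ : Type u) [Field κ] (F : Type u) [CommRing F] [Algebra κ F] : Prop :=
  ∀ z : F, ∃ (E : Type u) (_ : CommRing E) (_ : Algebra κ E) (_ : Algebra.Etale κ E)
    (φ : E →ₐ[κ] F) (w : E), φ w = z

variable {κ : Type u} [Field κ] {F : Type u} [CommRing F] [Algebra κ F]

theorem IsIndEtaleOverField.of_algEquiv {F' : Type u} [CommRing F'] [Algebra κ F']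
    (e : F' ≃ₐ[κ] F) (h : IsIndEtaleOverField κ F') : IsIndEtaleOverField κ F := by
  intro z
  obtain ⟨E, _, _, _, φ, w, hw⟩ := h (e.symm z)
  refine ⟨E, inferInstance, inferInstance, inferInstance, e.toAlgHom.comp φ, w, ?_⟩
  rw [AlgHom.comp_apply, hw]
  exact e.apply_symm_apply z

theorem isIntegral (h : IsIndEtaleOverField κ F) : Algebra.IsIntegral κ F := by
  refine ⟨fun z => ?_⟩
  obtain ⟨E, _, _, _, φ, w, rfl⟩ := h z
  haveI : Module.Finite κ E := Algebra.FormallyUnramified.finite_of_free κ E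
  exact (Algebra.IsIntegral.isIntegral (R := κ) w).map φ

theorem isReduced (h : IsIndEtaleOverField κ F) : IsReduced F := by
  refine ⟨fun z hz => ?_⟩
  obtain ⟨E, _, _, _, φ, w, rfl⟩ := h z
  obtain ⟨n, hn⟩ := hz
  haveI : Algebra.FormallyUnramified κ (E ⧸ RingHom.ker φ.toRingHom) :=
    Algebra.FormallyUnramified.of_surjective (Ideal.Quotient.mkₐ κ (RingHom.ker φ.toRingHom))
      Ideal.Quotient.mk_surjective
  haveI : IsReduced (E ⧸ RingHom.ker φ.toRingHom) :=
    Algebra.FormallyUnramified.isReduced_of_field κ _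
  have h1 : (Ideal.Quotient.mk (RingHom.ker φ.toRingHom) w) ^ n = 0 := by
    rw [← map_pow, Ideal.Quotient.eq_zero_iff_mem, RingHom.mem_ker]
    show φ (w ^ n) = 0
    rw [map_pow, hn]
  have h2 : Ideal.Quotient.mk (RingHom.ker φ.toRingHom) w = 0 := IsReduced.eq_zero _ ⟨n, h1⟩
  rw [Ideal.Quotient.eq_zero_iff_mem, RingHom.mem_ker] at h2
  exact h2

theorem krullDimLE_zero (h : IsIndEtaleOverField κ F) : Ring.KrullDimLE 0 F := by
  haveI := isIntegral h
  rw [Ring.krullDimLE_zero_iff]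
  intro I hI
  haveI : Algebra.IsIntegral κ (F ⧸ I) := Algebra.IsIntegral.of_surjective
    (Ideal.Quotient.mkₐ κ I) Ideal.Quotient.mk_surjective
  have hf : IsField (F ⧸ I) :=
    isField_of_isIntegral_of_isField' (R := κ) (S := F ⧸ I) (Field.toIsField κ)
  exact Ideal.Quotient.maximal_of_isField I hf

theorem isSeparable_quotient (h : IsIndEtaleOverField κ F) (m : Ideal F) [m.IsMaximal] :
    Algebra.IsSeparable κ (F ⧸ m) := by
  refine ⟨fun x => ?_⟩
  obtain ⟨z, rfl⟩ := Ideal.Quotient.mk_surjective x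
  obtain ⟨E, _, _, _, φ, w, rfl⟩ := h z
  obtain ⟨ρ, hρ⟩ : ∃ ρ : E →ₐ[κ] F ⧸ m, ρ = (Ideal.Quotient.mkₐ κ m).comp φ := ⟨_, rfl⟩
  haveI : (RingHom.ker ρ.toRingHom).IsPrime := RingHom.ker_isPrime ρ.toRingHom
  haveI : Algebra.IsSeparable κ (E ⧸ RingHom.ker ρ.toRingHom) := inferInstance
  obtain ⟨ρ', hρ'⟩ : ∃ ρ' : (E ⧸ RingHom.ker ρ.toRingHom) →ₐ[κ] F ⧸ m,
      ρ' = Ideal.Quotient.liftₐ (RingHom.ker ρ.toRingHom) ρ (fun a ha => ha) := ⟨_, rfl⟩
  have hinj : Function.Injective ρ' := by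
    rw [injective_iff_map_eq_zero]
    intro y hy
    obtain ⟨a, rfl⟩ := Ideal.Quotient.mk_surjective y
    rw [hρ'] at hy
    have : ρ a = 0 := hy
    rw [Ideal.Quotient.eq_zero_iff_mem]
    exact this
  have hx : Ideal.Quotient.mk m (φ w) = ρ' (Ideal.Quotient.mk _ w) := by
    rw [hρ']
    show _ = ρ w
    rw [hρ]
    rfl
  rw [hx]
  have hsep := Algebra.IsSeparable.isSeparable κ
    (Ideal.Quotient.mk (RingHom.ker ρ.toRingHom) w)
  unfold IsSeparable at hsep ⊢
  rw [minpoly.algHom_eq ρ' hinj]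
  exact hsep

/-- A Noetherian algebra over a field all of whose elements come from étale algebras is a finite
product of separable field extensions. -/
theorem exists_algEquiv_pi [IsNoetherianRing F] (h : IsIndEtaleOverField κ F) :
    ∃ (n : ℕ) (K : Fin n → Type u) (_ : ∀ i, Field (K i)) (_ : ∀ i, Algebra κ (K i)),
      (∀ i, Algebra.IsSeparable κ (K i)) ∧ Nonempty (F ≃ₐ[κ] (Π i, K i)) := by
  haveI := isReduced h
  haveI := krullDimLE_zero h
  haveI : IsArtinianRing F := isArtinianRing_iff_krullDimLE_zero.2 inferInstance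
  obtain ⟨e⟩ : Nonempty (MaximalSpectrum F ≃ Fin (Nat.card (MaximalSpectrum F))) :=
    ⟨Finite.equivFin _⟩
  refine ⟨Nat.card (MaximalSpectrum F), fun i => F ⧸ (e.symm i).asIdeal,
    fun i => Ideal.Quotient.field _, fun i => inferInstance, fun i => ?_, ?_⟩
  · exact isSeparable_quotient h (e.symm i).asIdeal
  · exact ⟨((IsArtinianRing.equivPi F).restrictScalars κ).trans
      (AlgEquiv.piCongrLeft' κ (fun I : MaximalSpectrum F => F ⧸ I.asIdeal) e)⟩

end Groth.Agent.H11.FibF
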