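import Mathlib
import Groth.Prelude.Def_Hensel

open Polynomial IsLocalRing

universe u

namespace Groth.Agent.H11.HensEt2

theorem henselian_of_etale_retraction (R : Type u) [CommRing R] [IsLocalRing R]
    (h : ∀ (S : Type u) [CommRing S] [Algebra R S] [Algebra.Etale R S] (q : Ideal S) [q.IsPrime],
      q.LiesOver (IsLocalRing.maximalIdeal R) → Function.Surjective (algebraMap R q.ResidueField) →
      Nonempty (S →ₐ[R] R)) :
    HenselianLocalRing R := by
  classical
  apply ((HenselianLocalRing.TFAE R).out 0 1).2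
  intro f hf a₀ h0 h1
  -- factor the reduction
  obtain ⟨fbar, hfbar⟩ : ∃ fbar : (ResidueField R)[X], fbar = f.map (algebraMap R (ResidueField R)) :=
    ⟨_, rfl⟩
  have hroot : fbar.IsRoot a₀ := by
    rw [IsRoot, hfbar, eval_map_algebraMap]; exact h0
  obtain ⟨hbar, hhbar⟩ : ∃ hbar, hbar = fbar /ₘ (X - C a₀) := ⟨_, rfl⟩
  have hfac : (X - C a₀) * hbar = fbar := by
    rw [hhbar]; exact mul_divByMonic_eq_iff_isRoot.2 hroot
  have hder : eval a₀ hbar = aeval a₀ (derivative f) := by
    have : derivative fbar = (derivative f).map (algebraMap R (ResidueField R)) := by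
      rw [hfbar, derivative_map]
    rw [← eval_map_algebraMap, ← this, ← hfac, derivative_mul]
    simp
  obtain ⟨hh, hhh⟩ := Polynomial.map_surjective (algebraMap R (ResidueField R))
    IsLocalRing.residue_surjective hbar
  -- the standard étale pair
  obtain ⟨P, hPf, hPg⟩ : ∃ P : StandardEtalePair R, P.f = f ∧ P.g = derivative f * hh :=
    ⟨⟨f, hf, derivative f * hh, hh, 0, 1, by ring⟩, rfl, rfl⟩
  have hhh' : aeval a₀ hh = eval a₀ hbar := by
    rw [← hhh, eval_map_algebraMap]
  have hmap : P.HasMap a₀ := by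
    refine ⟨hPf ▸ h0, ?_⟩
    rw [hPg, map_mul, hhh', hder]
    exact (isUnit_iff_ne_zero.2 h1).mul (isUnit_iff_ne_zero.2 h1)
  obtain ⟨π, hπ⟩ : ∃ π : P.Ring →ₐ[R] ResidueField R, π = P.lift a₀ hmap := ⟨_, rfl⟩
  have hπsurj : Function.Surjective π := by
    intro y
    obtain ⟨r, rfl⟩ := IsLocalRing.residue_surjective y
    exact ⟨algebraMap R P.Ring r, by rw [AlgHom.commutes]; rfl⟩
  haveI hqmax : (RingHom.ker π.toRingHom).IsMaximal := RingHom.ker_isMaximal_of_surjective _ hπsurj
  have hlies : (RingHom.ker π.toRingHom).LiesOver (maximalIdeal R) := by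
    constructor
    ext x
    rw [Ideal.mem_comap, RingHom.mem_ker]
    show _ ↔ π (algebraMap R P.Ring x) = 0
    rw [AlgHom.commutes, ← Ideal.Quotient.eq_zero_iff_mem]
    rfl
  have hsurj : Function.Surjective (algebraMap R (RingHom.ker π.toRingHom).ResidueField) := by
    intro y
    obtain ⟨s, rfl⟩ := Ideal.algebraMap_residueField_surjective (RingHom.ker π.toRingHom) y
    obtain ⟨r, hr⟩ := IsLocalRing.residue_surjective (π s)
    refine ⟨r, ?_⟩
    rw [IsScalarTower.algebraMap_apply R P.Ring, ← sub_eq_zero, ← map_sub,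
      Ideal.algebraMap_residueField_eq_zero, RingHom.mem_ker]
    show π (algebraMap R P.Ring r - s) = 0
    rw [map_sub, AlgHom.commutes, sub_eq_zero, ← hr]
    rfl
  obtain ⟨σ⟩ := h P.Ring (RingHom.ker π.toRingHom) hlies hsurj
  have hmapσ : P.HasMap (σ P.X) := P.hasMap_X.map σ
  refine ⟨σ P.X, ?_, ?_⟩
  · rw [IsRoot, ← hPf]
    have := hmapσ.1
    rwa [← Polynomial.coe_aeval_eq_eval]
  · -- residue of the root is a₀
    have hg : IsUnit (aeval (σ P.X) hh) := by
      have := hmapσ.2
      rw [hPg, map_mul] at this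
      exact isUnit_of_mul_isUnit_right this
    have h3 : eval (residue R (σ P.X)) fbar = 0 := by
      rw [hfbar, eval_map_algebraMap]
      have : aeval (residue R (σ P.X)) f = residue R (aeval (σ P.X) f) := by
        rw [show residue R = (IsScalarTower.toAlgHom R R (ResidueField R) : R → ResidueField R)
          from rfl, ← aeval_algHom_apply]
      rw [this, ← hPf, hmapσ.1, map_zero]
    rw [← hfac, eval_mul, eval_sub, eval_X, eval_C] at h3
    have h4 : eval (residue R (σ P.X)) hbar ≠ 0 := by
      rw [← hhh, eval_map_algebraMap]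
      have : aeval (residue R (σ P.X)) hh = residue R (aeval (σ P.X) hh) := by
        rw [show residue R = (IsScalarTower.toAlgHom R R (ResidueField R) : R → ResidueField R)
          from rfl, ← aeval_algHom_apply]
      rw [this]
      exact (IsLocalRing.residue_ne_zero_iff_isUnit _).2 hg
    exact sub_eq_zero.1 ((mul_eq_zero.1 h3).resolve_right h4)

end Groth.Agent.H11.HensEt2
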