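import Mathlib
import Groth.Prelude.Def_Hensel

open Polynomial IsLocalRing

universe u

namespace Groth.Agent.H11.HensEt

/-- Hensel lifting of a root along the residue map for `R`-polynomials. -/
theorem exists_root_lift {R : Type*} [CommRing R] {S : Type*} [CommRing S] [HenselianLocalRing S]
    [Algebra R S] (f : R[X]) (hf : f.Monic) (ξ : ResidueField S) (h0 : aeval ξ f = 0)
    (h1 : IsUnit (aeval ξ (derivative f))) :
    ∃ s : S, aeval s f = 0 ∧ residue S s = ξ := by
  have H := ((HenselianLocalRing.TFAE S).out 0 1).1 ‹HenselianLocalRing S›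
  have h0' : aeval ξ (f.map (algebraMap R S)) = 0 := by
    rw [aeval_map_algebraMap]; exact h0
  have h1' : aeval ξ (derivative (f.map (algebraMap R S))) ≠ 0 := by
    rw [derivative_map, aeval_map_algebraMap]; exact h1.ne_zero
  obtain ⟨s, hs, hsξ⟩ := H (f.map (algebraMap R S)) (hf.map _) ξ h0' h1'
  refine ⟨s, ?_, hsξ⟩
  rw [IsRoot, eval_map_algebraMap] at hs
  exact hs

end Groth.Agent.H11.HensEt

namespace Groth.Agent.H11.HensEt

/-- Uniqueness of lifted roots. -/
theorem root_unique {R : Type*} [CommRing R] {S : Type*} [CommRing S] [IsLocalRing S]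
    [Algebra R S] (f : R[X]) (s t : S) (hs : aeval s f = 0) (ht : aeval t f = 0)
    (hst : residue S s = residue S t) (h1 : IsUnit (aeval s (derivative f))) : s = t := by
  apply IsLocalRing.eq_of_eval_eq_zero_of_not_isUnit_sub (f := f.map (algebraMap R S))
  · rw [eval_map_algebraMap]; exact hs
  · rw [eval_map_algebraMap]; exact ht
  · rw [← mem_nonunits_iff, ← mem_maximalIdeal, ← Ideal.Quotient.eq_zero_iff_mem]
    show residue S (s - t) = 0
    rw [map_sub, hst, sub_self]
  · rw [derivative_map, eval_map_algebraMap]; exact h1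

theorem existsUnique_algHom (R : Type u) [CommRing R]
    (S : Type u) [CommRing S] [HenselianLocalRing S] [Algebra R S]
    (A : Type u) [CommRing A] [Algebra R A] [Algebra.Etale R A] (q : Ideal A) [q.IsPrime]
    (τ : q.ResidueField →+* IsLocalRing.ResidueField S)
    (hτ : τ.comp (algebraMap R q.ResidueField) = (IsLocalRing.residue S).comp (algebraMap R S)) :
    ∃! f : A →ₐ[R] S, Ideal.comap f.toRingHom (IsLocalRing.maximalIdeal S) = q ∧
      ∀ a : A, IsLocalRing.residue S (f a) = τ (algebraMap A q.ResidueField a) := by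
  classical
  obtain ⟨τₐ, hτₐ⟩ : ∃ τₐ : q.ResidueField →ₐ[R] IsLocalRing.ResidueField S, ∀ x, τₐ x = τ x :=
    ⟨{ τ with commutes' := fun r => RingHom.congr_fun hτ r }, fun _ => rfl⟩
  obtain ⟨h, hhq, hstd⟩ := Algebra.IsEtaleAt.exists_isStandardEtale (R := R) q
  obtain ⟨P⟩ := hstd.nonempty_standardEtalePresentation
  have hunit : IsUnit ((IsScalarTower.toAlgHom R A q.ResidueField) h) := by
    rw [isUnit_iff_ne_zero]
    intro h0
    exact hhq (Ideal.algebraMap_residueField_eq_zero.1 h0)
  obtain ⟨ψ, hψ⟩ : ∃ ψ : Localization.Away h →ₐ[R] q.ResidueField,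
      ∀ a : A, ψ (algebraMap A _ a) = algebraMap A q.ResidueField a :=
    ⟨IsLocalization.Away.liftAlgHom h (f := IsScalarTower.toAlgHom R A q.ResidueField) hunit,
      fun a => by
        rw [IsLocalization.Away.liftAlgHom_apply, IsLocalization.Away.lift_eq]
        rfl⟩
  -- the residue map as an `R`-algebra hom
  obtain ⟨ρ, hρ⟩ : ∃ ρ : S →ₐ[R] IsLocalRing.ResidueField S, ∀ x, ρ x = residue S x :=
    ⟨IsScalarTower.toAlgHom R S (IsLocalRing.ResidueField S), fun _ => rfl⟩
  obtain ⟨ξ, hξdef⟩ : ∃ ξ, ξ = τₐ (ψ P.x) := ⟨_, rfl⟩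
  have hξ : P.HasMap ξ := hξdef ▸ (P.hasMap.map ψ).map τₐ
  obtain ⟨s, hs0, hsξ⟩ := exists_root_lift (S := S) P.f P.monic_f ξ hξ.1 hξ.isUnit_derivative_f
  have hsg : IsUnit (aeval s P.g) := by
    have : ρ (aeval s P.g) = aeval ξ P.g := by
      rw [← aeval_algHom_apply, hρ, hsξ]
    have h2 : IsUnit (ρ (aeval s P.g)) := this ▸ hξ.2
    rw [hρ] at h2
    exact (IsLocalRing.residue_ne_zero_iff_isUnit _).1 h2.ne_zero
  have hsmap : P.HasMap s := ⟨hs0, hsg⟩
  -- the lifted map on the localization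
  obtain ⟨φ, hφ⟩ : ∃ φ : Localization.Away h →ₐ[R] S, φ P.x = s :=
    ⟨(P.lift s hsmap).comp P.equivRing.toAlgHom, by simp⟩
  have hcomp : ρ.comp φ = τₐ.comp ψ := by
    apply P.hom_ext
    simp only [AlgHom.comp_apply]
    rw [hφ, hρ, hsξ, hξdef]
  have key : ∀ a : A, residue S (φ (algebraMap A _ a)) = τ (algebraMap A q.ResidueField a) := by
    intro a
    have := AlgHom.congr_fun hcomp (algebraMap A _ a)
    simp only [AlgHom.comp_apply] at this
    rw [hρ, hψ, hτₐ] at this
    exact this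
  have hcomap : ∀ f : A →ₐ[R] S,
      (∀ a : A, IsLocalRing.residue S (f a) = τ (algebraMap A q.ResidueField a)) →
      Ideal.comap f.toRingHom (IsLocalRing.maximalIdeal S) = q := by
    intro f hf
    ext a
    rw [Ideal.mem_comap, ← Ideal.Quotient.eq_zero_iff_mem]
    show residue S (f a) = 0 ↔ _
    rw [hf a, map_eq_zero_iff _ τ.injective, Ideal.algebraMap_residueField_eq_zero]
  refine ⟨φ.comp (IsScalarTower.toAlgHom R A (Localization.Away h)), ⟨?_, ?_⟩, ?_⟩
  · exact hcomap _ key
  · exact key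
  · rintro f' ⟨hf'1, hf'2⟩
    -- f' sends h to a unit
    have hu : IsUnit (f' h) := by
      rw [← IsLocalRing.notMem_maximalIdeal]
      intro hm
      exact hhq (hf'1 ▸ (Ideal.mem_comap.2 hm))
    obtain ⟨φ', hφ'⟩ : ∃ φ' : Localization.Away h →ₐ[R] S, ∀ a : A, φ' (algebraMap A _ a) = f' a :=
      ⟨IsLocalization.Away.liftAlgHom h (f := f') hu, fun a => by
        rw [IsLocalization.Away.liftAlgHom_apply, IsLocalization.Away.lift_eq]
        rfl⟩
    have hcomp' : (ρ.comp φ').toRingHom = (τₐ.comp ψ).toRingHom := by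
      apply IsLocalization.ringHom_ext (Submonoid.powers h)
      ext a
      simp only [RingHom.comp_apply, AlgHom.toRingHom_eq_coe, RingHom.coe_coe, AlgHom.comp_apply]
      rw [hφ', hρ, hψ, hτₐ, hf'2]
    have hres : residue S (φ' P.x) = residue S s := by
      have := RingHom.congr_fun hcomp' P.x
      simp only [AlgHom.toRingHom_eq_coe, RingHom.coe_coe, AlgHom.comp_apply] at this
      rw [hρ] at this
      rw [this, hsξ, hξdef]
    have hmap' : P.HasMap (φ' P.x) := P.hasMap.map φ'
    have hφeq : φ' = φ := by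
      apply P.hom_ext
      rw [hφ]
      exact root_unique P.f _ _ hmap'.1 hs0 hres hmap'.isUnit_derivative_f
    ext a
    rw [← hφ', hφeq]
    rfl

end Groth.Agent.H11.HensEt
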