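import Mathlib
import Groth.Agent.H11.HensEtale

open Polynomial IsLocalRing TensorProduct

universe u

namespace Groth.Agent.H11.HensEt

/-- An étale neighbourhood of the closed point of a henselian local ring with trivial residue
field extension admits a retraction. -/
theorem exists_retraction (R : Type u) [CommRing R] [HenselianLocalRing R] (R' : Type u)
    [CommRing R'] [Algebra R R'] [Algebra.Etale R R'] (P : Ideal R') [P.IsPrime]
    [P.LiesOver (maximalIdeal R)]
    (hP : Function.Bijective (Ideal.ResidueField.mapₐ (maximalIdeal R) P (Algebra.ofId _ _)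
      (P.over_def (maximalIdeal R)))) :
    ∃ ρ : R' →ₐ[R] R, Ideal.comap ρ.toRingHom (maximalIdeal R) = P := by
  obtain ⟨βe, hβe⟩ : ∃ βe : (maximalIdeal R).ResidueField ≃ₐ[R] P.ResidueField, True :=
    ⟨AlgEquiv.ofBijective _ hP, trivial⟩
  have h₁ : maximalIdeal R ≤ RingHom.ker (IsScalarTower.toAlgHom R R (ResidueField R)) := by
    intro x hx
    rw [RingHom.mem_ker]
    exact (Ideal.Quotient.eq_zero_iff_mem).2 hx
  have h₂ : (maximalIdeal R).primeCompl ≤
      (IsUnit.submonoid (ResidueField R)).comap (IsScalarTower.toAlgHom R R (ResidueField R)) := by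
    intro x hx
    rw [Submonoid.mem_comap]
    show IsUnit (residue R x)
    rw [isUnit_iff_ne_zero]
    exact (IsLocalRing.residue_ne_zero_iff_isUnit x).2
      (IsLocalRing.notMem_maximalIdeal.1 hx)
  obtain ⟨lam, hlam⟩ : ∃ lam : (maximalIdeal R).ResidueField →ₐ[R] ResidueField R, True :=
    ⟨Ideal.ResidueField.liftₐ (maximalIdeal R) (IsScalarTower.toAlgHom R R (ResidueField R)) h₁ h₂,
      trivial⟩
  obtain ⟨τ, hτdef⟩ : ∃ τ : P.ResidueField →ₐ[R] ResidueField R, τ = lam.comp βe.symm.toAlgHom :=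
    ⟨_, rfl⟩
  have hτ : τ.toRingHom.comp (algebraMap R P.ResidueField) =
      (residue R).comp (algebraMap R R) := by
    ext r
    simp only [RingHom.comp_apply, AlgHom.toRingHom_eq_coe, RingHom.coe_coe, AlgHom.commutes]
    rfl
  obtain ⟨ρ, ⟨hρ1, -⟩, -⟩ := existsUnique_algHom R R R' P τ.toRingHom hτ
  exact ⟨ρ, hρ1⟩

end Groth.Agent.H11.HensEt

namespace Groth.Agent.H11.HensEt

theorem exists_idempotent_finite (R : Type u) [CommRing R] [HenselianLocalRing R]
    (S : Type u) [CommRing S] [Algebra R S] [Algebra.FiniteType R S] (q : Ideal S) [q.IsPrime]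
    [q.LiesOver (maximalIdeal R)] [Algebra.QuasiFiniteAt R q] :
    ∃ ε : S, IsIdempotentElem ε ∧ ε ∉ q ∧ Module.Finite R (S ⧸ Ideal.span ({1 - ε} : Set S)) := by
  obtain ⟨R', _, _, _, P, _, _, e, he, P', _, _, hP'q, heP', hbij, hfin, -⟩ :=
    Algebra.exists_etale_isIdempotentElem_forall_liesOver_eq (maximalIdeal R) q
  obtain ⟨ρ, hρ⟩ := exists_retraction R R' P hbij
  -- the map `R' ⊗ S → S`
  obtain ⟨ρS, hρS⟩ : ∃ ρS : R' ⊗[R] S →ₐ[R] S,
      ρS = Algebra.TensorProduct.productMap ((Algebra.ofId R S).comp ρ) (AlgHom.id R S) := ⟨_, rfl⟩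
  have hρS_tmul : ∀ (r' : R') (s : S), ρS (r' ⊗ₜ s) = algebraMap R S (ρ r') * s := by
    intro r' s
    rw [hρS, Algebra.TensorProduct.productMap_apply_tmul]
    rfl
  have hρS_right : ∀ s : S, ρS (Algebra.TensorProduct.includeRight s) = s := by
    intro s
    rw [Algebra.TensorProduct.includeRight_apply, hρS_tmul, map_one, map_one, one_mul]
  have hsurj : Function.Surjective ρS := fun s => ⟨_, hρS_right s⟩
  refine ⟨ρS e, he.map ρS, ?_, ?_⟩
  · -- `ρS e ∉ q`
    intro hmem
    -- the prime `comap ρS q`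
    have hQ : (Ideal.comap ρS.toRingHom q).IsPrime := Ideal.comap_isPrime _ _
    have hQover : (Ideal.comap ρS.toRingHom q).LiesOver P := by
      constructor
      rw [← hρ]
      ext x
      simp only [Ideal.under, Ideal.mem_comap]
      show ρ x ∈ maximalIdeal R ↔ ρS (algebraMap R' (R' ⊗[R] S) x) ∈ q
      rw [Algebra.TensorProduct.algebraMap_apply, Algebra.algebraMap_self, RingHom.id_apply,
        hρS_tmul, mul_one]
      exact Ideal.mem_of_liesOver q (maximalIdeal R) (ρ x)
    have hQright : (Ideal.comap ρS.toRingHom q).comap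
        Algebra.TensorProduct.includeRight.toRingHom = q := by
      ext s
      simp only [Ideal.mem_comap, AlgHom.toRingHom_eq_coe, RingHom.coe_coe]
      rw [hρS_right]
    have := Ideal.eq_of_comap_eq_comap_of_bijective_residueFieldMap hbij
      (Ideal.comap ρS.toRingHom q) P' (hQright.trans hP'q.symm)
    apply heP'
    rw [← this]
    exact hmem
  · -- finiteness
    haveI := IsLocalization.Away.quotient_of_isIdempotentElem (he.map ρS)
    have hunit : IsUnit (((Ideal.Quotient.mk (Ideal.span ({1 - ρS e} : Set S))).comp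
        ρS.toRingHom) e) := by
      have : (Ideal.Quotient.mk (Ideal.span ({1 - ρS e} : Set S))) (ρS e) = 1 := by
        rw [← sub_eq_zero, ← map_one (Ideal.Quotient.mk (Ideal.span ({1 - ρS e} : Set S))),
          ← map_sub, Ideal.Quotient.eq_zero_iff_mem, ← Ideal.neg_mem_iff, neg_sub]
        exact Ideal.subset_span rfl
      rw [RingHom.comp_apply]
      show IsUnit ((Ideal.Quotient.mk _) (ρS e))
      rw [this]
      exact isUnit_one
    obtain ⟨φ, hφ⟩ : ∃ φ : Localization.Away e →+* S ⧸ Ideal.span ({1 - ρS e} : Set S),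
        ∀ x, φ (algebraMap _ _ x) = Ideal.Quotient.mk _ (ρS x) :=
      ⟨IsLocalization.Away.lift e hunit, fun x => IsLocalization.Away.lift_eq _ _ _⟩
    have hφsurj : Function.Surjective φ := by
      intro y
      obtain ⟨s, rfl⟩ := Ideal.Quotient.mk_surjective y
      obtain ⟨x, rfl⟩ := hsurj s
      exact ⟨_, hφ x⟩
    refine Module.Finite.of_surjective (σ := ρ.toRingHom)
      ({ toFun := φ
         map_add' := map_add φ
         map_smul' := fun r' x => by
          rw [Algebra.smul_def, map_mul, IsScalarTower.algebraMap_apply R' (R' ⊗[R] S), hφ,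
            Algebra.TensorProduct.algebraMap_apply, Algebra.algebraMap_self, RingHom.id_apply,
            hρS_tmul, mul_one, Algebra.smul_def]
          rfl } : Localization.Away e →ₛₗ[ρ.toRingHom] S ⧸ Ideal.span ({1 - ρS e} : Set S)) hφsurj

end Groth.Agent.H11.HensEt

namespace Groth.Agent.H11.HensEt

theorem finite_quot_mul {R : Type*} [CommRing R] {S : Type*} [CommRing S] [Algebra R S] (a b : S)
    [Module.Finite R (S ⧸ Ideal.span ({a} : Set S))]
    [Module.Finite R (S ⧸ Ideal.span ({b} : Set S))] :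
    Module.Finite R (S ⧸ Ideal.span ({a * b} : Set S)) := by
  -- the map `S/(b) → S/(ab)`, `s ↦ a s`
  have hle : Ideal.span ({b} : Set S) ≤
      Submodule.comap (LinearMap.mulLeft S a) (Ideal.span ({a * b} : Set S)) := by
    rw [Ideal.span_le]
    intro x hx
    rw [Set.mem_singleton_iff] at hx
    subst hx
    exact Ideal.subset_span rfl
  obtain ⟨ψ, hψ⟩ : ∃ ψ : (S ⧸ Ideal.span ({b} : Set S)) →ₗ[R] S ⧸ Ideal.span ({a * b} : Set S),
      ∀ s : S, ψ (Ideal.Quotient.mk _ s) = Ideal.Quotient.mk _ (a * s) :=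
    ⟨(Submodule.mapQ _ _ (LinearMap.mulLeft S a) hle).restrictScalars R, fun s => rfl⟩
  -- the map `S/(ab) → S/(a)`
  have hle2 : Ideal.span ({a * b} : Set S) ≤ Ideal.span ({a} : Set S) := by
    rw [Ideal.span_le]
    intro x hx
    rw [Set.mem_singleton_iff] at hx
    subst hx
    exact Ideal.mul_mem_right _ _ (Ideal.subset_span rfl)
  obtain ⟨χ, hχ⟩ : ∃ χ : (S ⧸ Ideal.span ({a * b} : Set S)) →ₗ[R] S ⧸ Ideal.span ({a} : Set S),
      ∀ s : S, χ (Ideal.Quotient.mk _ s) = Ideal.Quotient.mk _ s :=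
    ⟨(Submodule.mapQ _ _ LinearMap.id hle2).restrictScalars R, fun s => rfl⟩
  have hexact : Function.Exact ψ χ := by
    intro y
    constructor
    · intro hy
      obtain ⟨s, rfl⟩ := Ideal.Quotient.mk_surjective y
      rw [hχ, Ideal.Quotient.eq_zero_iff_mem, Ideal.mem_span_singleton] at hy
      obtain ⟨t, rfl⟩ := hy
      exact ⟨Ideal.Quotient.mk _ t, hψ t⟩
    · rintro ⟨x, rfl⟩
      obtain ⟨t, rfl⟩ := Ideal.Quotient.mk_surjective x
      rw [hψ, hχ, Ideal.Quotient.eq_zero_iff_mem]
      exact Ideal.mul_mem_right _ _ (Ideal.subset_span rfl)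
  have hχsurj : Function.Surjective χ := by
    intro y
    obtain ⟨s, rfl⟩ := Ideal.Quotient.mk_surjective y
    exact ⟨_, hχ s⟩
  exact Module.Finite.of_exact hexact hχsurj

end Groth.Agent.H11.HensEt

namespace Groth.Agent.H11.HensEt

theorem exists_idempotent_finset {R : Type*} [CommRing R] {S : Type*} [CommRing S] [Algebra R S]
    (T : Finset (Ideal S)) (hprime : ∀ q ∈ T, q.IsPrime)
    (hT : ∀ q ∈ T, ∃ ε : S, IsIdempotentElem ε ∧ ε ∉ q ∧
      Module.Finite R (S ⧸ Ideal.span ({1 - ε} : Set S))) :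
    ∃ e : S, IsIdempotentElem e ∧ Module.Finite R (S ⧸ Ideal.span ({1 - e} : Set S)) ∧
      ∀ q ∈ T, e ∉ q := by
  classical
  induction T using Finset.induction_on with
  | empty =>
    refine ⟨0, IsIdempotentElem.zero, ?_, fun q hq => absurd hq (Finset.notMem_empty q)⟩
    rw [sub_zero, Ideal.span_singleton_one]
    infer_instance
  | insert q T hqT ih =>
    obtain ⟨e, he, hfin, heT⟩ := ih (fun q' hq' => hprime q' (Finset.mem_insert_of_mem hq'))
      (fun q' hq' => hT q' (Finset.mem_insert_of_mem hq'))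
    obtain ⟨ε, hε, hεq, hεfin⟩ := hT q (Finset.mem_insert_self q T)
    have hid : IsIdempotentElem ((1 - e) * (1 - ε)) := he.one_sub.mul hε.one_sub
    refine ⟨1 - (1 - e) * (1 - ε), hid.one_sub, ?_, ?_⟩
    · rw [sub_sub_cancel]
      exact finite_quot_mul (1 - e) (1 - ε)
    · intro q' hq' hmem
      haveI := hprime q' hq'
      have h1 : (1 - e) * (1 - ε) ∉ q' := by
        intro h2
        have := Ideal.add_mem _ hmem h2
        rw [sub_add_cancel] at this
        exact (Ideal.ne_top_iff_one q').1 (Ideal.IsPrime.ne_top ‹_›) this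
      rcases Finset.mem_insert.1 hq' with rfl | hq'T
      · apply h1
        refine Ideal.mul_mem_left _ _ ?_
        have h3 : ε * (1 - ε) ∈ q' := by
          rw [mul_sub, mul_one, hε.eq, sub_self]
          exact Ideal.zero_mem _
        exact (Ideal.IsPrime.mem_or_mem ‹_› h3).resolve_left hεq
      · apply h1
        refine Ideal.mul_mem_right _ _ ?_
        have h3 : e * (1 - e) ∈ q' := by
          rw [mul_sub, mul_one, he.eq, sub_self]
          exact Ideal.zero_mem _
        exact (Ideal.IsPrime.mem_or_mem ‹_› h3).resolve_left (heT q' hq'T)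

theorem quasiFinite_split (R : Type u) [CommRing R] [HenselianLocalRing R]
    (S : Type u) [CommRing S] [Algebra R S] [Algebra.FiniteType R S] [Algebra.QuasiFinite R S] :
    ∃ e : S, IsIdempotentElem e ∧ Module.Finite R (S ⧸ Ideal.span ({1 - e} : Set S)) ∧
      Ideal.map (algebraMap R (S ⧸ Ideal.span ({e} : Set S))) (IsLocalRing.maximalIdeal R) = ⊤ := by
  classical
  have hfinite := Algebra.QuasiFinite.finite_primesOver (S := S) (maximalIdeal R)
  obtain ⟨e, he, hfin, heT⟩ := exists_idempotent_finset (R := R) hfinite.toFinset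
    (fun q hq => ((Set.Finite.mem_toFinset _).1 hq).1)
    (fun q hq => by
      have hq' := (Set.Finite.mem_toFinset _).1 hq
      haveI := hq'.1
      haveI := hq'.2
      exact exists_idempotent_finite R S q)
  refine ⟨e, he, hfin, ?_⟩
  by_contra hne
  obtain ⟨M, hM, hle⟩ := Ideal.exists_le_maximal _ hne
  haveI := hM.isPrime
  have hq'prime : (Ideal.comap (Ideal.Quotient.mk (Ideal.span ({e} : Set S))) M).IsPrime :=
    Ideal.comap_isPrime _ _
  have hemem : e ∈ Ideal.comap (Ideal.Quotient.mk (Ideal.span ({e} : Set S))) M := by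
    rw [Ideal.mem_comap]
    have : Ideal.Quotient.mk (Ideal.span ({e} : Set S)) e = 0 :=
      Ideal.Quotient.eq_zero_iff_mem.2 (Ideal.subset_span rfl)
    rw [this]
    exact Ideal.zero_mem _
  have hlies : (Ideal.comap (Ideal.Quotient.mk (Ideal.span ({e} : Set S))) M).LiesOver
      (maximalIdeal R) := by
    constructor
    have h1 : maximalIdeal R ≤ Ideal.comap (algebraMap R S)
        (Ideal.comap (Ideal.Quotient.mk (Ideal.span ({e} : Set S))) M) := by
      intro x hx
      rw [Ideal.mem_comap, Ideal.mem_comap]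
      exact hle (Ideal.mem_map_of_mem _ hx)
    have h2 : Ideal.comap (algebraMap R S)
        (Ideal.comap (Ideal.Quotient.mk (Ideal.span ({e} : Set S))) M) ≠ ⊤ :=
      Ideal.IsPrime.ne_top (Ideal.comap_isPrime _ _)
    exact (IsLocalRing.maximalIdeal.isMaximal R).eq_of_le h2 h1
  exact heT _ ((Set.Finite.mem_toFinset _).2 ⟨hq'prime, hlies⟩) hemem

end Groth.Agent.H11.HensEt
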