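import Mathlib
import Groth.Agent.H11.HensSplit

open Polynomial IsLocalRing TensorProduct

universe u

namespace Groth.Agent.H11.HensEt

/-- In a fibre of a finite type algebra, only finitely many primes are quasi-finite. -/
theorem finite_quasiFiniteAt {R : Type*} [CommRing R] {S : Type*} [CommRing S] [Algebra R S]
    [Algebra.FiniteType R S] (p : PrimeSpectrum R) :
    {q : PrimeSpectrum S | q.comap (algebraMap R S) = p ∧
      Algebra.QuasiFiniteAt R q.asIdeal}.Finite := by
  haveI : IsNoetherianRing (p.asIdeal.Fiber S) :=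
    Algebra.FiniteType.isNoetherianRing p.asIdeal.ResidueField _
  haveI : TopologicalSpace.NoetherianSpace
      (PrimeSpectrum.comap (algebraMap R S) ⁻¹' {p}) :=
    (TopologicalSpace.noetherianSpace_iff_of_homeomorph
      (PrimeSpectrum.preimageHomeomorphFiber R S p)).2 inferInstance
  obtain ⟨U, hU⟩ : ∃ U : Set (PrimeSpectrum.comap (algebraMap R S) ⁻¹' {p}),
      U = {x | IsOpen ({x} : Set (PrimeSpectrum.comap (algebraMap R S) ⁻¹' {p}))} := ⟨_, rfl⟩
  have hUfin : U.Finite := by
    apply (TopologicalSpace.NoetherianSpace.isCompact U).finite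
    rw [isDiscrete_iff_forall_mem_exists_isOpen]
    intro y hy
    rw [hU] at hy
    refine ⟨{y}, hy, ?_⟩
    ext z
    simp only [Set.mem_inter_iff, Set.mem_singleton_iff]
    constructor
    · exact fun h => h.1
    · rintro rfl
      exact ⟨rfl, hU ▸ hy⟩
  refine (hUfin.image Subtype.val).subset ?_
  rintro q ⟨hq, hqf⟩
  subst hq
  refine ⟨⟨q, rfl⟩, ?_, rfl⟩
  rw [hU]
  exact (Algebra.quasiFiniteAt_iff_isOpen_singleton_fiber q).1 hqf

end Groth.Agent.H11.HensEt

namespace Groth.Agent.H11.HensEt

/-- Quasi-finiteness at a prime passes from `S/(e)` to `S` for an idempotent `e`. -/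
theorem quasiFiniteAt_of_quot_idempotent {R : Type*} [CommRing R] {S : Type*} [CommRing S]
    [Algebra R S] (e : S) (he : IsIdempotentElem e)
    (qb : Ideal (S ⧸ Ideal.span ({e} : Set S))) [qb.IsPrime] [Algebra.QuasiFiniteAt R qb]
    (q : Ideal S) [q.IsPrime] (hq : q = qb.comap (Ideal.Quotient.mk _)) :
    Algebra.QuasiFiniteAt R q := by
  have heq : e ∈ q := by
    rw [hq, Ideal.mem_comap]
    have : Ideal.Quotient.mk (Ideal.span ({e} : Set S)) e = 0 :=
      Ideal.Quotient.eq_zero_iff_mem.2 (Ideal.subset_span rfl)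
    rw [this]
    exact Ideal.zero_mem _
  have h1e : (1 - e) ∉ q := by
    intro h
    have := Ideal.add_mem _ heq h
    rw [add_sub_cancel] at this
    exact (Ideal.ne_top_iff_one q).1 (Ideal.IsPrime.ne_top ‹_›) this
  have he0 : algebraMap S (Localization.AtPrime q) e = 0 := by
    have hu : IsUnit (algebraMap S (Localization.AtPrime q) (1 - e)) :=
      IsLocalization.map_units (M := q.primeCompl) _ ⟨1 - e, h1e⟩
    have : algebraMap S (Localization.AtPrime q) e * algebraMap S (Localization.AtPrime q) (1 - e)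
        = 0 := by
      rw [← map_mul, mul_sub, mul_one, he.eq, sub_self, map_zero]
    exact (hu.mul_left_eq_zero).1 this
  obtain ⟨g, hg⟩ : ∃ g : (S ⧸ Ideal.span ({e} : Set S)) →ₐ[R] Localization.AtPrime q,
      ∀ s : S, g (Ideal.Quotient.mk _ s) = algebraMap S _ s :=
    ⟨Ideal.Quotient.liftₐ (Ideal.span ({e} : Set S))
      (IsScalarTower.toAlgHom R S (Localization.AtPrime q)) (by
        intro a ha
        rw [Ideal.mem_span_singleton] at ha
        obtain ⟨b, rfl⟩ := ha
        show algebraMap S (Localization.AtPrime q) (e * b) = 0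
        rw [map_mul, he0, zero_mul]), fun s => rfl⟩
  have hunits : ∀ y : qb.primeCompl, IsUnit (g y) := by
    rintro ⟨y, hy⟩
    obtain ⟨s, rfl⟩ := Ideal.Quotient.mk_surjective y
    rw [hg]
    apply IsLocalization.map_units (M := q.primeCompl) _ ⟨s, _⟩
    intro hs
    apply hy
    rw [hq] at hs
    exact hs
  obtain ⟨f, hf⟩ : ∃ f : Localization.AtPrime qb →ₐ[R] Localization.AtPrime q,
      ∀ y, f (algebraMap _ _ y) = g y :=
    ⟨IsLocalization.liftAlgHom (M := qb.primeCompl) (f := g) hunits, fun y => by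
      rw [IsLocalization.liftAlgHom_apply, IsLocalization.lift_eq]
      rfl⟩
  refine Algebra.QuasiFinite.of_forall_exists_mul_mem_range f fun x => ?_
  obtain ⟨a, s, rfl⟩ := IsLocalization.exists_mk'_eq q.primeCompl x
  refine ⟨algebraMap _ _ (Ideal.Quotient.mk (Ideal.span ({e} : Set S)) (s : S)), ?_, ?_⟩
  · rw [hf, hg]
    exact IsLocalization.map_units (M := q.primeCompl) _ s
  · rw [hf, hg, IsLocalization.mk'_spec]
    exact ⟨algebraMap _ _ (Ideal.Quotient.mk (Ideal.span ({e} : Set S)) a), by
      show f _ = _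
      rw [hf, hg]⟩

theorem finiteType_split (R : Type u) [CommRing R] [HenselianLocalRing R]
    (S : Type u) [CommRing S] [Algebra R S] [Algebra.FiniteType R S] :
    ∃ e : S, IsIdempotentElem e ∧ Module.Finite R (S ⧸ Ideal.span ({1 - e} : Set S)) ∧
      ∀ (q : Ideal (S ⧸ Ideal.span ({e} : Set S))) [q.IsPrime],
        q.LiesOver (IsLocalRing.maximalIdeal R) → ¬ Algebra.QuasiFiniteAt R q := by
  classical
  have hfinite := finite_quasiFiniteAt (R := R) (S := S) (IsLocalRing.closedPoint R)
  obtain ⟨e, he, hfin, heT⟩ := exists_idempotent_finset (R := R)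
    (hfinite.toFinset.image PrimeSpectrum.asIdeal)
    (fun q hq => by
      obtain ⟨q', -, rfl⟩ := Finset.mem_image.1 hq
      exact q'.isPrime)
    (fun q hq => by
      obtain ⟨q', hq', rfl⟩ := Finset.mem_image.1 hq
      obtain ⟨h1, h2⟩ := (Set.Finite.mem_toFinset _).1 hq'
      haveI : q'.asIdeal.LiesOver (maximalIdeal R) := ⟨by
        have := congrArg PrimeSpectrum.asIdeal h1
        exact this.symm⟩
      haveI := h2
      exact exists_idempotent_finite R S q'.asIdeal)
  refine ⟨e, he, hfin, ?_⟩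
  intro qb _ hlies hqf
  have hprime : (qb.comap (Ideal.Quotient.mk (Ideal.span ({e} : Set S)))).IsPrime :=
    Ideal.comap_isPrime _ _
  haveI := hqf
  have hqf' := quasiFiniteAt_of_quot_idempotent (R := R) e he qb
    (qb.comap (Ideal.Quotient.mk (Ideal.span ({e} : Set S)))) rfl
  have hmem : qb.comap (Ideal.Quotient.mk (Ideal.span ({e} : Set S))) ∈
      hfinite.toFinset.image PrimeSpectrum.asIdeal := by
    refine Finset.mem_image.2 ⟨⟨_, hprime⟩, (Set.Finite.mem_toFinset _).2 ⟨?_, hqf'⟩, rfl⟩
    apply PrimeSpectrum.ext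
    show Ideal.comap (algebraMap R S) _ = maximalIdeal R
    rw [Ideal.comap_comap]
    exact (hlies.over).symm
  apply heT _ hmem
  rw [Ideal.mem_comap]
  have : Ideal.Quotient.mk (Ideal.span ({e} : Set S)) e = 0 :=
    Ideal.Quotient.eq_zero_iff_mem.2 (Ideal.subset_span rfl)
  rw [this]
  exact Ideal.zero_mem _

end Groth.Agent.H11.HensEt
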