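import Mathlib
import Groth.Agent.H11.HensSplit2
import Groth.Agent.H11.HensEtale2

open Polynomial IsLocalRing TensorProduct

universe u

namespace Groth.Agent.H11.HensEt

/-- Version of `exists_idempotent_finite` with the uniqueness clause. -/
theorem exists_idempotent_finite' (R : Type u) [CommRing R] [HenselianLocalRing R]
    (S : Type u) [CommRing S] [Algebra R S] [Algebra.FiniteType R S] (q : Ideal S) [q.IsPrime]
    [q.LiesOver (maximalIdeal R)] [Algebra.QuasiFiniteAt R q] :
    ∃ ε : S, IsIdempotentElem ε ∧ ε ∉ q ∧ Module.Finite R (S ⧸ Ideal.span ({1 - ε} : Set S)) ∧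
      ∀ q' : Ideal S, q'.IsPrime → q'.LiesOver (maximalIdeal R) → ε ∉ q' → q' = q := by
  obtain ⟨R', _, _, _, P, _, _, e, he, P', _, _, hP'q, heP', hbij, hfin, huniq⟩ :=
    Algebra.exists_etale_isIdempotentElem_forall_liesOver_eq (maximalIdeal R) q
  obtain ⟨ρ, hρ⟩ := exists_retraction R R' P hbij
  obtain ⟨ρS, hρS⟩ : ∃ ρS : R' ⊗[R] S →ₐ[R] S,
      ρS = Algebra.TensorProduct.productMap ((Algebra.ofId R S).comp ρ) (AlgHom.id R S) := ⟨_, rfl⟩
  have hρS_tmul : ∀ (r' : R') (s : S), ρS (r' ⊗ₜ s) = algebraMap R S (ρ r') * s := by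
    intro r' s
    rw [hρS, Algebra.TensorProduct.productMap_apply_tmul]
    rfl
  have hρS_right : ∀ s : S, ρS (Algebra.TensorProduct.includeRight s) = s := by
    intro s
    rw [Algebra.TensorProduct.includeRight_apply, hρS_tmul, map_one, map_one, one_mul]
  have hsurj : Function.Surjective ρS := fun s => ⟨_, hρS_right s⟩
  -- for any prime over `m`, its preimage lies over `P`
  have hover : ∀ q' : Ideal S, q'.IsPrime → q'.LiesOver (maximalIdeal R) →
      (Ideal.comap ρS.toRingHom q').LiesOver P := by
    intro q' _ _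
    constructor
    rw [← hρ]
    ext x
    simp only [Ideal.under, Ideal.mem_comap]
    show ρ x ∈ maximalIdeal R ↔ ρS (algebraMap R' (R' ⊗[R] S) x) ∈ q'
    rw [Algebra.TensorProduct.algebraMap_apply, Algebra.algebraMap_self, RingHom.id_apply,
      hρS_tmul, mul_one]
    exact Ideal.mem_of_liesOver q' (maximalIdeal R) (ρ x)
  have hright : ∀ q' : Ideal S, (Ideal.comap ρS.toRingHom q').comap
      Algebra.TensorProduct.includeRight.toRingHom = q' := by
    intro q'
    ext s
    simp only [Ideal.mem_comap, AlgHom.toRingHom_eq_coe, RingHom.coe_coe]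
    rw [hρS_right]
  refine ⟨ρS e, he.map ρS, ?_, ?_, ?_⟩
  · intro hmem
    have hQ : (Ideal.comap ρS.toRingHom q).IsPrime := Ideal.comap_isPrime _ _
    have hQover := hover q inferInstance inferInstance
    have := Ideal.eq_of_comap_eq_comap_of_bijective_residueFieldMap hbij
      (Ideal.comap ρS.toRingHom q) P' ((hright q).trans hP'q.symm)
    apply heP'
    rw [← this]
    exact hmem
  · haveI := IsLocalization.Away.quotient_of_isIdempotentElem (he.map ρS)
    have hunit : IsUnit (((Ideal.Quotient.mk (Ideal.span ({1 - ρS e} : Set S))).comp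
        ρS.toRingHom) e) := by
      have : (Ideal.Quotient.mk (Ideal.span ({1 - ρS e} : Set S))) (ρS e) = 1 := by
        rw [← sub_eq_zero, ← map_one (Ideal.Quotient.mk (Ideal.span ({1 - ρS e} : Set S))),
          ← map_sub, Ideal.Quotient.eq_zero_iff_mem, ← Ideal.neg_mem_iff, neg_sub]
        exact Ideal.subset_span rfl
      rw [RingHom.comp_apply]
      show IsUnit ((Ideal.Quotient.mk _) (ρS e))
      rw [this]
      exact isUnit_one
    obtain ⟨φ, hφ⟩ : ∃ φ : Localization.Away e →+* S ⧸ Ideal.span ({1 - ρS e} : Set S),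
        ∀ x, φ (algebraMap _ _ x) = Ideal.Quotient.mk _ (ρS x) :=
      ⟨IsLocalization.Away.lift e hunit, fun x => IsLocalization.Away.lift_eq _ _ _⟩
    have hφsurj : Function.Surjective φ := by
      intro y
      obtain ⟨s, rfl⟩ := Ideal.Quotient.mk_surjective y
      obtain ⟨x, rfl⟩ := hsurj s
      exact ⟨_, hφ x⟩
    refine Module.Finite.of_surjective (σ := ρ.toRingHom)
      ({ toFun := φ
         map_add' := map_add φ
         map_smul' := fun r' x => by
          rw [Algebra.smul_def, map_mul, IsScalarTower.algebraMap_apply R' (R' ⊗[R] S), hφ,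
            Algebra.TensorProduct.algebraMap_apply, Algebra.algebraMap_self, RingHom.id_apply,
            hρS_tmul, mul_one, Algebra.smul_def]
          rfl } : Localization.Away e →ₛₗ[ρ.toRingHom] S ⧸ Ideal.span ({1 - ρS e} : Set S)) hφsurj
  · intro q' hq'prime hq'lies hεq'
    have hQ : (Ideal.comap ρS.toRingHom q').IsPrime := Ideal.comap_isPrime _ _
    have hQover := hover q' hq'prime hq'lies
    have h1 := huniq (Ideal.comap ρS.toRingHom q') hQ hQover (fun h => hεq' h)
    rw [← hright q', h1, hP'q]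

end Groth.Agent.H11.HensEt

namespace Groth.Agent.H11.HensEt

theorem bijective_of_finite_etale_local (S S₁ : Type*) [CommRing S] [IsLocalRing S] [CommRing S₁]
    [IsLocalRing S₁] [Algebra S S₁] [IsLocalHom (algebraMap S S₁)] [Algebra.Etale S S₁]
    [Module.Finite S S₁] (h : Function.Surjective (algebraMap S (ResidueField S₁))) :
    Function.Bijective (algebraMap S S₁) := by
  constructor
  · haveI : Module.Flat S S₁ := inferInstance
    haveI : Module.FaithfullyFlat S S₁ := Module.FaithfullyFlat.of_flat_of_isLocalHom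
    exact FaithfulSMul.algebraMap_injective S S₁
  · have hmax : (maximalIdeal S).map (algebraMap S S₁) = maximalIdeal S₁ :=
      Algebra.FormallyUnramified.map_maximalIdeal
    have htop : (⊤ : Submodule S S₁) ≤ LinearMap.range (Algebra.linearMap S S₁) := by
      apply Submodule.le_of_le_smul_of_le_jacobson_bot (I := maximalIdeal S)
        Module.Finite.fg_top (IsLocalRing.maximalIdeal_le_jacobson _)
      intro x _
      obtain ⟨r, hr⟩ := h (residue S₁ x)
      have hx : x - algebraMap S S₁ r ∈ maximalIdeal S₁ := by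
        rw [← Ideal.Quotient.eq_zero_iff_mem]
        show residue S₁ (x - algebraMap S S₁ r) = 0
        rw [map_sub, sub_eq_zero, ← hr]
        rfl
      rw [← hmax] at hx
      have hx' : x - algebraMap S S₁ r ∈ (maximalIdeal S) • (⊤ : Submodule S S₁) := by
        rw [Ideal.smul_top_eq_map]
        exact hx
      have : x = algebraMap S S₁ r + (x - algebraMap S S₁ r) := by ring
      rw [this]
      exact Submodule.add_mem_sup ⟨r, rfl⟩ hx'
    intro x
    obtain ⟨r, hr⟩ := htop (Submodule.mem_top (x := x))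
    exact ⟨r, hr⟩

end Groth.Agent.H11.HensEt

namespace Groth.Agent.H11.HensEt

theorem henselian_of_finite (R : Type u) [CommRing R] [HenselianLocalRing R]
    (S : Type u) [CommRing S] [IsLocalRing S] [Algebra R S] [Module.Finite R S] :
    HenselianLocalRing S := by
  classical
  apply Groth.Agent.H11.HensEt2.henselian_of_etale_retraction S
  intro S' _ _ _ q' _ hq'lies hq'surj
  letI : Algebra R S' := ((algebraMap S S').comp (algebraMap R S)).toAlgebra
  haveI : IsScalarTower R S S' := IsScalarTower.of_algebraMap_eq (fun _ => rfl)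
  haveI : Algebra.FiniteType R S' :=
    Algebra.FiniteType.trans (inferInstance : Algebra.FiniteType R S) inferInstance
  haveI : Algebra.QuasiFinite R S' := Algebra.QuasiFinite.trans R S S'
  haveI hmS : (maximalIdeal S).LiesOver (maximalIdeal R) := by
    constructor
    haveI : ((maximalIdeal S).comap (algebraMap R S)).IsMaximal :=
      Ideal.isMaximal_comap_of_isIntegral_of_isMaximal (maximalIdeal S)
    exact (IsLocalRing.eq_maximalIdeal this).symm
  haveI : q'.LiesOver (maximalIdeal R) := Ideal.LiesOver.trans q' (maximalIdeal S) (maximalIdeal R)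
  obtain ⟨ε, hε, hεq', hfin, huniq⟩ := exists_idempotent_finite' R S' q'
  have h1ε : (1 - ε) ∈ q' := by
    have h3 : ε * (1 - ε) ∈ q' := by
      rw [mul_sub, mul_one, hε.eq, sub_self]
      exact Ideal.zero_mem _
    exact (Ideal.IsPrime.mem_or_mem ‹_› h3).resolve_left hεq'
  have hle : Ideal.span ({1 - ε} : Set S') ≤ q' := by
    rw [Ideal.span_le]
    intro x hx
    rw [Set.mem_singleton_iff] at hx
    subst hx
    exact h1ε
  -- the quotient `S₁ = S'/(1-ε)`
  haveI : Module.Finite S (S' ⧸ Ideal.span ({1 - ε} : Set S')) :=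
    Module.Finite.of_restrictScalars_finite R S _
  haveI hloc := IsLocalization.Away.quotient_of_isIdempotentElem hε
  haveI : Algebra.Etale S (S' ⧸ Ideal.span ({1 - ε} : Set S')) :=
    Algebra.Etale.of_equiv
      ((IsLocalization.algEquiv (Submonoid.powers ε) (Localization.Away ε)
        (S' ⧸ Ideal.span ({1 - ε} : Set S'))).restrictScalars S)
  haveI : Nontrivial (S' ⧸ Ideal.span ({1 - ε} : Set S')) :=
    Ideal.Quotient.nontrivial_iff.2 (fun h => (Ideal.IsPrime.ne_top ‹q'.IsPrime›) (top_le_iff.1 (h ▸ hle)))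
  have hmaxeq : ∀ M : Ideal (S' ⧸ Ideal.span ({1 - ε} : Set S')), M.IsMaximal →
      M = Ideal.map (Ideal.Quotient.mk (Ideal.span ({1 - ε} : Set S'))) q' := by
    intro M hM
    have hcm : (Ideal.comap (Ideal.Quotient.mk (Ideal.span ({1 - ε} : Set S'))) M).IsMaximal :=
      Ideal.comap_isMaximal_of_surjective _ Ideal.Quotient.mk_surjective
    have hlies : (Ideal.comap (Ideal.Quotient.mk (Ideal.span ({1 - ε} : Set S'))) M).LiesOver
        (maximalIdeal R) := by
      constructor
      haveI : ((Ideal.comap (Ideal.Quotient.mk (Ideal.span ({1 - ε} : Set S'))) M).comap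
          (algebraMap R S')).IsMaximal := by
        have : (M.comap (algebraMap R (S' ⧸ Ideal.span ({1 - ε} : Set S')))).IsMaximal :=
          Ideal.isMaximal_comap_of_isIntegral_of_isMaximal M
        exact this
      exact (IsLocalRing.eq_maximalIdeal this).symm
    have hnot : ε ∉ Ideal.comap (Ideal.Quotient.mk (Ideal.span ({1 - ε} : Set S'))) M := by
      intro hmem
      have h2 : (1 - ε) ∈ Ideal.comap (Ideal.Quotient.mk (Ideal.span ({1 - ε} : Set S'))) M := by
        rw [Ideal.mem_comap]
        have : Ideal.Quotient.mk (Ideal.span ({1 - ε} : Set S')) (1 - ε) = 0 :=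
          Ideal.Quotient.eq_zero_iff_mem.2 (Ideal.subset_span rfl)
        rw [this]
        exact Ideal.zero_mem _
      have := Ideal.add_mem _ hmem h2
      rw [add_sub_cancel] at this
      exact (Ideal.ne_top_iff_one _).1 hcm.ne_top this
    have := huniq _ hcm.isPrime hlies hnot
    rw [← this, Ideal.map_comap_of_surjective _ Ideal.Quotient.mk_surjective]
  haveI : IsLocalRing (S' ⧸ Ideal.span ({1 - ε} : Set S')) := by
    obtain ⟨M, hM⟩ := Ideal.exists_maximal (S' ⧸ Ideal.span ({1 - ε} : Set S'))
    exact IsLocalRing.of_unique_max_ideal ⟨M, hM, fun M' hM' => by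
      rw [hmaxeq M hM, hmaxeq M' hM']⟩
  have hmaxeq' : maximalIdeal (S' ⧸ Ideal.span ({1 - ε} : Set S')) =
      Ideal.map (Ideal.Quotient.mk (Ideal.span ({1 - ε} : Set S'))) q' :=
    hmaxeq _ (IsLocalRing.maximalIdeal.isMaximal _)
  haveI : IsLocalHom (algebraMap S (S' ⧸ Ideal.span ({1 - ε} : Set S'))) := by
    apply ((IsLocalRing.local_hom_TFAE _).out 0 4).2
    haveI : ((maximalIdeal (S' ⧸ Ideal.span ({1 - ε} : Set S'))).comap
        (algebraMap S (S' ⧸ Ideal.span ({1 - ε} : Set S')))).IsMaximal :=
      Ideal.isMaximal_comap_of_isIntegral_of_isMaximal _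
    exact IsLocalRing.eq_maximalIdeal this
  have hsurj : Function.Surjective
      (algebraMap S (ResidueField (S' ⧸ Ideal.span ({1 - ε} : Set S')))) := by
    intro y
    obtain ⟨x, rfl⟩ := IsLocalRing.residue_surjective y
    obtain ⟨s', rfl⟩ := Ideal.Quotient.mk_surjective x
    obtain ⟨r, hr⟩ := hq'surj (algebraMap S' q'.ResidueField s')
    refine ⟨r, ?_⟩
    rw [IsScalarTower.algebraMap_apply S S' q'.ResidueField, ← sub_eq_zero, ← map_sub,
      Ideal.algebraMap_residueField_eq_zero] at hr
    rw [IsScalarTower.algebraMap_apply S (S' ⧸ Ideal.span ({1 - ε} : Set S')), ← sub_eq_zero]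
    show residue _ _ - residue _ _ = 0
    rw [← map_sub, IsLocalRing.residue_eq_zero_iff, hmaxeq']
    have : algebraMap S (S' ⧸ Ideal.span ({1 - ε} : Set S')) r -
        Ideal.Quotient.mk (Ideal.span ({1 - ε} : Set S')) s' =
        Ideal.Quotient.mk (Ideal.span ({1 - ε} : Set S')) (algebraMap S S' r - s') := by
      rw [map_sub]
      rfl
    rw [this]
    exact Ideal.mem_map_of_mem _ hr
  have hbij := bijective_of_finite_etale_local S (S' ⧸ Ideal.span ({1 - ε} : Set S')) hsurj
  obtain ⟨eq⟩ : Nonempty (S ≃ₐ[S] (S' ⧸ Ideal.span ({1 - ε} : Set S'))) :=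
    ⟨AlgEquiv.ofBijective (Algebra.ofId S _) hbij⟩
  exact ⟨eq.symm.toAlgHom.comp (Ideal.Quotient.mkₐ S (Ideal.span ({1 - ε} : Set S')))⟩

end Groth.Agent.H11.HensEt
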