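import Mathlib
import Groth.Agent.H11.HensFinite

open Polynomial IsLocalRing TensorProduct

universe u

namespace Groth.Agent.H11.HensEt

/-- An idempotent in the Jacobson radical is zero. -/
theorem idempotent_eq_zero_of_mem_jacobson {T : Type*} [CommRing T] {e : T}
    (he : IsIdempotentElem e) (hj : e ∈ Ideal.jacobson (⊥ : Ideal T)) : e = 0 := by
  have hu : IsUnit (1 - e) := by
    have := (Ideal.mem_jacobson_bot.1 hj) (-1)
    rwa [mul_neg, mul_one, neg_add_eq_sub] at this
  have : e * (1 - e) = 0 := by rw [mul_sub, mul_one, he.eq, sub_self]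
  exact (hu.mul_left_eq_zero).1 this

/-- If `T` is integral over the local ring `R`, `ε` an idempotent and `q` is the only prime over
the maximal ideal not containing `ε`, then `T/(1-ε)` is local. -/
theorem isLocalRing_quot_of_unique {R : Type*} [CommRing R] [IsLocalRing R] {T : Type*}
    [CommRing T] [Algebra R T] [Algebra.IsIntegral R T] (ε : T) (q : Ideal T) [q.IsPrime]
    (hεq : ε ∉ q) (hε : IsIdempotentElem ε)
    (huniq : ∀ q' : Ideal T, q'.IsPrime → q'.LiesOver (maximalIdeal R) → ε ∉ q' → q' = q) :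
    IsLocalRing (T ⧸ Ideal.span ({1 - ε} : Set T)) ∧
      ∀ M : Ideal (T ⧸ Ideal.span ({1 - ε} : Set T)), M.IsMaximal →
        M = Ideal.map (Ideal.Quotient.mk (Ideal.span ({1 - ε} : Set T))) q := by
  have h1ε : (1 - ε) ∈ q := by
    have h3 : ε * (1 - ε) ∈ q := by
      rw [mul_sub, mul_one, hε.eq, sub_self]
      exact Ideal.zero_mem _
    exact (Ideal.IsPrime.mem_or_mem ‹_› h3).resolve_left hεq
  have hle : Ideal.span ({1 - ε} : Set T) ≤ q := by
    rw [Ideal.span_le]
    intro x hx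
    rw [Set.mem_singleton_iff] at hx
    subst hx
    exact h1ε
  haveI : Nontrivial (T ⧸ Ideal.span ({1 - ε} : Set T)) :=
    Ideal.Quotient.nontrivial_iff.2
      (fun h => (Ideal.IsPrime.ne_top ‹q.IsPrime›) (top_le_iff.1 (h ▸ hle)))
  have hmaxeq : ∀ M : Ideal (T ⧸ Ideal.span ({1 - ε} : Set T)), M.IsMaximal →
      M = Ideal.map (Ideal.Quotient.mk (Ideal.span ({1 - ε} : Set T))) q := by
    intro M hM
    have hcm : (Ideal.comap (Ideal.Quotient.mk (Ideal.span ({1 - ε} : Set T))) M).IsMaximal :=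
      Ideal.comap_isMaximal_of_surjective _ Ideal.Quotient.mk_surjective
    have hlies : (Ideal.comap (Ideal.Quotient.mk (Ideal.span ({1 - ε} : Set T))) M).LiesOver
        (maximalIdeal R) := by
      constructor
      haveI : ((Ideal.comap (Ideal.Quotient.mk (Ideal.span ({1 - ε} : Set T))) M).comap
          (algebraMap R T)).IsMaximal :=
        Ideal.isMaximal_comap_of_isIntegral_of_isMaximal _
      exact (IsLocalRing.eq_maximalIdeal this).symm
    have hnot : ε ∉ Ideal.comap (Ideal.Quotient.mk (Ideal.span ({1 - ε} : Set T))) M := by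
      intro hmem
      have h2 : (1 - ε) ∈ Ideal.comap (Ideal.Quotient.mk (Ideal.span ({1 - ε} : Set T))) M := by
        rw [Ideal.mem_comap]
        have : Ideal.Quotient.mk (Ideal.span ({1 - ε} : Set T)) (1 - ε) = 0 :=
          Ideal.Quotient.eq_zero_iff_mem.2 (Ideal.subset_span rfl)
        rw [this]
        exact Ideal.zero_mem _
      have := Ideal.add_mem _ hmem h2
      rw [add_sub_cancel] at this
      exact (Ideal.ne_top_iff_one _).1 hcm.ne_top this
    have := huniq _ hcm.isPrime hlies hnot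
    rw [← this, Ideal.map_comap_of_surjective _ Ideal.Quotient.mk_surjective]
  refine ⟨?_, hmaxeq⟩
  obtain ⟨M, hM⟩ := Ideal.exists_maximal (T ⧸ Ideal.span ({1 - ε} : Set T))
  exact IsLocalRing.of_unique_max_ideal ⟨M, hM, fun M' hM' => by
    rw [hmaxeq M hM, hmaxeq M' hM']⟩

end Groth.Agent.H11.HensEt

namespace Groth.Agent.H11.HensEt

theorem exists_local_decomposition (R : Type u) [CommRing R] [HenselianLocalRing R] (T : Type u)
    [CommRing T] [Algebra R T] [Module.Finite R T] :
    ∃ (n : ℕ) (q : Fin n → Ideal T) (ε : Fin n → T), (∀ j, (q j).IsPrime) ∧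
      (∀ j, (q j).LiesOver (maximalIdeal R)) ∧ CompleteOrthogonalIdempotents ε ∧
      (∀ j, ε j ∉ q j) ∧
      (∀ j (q' : Ideal T), q'.IsPrime → q'.LiesOver (maximalIdeal R) → ε j ∉ q' → q' = q j) := by
  classical
  have hfin := Algebra.QuasiFinite.finite_primesOver (S := T) (maximalIdeal R)
  obtain ⟨n, hn⟩ : ∃ n, n = hfin.toFinset.card := ⟨_, rfl⟩
  obtain ⟨eqv⟩ : Nonempty (hfin.toFinset ≃ Fin n) := ⟨hn ▸ hfin.toFinset.equivFin⟩
  obtain ⟨q, hq⟩ : ∃ q : Fin n → Ideal T, ∀ j, q j = (eqv.symm j).1 := ⟨_, fun _ => rfl⟩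
  have hqmem : ∀ j, q j ∈ (maximalIdeal R).primesOver T := fun j => by
    rw [hq j]; exact (Set.Finite.mem_toFinset _).1 (eqv.symm j).2
  have hqprime : ∀ j, (q j).IsPrime := fun j => (hqmem j).1
  have hqlies : ∀ j, (q j).LiesOver (maximalIdeal R) := fun j => (hqmem j).2
  have hqinj : Function.Injective q := by
    intro i j hij
    rw [hq i, hq j] at hij
    exact eqv.symm.injective (Subtype.ext hij)
  have hqsurj : ∀ q' : Ideal T, q'.IsPrime → q'.LiesOver (maximalIdeal R) → ∃ j, q j = q' := by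
    intro q' h1 h2
    refine ⟨eqv ⟨q', (Set.Finite.mem_toFinset _).2 ⟨h1, h2⟩⟩, ?_⟩
    rw [hq, Equiv.symm_apply_apply]
  have hex : ∀ j, ∃ ε : T, IsIdempotentElem ε ∧ ε ∉ q j ∧
      ∀ q' : Ideal T, q'.IsPrime → q'.LiesOver (maximalIdeal R) → ε ∉ q' → q' = q j := by
    intro j
    haveI := hqprime j
    haveI := hqlies j
    obtain ⟨ε, h1, h2, -, h4⟩ := exists_idempotent_finite' R T (q j)
    exact ⟨ε, h1, h2, h4⟩
  choose ε hεid hεq hεuniq using hex
  -- every maximal ideal is some `q k`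
  have hmax : ∀ M : Ideal T, M.IsMaximal → ∃ k, q k = M := by
    intro M hM
    refine hqsurj M hM.isPrime ⟨?_⟩
    haveI : (M.comap (algebraMap R T)).IsMaximal :=
      Ideal.isMaximal_comap_of_isIntegral_of_isMaximal M
    exact (IsLocalRing.eq_maximalIdeal this).symm
  have hmem : ∀ j k, k ≠ j → ε j ∈ q k := by
    intro j k hkj
    by_contra hne
    exact hkj (hqinj (hεuniq j (q k) (hqprime k) (hqlies k) hne))
  have hjac : ∀ x : T, (∀ k, x ∈ q k) → x ∈ Ideal.jacobson (⊥ : Ideal T) := by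
    intro x hx
    rw [Ideal.jacobson, Ideal.mem_sInf]
    rintro M ⟨-, hM⟩
    obtain ⟨k, rfl⟩ := hmax M hM
    exact hx k
  have hortho : OrthogonalIdempotents ε := by
    refine ⟨hεid, ?_⟩
    intro i j hij
    apply idempotent_eq_zero_of_mem_jacobson ((hεid i).mul (hεid j))
    apply hjac
    intro k
    by_cases hki : k = i
    · subst hki
      exact Ideal.mul_mem_left _ _ (hmem j k hij)
    · exact Ideal.mul_mem_right _ _ (hmem i k hki)
  refine ⟨n, q, ε, hqprime, hqlies, ⟨hortho, ?_⟩, hεq, hεuniq⟩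
  have hid : IsIdempotentElem (1 - ∑ j, ε j) := (hortho.isIdempotentElem_sum).one_sub
  have := idempotent_eq_zero_of_mem_jacobson hid (hjac _ (fun k => by
    haveI := hqprime k
    rw [← Finset.add_sum_erase Finset.univ ε (Finset.mem_univ k), ← sub_sub]
    refine Ideal.sub_mem _ ?_ (Ideal.sum_mem _ (fun j hj => hmem j k (Finset.ne_of_mem_erase hj).symm))
    have h3 : ε k * (1 - ε k) ∈ q k := by
      rw [mul_sub, mul_one, (hεid k).eq, sub_self]
      exact Ideal.zero_mem _
    exact (Ideal.IsPrime.mem_or_mem ‹_› h3).resolve_left (hεq k)))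
  exact (sub_eq_zero.1 this).symm

end Groth.Agent.H11.HensEt
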