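import Mathlib
import Groth.Agent.H11.HensDecomp

open Polynomial IsLocalRing TensorProduct

universe u

namespace Groth.Agent.H11.HensEt

theorem map_maximalIdeal_le_jacobson (R : Type*) [CommRing R] [IsLocalRing R] (S : Type*)
    [CommRing S] [Algebra R S] [Algebra.IsIntegral R S] :
    (maximalIdeal R).map (algebraMap R S) ≤ Ideal.jacobson (⊥ : Ideal S) := by
  unfold Ideal.jacobson
  rw [le_sInf_iff]
  rintro M ⟨-, hM⟩
  rw [Ideal.map_le_iff_le_comap]
  haveI := hM
  haveI : (M.comap (algebraMap R S)).IsMaximal :=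
    Ideal.isMaximal_comap_of_isIntegral_of_isMaximal _
  exact (IsLocalRing.eq_maximalIdeal this).ge

/-- Two algebra maps out of an unramified algebra which agree modulo the Jacobson radical are
equal. -/
theorem algHom_eq_of_sub_mem_jacobson {R : Type*} [CommRing R] {A : Type*} [CommRing A]
    [Algebra R A] [Algebra.FormallyUnramified R A] [Algebra.EssFiniteType R A] {S : Type*}
    [CommRing S] [Algebra R S] (φ ψ : A →ₐ[R] S)
    (h : ∀ a, φ a - ψ a ∈ Ideal.jacobson (⊥ : Ideal S)) : φ = ψ := by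
  obtain ⟨t, ht1, ht2⟩ := (Algebra.FormallyUnramified.iff_exists_tensorProduct
    (R := R) (S := A)).1 inferInstance
  obtain ⟨Φ, hΦ⟩ : ∃ Φ : A ⊗[R] A →ₐ[R] S, Φ = Algebra.TensorProduct.productMap φ ψ := ⟨_, rfl⟩
  obtain ⟨π, hπ⟩ : ∃ π : S →ₐ[R] S ⧸ Ideal.jacobson (⊥ : Ideal S),
      π = Ideal.Quotient.mkₐ R _ := ⟨_, rfl⟩
  have hπeq : ∀ a, π (ψ a) = π (φ a) := by
    intro a
    rw [hπ]
    exact (Ideal.Quotient.eq.2 (h a)).symm
  have hcomp : π.comp Φ = (π.comp φ).comp (Algebra.TensorProduct.lmul' R) := by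
    apply Algebra.TensorProduct.ext'
    intro a b
    rw [AlgHom.comp_apply, AlgHom.comp_apply, hΦ, Algebra.TensorProduct.productMap_apply_tmul,
      Algebra.TensorProduct.lmul'_apply_tmul, map_mul, hπeq, AlgHom.comp_apply, map_mul, map_mul]
  have hε1 : π (Φ t) = 1 := by
    have := congrArg (fun g => g t) hcomp
    simp only [AlgHom.comp_apply] at this
    rw [this, ht2, map_one, map_one]
  have hunit : IsUnit (Φ t) := by
    have hmem : Φ t - 1 ∈ Ideal.jacobson (⊥ : Ideal S) := by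
      rw [← Ideal.Quotient.eq, map_one]
      rw [hπ] at hε1
      exact hε1
    have := (Ideal.mem_jacobson_bot.1 hmem) 1
    rwa [mul_one, sub_add_cancel] at this
  ext a
  have h0 : (ψ a - φ a) * Φ t = 0 := by
    have := congrArg Φ (ht1 a)
    rw [map_mul, map_sub, map_zero] at this
    rw [hΦ] at this ⊢
    rw [Algebra.TensorProduct.productMap_apply_tmul, Algebra.TensorProduct.productMap_apply_tmul,
      map_one, map_one, one_mul, mul_one] at this
    exact this
  have := (hunit.mul_left_eq_zero).1 h0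
  exact (sub_eq_zero.1 this).symm

/-- Lifting a map from an étale algebra to the residue field of a henselian local ring. -/
theorem exists_algHom_lift_residue (R : Type u) [CommRing R] (T : Type u) [CommRing T]
    [HenselianLocalRing T] [Algebra R T] (A : Type u) [CommRing A] [Algebra R A]
    [Algebra.Etale R A] (θ : A →ₐ[R] ResidueField T) :
    ∃ f : A →ₐ[R] T, ∀ a, residue T (f a) = θ a := by
  obtain ⟨q, hq⟩ : ∃ q : Ideal A, q = RingHom.ker θ := ⟨_, rfl⟩
  haveI : q.IsPrime := hq ▸ RingHom.ker_isPrime θ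
  have h₁ : q ≤ RingHom.ker θ := hq.le
  have h₂ : q.primeCompl ≤ (IsUnit.submonoid (ResidueField T)).comap θ := by
    intro x hx
    rw [Submonoid.mem_comap]
    show IsUnit (θ x)
    rw [isUnit_iff_ne_zero]
    intro h0
    exact hx (hq ▸ (RingHom.mem_ker.2 h0))
  obtain ⟨τ, hτ⟩ : ∃ τ : q.ResidueField →ₐ[R] ResidueField T,
      τ = Ideal.ResidueField.liftₐ q θ h₁ h₂ := ⟨_, rfl⟩
  have hτa : ∀ a, τ (algebraMap A q.ResidueField a) = θ a := by
    intro a
    rw [hτ]
    exact Ideal.ResidueField.liftₐ_algebraMap _ _ _ h₂ _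
  have hcomp : τ.toRingHom.comp (algebraMap R q.ResidueField) =
      (residue T).comp (algebraMap R T) := by
    ext r
    simp only [RingHom.comp_apply, AlgHom.toRingHom_eq_coe, RingHom.coe_coe, AlgHom.commutes]
    rfl
  obtain ⟨f, ⟨-, hf⟩, -⟩ := existsUnique_algHom R T A q τ.toRingHom hcomp
  exact ⟨f, fun a => (hf a).trans (hτa a)⟩

end Groth.Agent.H11.HensEt

namespace Groth.Agent.H11.HensEt

theorem one_tmul_eq_of_sub_mem {R : Type*} [CommRing R] (I : Ideal R) {S : Type*} [CommRing S]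
    [Algebra R S] (x y : S) :
    ((1 : R ⧸ I) ⊗ₜ[R] x = (1 : R ⧸ I) ⊗ₜ[R] y) ↔ x - y ∈ I.map (algebraMap R S) := by
  rw [← quotTensorEquivQuotSMul_symm_mk I x, ← quotTensorEquivQuotSMul_symm_mk I y,
    (quotTensorEquivQuotSMul S I).symm.injective.eq_iff, Submodule.Quotient.eq,
    Ideal.smul_top_eq_map]
  rfl

theorem exists_one_tmul_eq {R : Type*} [CommRing R] (I : Ideal R) {S : Type*} [CommRing S]
    [Algebra R S] (z : (R ⧸ I) ⊗[R] S) : ∃ y : S, (1 : R ⧸ I) ⊗ₜ[R] y = z := by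
  induction z using TensorProduct.induction_on with
  | zero => exact ⟨0, by rw [tmul_zero]⟩
  | tmul k s =>
    obtain ⟨r, rfl⟩ := Ideal.Quotient.mk_surjective k
    refine ⟨r • s, ?_⟩
    rw [tmul_smul, smul_tmul']
    congr 1
    rw [← Ideal.Quotient.algebraMap_eq, Algebra.smul_def, mul_one]
  | add z₁ z₂ h₁ h₂ =>
    obtain ⟨y₁, rfl⟩ := h₁
    obtain ⟨y₂, rfl⟩ := h₂
    exact ⟨y₁ + y₂, tmul_add _ _ _⟩

/-- Lifting a map from an étale algebra into the special fibre of a finite unramified algebra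
over a henselian local ring. -/
theorem exists_algHom_lift_tensor (R : Type u) [CommRing R] [HenselianLocalRing R] (S : Type u)
    [CommRing S] [Algebra R S] [Module.Finite R S] [Algebra.FormallyUnramified R S]
    (A : Type u) [CommRing A] [Algebra R A] [Algebra.Etale R A]
    (θ : A →ₐ[R] ResidueField R ⊗[R] S) :
    ∃ f : A →ₐ[R] S, ∀ a, (1 : ResidueField R) ⊗ₜ[R] f a = θ a := by
  classical
  obtain ⟨n, q, ε, hqprime, hqlies, hε, hεq, hεuniq⟩ := exists_local_decomposition R S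
  haveI : Algebra.IsIntegral R S := inferInstance
  haveI hloc : ∀ j, IsLocalRing (S ⧸ Ideal.span ({1 - ε j} : Set S)) := fun j => by
    haveI := hqprime j
    exact (isLocalRing_quot_of_unique (R := R) (ε j) (q j) (hεq j) (hε.idem j) (hεuniq j)).1
  haveI hfin : ∀ j, Module.Finite R (S ⧸ Ideal.span ({1 - ε j} : Set S)) := fun j =>
    Module.Finite.of_surjective (Ideal.Quotient.mkₐ R (Ideal.span ({1 - ε j} : Set S))).toLinearMap
      Ideal.Quotient.mk_surjective
  haveI hunr : ∀ j, Algebra.FormallyUnramified R (S ⧸ Ideal.span ({1 - ε j} : Set S)) := fun j =>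
    Algebra.FormallyUnramified.of_surjective (Ideal.Quotient.mkₐ R (Ideal.span ({1 - ε j} : Set S)))
      Ideal.Quotient.mk_surjective
  haveI hhens : ∀ j, HenselianLocalRing (S ⧸ Ideal.span ({1 - ε j} : Set S)) := fun j =>
    henselian_of_finite R _
  haveI hlh : ∀ j, IsLocalHom (algebraMap R (S ⧸ Ideal.span ({1 - ε j} : Set S))) := fun j => by
    apply ((IsLocalRing.local_hom_TFAE _).out 0 4).2
    haveI : ((maximalIdeal (S ⧸ Ideal.span ({1 - ε j} : Set S))).comap
        (algebraMap R (S ⧸ Ideal.span ({1 - ε j} : Set S)))).IsMaximal :=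
      Ideal.isMaximal_comap_of_isIntegral_of_isMaximal _
    exact IsLocalRing.eq_maximalIdeal this
  have hmax : ∀ j, (maximalIdeal R).map (algebraMap R (S ⧸ Ideal.span ({1 - ε j} : Set S))) =
      maximalIdeal (S ⧸ Ideal.span ({1 - ε j} : Set S)) := fun j =>
    Algebra.FormallyUnramified.map_maximalIdeal
  obtain ⟨ρ, hρ⟩ : ∃ ρ : ∀ j, ResidueField R ⊗[R] S →ₐ[R]
      ResidueField (S ⧸ Ideal.span ({1 - ε j} : Set S)),
      ρ = fun j => Algebra.TensorProduct.productMap
        (IsScalarTower.toAlgHom R (ResidueField R) (ResidueField (S ⧸ Ideal.span ({1 - ε j} : Set S))))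
        ((IsScalarTower.toAlgHom R (S ⧸ Ideal.span ({1 - ε j} : Set S))
          (ResidueField (S ⧸ Ideal.span ({1 - ε j} : Set S)))).comp
          (Ideal.Quotient.mkₐ R (Ideal.span ({1 - ε j} : Set S)))) := ⟨_, rfl⟩
  have hρ1 : ∀ j (s : S), ρ j ((1 : ResidueField R) ⊗ₜ[R] s) =
      residue _ (Ideal.Quotient.mk (Ideal.span ({1 - ε j} : Set S)) s) := by
    intro j s
    rw [hρ]
    simp only [Algebra.TensorProduct.productMap_apply_tmul, map_one, one_mul]
    rfl
  have hfj : ∀ j, ∃ f : A →ₐ[R] (S ⧸ Ideal.span ({1 - ε j} : Set S)),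
      ∀ a, residue _ (f a) = ρ j (θ a) := fun j => by
    obtain ⟨f, hf⟩ := exists_algHom_lift_residue R (S ⧸ Ideal.span ({1 - ε j} : Set S)) A
      ((ρ j).comp θ)
    exact ⟨f, hf⟩
  choose fj hfj using hfj
  obtain ⟨e, he⟩ : ∃ e : S ≃ₐ[R] (∀ j, S ⧸ Ideal.span ({1 - ε j} : Set S)),
      ∀ s j, e s j = Ideal.Quotient.mk _ s :=
    ⟨AlgEquiv.ofBijective (AlgHom.pi (fun j => Ideal.Quotient.mkₐ R
      (Ideal.span ({1 - ε j} : Set S)))) hε.bijective_pi, fun _ _ => rfl⟩
  obtain ⟨f, hf⟩ : ∃ f : A →ₐ[R] S, f = e.symm.toAlgHom.comp (AlgHom.pi fj) := ⟨_, rfl⟩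
  have hfa : ∀ a j, Ideal.Quotient.mk (Ideal.span ({1 - ε j} : Set S)) (f a) = fj j a := by
    intro a j
    rw [← he, hf]
    simp
  refine ⟨f, fun a => ?_⟩
  obtain ⟨y, hy⟩ := exists_one_tmul_eq (maximalIdeal R) (θ a)
  rw [← hy]
  apply (one_tmul_eq_of_sub_mem (maximalIdeal R) (f a) y).2
  have key : ∀ j, ε j * (f a - y) ∈ (maximalIdeal R).map (algebraMap R S) := by
    intro j
    have h1 : residue _ (Ideal.Quotient.mk (Ideal.span ({1 - ε j} : Set S)) (f a - y)) = 0 := by
      rw [map_sub, map_sub, hfa, hfj, ← hy]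
      exact sub_eq_zero.2 (hρ1 j y)
    rw [IsLocalRing.residue_eq_zero_iff, ← hmax j] at h1
    have h2 : algebraMap R (S ⧸ Ideal.span ({1 - ε j} : Set S)) =
        (Ideal.Quotient.mk (Ideal.span ({1 - ε j} : Set S))).comp (algebraMap R S) := rfl
    rw [h2, ← Ideal.map_map, Ideal.mem_map_iff_of_surjective _ Ideal.Quotient.mk_surjective] at h1
    obtain ⟨z, hz, hzeq⟩ := h1
    rw [Ideal.Quotient.eq, Ideal.mem_span_singleton'] at hzeq
    obtain ⟨c, hc⟩ := hzeq
    have h3 : ε j * (f a - y) = ε j * z := by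
      have hid : ε j * ε j = ε j := (hε.idem j).eq
      have : ε j * (z - (f a - y)) = 0 := by
        rw [← hc]
        calc ε j * (c * (1 - ε j)) = c * (ε j - ε j * ε j) := by ring
          _ = 0 := by rw [hid, sub_self, mul_zero]
      rw [mul_sub, sub_eq_zero] at this
      exact this.symm
    rw [h3]
    exact Ideal.mul_mem_left _ _ hz
  have hsum : f a - y = ∑ j, ε j * (f a - y) := by
    rw [← Finset.sum_mul, hε.complete, one_mul]
  rw [hsum]
  exact Ideal.sum_mem _ (fun j _ => key j)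

end Groth.Agent.H11.HensEt
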