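import Mathlib
import Groth.Agent.H11.HensLift

open IsLocalRing

universe u

namespace Groth.Agent.H11.HC

/-- A pointed étale neighbourhood of `R` relative to a field `K` over `R`: a presented étale
`R`-algebra together with an `R`-algebra map to `K`. -/
structure Nbhd (R : Type u) [CommRing R] (K : Type u) [Field K] [Algebra R K] : Type u where
  n : ℕ
  I : Ideal (MvPolynomial (Fin n) R)
  etale : Algebra.Etale R (MvPolynomial (Fin n) R ⧸ I)
  φ : (MvPolynomial (Fin n) R ⧸ I) →ₐ[R] K

variable {R : Type u} [CommRing R] {K : Type u} [Field K] [Algebra R K]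

namespace Nbhd

variable (i j k : Nbhd R K)

/-- The underlying étale algebra. -/
abbrev A : Type u := MvPolynomial (Fin i.n) R ⧸ i.I

instance : Algebra.Etale R i.A := i.etale

/-- The prime: kernel of the point. -/
noncomputable def q : Ideal i.A := RingHom.ker i.φ

instance : i.q.IsPrime := RingHom.ker_isPrime i.φ

/-- The local ring of the neighbourhood. -/
abbrev L : Type u := Localization.AtPrime i.q

theorem isUnit_φ (y : i.q.primeCompl) : IsUnit (i.φ y) := by
  rw [isUnit_iff_ne_zero]
  intro h0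
  exact y.2 (RingHom.mem_ker.2 h0)

/-- The point of the local ring. -/
noncomputable def ψ : i.L →ₐ[R] K :=
  IsLocalization.liftAlgHom (M := i.q.primeCompl) (f := i.φ) i.isUnit_φ

theorem ψ_algebraMap (a : i.A) : i.ψ (algebraMap i.A i.L a) = i.φ a := by
  unfold ψ
  rw [IsLocalization.liftAlgHom_apply, IsLocalization.lift_eq]
  rfl

theorem ψ_eq_zero_iff (x : i.L) : i.ψ x = 0 ↔ x ∈ maximalIdeal i.L := by
  obtain ⟨a, s, rfl⟩ := IsLocalization.exists_mk'_eq i.q.primeCompl x
  have h1 : i.ψ (IsLocalization.mk' i.L a s) * i.φ s = i.φ a := by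
    rw [← ψ_algebraMap, ← ψ_algebraMap, ← map_mul, IsLocalization.mk'_spec]
  have hs : i.φ s ≠ 0 := (i.isUnit_φ s).ne_zero
  rw [IsLocalization.AtPrime.mk'_mem_maximal_iff i.L i.q a s]
  constructor
  · intro h
    rw [h, zero_mul] at h1
    exact RingHom.mem_ker.2 h1.symm
  · intro h
    have h2 : i.φ a = 0 := RingHom.mem_ker.1 h
    rw [h2] at h1
    exact (mul_eq_zero.1 h1).resolve_right hs

theorem ker_ψ : RingHom.ker i.ψ = maximalIdeal i.L := by
  ext x
  rw [RingHom.mem_ker, ψ_eq_zero_iff]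

theorem isUnit_iff_ψ_ne_zero (x : i.L) : IsUnit x ↔ i.ψ x ≠ 0 := by
  rw [Ne, ψ_eq_zero_iff, mem_maximalIdeal, mem_nonunits_iff, not_not]

end Nbhd

end Groth.Agent.H11.HC
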