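import Mathlib
import Groth.Agent.H11.HCNbhd

open IsLocalRing

universe u

namespace Groth.Agent.H11.HC

variable {R : Type u} [CommRing R] {K : Type u} [Field K] [Algebra R K]

namespace Nbhd

variable (i j k : Nbhd R K)

/-- Two algebra maps out of the local ring of a neighbourhood into a local ring, agreeing modulo
the maximal ideal, are equal. -/
theorem algHom_ext_of_residue {T : Type*} [CommRing T] [IsLocalRing T] [Algebra R T]
    (α β : i.L →ₐ[R] T) (h : ∀ x, α x - β x ∈ maximalIdeal T) : α = β := by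
  refine HensEt.algHom_eq_of_sub_mem_jacobson (R := R) (A := i.L) (S := T) α β ?_
  intro x
  rw [IsLocalRing.jacobson_eq_maximalIdeal ⊥ bot_ne_top]
  exact h x

/-- Morphisms of neighbourhoods: algebra maps of local rings compatible with the points. -/
def Hom : Type u := {α : i.L →ₐ[R] j.L // j.ψ.comp α = i.ψ}

instance : Subsingleton (Hom i j) := by
  constructor
  rintro ⟨α, hα⟩ ⟨β, hβ⟩
  apply Subtype.ext
  refine algHom_ext_of_residue (T := j.L) i α β ?_
  intro x
  rw [← ψ_eq_zero_iff, map_sub, sub_eq_zero]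
  have h1 := congrArg (fun g => g x) hα
  have h2 := congrArg (fun g => g x) hβ
  simp only [AlgHom.comp_apply] at h1 h2
  rw [h1, h2]

instance : Preorder (Nbhd R K) where
  le i j := Nonempty (Hom i j)
  le_refl i := ⟨⟨AlgHom.id R i.L, AlgHom.comp_id _⟩⟩
  le_trans i j k := by
    rintro ⟨α, hα⟩ ⟨β, hβ⟩
    exact ⟨⟨β.comp α, by rw [← AlgHom.comp_assoc, hβ, hα]⟩⟩

theorem le_def : i ≤ j ↔ Nonempty (Hom i j) := Iff.rfl

/-- The transition map. -/
noncomputable def trans (h : i ≤ j) : i.L →ₐ[R] j.L := (Classical.choice h).1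

theorem ψ_trans (h : i ≤ j) (x : i.L) : j.ψ (trans i j h x) = i.ψ x := by
  have := congrArg (fun g => g x) (Classical.choice h).2
  exact this

theorem trans_eq (h : i ≤ j) (α : i.L →ₐ[R] j.L) (hα : j.ψ.comp α = i.ψ) : trans i j h = α := by
  have : (Classical.choice h) = ⟨α, hα⟩ := Subsingleton.elim _ _
  unfold trans
  rw [this]

theorem trans_self (x : i.L) : trans i i le_rfl x = x := by
  rw [trans_eq i i le_rfl (AlgHom.id R i.L) (AlgHom.comp_id _)]
  rfl

theorem trans_trans (hij : i ≤ j) (hjk : j ≤ k) (x : i.L) :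
    trans j k hjk (trans i j hij x) = trans i k (hij.trans hjk) x := by
  have : trans i k (hij.trans hjk) = (trans j k hjk).comp (trans i j hij) := by
    apply trans_eq
    ext y
    simp only [AlgHom.comp_apply]
    rw [ψ_trans, ψ_trans]
  rw [this]
  rfl

theorem isLocalHom_trans (h : i ≤ j) : IsLocalHom (trans i j h) := by
  constructor
  intro x hx
  rw [isUnit_iff_ψ_ne_zero] at hx ⊢
  rwa [ψ_trans] at hx

/-- A compatible map of étale algebras induces an inequality of neighbourhoods, with the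
expected transition map. -/
theorem le_of_algHom (α : i.A →ₐ[R] j.A) (hα : j.φ.comp α = i.φ) :
    ∃ h : i ≤ j, ∀ a, trans i j h (algebraMap i.A i.L a) = algebraMap j.A j.L (α a) := by
  have hφ : ∀ a, j.φ (α a) = i.φ a := fun a => congrArg (fun g => g a) hα
  have hu : ∀ y : i.q.primeCompl,
      IsUnit (((IsScalarTower.toAlgHom R j.A j.L).comp α) y) := by
    intro y
    rw [AlgHom.comp_apply, IsScalarTower.coe_toAlgHom', isUnit_iff_ψ_ne_zero, ψ_algebraMap, hφ]
    exact (i.isUnit_φ y).ne_zero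
  obtain ⟨β, hβ⟩ : ∃ β : i.L →ₐ[R] j.L, β = IsLocalization.liftAlgHom (M := i.q.primeCompl)
    (f := (IsScalarTower.toAlgHom R j.A j.L).comp α) hu := ⟨_, rfl⟩
  have hβa : ∀ a, β (algebraMap i.A i.L a) = algebraMap j.A j.L (α a) := by
    intro a
    rw [hβ, IsLocalization.liftAlgHom_apply, IsLocalization.lift_eq]
    rfl
  have hcomp : j.ψ.comp β = i.ψ := by
    apply AlgHom.coe_ringHom_injective
    apply IsLocalization.ringHom_ext i.q.primeCompl
    refine RingHom.ext fun a => ?_
    simp only [RingHom.comp_apply, AlgHom.coe_toRingHom, AlgHom.comp_apply]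
    rw [hβa, ψ_algebraMap, ψ_algebraMap, hφ]
  have hle : i ≤ j := ⟨⟨β, hcomp⟩⟩
  refine ⟨hle, fun a => ?_⟩
  rw [trans_eq i j hle β hcomp, hβa]

end Nbhd

/-- Any étale algebra with a point is (isomorphic to) a neighbourhood. -/
theorem exists_nbhd (A : Type u) [CommRing A] [Algebra R A] [Algebra.Etale R A]
    (φ : A →ₐ[R] K) : ∃ (i : Nbhd R K) (e : A ≃ₐ[R] i.A), ∀ a, i.φ (e a) = φ a := by
  obtain ⟨n, f, hf, -⟩ := (Algebra.FinitePresentation.out : ∃ (n : ℕ)
    (f : MvPolynomial (Fin n) R →ₐ[R] A), Function.Surjective f ∧ (RingHom.ker f.toRingHom).FG)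
  obtain ⟨e, he⟩ : ∃ e : (MvPolynomial (Fin n) R ⧸ RingHom.ker f.toRingHom) ≃ₐ[R] A,
    e = Ideal.quotientKerAlgEquivOfSurjective hf := ⟨_, rfl⟩
  have : Algebra.Etale R (MvPolynomial (Fin n) R ⧸ RingHom.ker f.toRingHom) :=
    Algebra.Etale.of_equiv e.symm
  refine ⟨⟨n, RingHom.ker f.toRingHom, inferInstance, φ.comp e.toAlgHom⟩, e.symm, fun a => ?_⟩
  show φ (e (e.symm a)) = φ a
  rw [AlgEquiv.apply_symm_apply]

end Groth.Agent.H11.HC
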