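import Mathlib
import Groth.Agent.H11.HCOrder

open IsLocalRing TensorProduct

universe u

namespace Groth.Agent.H11.HC

variable {R : Type u} [CommRing R] {K : Type u} [Field K] [Algebra R K]

namespace Nbhd

instance : Nonempty (Nbhd R K) := by
  obtain ⟨i, -, -⟩ := exists_nbhd (R := R) (K := K) R (Algebra.ofId R K)
  exact ⟨i⟩

instance : IsDirectedOrder (Nbhd R K) := by
  constructor
  intro i j
  haveI : Algebra.Etale R (i.A ⊗[R] j.A) := Algebra.Etale.comp R i.A (i.A ⊗[R] j.A)
  obtain ⟨k, e, he⟩ := exists_nbhd (R := R) (K := K) (i.A ⊗[R] j.A)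
    (Algebra.TensorProduct.productMap i.φ j.φ)
  obtain ⟨h1, -⟩ := le_of_algHom i k (e.toAlgHom.comp Algebra.TensorProduct.includeLeft) (by
    ext a
    simp only [AlgHom.comp_apply]
    show k.φ (e (a ⊗ₜ 1)) = _
    rw [he, Algebra.TensorProduct.productMap_apply_tmul, map_one, mul_one])
  obtain ⟨h2, -⟩ := le_of_algHom j k (e.toAlgHom.comp Algebra.TensorProduct.includeRight) (by
    ext a
    simp only [AlgHom.comp_apply]
    show k.φ (e (1 ⊗ₜ a)) = _
    rw [he, Algebra.TensorProduct.productMap_apply_tmul, map_one, one_mul])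
  exact ⟨k, h1, h2⟩

/-- Transition maps as ring homomorphisms. -/
noncomputable def transR (i j : Nbhd R K) (h : i ≤ j) : i.L →+* j.L := (trans i j h).toRingHom

theorem transR_apply (i j : Nbhd R K) (h : i ≤ j) (x : i.L) : transR i j h x = trans i j h x := rfl

instance : DirectedSystem (fun i : Nbhd R K => i.L) (fun i j h => transR i j h) where
  map_self i x := trans_self i x
  map_map k j i hij hjk x := trans_trans i j k hij hjk x

end Nbhd

variable (R K)

/-- The direct limit of the local rings of all neighbourhoods. -/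
abbrev Lim : Type u :=
  Ring.DirectLimit (fun i : Nbhd R K => i.L) (fun i j h => Nbhd.transR i j h)

variable {R K}

/-- The structure maps. -/
noncomputable abbrev ofR (i : Nbhd R K) : i.L →+* Lim R K :=
  Ring.DirectLimit.of (fun i : Nbhd R K => i.L) (fun i j h => Nbhd.transR i j h) i

theorem ofR_trans (i j : Nbhd R K) (h : i ≤ j) (x : i.L) :
    ofR j (Nbhd.trans i j h x) = ofR i x :=
  Ring.DirectLimit.of_f (G := fun i : Nbhd R K => i.L) (f := fun i j h => Nbhd.transR i j h) h x

theorem ofR_algebraMap (i j : Nbhd R K) (r : R) :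
    ofR i (algebraMap R i.L r) = ofR j (algebraMap R j.L r) := by
  obtain ⟨k, h1, h2⟩ := exists_ge_ge i j
  rw [← ofR_trans i k h1, ← ofR_trans j k h2, AlgHom.commutes, AlgHom.commutes]

noncomputable instance : Algebra R (Lim R K) :=
  RingHom.toAlgebra ((ofR (Classical.arbitrary (Nbhd R K))).comp (algebraMap R _))

theorem algebraMap_lim (i : Nbhd R K) (r : R) :
    algebraMap R (Lim R K) r = ofR i (algebraMap R i.L r) :=
  ofR_algebraMap _ i r

/-- The structure maps as algebra maps. -/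
noncomputable def of (i : Nbhd R K) : i.L →ₐ[R] Lim R K :=
  { ofR i with commutes' := fun r => (algebraMap_lim i r).symm }

theorem of_trans (i j : Nbhd R K) (h : i ≤ j) (x : i.L) :
    of j (Nbhd.trans i j h x) = of i x := ofR_trans i j h x

theorem exists_of (z : Lim R K) : ∃ (i : Nbhd R K) (x : i.L), of i x = z :=
  Ring.DirectLimit.exists_of z

theorem ofR_eq_zero {i : Nbhd R K} {x : i.L} (h : Ring.DirectLimit.of (fun i : Nbhd R K => i.L)
      (fun i j h => Nbhd.transR i j h) i x = 0) :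
    ∃ (j : Nbhd R K) (hij : i ≤ j), Nbhd.transR i j hij x = 0 := by
  have key := @Ring.DirectLimit.of.zero_exact (Nbhd R K) _ (fun i : Nbhd R K => i.L) _
    (fun i j h => Nbhd.transR i j h) inferInstance inferInstance i x
  exact key h

theorem of_eq_zero {i : Nbhd R K} {x : i.L} (h : of i x = 0) :
    ∃ (j : Nbhd R K) (hij : i ≤ j), Nbhd.trans i j hij x = 0 :=
  ofR_eq_zero h

/-- Finitely many elements come from a common stage. -/
theorem exists_of_fin {l : ℕ} (x : Fin l → Lim R K) :
    ∃ (i : Nbhd R K) (a : Fin l → i.L), ∀ m, of i (a m) = x m := by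
  induction l with
  | zero => exact ⟨Classical.arbitrary _, fun m => m.elim0, fun m => m.elim0⟩
  | succ l ih =>
    obtain ⟨i, a, ha⟩ := ih (fun m => x m.succ)
    obtain ⟨j, b, hb⟩ := exists_of (x 0)
    obtain ⟨k, h1, h2⟩ := exists_ge_ge i j
    refine ⟨k, Fin.cons (Nbhd.trans j k h2 b) (fun m => Nbhd.trans i k h1 (a m)), fun m => ?_⟩
    refine Fin.cases ?_ (fun m => ?_) m
    · rw [Fin.cons_zero, of_trans, hb]
    · rw [Fin.cons_succ, of_trans, ha]

/-- Universal property of the direct limit, for ring maps. -/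
noncomputable def liftR {P : Type*} [CommRing P] [Algebra R P] (g : ∀ i : Nbhd R K, i.L →ₐ[R] P)
    (Hg : ∀ i j h x, g j (Nbhd.trans i j h x) = g i x) : Lim R K →+* P :=
  Ring.DirectLimit.lift (fun i : Nbhd R K => i.L) (fun i j h => Nbhd.transR i j h) P
      (fun i => (g i).toRingHom) Hg

theorem liftR_ofR {P : Type*} [CommRing P] [Algebra R P] (g : ∀ i : Nbhd R K, i.L →ₐ[R] P)
    (Hg : ∀ i j h x, g j (Nbhd.trans i j h x) = g i x) (i : Nbhd R K) (x : i.L) :
    liftR g Hg (ofR i x) = g i x := by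
  have key := @Ring.DirectLimit.lift_of (Nbhd R K) _ (fun i : Nbhd R K => i.L) _
    (fun i j h => Nbhd.transR i j h) P _ (fun i => (g i).toRingHom) Hg i x
  exact key

/-- Universal property of the direct limit, for algebra maps. -/
noncomputable def lift {P : Type*} [CommRing P] [Algebra R P] (g : ∀ i : Nbhd R K, i.L →ₐ[R] P)
    (Hg : ∀ i j h x, g j (Nbhd.trans i j h x) = g i x) : Lim R K →ₐ[R] P :=
  { liftR g Hg with
    commutes' := fun r => by
      rw [algebraMap_lim (Classical.arbitrary (Nbhd R K)) r]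
      exact (liftR_ofR g Hg _ _).trans ((g _).commutes r) }

theorem lift_of {P : Type*} [CommRing P] [Algebra R P] (g : ∀ i : Nbhd R K, i.L →ₐ[R] P)
    (Hg : ∀ i j h x, g j (Nbhd.trans i j h x) = g i x) (i : Nbhd R K) (x : i.L) :
    lift g Hg (of i x) = g i x :=
  liftR_ofR g Hg i x

theorem algHom_ext {P : Type*} [CommRing P] [Algebra R P] (g₁ g₂ : Lim R K →ₐ[R] P)
    (h : ∀ (i : Nbhd R K) (x : i.L), g₁ (of i x) = g₂ (of i x)) : g₁ = g₂ := by
  ext z
  obtain ⟨i, x, rfl⟩ := exists_of z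
  exact h i x

/-- The point of the limit. -/
noncomputable def ψL : Lim R K →ₐ[R] K :=
  lift (fun i => i.ψ) (fun i j h x => Nbhd.ψ_trans i j h x)

theorem ψL_of (i : Nbhd R K) (x : i.L) : ψL (of i x) = i.ψ x := lift_of _ _ i x

theorem isUnit_iff_ψL_ne_zero (z : Lim R K) : IsUnit z ↔ ψL z ≠ 0 := by
  constructor
  · intro h
    exact (h.map ψL).ne_zero
  · intro h
    obtain ⟨i, x, rfl⟩ := exists_of z
    rw [ψL_of] at h
    exact ((Nbhd.isUnit_iff_ψ_ne_zero i x).2 h).map (of i)

instance : Nontrivial (Lim R K) := RingHom.domain_nontrivial (ψL (R := R) (K := K)).toRingHom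

instance : IsLocalRing (Lim R K) := by
  apply IsLocalRing.of_nonunits_add
  intro a b ha hb
  rw [mem_nonunits_iff, isUnit_iff_ψL_ne_zero, not_not] at ha hb ⊢
  rw [map_add, ha, hb, add_zero]

theorem ψL_eq_zero_iff (z : Lim R K) : ψL z = 0 ↔ z ∈ maximalIdeal (Lim R K) := by
  rw [mem_maximalIdeal, mem_nonunits_iff, isUnit_iff_ψL_ne_zero, not_not]

theorem isLocalHom_of (i : Nbhd R K) : IsLocalHom (of i) := by
  constructor
  intro x hx
  rw [isUnit_iff_ψL_ne_zero, ψL_of] at hx
  exact (Nbhd.isUnit_iff_ψ_ne_zero i x).2 hx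

theorem of_mem_maximalIdeal_iff (i : Nbhd R K) (x : i.L) :
    of i x ∈ maximalIdeal (Lim R K) ↔ x ∈ maximalIdeal i.L := by
  rw [← ψL_eq_zero_iff, ψL_of, Nbhd.ψ_eq_zero_iff]

end Groth.Agent.H11.HC
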