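import Mathlib
import Groth.Agent.H11.HCLim

open IsLocalRing TensorProduct

universe u

namespace Groth.Agent.H11.HC

variable {R : Type u} [CommRing R] {K : Type u} [Field K] [Algebra R K]

section General

/-- Enlarging a neighbourhood by an étale algebra over it with a compatible point. -/
theorem exists_ge_of_etale (i : Nbhd R K) (B : Type u) [CommRing B] [Algebra i.A B]
    [Algebra.Etale i.A B] (θ : B →+* K) (hθ : ∀ a, θ (algebraMap i.A B a) = i.φ a) :
    ∃ (k : Nbhd R K) (h : i ≤ k) (γ : B →+* k.L),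
      (∀ a, γ (algebraMap i.A B a) = Nbhd.trans i k h (algebraMap i.A i.L a)) ∧
      ∀ b, k.ψ (γ b) = θ b := by
  letI : Algebra R B := ((algebraMap i.A B).comp (algebraMap R i.A)).toAlgebra
  haveI : IsScalarTower R i.A B := by
    have h := IsScalarTower.of_algebraMap_eq (R := R) (S := i.A) (A := B) (fun _ => rfl)
    exact h
  haveI : Algebra.Etale R B := Algebra.Etale.comp R i.A B
  obtain ⟨θ', hθ'⟩ : ∃ θ' : B →ₐ[R] K, ∀ b, θ' b = θ b := by
    refine ⟨{ θ with commutes' := fun r => ?_ }, fun b => rfl⟩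
    show θ (algebraMap i.A B (algebraMap R i.A r)) = _
    rw [hθ, AlgHom.commutes]
  obtain ⟨k, e, he⟩ := exists_nbhd (R := R) (K := K) B θ'
  obtain ⟨h, hh⟩ := Nbhd.le_of_algHom i k (e.toAlgHom.comp (IsScalarTower.toAlgHom R i.A B)) (by
    ext a
    simp only [AlgHom.comp_apply]
    show k.φ (e (algebraMap i.A B a)) = _
    rw [he, hθ', hθ])
  refine ⟨k, h, (algebraMap k.A k.L).comp e.toAlgHom.toRingHom, fun a => ?_, fun b => ?_⟩
  · rw [hh]
    rfl
  · show k.ψ (algebraMap k.A k.L (e b)) = _
    rw [Nbhd.ψ_algebraMap, he, hθ']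

/-- The limit is flat. -/
theorem flat_lim : Module.Flat R (Lim R K) := by
  apply Module.Flat.of_forall_isTrivialRelation
  intro l f x hfx
  obtain ⟨i, a, ha⟩ := exists_of_fin x
  have h0 : of i (∑ m, f m • a m) = 0 := by
    rw [map_sum]
    simp_rw [map_smul, ha]
    exact hfx
  obtain ⟨j, hij, hj⟩ := of_eq_zero h0
  rw [map_sum] at hj
  simp_rw [map_smul] at hj
  obtain ⟨k, c, y, hxy, hc⟩ :=
    Module.Flat.isTrivialRelation_of_sum_smul_eq_zero (R := R) (M := j.L) hj
  refine ⟨k, c, fun n => of j (y n), fun m => ?_, hc⟩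
  have hm : Nbhd.trans i j hij (a m) = ∑ n, c m n • y n := hxy m
  rw [← ha m, ← of_trans i j hij, hm, map_sum]
  simp_rw [map_smul]

end General

section Local

variable [IsLocalRing R] [IsLocalHom (algebraMap R K)]

theorem isLocalHom_algebraMap_L (i : Nbhd R K) : IsLocalHom (algebraMap R i.L) := by
  constructor
  intro r hr
  rw [Nbhd.isUnit_iff_ψ_ne_zero, AlgHom.commutes] at hr
  exact isUnit_of_map_unit (algebraMap R K) r (isUnit_iff_ne_zero.2 hr)

theorem map_maximalIdeal_L (i : Nbhd R K) :
    (maximalIdeal R).map (algebraMap R i.L) = maximalIdeal i.L := by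
  haveI := isLocalHom_algebraMap_L i
  exact Algebra.FormallyUnramified.map_maximalIdeal (R := R) (S := i.L)

theorem isLocalHom_algebraMap_lim : IsLocalHom (algebraMap R (Lim R K)) := by
  constructor
  intro r hr
  rw [isUnit_iff_ψL_ne_zero, AlgHom.commutes] at hr
  exact isUnit_of_map_unit (algebraMap R K) r (isUnit_iff_ne_zero.2 hr)

theorem map_maximalIdeal_lim :
    (maximalIdeal R).map (algebraMap R (Lim R K)) = maximalIdeal (Lim R K) := by
  apply le_antisymm
  · rw [Ideal.map_le_iff_le_comap]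
    intro r hr
    rw [Ideal.mem_comap, ← ψL_eq_zero_iff, AlgHom.commutes]
    by_contra h
    exact hr (isUnit_of_map_unit (algebraMap R K) r (isUnit_iff_ne_zero.2 h))
  · intro z hz
    obtain ⟨i, x, rfl⟩ := exists_of z
    rw [of_mem_maximalIdeal_iff, ← map_maximalIdeal_L] at hz
    have := Ideal.mem_map_of_mem (of i).toRingHom hz
    rw [Ideal.map_map] at this
    have hcomp : (of i).toRingHom.comp (algebraMap R i.L) = algebraMap R (Lim R K) := by
      ext r
      exact (of i).commutes r
    rw [hcomp] at this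
    exact this

end Local

end Groth.Agent.H11.HC
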