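import Mathlib
import Groth.Agent.H11.HCProps
import Groth.Agent.H11.FibreField

open IsLocalRing TensorProduct

universe u

namespace Groth.Agent.H11.HC

variable {R : Type u} [CommRing R] {K : Type u} [Field K] [Algebra R K]

/-- Enlarging a neighbourhood by an étale algebra over it with a compatible point, with a map
into the new étale algebra. -/
theorem exists_ge_of_etale' (i : Nbhd R K) (B : Type u) [CommRing B] [Algebra i.A B]
    [Algebra.Etale i.A B] (θ : B →+* K) (hθ : ∀ a, θ (algebraMap i.A B a) = i.φ a) :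
    ∃ (k : Nbhd R K) (h : i ≤ k) (γ : B →+* k.A),
      (∀ a, algebraMap k.A k.L (γ (algebraMap i.A B a)) =
        Nbhd.trans i k h (algebraMap i.A i.L a)) ∧
      ∀ b, k.φ (γ b) = θ b := by
  letI : Algebra R B := ((algebraMap i.A B).comp (algebraMap R i.A)).toAlgebra
  haveI : IsScalarTower R i.A B := by
    have h := IsScalarTower.of_algebraMap_eq (R := R) (S := i.A) (A := B) (fun _ => rfl)
    exact h
  haveI : Algebra.Etale R B := Algebra.Etale.comp R i.A B
  obtain ⟨θ', hθ'⟩ : ∃ θ' : B →ₐ[R] K, ∀ b, θ' b = θ b := by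
    refine ⟨{ θ with commutes' := fun r => ?_ }, fun b => rfl⟩
    show θ (algebraMap i.A B (algebraMap R i.A r)) = _
    rw [hθ, AlgHom.commutes]
  obtain ⟨k, e, he⟩ := exists_nbhd (R := R) (K := K) B θ'
  obtain ⟨h, hh⟩ := Nbhd.le_of_algHom i k (e.toAlgHom.comp (IsScalarTower.toAlgHom R i.A B)) (by
    ext a
    simp only [AlgHom.comp_apply]
    show k.φ (e (algebraMap i.A B a)) = _
    rw [he, hθ', hθ])
  refine ⟨k, h, e.toAlgHom.toRingHom, fun a => ?_, fun b => ?_⟩
  · rw [hh]
    rfl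
  · show k.φ (e b) = _
    rw [he, hθ']

/-- Every element of the limit comes from the étale algebra of some neighbourhood. -/
theorem exists_of_A (z : Lim R K) :
    ∃ (j : Nbhd R K) (b : j.A), of j (algebraMap j.A j.L b) = z := by
  obtain ⟨i, a, rfl⟩ := exists_of z
  obtain ⟨a₀, ⟨t, ht⟩, rfl⟩ := IsLocalization.exists_mk'_eq i.q.primeCompl a
  have hu : IsUnit (i.φ t) := i.isUnit_φ ⟨t, ht⟩
  obtain ⟨θ, hθ⟩ : ∃ θ : Localization.Away t →+* K,
      ∀ a, θ (algebraMap i.A (Localization.Away t) a) = i.φ a :=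
    ⟨IsLocalization.Away.lift t hu, fun a => IsLocalization.Away.lift_eq t hu a⟩
  obtain ⟨k, h, γ, hγ, -⟩ := exists_ge_of_etale' i (Localization.Away t) θ hθ
  refine ⟨k, γ (IsLocalization.mk' (Localization.Away t) a₀
    (⟨t, Submonoid.mem_powers t⟩ : Submonoid.powers t)), ?_⟩
  rw [← of_trans i k h]
  congr 1
  have hunit : IsUnit (Nbhd.trans i k h (algebraMap i.A i.L t)) :=
    (IsLocalization.map_units i.L (⟨t, ht⟩ : i.q.primeCompl)).map (Nbhd.trans i k h)
  apply hunit.mul_left_cancel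
  have e1 : Nbhd.trans i k h (algebraMap i.A i.L t) *
      Nbhd.trans i k h (IsLocalization.mk' i.L a₀ (⟨t, ht⟩ : i.q.primeCompl)) =
      Nbhd.trans i k h (algebraMap i.A i.L a₀) := by
    rw [← map_mul, mul_comm, IsLocalization.mk'_spec]
  have e2 : Nbhd.trans i k h (algebraMap i.A i.L t) *
      algebraMap k.A k.L (γ (IsLocalization.mk' (Localization.Away t) a₀
        (⟨t, Submonoid.mem_powers t⟩ : Submonoid.powers t))) =
      Nbhd.trans i k h (algebraMap i.A i.L a₀) := by
    rw [← hγ, ← hγ, ← map_mul, ← map_mul, mul_comm, IsLocalization.mk'_spec]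
  rw [e1, e2]

/-- Fibre rings of the limit are ind-étale over the field. -/
theorem isIndEtaleOverField_tensor (κ : Type u) [Field κ] [Algebra R κ] :
    FibF.IsIndEtaleOverField κ (κ ⊗[R] Lim R K) := by
  intro z
  induction z using TensorProduct.induction_on with
  | zero =>
    exact ⟨κ, inferInstance, inferInstance, inferInstance, Algebra.ofId κ _, 0, map_zero _⟩
  | tmul c s =>
    obtain ⟨j, b, rfl⟩ := exists_of_A s
    refine ⟨κ ⊗[R] j.A, inferInstance, inferInstance, inferInstance,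
      Algebra.TensorProduct.map (AlgHom.id κ κ)
        ((of j).comp (IsScalarTower.toAlgHom R j.A j.L)), c ⊗ₜ b, ?_⟩
    rw [Algebra.TensorProduct.map_tmul]
    rfl
  | add z₁ z₂ h₁ h₂ =>
    obtain ⟨E₁, _, _, _, φ₁, w₁, rfl⟩ := h₁
    obtain ⟨E₂, _, _, _, φ₂, w₂, rfl⟩ := h₂
    haveI : Algebra.Etale κ (E₁ ⊗[κ] E₂) := Algebra.Etale.comp κ E₁ (E₁ ⊗[κ] E₂)
    refine ⟨E₁ ⊗[κ] E₂, inferInstance, inferInstance, inferInstance,
      Algebra.TensorProduct.productMap φ₁ φ₂, w₁ ⊗ₜ 1 + 1 ⊗ₜ w₂, ?_⟩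
    rw [map_add, Algebra.TensorProduct.productMap_apply_tmul,
      Algebra.TensorProduct.productMap_apply_tmul, map_one, map_one, mul_one, one_mul]

/-- Fibres of an `R`-algebra isomorphic to the limit are finite products of separable field
extensions, when the algebra is Noetherian. -/
theorem exists_fibre_algEquiv_pi (S : Type u) [CommRing S] [Algebra R S] [IsNoetherianRing S]
    (e : S ≃ₐ[R] Lim R K) (p : Ideal R) [p.IsPrime] :
    ∃ (n : ℕ) (L : Fin n → Type u) (_ : ∀ i, Field (L i))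
      (_ : ∀ i, Algebra p.ResidueField (L i)),
      (∀ i, Algebra.IsSeparable p.ResidueField (L i)) ∧
      Nonempty ((p.ResidueField ⊗[R] S) ≃ₐ[p.ResidueField] (Π i, L i)) := by
  haveI : IsNoetherianRing (S ⊗[R] p.ResidueField) :=
    Algebra.EssFiniteType.isNoetherianRing S (S ⊗[R] p.ResidueField)
  haveI : IsNoetherianRing (p.ResidueField ⊗[R] S) :=
    isNoetherianRing_of_ringEquiv (S ⊗[R] p.ResidueField)
      (Algebra.TensorProduct.comm R S p.ResidueField).toRingEquiv
  have h : FibF.IsIndEtaleOverField p.ResidueField (p.ResidueField ⊗[R] S) :=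
    FibF.IsIndEtaleOverField.of_algEquiv
      (Algebra.TensorProduct.congr (AlgEquiv.refl (R := p.ResidueField) (A₁ := p.ResidueField))
        e.symm)
      (isIndEtaleOverField_tensor p.ResidueField)
  exact FibF.exists_algEquiv_pi h

end Groth.Agent.H11.HC
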