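import Mathlib
import Groth.Agent.H11.HCProps

open IsLocalRing TensorProduct

universe u

namespace Groth.Agent.H11.HC

theorem flat_of_comp_localization {A A' B : Type*} [CommRing A] [CommRing A'] [CommRing B]
    [Algebra A A'] (M : Submonoid A) [IsLocalization M A'] (g : A' →+* B)
    (h : (g.comp (algebraMap A A')).Flat) : g.Flat := by
  algebraize [g, g.comp (algebraMap A A')]
  haveI : IsScalarTower A A' B := .of_algebraMap_eq fun x => rfl
  rw [RingHom.Flat, Module.flat_iff_of_isLocalization (S := A') (p := M)]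
  exact h

theorem flat_aux {A C B L' L : Type*} [CommRing A] [CommRing C] [CommRing B] [CommRing L']
    [CommRing L] [Algebra A C] [Module.Flat A C] (e : C ≃+* B) [Algebra B L'] [Module.Flat B L']
    [Algebra A L] (M : Submonoid A) [IsLocalization M L] (g : L →+* L')
    (hg : ∀ a, g (algebraMap A L a) = algebraMap B L' (e (algebraMap A C a))) : g.Flat := by
  apply flat_of_comp_localization M
  have e1 : g.comp (algebraMap A L) =
      ((algebraMap B L').comp (e : C →+* B)).comp (algebraMap A C) := by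
    ext a
    simp only [RingHom.comp_apply]
    rw [hg]
    rfl
  rw [e1]
  refine RingHom.Flat.comp ?_ (RingHom.Flat.comp ?_ ?_)
  · rw [RingHom.flat_algebraMap_iff]
    infer_instance
  · exact RingHom.Flat.of_bijective e.bijective
  · rw [RingHom.flat_algebraMap_iff]
    infer_instance

variable {R : Type u} [CommRing R] {K : Type u} [Field K] [Algebra R K]

namespace Nbhd

variable (i j k : Nbhd R K)

/-- A compatible map from the étale algebra of `i` to the local ring of `j` induces `i ≤ j`. -/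
theorem le_of_algHom' (α : i.A →ₐ[R] j.L) (hα : j.ψ.comp α = i.φ) :
    ∃ h : i ≤ j, ∀ a, trans i j h (algebraMap i.A i.L a) = α a := by
  have hφ : ∀ a, j.ψ (α a) = i.φ a := fun a => congrArg (fun g => g a) hα
  have hu : ∀ y : i.q.primeCompl, IsUnit (α y) := by
    intro y
    rw [isUnit_iff_ψ_ne_zero, hφ]
    exact (i.isUnit_φ y).ne_zero
  obtain ⟨β, hβ⟩ : ∃ β : i.L →ₐ[R] j.L, β = IsLocalization.liftAlgHom (M := i.q.primeCompl)
    (f := α) hu := ⟨_, rfl⟩
  have hβa : ∀ a, β (algebraMap i.A i.L a) = α a := by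
    intro a
    rw [hβ, IsLocalization.liftAlgHom_apply, IsLocalization.lift_eq]
    rfl
  have hcomp : j.ψ.comp β = i.ψ := by
    apply AlgHom.coe_ringHom_injective
    apply IsLocalization.ringHom_ext i.q.primeCompl
    refine RingHom.ext fun a => ?_
    simp only [RingHom.comp_apply, AlgHom.coe_toRingHom, AlgHom.comp_apply]
    rw [hβa, ψ_algebraMap, hφ]
  have hle : i ≤ j := ⟨⟨β, hcomp⟩⟩
  refine ⟨hle, fun a => ?_⟩
  rw [trans_eq i j hle β hcomp, hβa]

theorem transR_bijective_of_le_le (h1 : i ≤ j) (h2 : j ≤ i) :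
    Function.Bijective (transR i j h1) := by
  refine Function.bijective_iff_has_inverse.2 ⟨transR j i h2, fun x => ?_, fun x => ?_⟩
  · rw [transR_apply, transR_apply, trans_trans, trans_self]
  · rw [transR_apply, transR_apply, trans_trans, trans_self]

/-- Transition maps are flat. -/
theorem flat_transR (h : i ≤ j) : RingHom.Flat (R := i.L) (S := j.L) (transR i j h) := by
  haveI : Algebra.Etale R (i.A ⊗[R] j.A) := Algebra.Etale.comp R i.A (i.A ⊗[R] j.A)
  obtain ⟨k, e, he⟩ := exists_nbhd (R := R) (K := K) (i.A ⊗[R] j.A)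
    (Algebra.TensorProduct.productMap i.φ j.φ)
  obtain ⟨h1, hh1⟩ := le_of_algHom i k (e.toAlgHom.comp Algebra.TensorProduct.includeLeft) (by
    ext a
    simp only [AlgHom.comp_apply]
    show k.φ (e (a ⊗ₜ 1)) = _
    rw [he, Algebra.TensorProduct.productMap_apply_tmul, map_one, mul_one])
  obtain ⟨h2, -⟩ := le_of_algHom j k (e.toAlgHom.comp Algebra.TensorProduct.includeRight) (by
    ext a
    simp only [AlgHom.comp_apply]
    show k.φ (e (1 ⊗ₜ a)) = _
    rw [he, Algebra.TensorProduct.productMap_apply_tmul, map_one, one_mul])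
  obtain ⟨β', hβ'⟩ : ∃ β' : (i.A ⊗[R] j.A) →ₐ[R] j.L, β' = Algebra.TensorProduct.productMap
      ((trans i j h).comp (IsScalarTower.toAlgHom R i.A i.L))
      (IsScalarTower.toAlgHom R j.A j.L) := ⟨_, rfl⟩
  have key : j.ψ.comp β' = Algebra.TensorProduct.productMap i.φ j.φ := by
    rw [hβ']
    apply Algebra.TensorProduct.ext'
    intro a b
    simp only [AlgHom.comp_apply, Algebra.TensorProduct.productMap_apply_tmul, map_mul,
      IsScalarTower.coe_toAlgHom']
    rw [ψ_trans, ψ_algebraMap, ψ_algebraMap]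
  obtain ⟨h3, -⟩ := le_of_algHom' k j (β'.comp e.symm.toAlgHom) (by
    ext c
    have h4 := congrArg (fun g => g (e.symm c)) key
    simp only [AlgHom.comp_apply] at h4
    have h5 := he (e.symm c)
    rw [AlgEquiv.apply_symm_apply] at h5
    show j.ψ (β' (e.symm c)) = k.φ c
    rw [h5]
    exact h4)
  -- flatness of `i.L → k.L`
  have hflat1 : RingHom.Flat (R := i.L) (S := k.L) (transR i k h1) := by
    haveI : Module.Flat k.A k.L := IsLocalization.flat k.L k.q.primeCompl
    refine flat_aux (A := i.A) (C := i.A ⊗[R] j.A) (B := k.A) (L' := k.L) (L := i.L)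
      e.toRingEquiv i.q.primeCompl (transR i k h1) (fun a => ?_)
    rw [transR_apply, hh1]
    rfl
  have e2 : transR i j h = (transR k j h3).comp (transR i k h1) := by
    ext x
    simp only [RingHom.comp_apply]
    rw [transR_apply, transR_apply, transR_apply, trans_trans]
  rw [e2]
  exact RingHom.Flat.comp hflat1
    (RingHom.Flat.of_bijective (transR_bijective_of_le_le k j h3 h2))

end Nbhd

/-- The limit is flat over every stage. -/
theorem flat_ofR (i₀ : Nbhd R K) : RingHom.Flat (R := i₀.L) (S := Lim R K) (ofR i₀) := by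
  algebraize [ofR i₀]
  unfold RingHom.Flat
  have hsm : ∀ (b : i₀.L) (z : Lim R K), b • z = ofR i₀ b * z := fun b z => Algebra.smul_def b z
  apply Module.Flat.of_forall_isTrivialRelation
  intro l f x hfx
  obtain ⟨i₁, a₁, ha₁⟩ := exists_of_fin x
  obtain ⟨i, h0, h1⟩ := exists_ge_ge i₀ i₁
  obtain ⟨a, ha⟩ : ∃ a : Fin l → i.L, ∀ m, of i (a m) = x m :=
    ⟨fun m => Nbhd.trans i₁ i h1 (a₁ m), fun m => by rw [of_trans, ha₁]⟩
  have h00 : of i (∑ m, Nbhd.trans i₀ i h0 (f m) * a m) = 0 := by
    rw [map_sum, ← hfx]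
    refine Finset.sum_congr rfl fun m _ => ?_
    rw [map_mul, of_trans, ha, hsm]
    rfl
  obtain ⟨j, hij, hj⟩ := of_eq_zero h00
  rw [map_sum] at hj
  have h0j : i₀ ≤ j := h0.trans hij
  have hflat := Nbhd.flat_transR i₀ j h0j
  letI : Algebra i₀.L j.L := (Nbhd.transR i₀ j h0j).toAlgebra
  have hflat' : Module.Flat i₀.L j.L := hflat
  have hsm' : ∀ (b : i₀.L) (z : j.L), b • z = Nbhd.trans i₀ j h0j b * z :=
    fun b z => Algebra.smul_def b z
  have hj' : ∑ m, f m • Nbhd.trans i j hij (a m) = 0 := by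
    rw [← hj]
    refine Finset.sum_congr rfl fun m _ => ?_
    rw [hsm', map_mul, Nbhd.trans_trans]
  obtain ⟨k, c, y, hxy, hc⟩ :=
    Module.Flat.isTrivialRelation_of_sum_smul_eq_zero (R := i₀.L) (M := j.L) hj'
  refine ⟨k, c, fun n => of j (y n), fun m => ?_, hc⟩
  have hm : Nbhd.trans i j hij (a m) = ∑ n, c m n • y n := hxy m
  rw [← ha m, ← of_trans i j hij, hm, map_sum]
  refine Finset.sum_congr rfl fun n _ => ?_
  rw [hsm, hsm', map_mul, of_trans]
  rfl

end Groth.Agent.H11.HC
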