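import Mathlib

open Polynomial

namespace Groth.Agent.H11.HC

/-- Clearing denominators of a monic polynomial over a localization, keeping it monic
(after rescaling the variable). -/
theorem exists_monic_clear_denoms {A : Type*} [CommRing A] (M : Submonoid A) (L : Type*)
    [CommRing L] [Algebra A L] [IsLocalization M L] (p : L[X]) (hp : p.Monic) :
    ∃ (s : M) (P : A[X]), P.Monic ∧
      (P.map (algebraMap A L)).comp (C (algebraMap A L s) * X) =
        C (algebraMap A L s ^ p.natDegree) * p := by
  classical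
  obtain ⟨n, hn⟩ : ∃ n, n = p.natDegree := ⟨_, rfl⟩
  obtain ⟨s, hs⟩ := IsLocalization.exist_integer_multiples M (Finset.range n) (fun m => p.coeff m)
  choose! a ha using hs
  have ha' : ∀ m ∈ Finset.range n, algebraMap A L (a m) = algebraMap A L s * p.coeff m := by
    intro m hm
    rw [ha m hm]
    exact Algebra.smul_def _ _
  obtain ⟨Q, hQ⟩ : ∃ Q : A[X], Q = ∑ m ∈ Finset.range n, C (a m * (s : A) ^ (n - 1 - m)) * X ^ m :=
    ⟨_, rfl⟩
  have hQdeg : Q.degree < n := by
    rw [hQ]
    refine (Polynomial.degree_sum_le _ _).trans_lt ?_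
    refine (Finset.sup_lt_iff (WithBot.bot_lt_coe n)).2 ?_
    intro m hm
    refine (Polynomial.degree_C_mul_X_pow_le _ _).trans_lt ?_
    exact WithBot.coe_lt_coe.2 (Finset.mem_range.1 hm)
  refine ⟨s, X ^ n + Q, Polynomial.monic_X_pow_add hQdeg, ?_⟩
  rw [← hn]
  conv_rhs => rw [hp.as_sum, ← hn]
  rw [Polynomial.map_add, Polynomial.map_pow, Polynomial.map_X, add_comp, pow_comp, X_comp,
    mul_pow, ← C_pow, mul_add, hQ, Polynomial.map_sum, Polynomial.sum_comp, Finset.mul_sum]
  congr 1
  refine Finset.sum_congr rfl fun m hm => ?_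
  have hm' : m < n := Finset.mem_range.1 hm
  have e1 : algebraMap A L (a m * (s : A) ^ (n - 1 - m)) * (algebraMap A L s) ^ m =
      (algebraMap A L s) ^ n * p.coeff m := by
    rw [map_mul, map_pow, ha' m hm]
    have : n = 1 + (n - 1 - m) + m := by omega
    conv_rhs => rw [this]
    ring
  rw [Polynomial.map_mul, Polynomial.map_C, Polynomial.map_pow, Polynomial.map_X, mul_comp,
    C_comp, pow_comp, X_comp, mul_pow, ← mul_assoc, ← mul_assoc, ← C_pow, ← C_mul, ← C_mul, e1]

end Groth.Agent.H11.HC
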