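import Mathlib
import Groth.Agent.H11.HCProps
import Groth.Agent.H11.HCClear

open IsLocalRing TensorProduct Polynomial

universe u

namespace Groth.Agent.H11.HC

variable {R : Type u} [CommRing R] {K : Type u} [Field K] [Algebra R K]

theorem ofR_comp_transR (i j : Nbhd R K) (h : i ≤ j) :
    (ofR j).comp (Nbhd.transR i j h) = ofR i :=
  RingHom.ext fun x => ofR_trans i j h x

theorem exists_stage_poly (f : (Lim R K)[X]) :
    ∃ (i : Nbhd R K) (p : i.L[X]), p.map (ofR i) = f := by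
  have key := @Ring.DirectLimit.Polynomial.exists_of (Nbhd R K) _ (fun i : Nbhd R K => i.L) _
    (fun i j h => Nbhd.transR i j h) inferInstance inferInstance
  obtain ⟨i, p, hp⟩ := key f
  exact ⟨i, p, hp⟩

theorem exists_stage_monic (f : (Lim R K)[X]) (hf : f.Monic) (a₀ : Lim R K) :
    ∃ (i : Nbhd R K) (p : i.L[X]) (b₀ : i.L), p.Monic ∧ p.map (ofR i) = f ∧ ofR i b₀ = a₀ := by
  obtain ⟨i₁, p₀, hp₀⟩ := exists_stage_poly f
  have hl : f ∈ Polynomial.lifts (ofR i₁) := (Polynomial.mem_lifts _).2 ⟨p₀, hp₀⟩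
  obtain ⟨q, hq, -, hqm⟩ := Polynomial.lifts_and_natDegree_eq_and_monic hl hf
  obtain ⟨i₂, b, hb⟩ := exists_of a₀
  obtain ⟨k, h1, h2⟩ := exists_ge_ge i₁ i₂
  refine ⟨k, q.map (Nbhd.transR i₁ k h1), Nbhd.trans i₂ k h2 b, hqm.map _, ?_, ?_⟩
  · rw [Polynomial.map_map, ofR_comp_transR, hq]
  · exact (ofR_trans i₂ k h2 b).trans hb


/-- The limit is henselian. -/
theorem henselian_lim : HenselianLocalRing (Lim R K) := by
  refine { is_henselian := ?_ }
  intro f hf a₀ h₁ h₂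
  obtain ⟨i, p, b₀, hp, hpf, hb₀⟩ := exists_stage_monic f hf a₀
  have e1 : ofR i (p.eval b₀) = f.eval a₀ := by
    rw [← hpf, ← hb₀, Polynomial.eval_map_apply]
  have e2 : ofR i (p.derivative.eval b₀) = f.derivative.eval a₀ := by
    rw [← hpf, ← hb₀, Polynomial.derivative_map, Polynomial.eval_map_apply]
  have hb1 : i.ψ (p.eval b₀) = 0 := by
    rw [Nbhd.ψ_eq_zero_iff, ← of_mem_maximalIdeal_iff]
    show ofR i _ ∈ _
    rw [e1]
    exact h₁
  have hb2 : IsUnit (p.derivative.eval b₀) := by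
    haveI := isLocalHom_of i
    apply isUnit_of_map_unit (of i)
    show IsUnit (ofR i _)
    rw [e2]
    exact h₂
  obtain ⟨s, P, hPm, hP⟩ := exists_monic_clear_denoms i.q.primeCompl i.L p hp
  obtain ⟨s', hs'⟩ : ∃ s' : i.L, s' = algebraMap i.A i.L s := ⟨_, rfl⟩
  have hs'u : IsUnit s' := hs' ▸ IsLocalization.map_units i.L s
  obtain ⟨u, hu⟩ := hs'u.exists_right_inv
  rw [← hs'] at hP
  have ev1 : (P.map (algebraMap i.A i.L)).eval (s' * b₀) = s' ^ p.natDegree * p.eval b₀ := by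
    have := congrArg (Polynomial.eval b₀) hP
    rwa [eval_comp, eval_mul, eval_C, eval_X, eval_mul, eval_C] at this
  have ev2 : s' * (P.derivative.map (algebraMap i.A i.L)).eval (s' * b₀) =
      s' ^ p.natDegree * p.derivative.eval b₀ := by
    have := congrArg (fun g => Polynomial.eval b₀ (derivative g)) hP
    beta_reduce at this
    rw [derivative_comp, derivative_mul, derivative_C, zero_mul, zero_add, derivative_X, mul_one,
      eval_mul, eval_C, eval_comp, eval_mul, eval_C, eval_X, derivative_mul, derivative_C,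
      zero_mul, zero_add, eval_mul, eval_C, Polynomial.derivative_map] at this
    exact this
  letI : Algebra i.A K := i.φ.toRingHom.toAlgebra
  obtain ⟨Pair, hPair⟩ : ∃ Pair : StandardEtalePair i.A, Pair.f = P ∧ Pair.g = derivative P :=
    ⟨⟨P, hPm, derivative P, ⟨1, 0, 1, by simp⟩⟩, rfl, rfl⟩
  obtain ⟨y₀, hy₀⟩ : ∃ y₀ : K, y₀ = i.ψ (s' * b₀) := ⟨_, rfl⟩
  have hφψ : ∀ (Q : i.A[X]),
      aeval y₀ Q = i.ψ ((Q.map (algebraMap i.A i.L)).eval (s' * b₀)) := by
    intro Q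
    rw [eval_map]
    have := Polynomial.hom_eval₂ Q (algebraMap i.A i.L) i.ψ.toRingHom (s' * b₀)
    refine Eq.trans ?_ this.symm
    rw [aeval_def]
    show _ = Q.eval₂ _ (i.ψ (s' * b₀))
    rw [← hy₀]
    congr 1
    refine RingHom.ext fun a => ?_
    exact (Nbhd.ψ_algebraMap i a).symm
  have hmap : Pair.HasMap y₀ := by
    constructor
    · rw [hPair.1, hφψ, ev1, map_mul, hb1, mul_zero]
    · rw [hPair.2, hφψ, isUnit_iff_ne_zero]
      have h3 : IsUnit (s' ^ p.natDegree * p.derivative.eval b₀) := (hs'u.pow _).mul hb2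
      rw [← ev2] at h3
      exact (Nbhd.isUnit_iff_ψ_ne_zero i _).1 (isUnit_of_mul_isUnit_right h3)
  obtain ⟨k, h, γ, hγ₁, hγ₂⟩ := exists_ge_of_etale i Pair.Ring (Pair.lift y₀ hmap).toRingHom
    (fun a => (Pair.lift y₀ hmap).commutes a)
  obtain ⟨Y, hY⟩ : ∃ Y : k.L, Y = γ Pair.X := ⟨_, rfl⟩
  have hψY : k.ψ Y = y₀ := by
    rw [hY, hγ₂]
    exact Pair.lift_X y₀ hmap
  obtain ⟨t, ht⟩ : ∃ t : i.L →+* k.L, t = Nbhd.transR i k h := ⟨_, rfl⟩
  have htψ : ∀ x, k.ψ (t x) = i.ψ x := fun x => by rw [ht]; exact Nbhd.ψ_trans i k h x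
  have hγt : γ.comp (algebraMap i.A Pair.Ring) = t.comp (algebraMap i.A i.L) := by
    refine RingHom.ext fun a => ?_
    rw [ht]
    exact hγ₁ a
  have hPY : (P.map (t.comp (algebraMap i.A i.L))).eval Y = 0 := by
    rw [← hγt, ← Polynomial.map_map, hY, Polynomial.eval_map_apply, eval_map, ← aeval_def,
      ← hPair.1, Pair.hasMap_X.1, map_zero]
  obtain ⟨r, hr⟩ : ∃ r : k.L, r = t u * Y := ⟨_, rfl⟩
  have hsr : t s' * r = Y := by
    rw [hr, ← mul_assoc, ← map_mul, hu, map_one, one_mul]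
  have hroot : (p.map t).eval r = 0 := by
    have hP' := congrArg (fun g => Polynomial.eval r (Polynomial.map t g)) hP
    beta_reduce at hP'
    rw [Polynomial.map_comp, Polynomial.map_mul, Polynomial.map_C, Polynomial.map_X,
      Polynomial.map_mul, Polynomial.map_C, Polynomial.map_map, eval_comp, eval_mul, eval_C,
      eval_X, hsr, hPY, eval_mul, eval_C] at hP'
    have hunit : IsUnit (t (s' ^ p.natDegree)) := (hs'u.pow _).map t
    exact (hunit.mul_right_eq_zero).1 hP'.symm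
  refine ⟨ofR k r, ?_, ?_⟩
  · rw [Polynomial.IsRoot.def, ← hpf, ← ofR_comp_transR i k h, ← ht, ← Polynomial.map_map,
      Polynomial.eval_map_apply, hroot, map_zero]
  · rw [← ψL_eq_zero_iff, map_sub, sub_eq_zero, ← hb₀]
    show ψL (of k r) = ψL (of i b₀)
    rw [ψL_of, ψL_of, hr, map_mul, htψ, hψY, hy₀, ← map_mul, ← mul_assoc, mul_comm u s', hu,
      one_mul]

end Groth.Agent.H11.HC
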