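import Mathlib
import Groth.Agent.H11.HCHens

open IsLocalRing TensorProduct Polynomial

universe u

namespace Groth.Agent.H11.HC

variable {R : Type u} [CommRing R] {K : Type u} [Field K] [Algebra R K]

theorem exists_stage_lift (T : Type u) [CommRing T] [HenselianLocalRing T] [Algebra R T]
    (τ : K →ₐ[R] ResidueField T) (i : Nbhd R K) :
    ∃ g : i.L →ₐ[R] T, ∀ x, residue T (g x) = τ (i.ψ x) := by
  obtain ⟨f, hf⟩ := HensEt.exists_algHom_lift_residue R T i.A (τ.comp i.φ)
  have hu : ∀ y : i.q.primeCompl, IsUnit (f y) := by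
    intro y
    by_contra hcon
    have h0 : residue T (f y) = 0 := (residue_eq_zero_iff _).2 hcon
    rw [hf, AlgHom.comp_apply, map_eq_zero] at h0
    exact (i.isUnit_φ y).ne_zero h0
  refine ⟨IsLocalization.liftAlgHom (M := i.q.primeCompl) (f := f) hu, fun x => ?_⟩
  have hcomp : (residue T).comp (IsLocalization.liftAlgHom (M := i.q.primeCompl) (S := i.L)
      (f := f) hu).toRingHom = τ.toRingHom.comp i.ψ.toRingHom := by
    apply IsLocalization.ringHom_ext i.q.primeCompl
    refine RingHom.ext fun a => ?_
    simp only [RingHom.comp_apply, AlgHom.toRingHom_eq_coe, RingHom.coe_coe]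
    rw [IsLocalization.liftAlgHom_apply, IsLocalization.lift_eq, Nbhd.ψ_algebraMap]
    exact hf a
  exact congrArg (fun g => g x) hcomp

theorem stage_lift_unique (T : Type u) [CommRing T] [IsLocalRing T] [Algebra R T]
    (i : Nbhd R K) (g g' : i.L →ₐ[R] T) (h : ∀ x, residue T (g x) = residue T (g' x)) :
    g = g' := by
  refine Nbhd.algHom_ext_of_residue (T := T) i g g' fun x => ?_
  rw [← residue_eq_zero_iff, map_sub, h, sub_self]

/-- The universal property of the limit. -/
theorem existsUnique_lift (T : Type u) [CommRing T] [HenselianLocalRing T] [Algebra R T]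
    (τ : K →ₐ[R] ResidueField T) :
    ∃! g : Lim R K →ₐ[R] T, ∀ z, residue T (g z) = τ (ψL z) := by
  choose g hg using exists_stage_lift T τ
  have Hg : ∀ i j h x, g j (Nbhd.trans i j h x) = g i x := by
    intro i j h x
    have : (g j).comp (Nbhd.trans i j h) = g i := by
      apply stage_lift_unique
      intro y
      rw [AlgHom.comp_apply, hg, hg, Nbhd.ψ_trans]
    exact congrArg (fun f => f x) this
  refine ⟨lift g Hg, fun z => ?_, fun g' hg' => ?_⟩
  · obtain ⟨i, x, rfl⟩ := exists_of z
    rw [lift_of, hg, ψL_of]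
  · apply algHom_ext
    intro i x
    rw [lift_of]
    have : g'.comp (of i) = g i := by
      apply stage_lift_unique
      intro y
      rw [AlgHom.comp_apply, hg', hg, ψL_of]
    exact congrArg (fun f => f x) this

end Groth.Agent.H11.HC
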