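import Mathlib
import Groth.Prelude.Def_Hensel
import Groth.Agent.H11.HCUniv

open IsLocalRing TensorProduct Polynomial

universe u

namespace Groth.Agent.H11.HC

variable (R : Type u) [CommRing R] [IsLocalRing R]

instance isLocalHom_algebraMap_residueField :
    IsLocalHom (algebraMap R (ResidueField R)) :=
  (inferInstance : IsLocalHom (residue R))

/-- The constructed henselization. -/
abbrev Hens : Type u := Lim R (ResidueField R)

instance isLocalHom_algebraMap_hens : IsLocalHom (algebraMap R (Hens R)) :=
  isLocalHom_algebraMap_lim

theorem ψL_surjective : Function.Surjective (ψL (R := R) (K := ResidueField R)) := by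
  intro x
  obtain ⟨r, rfl⟩ := residue_surjective x
  exact ⟨algebraMap R _ r, (ψL (R := R) (K := ResidueField R)).commutes r⟩

theorem isHenselization_hens : Hensel.IsHenselization R (Hens R) where
  henselian := henselian_lim
  universal := by
    intro T _ _ f hf
    letI : Algebra R T := f.toAlgebra
    haveI : IsLocalHom (algebraMap R T) := hf
    obtain ⟨τ, hτ⟩ : ∃ τ : ResidueField R →ₐ[R] ResidueField T,
        ∀ r, τ (residue R r) = residue T (f r) :=
      ⟨{ ResidueField.map f with commutes' := fun r => rfl }, fun r => rfl⟩
    obtain ⟨g, hg, huniq⟩ := existsUnique_lift (R := R) (K := ResidueField R) T τ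
    refine ⟨g.toRingHom, RingHom.ext fun r => g.commutes r, fun g' hg' => ?_⟩
    have hcomm : ∀ r, g' (algebraMap R (Hens R) r) = f r := fun r =>
      congrArg (fun φ => φ r) hg'
    obtain ⟨g'', hg''⟩ : ∃ g'' : Hens R →ₐ[R] T, ∀ z, g'' z = g' z :=
      ⟨{ g' with commutes' := hcomm }, fun z => rfl⟩
    have hmem : ∀ z ∈ maximalIdeal (Hens R), g' z ∈ maximalIdeal T := by
      intro z hz
      rw [← map_maximalIdeal_lim] at hz
      have hle : (maximalIdeal R).map (algebraMap R (Hens R)) ≤ (maximalIdeal T).comap g' := by
        rw [Ideal.map_le_iff_le_comap]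
        intro r hr
        rw [Ideal.mem_comap, Ideal.mem_comap, hcomm]
        exact map_nonunit f r hr
      exact hle hz
    have key : g'' = g := by
      apply huniq
      intro z
      obtain ⟨r, hr⟩ := residue_surjective (ψL z)
      have hz : z - algebraMap R (Hens R) r ∈ maximalIdeal (Hens R) := by
        rw [← ψL_eq_zero_iff, map_sub, AlgHom.commutes, sub_eq_zero]
        exact hr.symm
      have h1 := hmem _ hz
      rw [map_sub, ← residue_eq_zero_iff, map_sub, sub_eq_zero, hcomm] at h1
      rw [hg'', h1, ← hr, hτ]
    refine RingHom.ext fun z => ?_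
    rw [← hg'', key]
    rfl

end Groth.Agent.H11.HC
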