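import Mathlib
import Groth.Prelude.Def_Hensel
import Groth.Agent.H11.HCMain

open IsLocalRing TensorProduct Polynomial

universe u

namespace Groth.Agent.H11.HC

/-- Separably closed fields are stable under ring isomorphisms. -/
theorem isSepClosed_of_ringEquiv {K K' : Type*} [Field K] [Field K'] (e : K' ≃+* K)
    [IsSepClosed K] : IsSepClosed K' := by
  apply IsSepClosed.of_exists_root
  intro p hpm hirr hsep
  have hsep' : (p.map e.toRingHom).Separable := hsep.map
  have hdeg : (p.map e.toRingHom).degree ≠ 0 := by
    rw [Polynomial.degree_map]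
    exact (Polynomial.degree_pos_of_irreducible hirr).ne'
  obtain ⟨x, hx⟩ := IsSepClosed.exists_root (p.map e.toRingHom) hdeg hsep'
  refine ⟨e.symm x, ?_⟩
  apply e.injective
  rw [map_zero, ← hx]
  have := Polynomial.eval_map_apply (p := p) e.toRingHom (e.symm x)
  rw [show e.toRingHom (e.symm x) = x from e.apply_symm_apply x] at this
  exact this.symm

section

variable {R : Type u} [CommRing R] [IsLocalRing R] {K : Type u} [Field K] [Algebra R K]
  [Algebra (ResidueField R) K] [IsScalarTower R (ResidueField R) K]

theorem isLocalHom_algebraMap_of_tower : IsLocalHom (algebraMap R K) := by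
  constructor
  intro r hr
  rw [IsScalarTower.algebraMap_apply R (ResidueField R) K] at hr
  have h1 : IsUnit (algebraMap R (ResidueField R) r) :=
    isUnit_of_map_unit (algebraMap (ResidueField R) K) _ hr
  exact isUnit_of_map_unit (algebraMap R (ResidueField R)) r h1

/-- If `K` is separable algebraic over the residue field then every element of `K` is reached. -/
theorem ψL_surjective_of_isSeparable [Algebra.IsSeparable (ResidueField R) K] :
    Function.Surjective (ψL (R := R) (K := K)) := by
  intro b
  have hsep : (minpoly (ResidueField R) b).Separable := Algebra.IsSeparable.isSeparable _ b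
  have hint : IsIntegral (ResidueField R) b := Algebra.IsSeparable.isIntegral _ b
  have hl : minpoly (ResidueField R) b ∈ Polynomial.lifts (residue R) := by
    rw [Polynomial.mem_lifts]
    exact Polynomial.map_surjective (residue R) residue_surjective _
  obtain ⟨P, hP, -, hPm⟩ :=
    Polynomial.lifts_and_natDegree_eq_and_monic hl (minpoly.monic hint)
  have haeval : ∀ Q : R[X], aeval b Q = aeval b (Q.map (residue R)) := by
    intro Q
    rw [aeval_def, aeval_def, Polynomial.eval₂_map]
    congr 1
    exact IsScalarTower.algebraMap_eq R (ResidueField R) K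
  obtain ⟨Pair, hPair⟩ : ∃ Pair : StandardEtalePair R, Pair.f = P ∧ Pair.g = derivative P :=
    ⟨⟨P, hPm, derivative P, ⟨1, 0, 1, by simp⟩⟩, rfl, rfl⟩
  have hmap : Pair.HasMap b := by
    constructor
    · rw [hPair.1, haeval, hP, minpoly.aeval]
    · rw [hPair.2, haeval, ← Polynomial.derivative_map, hP, isUnit_iff_ne_zero]
      exact hsep.aeval_derivative_ne_zero (minpoly.aeval _ b)
  obtain ⟨i, e, he⟩ := exists_nbhd (R := R) (K := K) Pair.Ring (Pair.lift b hmap)
  refine ⟨of i (algebraMap i.A i.L (e Pair.X)), ?_⟩
  rw [ψL_of, Nbhd.ψ_algebraMap, he, Pair.lift_X]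

end

section

variable {R : Type u} [CommRing R] {K : Type u} [Field K] [Algebra R K]

theorem isLocalHom_ψL : IsLocalHom (ψL (R := R) (K := K)).toRingHom := by
  constructor
  intro z hz
  rw [isUnit_iff_ψL_ne_zero]
  exact hz.ne_zero

/-- The residue field of the limit is `K` when the point is surjective. -/
theorem exists_residue_equiv (hsurj : Function.Surjective (ψL (R := R) (K := K))) :
    ∃ e : ResidueField (Lim R K) ≃+* K, ∀ z, e (residue _ z) = ψL z := by
  haveI := isLocalHom_ψL (R := R) (K := K)
  obtain ⟨l, hl⟩ : ∃ l : ResidueField (Lim R K) →+* K, l = ResidueField.lift (ψL (R := R) (K := K)).toRingHom :=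
    ⟨_, rfl⟩
  have hlz : ∀ z, l (residue _ z) = ψL z := by
    intro z
    rw [hl]
    exact ResidueField.lift_residue_apply _ z
  have hbij : Function.Bijective l := by
    refine ⟨l.injective, fun b => ?_⟩
    obtain ⟨z, rfl⟩ := hsurj b
    exact ⟨residue _ z, hlz z⟩
  exact ⟨RingEquiv.ofBijective l hbij, hlz⟩

end

end Groth.Agent.H11.HC
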