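import Mathlib
import Groth.Prelude.Def_Hensel
import Groth.Agent.H11.HCStrict

open IsLocalRing TensorProduct Polynomial

universe u

namespace Groth.Agent.H11.HC

variable (R : Type u) [CommRing R] [IsLocalRing R]

/-- The constructed strict henselization. -/
abbrev SHens : Type u := Lim R (SeparableClosure (ResidueField R))

instance isLocalHom_algebraMap_sepClosure :
    IsLocalHom (algebraMap R (SeparableClosure (ResidueField R))) :=
  isLocalHom_algebraMap_of_tower

instance isLocalHom_algebraMap_shens : IsLocalHom (algebraMap R (SHens R)) :=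
  isLocalHom_algebraMap_lim

theorem exists_residue_equiv_shens :
    ∃ e : ResidueField (SHens R) ≃ₐ[ResidueField R] SeparableClosure (ResidueField R),
      ∀ z, e (residue _ z) = ψL z := by
  obtain ⟨e, he⟩ := exists_residue_equiv (R := R) (K := SeparableClosure (ResidueField R))
    ψL_surjective_of_isSeparable
  refine ⟨{ e with commutes' := fun x => ?_ }, he⟩
  obtain ⟨r, rfl⟩ := residue_surjective x
  show e (ResidueField.map (algebraMap R (SHens R)) (residue R r)) = _
  rw [ResidueField.map_residue, he, AlgHom.commutes]
  exact IsScalarTower.algebraMap_apply R (ResidueField R) _ r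

theorem isStrictHenselization_shens : Hensel.IsStrictHenselization R (SHens R) := by
  obtain ⟨e, he⟩ := exists_residue_equiv_shens R
  refine ⟨henselian_lim, ?_, ?_⟩
  · haveI : IsSepClosed (ResidueField (SHens R)) :=
      isSepClosed_of_ringEquiv e.toRingEquiv
    haveI : Algebra.IsSeparable (ResidueField R) (ResidueField (SHens R)) :=
      Algebra.IsSeparable.of_algHom (ResidueField R) (SeparableClosure (ResidueField R))
        e.toAlgHom
    exact ⟨inferInstance, inferInstance⟩
  · intro T _ _ f hf τ hτ
    letI : Algebra R T := f.toAlgebra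
    have hτr : ∀ r, τ (residue _ (algebraMap R (SHens R) r)) = residue T (f r) := by
      intro r
      have := congrArg (fun φ => φ (residue R r)) hτ
      exact this
    obtain ⟨τ', hτ'⟩ : ∃ τ' : SeparableClosure (ResidueField R) →ₐ[R] ResidueField T,
        ∀ x, τ' x = τ (e.symm x) := by
      refine ⟨{ τ.comp e.symm.toAlgHom.toRingHom with commutes' := fun r => ?_ }, fun x => rfl⟩
      show τ (e.symm (algebraMap R _ r)) = _
      have h1 : e.symm (algebraMap R (SeparableClosure (ResidueField R)) r) =
          residue _ (algebraMap R (SHens R) r) := by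
        rw [AlgEquiv.symm_apply_eq, he, AlgHom.commutes]
      rw [h1, hτr]
      rfl
    obtain ⟨g, hg, huniq⟩ := existsUnique_lift (R := R)
      (K := SeparableClosure (ResidueField R)) T τ'
    have hres : ∀ z, τ' (ψL z) = τ (residue _ z) := by
      intro z
      rw [hτ', ← he, AlgEquiv.symm_apply_apply]
    refine ⟨g.toRingHom, ⟨RingHom.ext fun r => g.commutes r, fun z => ?_⟩, ?_⟩
    · exact (hg z).trans (hres z)
    · rintro g' ⟨hg'1, hg'2⟩
      have hcomm : ∀ r, g' (algebraMap R (SHens R) r) = f r := fun r =>
        congrArg (fun φ => φ r) hg'1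
      obtain ⟨g'', hg''⟩ : ∃ g'' : SHens R →ₐ[R] T, ∀ z, g'' z = g' z :=
        ⟨{ g' with commutes' := hcomm }, fun z => rfl⟩
      have key : g'' = g := by
        apply huniq
        intro z
        rw [hg'', hg'2, hres]
      refine RingHom.ext fun z => ?_
      rw [← hg'', key]
      rfl

end Groth.Agent.H11.HC
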