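import Mathlib
import Groth.Prelude.Def_Hensel
import Groth.Agent.H11.HCStrictMain

open IsLocalRing

universe u

namespace Groth.Agent.H11.HC

/-- Two strict henselizations of the same local ring are isomorphic as algebras. -/
theorem nonempty_algEquiv_of_isStrictHenselization (R : Type u) [CommRing R] [IsLocalRing R]
    (S₁ S₂ : Type u) [CommRing S₁] [IsLocalRing S₁] [Algebra R S₁] [IsLocalHom (algebraMap R S₁)]
    [h₁ : Hensel.IsStrictHenselization R S₁]
    [CommRing S₂] [IsLocalRing S₂] [Algebra R S₂] [IsLocalHom (algebraMap R S₂)]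
    [h₂ : Hensel.IsStrictHenselization R S₂] : Nonempty (S₁ ≃ₐ[R] S₂) := by
  haveI : HenselianLocalRing S₁ := h₁.henselian
  haveI : HenselianLocalRing S₂ := h₂.henselian
  haveI := h₁.isSepClosure
  haveI := h₂.isSepClosure
  obtain ⟨σ⟩ : Nonempty (ResidueField S₁ ≃ₐ[ResidueField R] ResidueField S₂) :=
    ⟨IsSepClosure.equiv (ResidueField R) (ResidueField S₁) (ResidueField S₂)⟩
  have hσ : σ.toAlgHom.toRingHom.comp (ResidueField.map (algebraMap R S₁)) =
      ResidueField.map (algebraMap R S₂) := RingHom.ext fun x => σ.commutes x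
  have hσ' : σ.symm.toAlgHom.toRingHom.comp (ResidueField.map (algebraMap R S₂)) =
      ResidueField.map (algebraMap R S₁) := RingHom.ext fun x => σ.symm.commutes x
  obtain ⟨u, ⟨hu, hu'⟩, -⟩ := h₁.universal S₂ (algebraMap R S₂) σ.toAlgHom.toRingHom hσ
  obtain ⟨v, ⟨hv, hv'⟩, -⟩ := h₂.universal S₁ (algebraMap R S₁) σ.symm.toAlgHom.toRingHom hσ'
  obtain ⟨w₁, -, hw₁⟩ := h₁.universal S₁ (algebraMap R S₁) (RingHom.id _) (RingHom.id_comp _)
  obtain ⟨w₂, -, hw₂⟩ := h₂.universal S₂ (algebraMap R S₂) (RingHom.id _) (RingHom.id_comp _)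
  have e1 : v.comp u = RingHom.id S₁ := by
    have a1 : (v.comp u).comp (algebraMap R S₁) = algebraMap R S₁ ∧
        ∀ x, residue S₁ ((v.comp u) x) = RingHom.id _ (residue S₁ x) := by
      refine ⟨by rw [RingHom.comp_assoc, hu, hv], fun x => ?_⟩
      rw [RingHom.comp_apply, hv', hu']
      exact σ.symm_apply_apply _
    have a2 : (RingHom.id S₁).comp (algebraMap R S₁) = algebraMap R S₁ ∧
        ∀ x, residue S₁ ((RingHom.id S₁) x) = RingHom.id _ (residue S₁ x) :=
      ⟨RingHom.id_comp _, fun x => rfl⟩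
    rw [hw₁ (v.comp u) a1, hw₁ (RingHom.id S₁) a2]
  have e2 : u.comp v = RingHom.id S₂ := by
    have a1 : (u.comp v).comp (algebraMap R S₂) = algebraMap R S₂ ∧
        ∀ x, residue S₂ ((u.comp v) x) = RingHom.id _ (residue S₂ x) := by
      refine ⟨by rw [RingHom.comp_assoc, hv, hu], fun x => ?_⟩
      rw [RingHom.comp_apply, hu', hv']
      exact σ.apply_symm_apply _
    have a2 : (RingHom.id S₂).comp (algebraMap R S₂) = algebraMap R S₂ ∧
        ∀ x, residue S₂ ((RingHom.id S₂) x) = RingHom.id _ (residue S₂ x) :=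
      ⟨RingHom.id_comp _, fun x => rfl⟩
    rw [hw₂ (u.comp v) a1, hw₂ (RingHom.id S₂) a2]
  obtain ⟨u', hu''⟩ : ∃ u' : S₁ →ₐ[R] S₂, ∀ x, u' x = u x :=
    ⟨{ u with commutes' := fun r => congrArg (fun φ => φ r) hu }, fun _ => rfl⟩
  obtain ⟨v', hv''⟩ : ∃ v' : S₂ →ₐ[R] S₁, ∀ x, v' x = v x :=
    ⟨{ v with commutes' := fun r => congrArg (fun φ => φ r) hv }, fun _ => rfl⟩
  refine ⟨AlgEquiv.ofAlgHom u' v' ?_ ?_⟩
  · ext x
    rw [AlgHom.comp_apply, hv'', hu'']
    exact congrArg (fun φ => φ x) e2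
  · ext x
    rw [AlgHom.comp_apply, hu'', hv'']
    exact congrArg (fun φ => φ x) e1

theorem nonempty_algEquiv_shens (R : Type u) [CommRing R] [IsLocalRing R]
    (S : Type u) [CommRing S] [IsLocalRing S] [Algebra R S] [IsLocalHom (algebraMap R S)]
    [Hensel.IsStrictHenselization R S] : Nonempty (S ≃ₐ[R] SHens R) := by
  haveI := isStrictHenselization_shens R
  exact nonempty_algEquiv_of_isStrictHenselization R S (SHens R)

end Groth.Agent.H11.HC
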