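import Mathlib
import Groth.Prelude.Def_Hensel
import Groth.Agent.H11.HCMain

open IsLocalRing

universe u

namespace Groth.Agent.H11.HC

/-- Two henselizations of the same local ring are isomorphic as algebras. -/
theorem nonempty_algEquiv_of_isHenselization (R : Type u) [CommRing R] [IsLocalRing R]
    (S₁ S₂ : Type u) [CommRing S₁] [IsLocalRing S₁] [Algebra R S₁] [IsLocalHom (algebraMap R S₁)]
    [h₁ : Hensel.IsHenselization R S₁]
    [CommRing S₂] [IsLocalRing S₂] [Algebra R S₂] [IsLocalHom (algebraMap R S₂)]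
    [h₂ : Hensel.IsHenselization R S₂] : Nonempty (S₁ ≃ₐ[R] S₂) := by
  haveI : HenselianLocalRing S₁ := h₁.henselian
  haveI : HenselianLocalRing S₂ := h₂.henselian
  obtain ⟨u, hu, -⟩ := h₁.universal S₂ (algebraMap R S₂) inferInstance
  obtain ⟨v, hv, -⟩ := h₂.universal S₁ (algebraMap R S₁) inferInstance
  obtain ⟨w₁, -, hw₁⟩ := h₁.universal S₁ (algebraMap R S₁) inferInstance
  obtain ⟨w₂, -, hw₂⟩ := h₂.universal S₂ (algebraMap R S₂) inferInstance
  have e1 : v.comp u = RingHom.id S₁ := by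
    have a1 : (v.comp u).comp (algebraMap R S₁) = algebraMap R S₁ := by
      rw [RingHom.comp_assoc, hu, hv]
    rw [hw₁ (v.comp u) a1, hw₁ (RingHom.id S₁) (RingHom.id_comp _)]
  have e2 : u.comp v = RingHom.id S₂ := by
    have a2 : (u.comp v).comp (algebraMap R S₂) = algebraMap R S₂ := by
      rw [RingHom.comp_assoc, hv, hu]
    rw [hw₂ (u.comp v) a2, hw₂ (RingHom.id S₂) (RingHom.id_comp _)]
  obtain ⟨u', hu'⟩ : ∃ u' : S₁ →ₐ[R] S₂, ∀ x, u' x = u x :=
    ⟨{ u with commutes' := fun r => congrArg (fun φ => φ r) hu }, fun _ => rfl⟩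
  obtain ⟨v', hv'⟩ : ∃ v' : S₂ →ₐ[R] S₁, ∀ x, v' x = v x :=
    ⟨{ v with commutes' := fun r => congrArg (fun φ => φ r) hv }, fun _ => rfl⟩
  refine ⟨AlgEquiv.ofAlgHom u' v' ?_ ?_⟩
  · ext x
    rw [AlgHom.comp_apply, hv', hu']
    exact congrArg (fun φ => φ x) e2
  · ext x
    rw [AlgHom.comp_apply, hu', hv']
    exact congrArg (fun φ => φ x) e1

theorem nonempty_algEquiv_hens (R : Type u) [CommRing R] [IsLocalRing R]
    (S : Type u) [CommRing S] [IsLocalRing S] [Algebra R S] [IsLocalHom (algebraMap R S)]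
    [Hensel.IsHenselization R S] : Nonempty (S ≃ₐ[R] Hens R) := by
  haveI := isHenselization_hens R
  exact nonempty_algEquiv_of_isHenselization R S (Hens R)

end Groth.Agent.H11.HC
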