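import Mathlib
import Groth.Prelude.Def_PBC

/-!
# Ind-étale algebras: a constructor

`isIndEtale_of_factor`: an `A`-algebra `B` is ind-étale (in the sense of `EtPBC.IsIndEtale`) as soon
as every `A`-algebra map from a finitely presented `A`-algebra to `B` factors through an étale
`A`-algebra.
-/

set_option autoImplicit false
universe u
open CategoryTheory CategoryTheory.Limits

namespace Groth.Agent.H11.IndEt

noncomputable section

variable (A B : Type u) [CommRing A] [CommRing B] [Algebra A B]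

/-- Objects of the index category: étale quotients of polynomial rings with a map to `B`. -/
structure Obj where
  n : ℕ
  I : Ideal (MvPolynomial (Fin n) A)
  φ : (MvPolynomial (Fin n) A ⧸ I) →ₐ[A] B
  et : Algebra.Etale A (MvPolynomial (Fin n) A ⧸ I)

variable {A B}

/-- The underlying algebra. -/
abbrev Obj.Q (j : Obj A B) : Type u := MvPolynomial (Fin j.n) A ⧸ j.I

instance (j : Obj A B) : Algebra.Etale A j.Q := j.et

/-- Morphisms: algebra maps over `B`. -/
def Hom (j k : Obj A B) : Type u := {α : j.Q →ₐ[A] k.Q // k.φ.comp α = j.φ}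

instance : SmallCategory (Obj A B) where
  Hom := Hom
  id j := ⟨AlgHom.id A _, by ext; rfl⟩
  comp f g := ⟨g.1.comp f.1, by rw [← AlgHom.comp_assoc, g.2, f.2]⟩
  id_comp _ := Subtype.ext (AlgHom.ext fun _ => rfl)
  comp_id _ := Subtype.ext (AlgHom.ext fun _ => rfl)
  assoc _ _ _ := Subtype.ext (AlgHom.ext fun _ => rfl)

lemma Hom.φ_apply {j k : Obj A B} (f : j ⟶ k) (x : j.Q) : k.φ (f.1 x) = j.φ x :=
  DFunLike.congr_fun f.2 x

@[simp] lemma comp_val {j k l : Obj A B} (f : j ⟶ k) (g : k ⟶ l) : (f ≫ g).1 = g.1.comp f.1 := rfl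

@[simp] lemma id_val (j : Obj A B) : (𝟙 j : j ⟶ j).1 = AlgHom.id A _ := rfl

/-- Every finitely presented algebra with a map to `B` such that it is étale gives an object. -/
lemma exists_obj (E : Type u) [CommRing E] [Algebra A E] [Algebra.Etale A E] (β : E →ₐ[A] B) :
    ∃ (j : Obj A B) (e : E ≃ₐ[A] j.Q), j.φ.comp (e : E →ₐ[A] j.Q) = β := by
  obtain ⟨n, f, hf, hfg⟩ := (inferInstance : Algebra.FinitePresentation A E).out
  let e : (MvPolynomial (Fin n) A ⧸ RingHom.ker f.toRingHom) ≃ₐ[A] E :=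
    Ideal.quotientKerAlgEquivOfSurjective hf
  refine ⟨⟨n, RingHom.ker f.toRingHom, β.comp (e : _ →ₐ[A] E), Algebra.Etale.of_equiv e.symm⟩,
    e.symm, ?_⟩
  ext x
  show β (e (e.symm x)) = β x
  rw [AlgEquiv.apply_symm_apply]

variable (A B) in
/-- The factorization hypothesis. -/
def Factor : Prop :=
  ∀ (P : Type u) [CommRing P] [Algebra A P] [Algebra.FinitePresentation A P] (φ : P →ₐ[A] B),
    ∃ (E : Type u) (_ : CommRing E) (_ : Algebra A E) (_ : Algebra.Etale A E)
      (α : P →ₐ[A] E) (β : E →ₐ[A] B), β.comp α = φ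

lemma Factor.exists_obj (H : Factor A B) (P : Type u) [CommRing P] [Algebra A P]
    [Algebra.FinitePresentation A P] (φ : P →ₐ[A] B) :
    ∃ (j : Obj A B) (α : P →ₐ[A] j.Q), j.φ.comp α = φ := by
  obtain ⟨E, _, _, _, α, β, h⟩ := H P φ
  obtain ⟨j, e, he⟩ := IndEt.exists_obj E β
  refine ⟨j, (e : E →ₐ[A] j.Q).comp α, ?_⟩
  rw [← AlgHom.comp_assoc, he, h]

instance : Nonempty (Obj A B) := by
  obtain ⟨j, -, -⟩ := exists_obj (A := A) (B := B) A (Algebra.ofId A B)
  exact ⟨j⟩

lemma exists_cocone_objs (j k : Obj A B) : ∃ (l : Obj A B) (_ : j ⟶ l) (_ : k ⟶ l), True := by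
  haveI : Algebra.Etale A (TensorProduct A j.Q k.Q) :=
    Algebra.Etale.comp A j.Q (TensorProduct A j.Q k.Q)
  obtain ⟨l, e, he⟩ := exists_obj (TensorProduct A j.Q k.Q) (Algebra.TensorProduct.lift j.φ k.φ
    (fun _ _ => Commute.all _ _))
  refine ⟨l, ⟨(e : TensorProduct A j.Q k.Q →ₐ[A] l.Q).comp Algebra.TensorProduct.includeLeft, ?_⟩,
    ⟨(e : TensorProduct A j.Q k.Q →ₐ[A] l.Q).comp Algebra.TensorProduct.includeRight, ?_⟩, trivial⟩
  · rw [← AlgHom.comp_assoc, he]; ext x; simp
  · rw [← AlgHom.comp_assoc, he]; ext x; simp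

lemma Factor.exists_kill (H : Factor A B) (j : Obj A B) (s : Finset j.Q) (hs : ∀ x ∈ s, j.φ x = 0) :
    ∃ (l : Obj A B) (f : j ⟶ l), ∀ x ∈ s, f.1 x = 0 := by
  classical
  let K : Ideal j.Q := Ideal.span (s : Set j.Q)
  have hK : K ≤ RingHom.ker j.φ.toRingHom := by
    rw [Ideal.span_le]
    intro x hx
    exact hs x hx
  haveI : Algebra.FinitePresentation A (j.Q ⧸ K) :=
    Algebra.FinitePresentation.quotient ⟨s, rfl⟩
  let ψ : (j.Q ⧸ K) →ₐ[A] B := Ideal.Quotient.liftₐ K j.φ (fun a ha => hK ha)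
  obtain ⟨l, α, hα⟩ := H.exists_obj (j.Q ⧸ K) ψ
  refine ⟨l, ⟨α.comp (Ideal.Quotient.mkₐ A K), ?_⟩, ?_⟩
  · rw [← AlgHom.comp_assoc, hα]
    ext x
    rfl
  · intro x hx
    have : (Ideal.Quotient.mkₐ A K) x = 0 := by
      rw [Ideal.Quotient.mkₐ_eq_mk, Ideal.Quotient.eq_zero_iff_mem]
      exact Ideal.subset_span hx
    show α ((Ideal.Quotient.mkₐ A K) x) = 0
    rw [this, map_zero]

variable (A B) in
/-- The approximation hypothesis: every element of `B` comes from an étale algebra, and every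
relation is already witnessed in a further étale algebra. -/
structure Approx : Prop where
  rep : ∀ b : B, ∃ (j : Obj A B) (x : j.Q), j.φ x = b
  kill : ∀ (j : Obj A B) (x : j.Q), j.φ x = 0 → ∃ (l : Obj A B) (f : j ⟶ l), f.1 x = 0

lemma Factor.approx (H : Factor A B) : Approx A B where
  rep b := by
    obtain ⟨j, α, hα⟩ := H.exists_obj (MvPolynomial (Fin 1) A) (MvPolynomial.aeval (fun _ => b))
    refine ⟨j, α (MvPolynomial.X 0), ?_⟩
    have := DFunLike.congr_fun hα (MvPolynomial.X 0)
    simpa using this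
  kill j x hx := by
    obtain ⟨l, f, hf⟩ := H.exists_kill j {x} (by simpa using hx)
    exact ⟨l, f, hf x (Finset.mem_singleton_self x)⟩

lemma Approx.exists_kill (H : Approx A B) (j : Obj A B) (s : Finset j.Q)
    (hs : ∀ x ∈ s, j.φ x = 0) : ∃ (l : Obj A B) (f : j ⟶ l), ∀ x ∈ s, f.1 x = 0 := by
  classical
  induction s using Finset.induction_on with
  | empty => exact ⟨j, 𝟙 j, by simp⟩
  | insert a s _ ih =>
    obtain ⟨l, f, hf⟩ := ih (fun x hx => hs x (Finset.mem_insert_of_mem hx))
    obtain ⟨l', g, hg⟩ := H.kill l (f.1 a) (by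
      rw [f.φ_apply]
      exact hs a (Finset.mem_insert_self a s))
    refine ⟨l', f ≫ g, fun x hx => ?_⟩
    rcases Finset.mem_insert.mp hx with rfl | hx
    · exact hg
    · show g.1 (f.1 x) = 0
      rw [hf x hx, map_zero]

lemma Approx.exists_cocone_maps (H : Approx A B) {j k : Obj A B} (f g : j ⟶ k) :
    ∃ (l : Obj A B) (h : k ⟶ l), f ≫ h = g ≫ h := by
  classical
  -- generators of `j.Q`
  obtain ⟨t, ht⟩ := (Algebra.FiniteType.out : (⊤ : Subalgebra A j.Q).FG)
  obtain ⟨l, h, hl⟩ := H.exists_kill k (t.image (fun x => f.1 x - g.1 x)) (by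
    intro y hy
    obtain ⟨x, -, rfl⟩ := Finset.mem_image.mp hy
    rw [map_sub, f.φ_apply, g.φ_apply, sub_self])
  refine ⟨l, h, Subtype.ext ?_⟩
  show h.1.comp f.1 = h.1.comp g.1
  apply AlgHom.ext_of_adjoin_eq_top ht
  intro x hx
  have := hl (f.1 x - g.1 x) (Finset.mem_image.mpr ⟨x, hx, rfl⟩)
  rw [map_sub, sub_eq_zero] at this
  exact this

lemma Approx.isFiltered (H : Approx A B) : IsFiltered (Obj A B) where
  cocone_objs := exists_cocone_objs
  cocone_maps _ _ f g := H.exists_cocone_maps f g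
  nonempty := inferInstance

variable (A B) in
/-- The diagram. -/
noncomputable def diag : Obj A B ⥤ Under (CommRingCat.of A) where
  obj j := Under.mk (CommRingCat.ofHom (algebraMap A j.Q))
  map {j k} f := Under.homMk (CommRingCat.ofHom f.1.toRingHom) (by
    ext x
    simp)
  map_id j := by
    ext x
    rfl
  map_comp f g := by
    ext x
    rfl

variable (A B) in
/-- The cocone. -/
noncomputable def cocone : Cocone (diag A B) where
  pt := Under.mk (CommRingCat.ofHom (algebraMap A B))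
  ι :=
    { app := fun j => Under.homMk (CommRingCat.ofHom j.φ.toRingHom) (by
        ext x
        simp [diag])
      naturality := fun j k f => by
        ext x
        exact f.φ_apply x }

/-- The cocone is a colimit. -/
def Approx.isColimit (H : Approx A B) : IsColimit (cocone A B) := by
  haveI := H.isFiltered
  haveI : IsConnected (Obj A B) := IsFiltered.isConnected _
  apply isColimitOfReflects (Under.forget _)
  haveI : ReflectsColimitsOfShape (Obj A B) (forget CommRingCat.{u}) :=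
    reflectsColimitsOfShape_of_reflectsIsomorphisms
  apply isColimitOfReflects (forget CommRingCat)
  apply Types.FilteredColimit.isColimitOf'
  · intro b
    obtain ⟨j, x, hx⟩ := H.rep (b : B)
    exact ⟨j, x, hx.symm⟩
  · intro j x y hxy
    change j.Q at x y
    have hxy' : j.φ x = j.φ y := hxy
    have h0 : j.φ (x - y) = 0 := by
      rw [map_sub, sub_eq_zero]
      exact hxy'
    obtain ⟨l, f, hf⟩ := H.kill j _ h0
    refine ⟨l, f, ?_⟩
    rw [map_sub, sub_eq_zero] at hf
    exact hf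

theorem Approx.isIndEtale (H : Approx A B) : EtPBC.IsIndEtale A B := by
  refine ⟨Obj A B, inferInstance, H.isFiltered, diag A B, cocone A B, H.isColimit, ?_, ⟨Iso.refl _⟩⟩
  intro j
  have : (algebraMap A j.Q).toAlgebra = (inferInstance : Algebra A j.Q) :=
    Algebra.algebra_ext _ _ (fun _ => rfl)
  show @Algebra.Etale A j.Q _ _ (algebraMap A j.Q).toAlgebra
  rw [this]
  exact j.et

theorem isIndEtale_of_factor (H : Factor A B) : EtPBC.IsIndEtale A B := H.approx.isIndEtale

end

end Groth.Agent.H11.IndEt
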