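import Mathlib
import Groth.Agent.H11.IndEtale
import Groth.Agent.H11.HCFlatStage
import Groth.Agent.H11.HCFibreField
import Groth.Agent.H11.HCUnique
import Groth.Agent.H11.HCStrictUnique

/-!
# The henselization and strict henselization are ind-étale
-/

set_option autoImplicit false
universe u
open IsLocalRing TensorProduct

namespace Groth.Agent.H11.HC

variable {R : Type u} [CommRing R] {K : Type u} [Field K] [Algebra R K]

theorem injective_of_flat_of_isLocalHom {A B : Type*} [CommRing A] [CommRing B] [IsLocalRing A]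
    [IsLocalRing B] (f : A →+* B) (hf : f.Flat) (hl : IsLocalHom f) : Function.Injective f := by
  letI : Algebra A B := f.toAlgebra
  haveI : Module.Flat A B := hf
  haveI : IsLocalHom (algebraMap A B) := hl
  haveI : Module.FaithfullyFlat A B := Module.FaithfullyFlat.of_flat_of_isLocalHom
  exact FaithfulSMul.algebraMap_injective A B

theorem of_injective (i : Nbhd R K) : Function.Injective (of (R := R) (K := K) i) := by
  have hfl := flat_ofR i
  have hl : IsLocalHom (ofR (R := R) (K := K) i) :=
    ⟨fun x hx => (isLocalHom_of i).map_nonunit x hx⟩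
  exact injective_of_flat_of_isLocalHom _ hfl hl

/-- The structure map of a stage into the limit. -/
noncomputable def ofA (i : Nbhd R K) : i.A →ₐ[R] Lim R K :=
  (of i).comp (IsScalarTower.toAlgHom R i.A i.L)

theorem ofA_apply (i : Nbhd R K) (a : i.A) : ofA i a = of i (algebraMap i.A i.L a) := rfl

theorem approx_lim : IndEt.Approx R (Lim R K) where
  rep b := by
    obtain ⟨j, c, hc⟩ := exists_of_A b
    obtain ⟨l, e, he⟩ := IndEt.exists_obj j.A (ofA j)
    refine ⟨l, e c, ?_⟩
    have := DFunLike.congr_fun he c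
    rw [← hc, ← ofA_apply, ← this]
    rfl
  kill j x hx := by
    obtain ⟨k, e, he⟩ := exists_nbhd (R := R) (K := K) j.Q ((ψL (R := R) (K := K)).comp j.φ)
    have hβ : (ofA k).comp (e : j.Q →ₐ[R] k.A) = j.φ := by
      apply HensEt.algHom_eq_of_sub_mem_jacobson (R := R) (A := j.Q) (S := Lim R K)
      intro a
      rw [IsLocalRing.jacobson_eq_maximalIdeal ⊥ bot_ne_top, ← ψL_eq_zero_iff, map_sub, sub_eq_zero]
      show ψL (of k (algebraMap k.A k.L (e a))) = ψL (j.φ a)
      rw [ψL_of, Nbhd.ψ_algebraMap, he]
      rfl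
    have h0 : algebraMap k.A k.L (e x) = 0 := by
      apply of_injective k
      rw [map_zero, ← hx, ← hβ]
      rfl
    obtain ⟨⟨t, ht⟩, htx⟩ := (IsLocalization.map_eq_zero_iff k.q.primeCompl k.L (e x)).1 h0
    have htu : IsUnit (ofA k t) := by
      rw [ofA_apply]
      exact ((IsLocalization.map_units k.L (⟨t, ht⟩ : k.q.primeCompl)).map (of k))
    let E' := Localization.Away t
    haveI : Algebra.Etale R E' := Algebra.Etale.comp R k.A E'
    let β'' : E' →ₐ[R] Lim R K :=
      { IsLocalization.Away.lift (S := E') t (g := (ofA k).toRingHom) htu with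
        commutes' := fun r => by
          show IsLocalization.Away.lift (S := E') t (g := (ofA k).toRingHom) htu
            (algebraMap k.A E' (algebraMap R k.A r)) = _
          rw [IsLocalization.Away.lift_eq]
          exact (ofA k).commutes r }
    have hβ'' : ∀ a : k.A, β'' (algebraMap k.A E' a) = ofA k a := fun a =>
      IsLocalization.Away.lift_eq t htu a
    obtain ⟨l, e', he'⟩ := IndEt.exists_obj E' β''
    refine ⟨l, ⟨((e' : E' →ₐ[R] l.Q).comp (IsScalarTower.toAlgHom R k.A E')).comp
      (e : j.Q →ₐ[R] k.A), ?_⟩, ?_⟩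
    · rw [← hβ]
      ext a
      have := DFunLike.congr_fun he' (algebraMap k.A E' (e a))
      show l.φ (e' (algebraMap k.A E' (e a))) = ofA k (e a)
      rw [← hβ'']
      exact this
    · show e' (algebraMap k.A E' (e x)) = 0
      have : algebraMap k.A E' (e x) = 0 := by
        rw [IsLocalization.map_eq_zero_iff (Submonoid.powers t) E']
        exact ⟨⟨t, Submonoid.mem_powers t⟩, htx⟩
      rw [this, map_zero]

theorem isIndEtale_lim : EtPBC.IsIndEtale R (Lim R K) := approx_lim.isIndEtale

end Groth.Agent.H11.HC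

namespace Groth.Agent.H11.IndEt

variable {A B B' : Type u} [CommRing A] [CommRing B] [CommRing B'] [Algebra A B] [Algebra A B']

/-- Transport along an algebra isomorphism. -/
theorem Approx.of_algEquiv (H : Approx A B) (e : B ≃ₐ[A] B') : Approx A B' where
  rep b := by
    obtain ⟨j, x, hx⟩ := H.rep (e.symm b)
    obtain ⟨l, e', he'⟩ := exists_obj j.Q ((e : B →ₐ[A] B').comp j.φ)
    refine ⟨l, e' x, ?_⟩
    have := DFunLike.congr_fun he' x
    show l.φ (e' x) = b
    rw [show l.φ (e' x) = e (j.φ x) from this, hx, AlgEquiv.apply_symm_apply]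
  kill j x hx := by
    -- transport `j` to an object over `B`
    let j' : Obj A B := ⟨j.n, j.I, (e.symm : B' →ₐ[A] B).comp j.φ, j.et⟩
    obtain ⟨l, f, hf⟩ := H.kill j' x (by
      show e.symm (j.φ x) = 0
      rw [hx, map_zero])
    let l' : Obj A B' := ⟨l.n, l.I, (e : B →ₐ[A] B').comp l.φ, l.et⟩
    refine ⟨l', ⟨f.1, ?_⟩, hf⟩
    ext a
    show e (l.φ (f.1 a)) = j.φ a
    have := f.φ_apply a
    rw [this]
    show e (e.symm (j.φ a)) = j.φ a
    rw [AlgEquiv.apply_symm_apply]

end Groth.Agent.H11.IndEt
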