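import Mathlib
import Groth.Agent.H11.IndEtale

/-!
# Ind-étale algebras: the eliminator

`factor_of_isIndEtale`: if `B` is ind-étale over `A`, every `A`-algebra map from a finitely
presented `A`-algebra to `B` factors through an étale `A`-algebra.
-/

set_option autoImplicit false
universe u
open CategoryTheory CategoryTheory.Limits

namespace Groth.Agent.H11.IndEt

variable {A B : Type u} [CommRing A] [CommRing B] [Algebra A B]

/-- Compactness of finitely presented algebras with respect to a filtered colimit in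
`Under A`. -/
theorem exists_factor_of_isColimit {J : Type u} [SmallCategory J] [IsFiltered J]
    (D : J ⥤ Under (CommRingCat.of A)) (c : Cocone D) (hc : IsColimit c)
    (e : c.pt ≅ Under.mk (CommRingCat.ofHom (algebraMap A B)))
    (P : Type u) [CommRing P] [Algebra A P] [Algebra.FinitePresentation A P] (φ : P →ₐ[A] B) :
    ∃ (i : J), letI := (D.obj i).hom.hom.toAlgebra
      ∃ (α : P →ₐ[A] (D.obj i).right) (β : (D.obj i).right →ₐ[A] B), β.comp α = φ ∧
        ∀ x, β x = e.hom.right.hom ((c.ι.app i).right.hom x) := by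
  haveI : IsConnected J := IsFiltered.isConnected _
  let f : CommRingCat.of A ⟶ CommRingCat.of P := CommRingCat.ofHom (algebraMap A P)
  let g : CommRingCat.of P ⟶ c.pt.right := CommRingCat.ofHom φ.toRingHom ≫ e.inv.right
  have hf : f.hom.FinitePresentation := by
    show (algebraMap A P).FinitePresentation
    rw [RingHom.finitePresentation_algebraMap]
    infer_instance
  have hg : ∀ i, f ≫ g = (D.obj i).hom ≫ (c.ι.app i).right := by
    intro i
    have h1 : (D.obj i).hom ≫ (c.ι.app i).right = c.pt.hom := Under.w (c.ι.app i)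
    have h2 : (Under.mk (CommRingCat.ofHom (algebraMap A B))).hom ≫ e.inv.right = c.pt.hom :=
      Under.w e.inv
    rw [h1, ← h2]
    show (f ≫ CommRingCat.ofHom φ.toRingHom) ≫ e.inv.right = _
    congr 1
    ext x
    exact φ.commutes x
  obtain ⟨i, g', hg1, hg2⟩ := RingHom.EssFiniteType.exists_eq_comp_ι_app_of_isColimit
    (CommRingCat.of A) (D ⋙ Under.forget _) { app := fun i => (D.obj i).hom } f
    ((Under.forget _).mapCocone c) (isColimitOfPreserves (Under.forget _) hc) hf g hg
  refine ⟨i, ?_⟩
  letI := (D.obj i).hom.hom.toAlgebra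
  refine ⟨{ g'.hom with commutes' := fun r => ?_ },
    { (e.hom.right.hom.comp (c.ι.app i).right.hom) with commutes' := fun r => ?_ }, ?_,
    fun x => rfl⟩
  · exact congrArg (fun h => h.hom r) hg1
  · have h1 : (D.obj i).hom ≫ (c.ι.app i).right = c.pt.hom := Under.w (c.ι.app i)
    have h2 : c.pt.hom ≫ e.hom.right = (Under.mk (CommRingCat.ofHom (algebraMap A B))).hom :=
      Under.w e.hom
    have h3 := congrArg (fun h => h.hom r) (h1 ▸ h2)
    exact h3
  · ext x
    have h4 : g ≫ e.hom.right = CommRingCat.ofHom φ.toRingHom := by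
      show (CommRingCat.ofHom φ.toRingHom ≫ e.inv.right) ≫ e.hom.right = _
      rw [Category.assoc, ← Under.comp_right, e.inv_hom_id]
      rfl
    have h5 := congrArg (fun h => h.hom x) (hg2 ▸ h4)
    exact h5

theorem factor_of_isIndEtale (h : EtPBC.IsIndEtale A B) : Factor A B := by
  obtain ⟨J, hJ, hF, D, c, hc, het, ⟨e⟩⟩ := h
  intro P _ _ _ φ
  obtain ⟨i, hi⟩ := exists_factor_of_isColimit D c hc e P φ
  letI := (D.obj i).hom.hom.toAlgebra
  obtain ⟨α, β, hαβ, -⟩ := hi
  exact ⟨(D.obj i).right, inferInstance, inferInstance, het i, α, β, hαβ⟩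

theorem isIndEtale_iff_factor : EtPBC.IsIndEtale A B ↔ Factor A B :=
  ⟨factor_of_isIndEtale, isIndEtale_of_factor⟩

end Groth.Agent.H11.IndEt
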