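import Mathlib
import Groth.Agent.H11.IndEtaleElim

/-!
# Transitivity of ind-étale algebras
-/

set_option autoImplicit false
universe u
open CategoryTheory CategoryTheory.Limits TensorProduct

namespace Groth.Agent.H11.IndEt

/-- An étale algebra is ind-étale. -/
theorem factor_of_etale (A E : Type u) [CommRing A] [CommRing E] [Algebra A E]
    [Algebra.Etale A E] : Factor A E := by
  intro P _ _ _ φ
  exact ⟨E, inferInstance, inferInstance, inferInstance, φ, AlgHom.id A E, by ext; rfl⟩

/-- Ind-étale over an étale algebra is ind-étale. -/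
theorem Factor.of_etale {A G T : Type u} [CommRing A] [CommRing G] [CommRing T] [Algebra A G]
    [Algebra G T] [Algebra A T] [IsScalarTower A G T] [Algebra.Etale A G] (H : Factor G T) :
    Factor A T := by
  intro P _ _ _ θ
  let ψ : G ⊗[A] P →ₐ[G] T :=
    Algebra.TensorProduct.lift (Algebra.ofId G T) θ (fun _ _ => Commute.all _ _)
  obtain ⟨H', _, _, hH', α, β, hαβ⟩ := H (G ⊗[A] P) ψ
  letI : Algebra A H' := ((algebraMap G H').comp (algebraMap A G)).toAlgebra
  haveI : IsScalarTower A G H' := IsScalarTower.of_algebraMap_eq (fun _ => rfl)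
  haveI : Algebra.Etale A H' := Algebra.Etale.comp A G H'
  refine ⟨H', inferInstance, inferInstance, inferInstance,
    (α.restrictScalars A).comp Algebra.TensorProduct.includeRight, β.restrictScalars A, ?_⟩
  ext p
  show β (α ((1 : G) ⊗ₜ[A] p)) = θ p
  have := DFunLike.congr_fun hαβ ((1 : G) ⊗ₜ[A] p)
  rw [AlgHom.comp_apply] at this
  rw [this]
  show (Algebra.TensorProduct.lift (Algebra.ofId G T) θ (fun _ _ => Commute.all _ _))
    ((1 : G) ⊗ₜ[A] p) = θ p
  rw [Algebra.TensorProduct.lift_tmul, map_one, one_mul]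

/-- Descent of an étale algebra over an ind-étale algebra to an étale stage. -/
theorem exists_etale_descent {A B : Type u} [CommRing A] [CommRing B] [Algebra A B]
    (H : Factor A B) (F : Type u) [CommRing F] [Algebra B F] [Algebra.Etale B F] :
    ∃ (E : Type u) (_ : CommRing E) (_ : Algebra A E) (_ : Algebra.Etale A E) (_ : Algebra E B)
      (_ : IsScalarTower A E B) (G₀ : Type u) (_ : CommRing G₀) (_ : Algebra E G₀)
      (_ : Algebra.Etale E G₀), Nonempty (F ≃ₐ[B] B ⊗[E] G₀) := by
  obtain ⟨B₀, F₀, _, _, hfg, hF₀, ⟨e⟩⟩ :=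
    Algebra.Etale.exists_subalgebra_fg (R := ℤ) (A := B) (B := F)
  haveI : Algebra.FiniteType ℤ B₀ := (Subalgebra.fg_iff_finiteType B₀).mp hfg
  haveI : Algebra.FinitePresentation ℤ B₀ := Algebra.FinitePresentation.of_finiteType.mp inferInstance
  let φ₀ : A ⊗[ℤ] B₀ →ₐ[A] B :=
    Algebra.TensorProduct.lift (Algebra.ofId A B) B₀.val (fun _ _ => Commute.all _ _)
  obtain ⟨E, _, _, hE, α, β, hαβ⟩ := H (A ⊗[ℤ] B₀) φ₀
  letI algB₀E : Algebra B₀ E := (α.toRingHom.comp
    (Algebra.TensorProduct.includeRight : B₀ →ₐ[ℤ] A ⊗[ℤ] B₀).toRingHom).toAlgebra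
  letI algEB : Algebra E B := β.toRingHom.toAlgebra
  haveI : IsScalarTower A E B := IsScalarTower.of_algebraMap_eq (fun a => (β.commutes a).symm)
  haveI : IsScalarTower B₀ E B := IsScalarTower.of_algebraMap_eq (fun b => by
    show (b : B) = β (α ((1 : A) ⊗ₜ[ℤ] b))
    have := DFunLike.congr_fun hαβ ((1 : A) ⊗ₜ[ℤ] b)
    rw [AlgHom.comp_apply] at this
    rw [this]
    show (b : B) = (Algebra.TensorProduct.lift (Algebra.ofId A B) B₀.val
      (fun _ _ => Commute.all _ _)) ((1 : A) ⊗ₜ[ℤ] b)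
    rw [Algebra.TensorProduct.lift_tmul, map_one, one_mul]
    rfl)
  refine ⟨E, inferInstance, inferInstance, hE, algEB, inferInstance, E ⊗[B₀] F₀, inferInstance,
    inferInstance, inferInstance, ⟨e.trans ?_⟩⟩
  exact (Algebra.TensorProduct.cancelBaseChange B₀ E B B F₀).symm

end Groth.Agent.H11.IndEt
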