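import Mathlib

/-!
# Étale neighbourhoods of `V(I)`

An `A`-algebra `A'` is a neighbourhood of `V(I)` when `A/I → A'/IA'` is bijective.
-/

set_option autoImplicit false
universe u
open TensorProduct

namespace Groth.Agent.H11.PH

variable {A : Type u} [CommRing A] (I : Ideal A)

/-- `A/I → A'/IA'` is bijective. -/
def IsNbhd (A' : Type u) [CommRing A'] [Algebra A A'] : Prop :=
  Function.Bijective
    (Ideal.quotientMap (I.map (algebraMap A A')) (algebraMap A A') Ideal.le_comap_map)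

variable {I} {A' : Type u} [CommRing A'] [Algebra A A']

theorem isNbhd_iff : IsNbhd I A' ↔
    (∀ x : A', ∃ a : A, x - algebraMap A A' a ∈ I.map (algebraMap A A')) ∧
    (∀ a : A, algebraMap A A' a ∈ I.map (algebraMap A A') → a ∈ I) := by
  constructor
  · rintro ⟨hinj, hsurj⟩
    refine ⟨fun x => ?_, fun a ha => ?_⟩
    · obtain ⟨y, hy⟩ := hsurj (Ideal.Quotient.mk _ x)
      obtain ⟨a, rfl⟩ := Ideal.Quotient.mk_surjective y
      refine ⟨a, ?_⟩
      rw [Ideal.quotientMap_mk] at hy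
      rw [← Ideal.Quotient.eq]
      exact hy.symm
    · have h0 : Ideal.quotientMap (I.map (algebraMap A A')) (algebraMap A A')
          Ideal.le_comap_map (Ideal.Quotient.mk I a) = 0 := by
        rw [Ideal.quotientMap_mk, Ideal.Quotient.eq_zero_iff_mem]
        exact ha
      have := hinj (h0.trans (map_zero _).symm)
      rwa [Ideal.Quotient.eq_zero_iff_mem] at this
  · rintro ⟨h1, h2⟩
    refine ⟨?_, ?_⟩
    · rw [injective_iff_map_eq_zero]
      intro y hy
      obtain ⟨a, rfl⟩ := Ideal.Quotient.mk_surjective y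
      rw [Ideal.quotientMap_mk, Ideal.Quotient.eq_zero_iff_mem] at hy
      rw [Ideal.Quotient.eq_zero_iff_mem]
      exact h2 a hy
    · intro y
      obtain ⟨x, rfl⟩ := Ideal.Quotient.mk_surjective y
      obtain ⟨a, ha⟩ := h1 x
      refine ⟨Ideal.Quotient.mk I a, ?_⟩
      rw [Ideal.quotientMap_mk, eq_comm, Ideal.Quotient.eq]
      exact ha

theorem map_le_ker (ρ : A' →ₐ[A] A ⧸ I) :
    I.map (algebraMap A A') ≤ RingHom.ker ρ.toRingHom := by
  rw [Ideal.map_le_iff_le_comap]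
  intro i hi
  rw [Ideal.mem_comap, RingHom.mem_ker]
  show ρ (algebraMap A A' i) = 0
  rw [ρ.commutes]
  exact Ideal.Quotient.eq_zero_iff_mem.2 hi

theorem retr_eq_zero (ρ : A' →ₐ[A] A ⧸ I) {x : A'} (hx : x ∈ I.map (algebraMap A A')) :
    ρ x = 0 := map_le_ker ρ hx

theorem retr_algebraMap (ρ : A' →ₐ[A] A ⧸ I) (a : A) :
    ρ (algebraMap A A' a) = Ideal.Quotient.mk I a := ρ.commutes a

theorem isNbhd_of_retr (ρ : A' →ₐ[A] A ⧸ I)
    (hsurj : ∀ x : A', ∃ a : A, x - algebraMap A A' a ∈ I.map (algebraMap A A')) :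
    IsNbhd I A' := by
  rw [isNbhd_iff]
  refine ⟨hsurj, fun a ha => ?_⟩
  have := retr_eq_zero ρ ha
  rw [retr_algebraMap] at this
  exact Ideal.Quotient.eq_zero_iff_mem.1 this

theorem IsNbhd.exists_sub_mem (h : IsNbhd I A') (x : A') :
    ∃ a : A, x - algebraMap A A' a ∈ I.map (algebraMap A A') := (isNbhd_iff.1 h).1 x

theorem IsNbhd.exists_retr (h : IsNbhd I A') :
    ∃ ρ : A' →ₐ[A] A ⧸ I, ∀ x, ρ x = 0 ↔ x ∈ I.map (algebraMap A A') := by
  let e := RingEquiv.ofBijective _ h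
  have he : ∀ a : A, e (Ideal.Quotient.mk I a) =
      Ideal.Quotient.mk (I.map (algebraMap A A')) (algebraMap A A' a) := fun a => rfl
  refine ⟨{ toRingHom := e.symm.toRingHom.comp (Ideal.Quotient.mk _), commutes' := ?_ }, ?_⟩
  · intro a
    show e.symm (Ideal.Quotient.mk _ (algebraMap A A' a)) = _
    rw [RingEquiv.symm_apply_eq]
    rfl
  · intro x
    show e.symm (Ideal.Quotient.mk _ x) = 0 ↔ _
    rw [RingEquiv.symm_apply_eq, map_zero, Ideal.Quotient.eq_zero_iff_mem]

theorem IsNbhd.retr_ext (h : IsNbhd I A') (ρ₁ ρ₂ : A' →ₐ[A] A ⧸ I) : ρ₁ = ρ₂ := by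
  ext x
  obtain ⟨a, ha⟩ := h.exists_sub_mem x
  have h1 := retr_eq_zero ρ₁ ha
  have h2 := retr_eq_zero ρ₂ ha
  rw [map_sub, sub_eq_zero] at h1 h2
  rw [h1, h2, retr_algebraMap, retr_algebraMap]

theorem IsNbhd.retr_eq_zero_iff (h : IsNbhd I A') (ρ : A' →ₐ[A] A ⧸ I) (x : A') :
    ρ x = 0 ↔ x ∈ I.map (algebraMap A A') := by
  obtain ⟨ρ', hρ'⟩ := h.exists_retr
  rw [h.retr_ext ρ ρ']
  exact hρ' x

variable (I) in
theorem IsNbhd.self : IsNbhd I A := by
  refine isNbhd_of_retr (Ideal.Quotient.mkₐ A I) (fun x => ⟨x, ?_⟩)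
  simp

theorem IsNbhd.of_algEquiv {A'' : Type u} [CommRing A''] [Algebra A A''] (h : IsNbhd I A')
    (e : A' ≃ₐ[A] A'') : IsNbhd I A'' := by
  obtain ⟨ρ, -⟩ := h.exists_retr
  refine isNbhd_of_retr (ρ.comp (e.symm : A'' →ₐ[A] A')) (fun x => ?_)
  obtain ⟨a, ha⟩ := h.exists_sub_mem (e.symm x)
  refine ⟨a, ?_⟩
  have h1 : (e : A' →+* A'') (e.symm x - algebraMap A A' a) ∈
      (I.map (algebraMap A A')).map (e : A' →+* A'') := Ideal.mem_map_of_mem _ ha
  rw [Ideal.map_map] at h1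
  have h2 : ((e : A' →+* A'').comp (algebraMap A A')) = algebraMap A A'' := by
    ext r
    exact e.commutes r
  rw [h2] at h1
  have h3 : (e : A' →+* A'') (e.symm x - algebraMap A A' a) = x - algebraMap A A'' a := by
    show e (e.symm x - algebraMap A A' a) = _
    rw [map_sub, AlgEquiv.apply_symm_apply, AlgEquiv.commutes]
  rw [h3] at h1
  exact h1

theorem tmul_mem_left {A₁ A₂ : Type u} [CommRing A₁] [CommRing A₂] [Algebra A A₁] [Algebra A A₂]
    {u : A₁} (hu : u ∈ I.map (algebraMap A A₁)) (y : A₂) :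
    u ⊗ₜ[A] y ∈ I.map (algebraMap A (A₁ ⊗[A] A₂)) := by
  have h1 : (Algebra.TensorProduct.includeLeft : A₁ →ₐ[A] A₁ ⊗[A] A₂) u ∈
      (I.map (algebraMap A A₁)).map
        (Algebra.TensorProduct.includeLeft : A₁ →ₐ[A] A₁ ⊗[A] A₂).toRingHom :=
    Ideal.mem_map_of_mem _ hu
  rw [Ideal.map_map] at h1
  have h2 : ((Algebra.TensorProduct.includeLeft : A₁ →ₐ[A] A₁ ⊗[A] A₂).toRingHom.comp
      (algebraMap A A₁)) = algebraMap A (A₁ ⊗[A] A₂) := by
    ext r
    exact (Algebra.TensorProduct.includeLeft : A₁ →ₐ[A] A₁ ⊗[A] A₂).commutes r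
  rw [h2] at h1
  have h3 : u ⊗ₜ[A] y = (Algebra.TensorProduct.includeLeft : A₁ →ₐ[A] A₁ ⊗[A] A₂) u *
      ((1 : A₁) ⊗ₜ[A] y) := by
    rw [Algebra.TensorProduct.includeLeft_apply, Algebra.TensorProduct.tmul_mul_tmul, mul_one,
      one_mul]
  rw [h3]
  exact Ideal.mul_mem_right _ _ h1

theorem tmul_mem_right {A₁ A₂ : Type u} [CommRing A₁] [CommRing A₂] [Algebra A A₁] [Algebra A A₂]
    (x : A₁) {v : A₂} (hv : v ∈ I.map (algebraMap A A₂)) :
    x ⊗ₜ[A] v ∈ I.map (algebraMap A (A₁ ⊗[A] A₂)) := by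
  have h1 : (Algebra.TensorProduct.includeRight : A₂ →ₐ[A] A₁ ⊗[A] A₂) v ∈
      (I.map (algebraMap A A₂)).map
        (Algebra.TensorProduct.includeRight : A₂ →ₐ[A] A₁ ⊗[A] A₂).toRingHom :=
    Ideal.mem_map_of_mem _ hv
  rw [Ideal.map_map] at h1
  have h2 : ((Algebra.TensorProduct.includeRight : A₂ →ₐ[A] A₁ ⊗[A] A₂).toRingHom.comp
      (algebraMap A A₂)) = algebraMap A (A₁ ⊗[A] A₂) := by
    ext r
    exact (Algebra.TensorProduct.includeRight : A₂ →ₐ[A] A₁ ⊗[A] A₂).commutes r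
  rw [h2] at h1
  have h3 : x ⊗ₜ[A] v = (Algebra.TensorProduct.includeRight : A₂ →ₐ[A] A₁ ⊗[A] A₂) v *
      (x ⊗ₜ[A] (1 : A₂)) := by
    rw [Algebra.TensorProduct.includeRight_apply, Algebra.TensorProduct.tmul_mul_tmul, mul_one,
      one_mul]
  rw [h3]
  exact Ideal.mul_mem_right _ _ h1

theorem IsNbhd.tensor {A₁ A₂ : Type u} [CommRing A₁] [CommRing A₂] [Algebra A A₁] [Algebra A A₂]
    (h₁ : IsNbhd I A₁) (h₂ : IsNbhd I A₂) : IsNbhd I (A₁ ⊗[A] A₂) := by
  obtain ⟨ρ₁, -⟩ := h₁.exists_retr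
  obtain ⟨ρ₂, -⟩ := h₂.exists_retr
  refine isNbhd_of_retr (Algebra.TensorProduct.productMap ρ₁ ρ₂) ?_
  intro z
  induction z using TensorProduct.induction_on with
  | zero => exact ⟨0, by simp⟩
  | tmul x y =>
    obtain ⟨a, ha⟩ := h₁.exists_sub_mem x
    obtain ⟨b, hb⟩ := h₂.exists_sub_mem y
    refine ⟨a * b, ?_⟩
    have e1 : x ⊗ₜ[A] y - algebraMap A (A₁ ⊗[A] A₂) (a * b) =
        (x - algebraMap A A₁ a) ⊗ₜ[A] y + (algebraMap A A₁ a) ⊗ₜ[A] (y - algebraMap A A₂ b) := by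
      rw [TensorProduct.sub_tmul, TensorProduct.tmul_sub, Algebra.TensorProduct.algebraMap_apply,
        map_mul]
      have : (algebraMap A A₁ a * algebraMap A A₁ b) ⊗ₜ[A] (1 : A₂) =
          algebraMap A A₁ a ⊗ₜ[A] algebraMap A A₂ b := by
        rw [Algebra.algebraMap_eq_smul_one b, Algebra.algebraMap_eq_smul_one (A := A₂) b,
          mul_smul_comm, mul_one, TensorProduct.smul_tmul]
      rw [this]
      abel
    rw [e1]
    exact Ideal.add_mem _ (tmul_mem_left ha y) (tmul_mem_right _ hb)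
  | add z w hz hw =>
    obtain ⟨a, ha⟩ := hz
    obtain ⟨b, hb⟩ := hw
    refine ⟨a + b, ?_⟩
    have := Ideal.add_mem _ ha hb
    rw [map_add]
    convert this using 1
    abel

theorem pow_sub_one_mem {a : A'} (ha : a - 1 ∈ I.map (algebraMap A A')) (n : ℕ) :
    a ^ n - 1 ∈ I.map (algebraMap A A') := by
  rw [← Ideal.Quotient.eq] at ha ⊢
  rw [map_pow, ha, map_one, one_pow]

theorem IsNbhd.away (h : IsNbhd I A') (a : A') (ha : a - 1 ∈ I.map (algebraMap A A')) :
    IsNbhd I (Localization.Away a) := by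
  obtain ⟨ρ, hρ⟩ := h.exists_retr
  have hρa : ρ a = 1 := by
    have := (hρ (a - 1)).2 ha
    rwa [map_sub, map_one, sub_eq_zero] at this
  have hu : IsUnit (ρ a) := hρa ▸ isUnit_one
  let ρ' : Localization.Away a →ₐ[A] A ⧸ I :=
    { IsLocalization.Away.lift (S := Localization.Away a) a (g := ρ.toRingHom) hu with
      commutes' := fun r => by
        show IsLocalization.Away.lift (S := Localization.Away a) a (g := ρ.toRingHom) hu
          (algebraMap A' (Localization.Away a) (algebraMap A A' r)) = _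
        rw [IsLocalization.Away.lift_eq]
        exact ρ.commutes r }
  refine isNbhd_of_retr ρ' (fun y => ?_)
  obtain ⟨x, ⟨_, n, rfl⟩, rfl⟩ := IsLocalization.exists_mk'_eq (Submonoid.powers a) y
  obtain ⟨α, hα⟩ := h.exists_sub_mem x
  refine ⟨α, ?_⟩
  -- the extension of `I A'`
  have hmap : ∀ u ∈ I.map (algebraMap A A'),
      algebraMap A' (Localization.Away a) u ∈ I.map (algebraMap A (Localization.Away a)) := by
    intro u hu
    have h1 : algebraMap A' (Localization.Away a) u ∈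
        (I.map (algebraMap A A')).map (algebraMap A' (Localization.Away a)) :=
      Ideal.mem_map_of_mem _ hu
    rw [Ideal.map_map, ← IsScalarTower.algebraMap_eq] at h1
    exact h1
  set y := IsLocalization.mk' (Localization.Away a) x
    (⟨a ^ n, n, rfl⟩ : Submonoid.powers a) with hy
  have hspec : y * algebraMap A' (Localization.Away a) (a ^ n) =
      algebraMap A' (Localization.Away a) x := IsLocalization.mk'_spec _ _ _
  have e1 : y - algebraMap A (Localization.Away a) α =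
      algebraMap A' (Localization.Away a) (x - algebraMap A A' α) -
        y * algebraMap A' (Localization.Away a) (a ^ n - 1) := by
    rw [map_sub, map_sub, map_one, mul_sub, mul_one, hspec,
      ← IsScalarTower.algebraMap_apply A A' (Localization.Away a)]
    ring
  rw [e1]
  exact Ideal.sub_mem _ (hmap _ hα) (Ideal.mul_mem_left _ _ (hmap _ (pow_sub_one_mem ha n)))

/-- Two maps between étale neighbourhoods become equal after inverting an element congruent to
`1`. -/
theorem exists_equalizer {A₁ A₂ : Type u} [CommRing A₁] [CommRing A₂] [Algebra A A₁]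
    [Algebra A A₂] [Algebra.Etale A A₁] (h₁ : IsNbhd I A₁) (h₂ : IsNbhd I A₂)
    (f g : A₁ →ₐ[A] A₂) :
    ∃ a : A₂, a - 1 ∈ I.map (algebraMap A A₂) ∧ ∀ x, (g x - f x) * a = 0 := by
  obtain ⟨t, ht1, ht2⟩ := (Algebra.FormallyUnramified.iff_exists_tensorProduct
    (R := A) (S := A₁)).1 inferInstance
  obtain ⟨ρ₂, hρ₂⟩ := h₂.exists_retr
  refine ⟨Algebra.TensorProduct.productMap f g t, ?_, fun x => ?_⟩
  · rw [← hρ₂, map_sub, map_one, sub_eq_zero]
    have hfg : ρ₂.comp f = ρ₂.comp g := h₁.retr_ext _ _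
    have hcomp : ρ₂.comp (Algebra.TensorProduct.productMap f g) =
        (ρ₂.comp f).comp (Algebra.TensorProduct.lmul' A) := by
      apply Algebra.TensorProduct.ext'
      intro a b
      rw [AlgHom.comp_apply, AlgHom.comp_apply, Algebra.TensorProduct.productMap_apply_tmul,
        Algebra.TensorProduct.lmul'_apply_tmul, map_mul, map_mul]
      have : ρ₂ (g b) = ρ₂ (f b) := (DFunLike.congr_fun hfg b).symm
      rw [this]
      rfl
    have := DFunLike.congr_fun hcomp t
    rw [AlgHom.comp_apply, AlgHom.comp_apply, ht2, map_one] at this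
    exact this
  · have := congrArg (Algebra.TensorProduct.productMap f g) (ht1 x)
    rw [map_mul, map_sub, map_zero, Algebra.TensorProduct.productMap_apply_tmul,
      Algebra.TensorProduct.productMap_apply_tmul, map_one, map_one, one_mul, mul_one] at this
    exact this

end Groth.Agent.H11.PH
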