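import Mathlib
import Groth.Prelude.Def_PBC
import Groth.Agent.H11.PairNbhd

/-!
# The colimit of the étale neighbourhoods of `V(I)`
-/

set_option autoImplicit false
universe u
open CategoryTheory CategoryTheory.Limits TensorProduct

namespace Groth.Agent.H11.PH

noncomputable section

variable (A : Type u) [CommRing A] (I : Ideal A)

/-- Objects of the index category: étale neighbourhoods of `V(I)` presented as quotients of
polynomial rings. -/
structure NObj where
  n : ℕ
  I₀ : Ideal (MvPolynomial (Fin n) A)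
  et : Algebra.Etale A (MvPolynomial (Fin n) A ⧸ I₀)
  nbhd : IsNbhd I (MvPolynomial (Fin n) A ⧸ I₀)

variable {A I}

/-- The underlying algebra. -/
abbrev NObj.Q (j : NObj A I) : Type u := MvPolynomial (Fin j.n) A ⧸ j.I₀

instance (j : NObj A I) : Algebra.Etale A j.Q := j.et

instance : SmallCategory (NObj A I) where
  Hom j k := j.Q →ₐ[A] k.Q
  id j := AlgHom.id A _
  comp f g := g.comp f

/-- The underlying algebra map of a morphism. -/
def toAlg {j k : NObj A I} (f : j ⟶ k) : j.Q →ₐ[A] k.Q := f

/-- The morphism of an algebra map. -/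
def ofAlg {j k : NObj A I} (f : j.Q →ₐ[A] k.Q) : j ⟶ k := f

@[simp] lemma toAlg_ofAlg {j k : NObj A I} (f : j.Q →ₐ[A] k.Q) : toAlg (ofAlg f) = f := rfl

@[simp] lemma toAlg_comp {j k l : NObj A I} (f : j ⟶ k) (g : k ⟶ l) :
    toAlg (f ≫ g) = (toAlg g).comp (toAlg f) := rfl

/-- Every étale neighbourhood is isomorphic to an object. -/
lemma exists_nobj (E : Type u) [CommRing E] [Algebra A E] [Algebra.Etale A E] (h : IsNbhd I E) :
    ∃ (j : NObj A I), Nonempty (E ≃ₐ[A] j.Q) := by
  obtain ⟨n, f, hf, hfg⟩ := (inferInstance : Algebra.FinitePresentation A E).out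
  let e : (MvPolynomial (Fin n) A ⧸ RingHom.ker f.toRingHom) ≃ₐ[A] E :=
    Ideal.quotientKerAlgEquivOfSurjective hf
  exact ⟨⟨n, RingHom.ker f.toRingHom, Algebra.Etale.of_equiv e.symm, h.of_algEquiv e.symm⟩,
    ⟨e.symm⟩⟩

instance : Nonempty (NObj A I) := by
  obtain ⟨j, -⟩ := exists_nobj (A := A) (I := I) A (IsNbhd.self I)
  exact ⟨j⟩

instance : IsFiltered (NObj A I) where
  cocone_objs j k := by
    haveI : Algebra.Etale A (j.Q ⊗[A] k.Q) := Algebra.Etale.comp A j.Q (j.Q ⊗[A] k.Q)
    obtain ⟨l, ⟨e⟩⟩ := exists_nobj (j.Q ⊗[A] k.Q) (j.nbhd.tensor k.nbhd)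
    exact ⟨l, ofAlg ((e : j.Q ⊗[A] k.Q →ₐ[A] l.Q).comp Algebra.TensorProduct.includeLeft),
      ofAlg ((e : j.Q ⊗[A] k.Q →ₐ[A] l.Q).comp Algebra.TensorProduct.includeRight), trivial⟩
  cocone_maps j k f g := by
    obtain ⟨a, ha, hfg⟩ := exists_equalizer j.nbhd k.nbhd (toAlg f) (toAlg g)
    haveI : Algebra.Etale A (Localization.Away a) :=
      Algebra.Etale.comp A k.Q (Localization.Away a)
    obtain ⟨l, ⟨e⟩⟩ := exists_nobj (Localization.Away a) (k.nbhd.away a ha)
    refine ⟨l, ofAlg ((e : Localization.Away a →ₐ[A] l.Q).comp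
      (IsScalarTower.toAlgHom A k.Q (Localization.Away a))), ?_⟩
    apply AlgHom.ext
    intro x
    show e (algebraMap k.Q (Localization.Away a) (toAlg f x)) =
      e (algebraMap k.Q (Localization.Away a) (toAlg g x))
    congr 1
    have h0 := congrArg (algebraMap k.Q (Localization.Away a)) (hfg x)
    rw [map_mul, map_zero, map_sub] at h0
    have hu : IsUnit (algebraMap k.Q (Localization.Away a) a) :=
      IsLocalization.Away.algebraMap_isUnit a
    have := (hu.mul_left_eq_zero).1 h0
    exact (sub_eq_zero.1 this).symm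
  nonempty := inferInstance

instance : IsConnected (NObj A I) := IsFiltered.isConnected _

variable (A I) in
/-- The diagram. -/
def ndiag : NObj A I ⥤ Under (CommRingCat.of A) where
  obj j := Under.mk (CommRingCat.ofHom (algebraMap A j.Q))
  map {j k} f := Under.homMk (CommRingCat.ofHom (toAlg f).toRingHom) (by
    ext x
    exact (toAlg f).commutes x)
  map_id j := by
    ext x
    rfl
  map_comp f g := by
    ext x
    rfl

variable (A I) in
/-- The colimit, as an object under `A`. -/
def colim : Under (CommRingCat.of A) := colimit (ndiag A I)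

variable (A I) in
/-- The henselization of the pair `(A, I)`. -/
abbrev PHens : Type u := (colim A I).right

instance : Algebra A (PHens A I) := (colim A I).hom.hom.toAlgebra

/-- The structure maps. -/
def ι (j : NObj A I) : j.Q →ₐ[A] PHens A I :=
  { (colimit.ι (ndiag A I) j).right.hom with
    commutes' := fun r => by
      have := Under.w (colimit.ι (ndiag A I) j)
      exact congrArg (fun h => h.hom r) this }

lemma ι_comp {j k : NObj A I} (f : j ⟶ k) (x : j.Q) : ι k (toAlg f x) = ι j x := by
  have := colimit.w (ndiag A I) f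
  exact congrArg (fun h => h.right.hom x) this

/-- The colimit cocone in types. -/
def isColimit_types : IsColimit ((forget CommRingCat).mapCocone
    ((Under.forget _).mapCocone (colimit.cocone (ndiag A I)))) :=
  isColimitOfPreserves (forget CommRingCat)
    (isColimitOfPreserves (Under.forget _) (colimit.isColimit (ndiag A I)))

lemma exists_rep (b : PHens A I) : ∃ (j : NObj A I) (x : j.Q), ι j x = b := by
  obtain ⟨j, x, hx⟩ := Types.jointly_surjective_of_isColimit (isColimit_types (A := A) (I := I)) b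
  exact ⟨j, x, hx⟩

lemma ι_eq_iff {j : NObj A I} (x y : j.Q) :
    ι j x = ι j y ↔ ∃ (k : NObj A I) (f : j ⟶ k), toAlg f x = toAlg f y := by
  constructor
  · intro h
    obtain ⟨k, f, g, hfg⟩ := (Types.FilteredColimit.isColimit_eq_iff _
      (isColimit_types (A := A) (I := I)) (xi := x) (xj := y)).1 h
    refine ⟨IsFiltered.coeq f g, f ≫ IsFiltered.coeqHom f g, ?_⟩
    have h1 : toAlg (f ≫ IsFiltered.coeqHom f g) y = toAlg (g ≫ IsFiltered.coeqHom f g) y := by
      rw [IsFiltered.coeq_condition f g]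
    rw [h1]
    show toAlg (IsFiltered.coeqHom f g) (toAlg f x) = toAlg (IsFiltered.coeqHom f g) (toAlg g y)
    exact congrArg _ hfg
  · rintro ⟨k, f, hf⟩
    rw [← ι_comp f x, ← ι_comp f y, hf]

lemma ι_eq_zero {j : NObj A I} {x : j.Q} (h : ι j x = 0) :
    ∃ (k : NObj A I) (f : j ⟶ k), toAlg f x = 0 := by
  have : ι j x = ι j 0 := by rw [h, map_zero]
  obtain ⟨k, f, hf⟩ := (ι_eq_iff x 0).1 this
  exact ⟨k, f, by rw [hf, map_zero]⟩

end

end Groth.Agent.H11.PH
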