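import Mathlib
import Groth.Agent.H11.PairColim

/-!
# Basic properties of the colimit of étale neighbourhoods of `V(I)`
-/

set_option autoImplicit false
universe u
open CategoryTheory CategoryTheory.Limits TensorProduct

namespace Groth.Agent.H11.PH

noncomputable section

variable {A : Type u} [CommRing A] {I : Ideal A}

theorem algHom_ext {C : Type*} [CommRing C] [Algebra A C] (G₁ G₂ : PHens A I →ₐ[A] C)
    (h : ∀ (j : NObj A I) (x : j.Q), G₁ (ι j x) = G₂ (ι j x)) : G₁ = G₂ := by
  ext b
  obtain ⟨j, x, rfl⟩ := exists_rep b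
  exact h j x

theorem ringHom_ext {C : Type*} [CommRing C] (G₁ G₂ : PHens A I →+* C)
    (h : ∀ (j : NObj A I) (x : j.Q), G₁ (ι j x) = G₂ (ι j x)) : G₁ = G₂ := by
  ext b
  obtain ⟨j, x, rfl⟩ := exists_rep b
  exact h j x

/-- The universal property of the colimit. -/
theorem exists_lift {C : Type u} [CommRing C] [Algebra A C] (g : ∀ j : NObj A I, j.Q →ₐ[A] C)
    (hg : ∀ {j k : NObj A I} (f : j ⟶ k) (x : j.Q), g k (toAlg f x) = g j x) :
    ∃ G : PHens A I →ₐ[A] C, ∀ (j : NObj A I) (x : j.Q), G (ι j x) = g j x := by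
  let s : Cocone (ndiag A I) :=
    { pt := Under.mk (CommRingCat.ofHom (algebraMap A C))
      ι :=
        { app := fun j => Under.homMk (CommRingCat.ofHom (g j).toRingHom) (by
            ext r
            exact (g j).commutes r)
          naturality := fun j k f => by
            ext x
            exact hg f x } }
  let G₀ : colim A I ⟶ Under.mk (CommRingCat.ofHom (algebraMap A C)) :=
    colimit.desc (ndiag A I) s
  refine ⟨{ G₀.right.hom with
      commutes' := fun r => by
        have := Under.w G₀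
        exact congrArg (fun h => h.hom r) this }, fun j x => ?_⟩
  have := colimit.ι_desc s j
  exact congrArg (fun h => h.right.hom x) this

/-- The colimit is ind-étale. -/
theorem isIndEtale_pHens : EtPBC.IsIndEtale A (PHens A I) := by
  refine ⟨NObj A I, inferInstance, inferInstance, ndiag A I, colimit.cocone (ndiag A I),
    colimit.isColimit (ndiag A I), ?_, ⟨Iso.refl _⟩⟩
  intro j
  have : (algebraMap A j.Q).toAlgebra = (inferInstance : Algebra A j.Q) :=
    Algebra.algebra_ext _ _ (fun _ => rfl)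
  show @Algebra.Etale A j.Q _ _ (algebraMap A j.Q).toAlgebra
  rw [this]
  exact j.et

/-- Every étale neighbourhood maps to the colimit. -/
theorem exists_algHom_of_isNbhd (E : Type u) [CommRing E] [Algebra A E] [Algebra.Etale A E]
    (h : IsNbhd I E) : ∃ (j : NObj A I) (e : E ≃ₐ[A] j.Q), True := by
  obtain ⟨j, ⟨e⟩⟩ := exists_nobj E h
  exact ⟨j, e, trivial⟩

theorem ι_mem_map {j : NObj A I} {x : j.Q} (hx : x ∈ I.map (algebraMap A j.Q)) :
    ι j x ∈ I.map (algebraMap A (PHens A I)) := by
  have h1 : (ι j).toRingHom x ∈ (I.map (algebraMap A j.Q)).map (ι j).toRingHom :=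
    Ideal.mem_map_of_mem _ hx
  rw [Ideal.map_map] at h1
  have h2 : (ι j).toRingHom.comp (algebraMap A j.Q) = algebraMap A (PHens A I) := by
    ext r
    exact (ι j).commutes r
  rw [h2] at h1
  exact h1

/-- The retraction of the colimit onto `A/I`. -/
theorem exists_retr_pHens : ∃ ρ : PHens A I →ₐ[A] A ⧸ I, True := by
  have key : ∀ j : NObj A I, ∃ ρ : j.Q →ₐ[A] A ⧸ I, True := fun j => by
    obtain ⟨ρ, -⟩ := j.nbhd.exists_retr
    exact ⟨ρ, trivial⟩
  choose ρ _ using key
  obtain ⟨G, -⟩ := exists_lift (C := A ⧸ I) ρ (fun {j k} f x => by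
    have := j.nbhd.retr_ext ((ρ k).comp (toAlg f)) (ρ j)
    exact DFunLike.congr_fun this x)
  exact ⟨G, trivial⟩

theorem isNbhd_pHens : IsNbhd I (PHens A I) := by
  obtain ⟨ρ, -⟩ := exists_retr_pHens (A := A) (I := I)
  refine isNbhd_of_retr ρ (fun b => ?_)
  obtain ⟨j, x, rfl⟩ := exists_rep b
  obtain ⟨a, ha⟩ := j.nbhd.exists_sub_mem x
  refine ⟨a, ?_⟩
  have := ι_mem_map ha
  rw [map_sub, AlgHom.commutes] at this
  exact this

end

end Groth.Agent.H11.PH
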