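import Mathlib
import Groth.Agent.H11.PairNbhd

/-!
# Cutting out a section of an étale algebra modulo `I`
-/

set_option autoImplicit false
universe u
open TensorProduct

namespace Groth.Agent.H11.PH

variable {A : Type u} [CommRing A] {I : Ideal A}

/-- If `G` is étale over `A` and `σ : G → A/I` is an `A`-algebra map, then some principal
localization `G[1/a]` with `σ a = 1` is an étale neighbourhood of `V(I)`. -/
theorem exists_away_isNbhd {G : Type u} [CommRing G] [Algebra A G] [Algebra.Etale A G]
    (σ : G →ₐ[A] A ⧸ I) : ∃ a : G, σ a = 1 ∧ IsNbhd I (Localization.Away a) := by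
  obtain ⟨t, ht1, ht2⟩ := (Algebra.FormallyUnramified.iff_exists_tensorProduct
    (R := A) (S := G)).1 inferInstance
  obtain ⟨IG, hIG⟩ : ∃ IG : Ideal G, IG = I.map (algebraMap A G) := ⟨_, rfl⟩
  let mkQ : G →ₐ[A] G ⧸ IG := Ideal.Quotient.mkₐ A IG
  let σb : (G ⧸ IG) →ₐ[A] A ⧸ I :=
    Ideal.Quotient.liftₐ IG σ (fun x hx => retr_eq_zero σ (hIG ▸ hx))
  have hσb : ∀ x, σb (mkQ x) = σ x := fun x => rfl
  let ι : (A ⧸ I) →ₐ[A] G ⧸ IG :=
    Ideal.Quotient.liftₐ I (Algebra.ofId A (G ⧸ IG)) (fun a ha => by
      show Ideal.Quotient.mk IG (algebraMap A G a) = 0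
      rw [Ideal.Quotient.eq_zero_iff_mem, hIG]
      exact Ideal.mem_map_of_mem _ ha)
  have hι : ∀ α : A, ι (Ideal.Quotient.mk I α) = mkQ (algebraMap A G α) := fun α => rfl
  have hσι : ∀ z, σb (ι z) = z := by
    intro z
    obtain ⟨α, rfl⟩ := Ideal.Quotient.mk_surjective z
    rw [hι, hσb, retr_algebraMap]
  let Φ : G ⊗[A] G →ₐ[A] G ⧸ IG := Algebra.TensorProduct.productMap mkQ (ι.comp σ)
  obtain ⟨a, ha⟩ := Ideal.Quotient.mk_surjective (Φ t)
  have hcomp : σb.comp Φ = σ.comp (Algebra.TensorProduct.lmul' A) := by
    apply Algebra.TensorProduct.ext'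
    intro x y
    rw [AlgHom.comp_apply, AlgHom.comp_apply, Algebra.TensorProduct.productMap_apply_tmul,
      Algebra.TensorProduct.lmul'_apply_tmul, map_mul, map_mul, hσb, AlgHom.comp_apply, hσι]
  have hσa : σ a = 1 := by
    have h1 : σ a = σb (Φ t) := by rw [← ha]; rfl
    have h2 := DFunLike.congr_fun hcomp t
    rw [AlgHom.comp_apply, AlgHom.comp_apply, ht2, map_one] at h2
    rw [h1, h2]
  refine ⟨a, hσa, ?_⟩
  -- key congruence
  have hkey : ∀ s : G, ∀ α : A, Ideal.Quotient.mk I α = σ s →
      (algebraMap A G α - s) * a ∈ I.map (algebraMap A G) := by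
    intro s α hα
    have h1 := congrArg Φ (ht1 s)
    rw [map_mul, map_sub, map_zero, Algebra.TensorProduct.productMap_apply_tmul,
      Algebra.TensorProduct.productMap_apply_tmul, map_one, map_one, one_mul, mul_one,
      AlgHom.comp_apply, ← hα, hι, ← ha] at h1
    rw [← hIG, ← Ideal.Quotient.eq_zero_iff_mem, map_mul, map_sub]
    exact h1
  have hu : IsUnit (σ a) := hσa ▸ isUnit_one
  let ρ' : Localization.Away a →ₐ[A] A ⧸ I :=
    { IsLocalization.Away.lift (S := Localization.Away a) a (g := σ.toRingHom) hu with
      commutes' := fun r => by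
        show IsLocalization.Away.lift (S := Localization.Away a) a (g := σ.toRingHom) hu
          (algebraMap G (Localization.Away a) (algebraMap A G r)) = _
        rw [IsLocalization.Away.lift_eq]
        exact σ.commutes r }
  have hmap : ∀ u ∈ I.map (algebraMap A G),
      algebraMap G (Localization.Away a) u ∈ I.map (algebraMap A (Localization.Away a)) := by
    intro u hu
    have h1 : algebraMap G (Localization.Away a) u ∈
        (I.map (algebraMap A G)).map (algebraMap G (Localization.Away a)) :=
      Ideal.mem_map_of_mem _ hu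
    rw [Ideal.map_map, ← IsScalarTower.algebraMap_eq] at h1
    exact h1
  have hau : IsUnit (algebraMap G (Localization.Away a) a) :=
    IsLocalization.Away.algebraMap_isUnit a
  -- every element of `G` is congruent to an element of `A` in the localization
  have hcong : ∀ s : G, ∃ α : A, Ideal.Quotient.mk I α = σ s ∧
      algebraMap G (Localization.Away a) s - algebraMap A (Localization.Away a) α ∈
        I.map (algebraMap A (Localization.Away a)) := by
    intro s
    obtain ⟨α, hα⟩ := Ideal.Quotient.mk_surjective (σ s)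
    refine ⟨α, hα, ?_⟩
    have h1 := hmap _ (hkey s α hα)
    rw [map_mul] at h1
    have h2 : algebraMap G (Localization.Away a) (algebraMap A G α - s) ∈
        I.map (algebraMap A (Localization.Away a)) := by
      have := Ideal.mul_mem_right (↑hau.unit⁻¹ : Localization.Away a) _ h1
      rw [mul_assoc, IsUnit.mul_val_inv, mul_one] at this
      exact this
    rw [map_sub, ← IsScalarTower.algebraMap_apply] at h2
    have h3 := Ideal.neg_mem_iff _ |>.2 h2
    rwa [neg_sub] at h3
  have ha1 : algebraMap G (Localization.Away a) a - 1 ∈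
      I.map (algebraMap A (Localization.Away a)) := by
    obtain ⟨α, hα, hα'⟩ := hcong a
    rw [hσa] at hα
    have h1 : α - 1 ∈ I := by
      rw [← Ideal.Quotient.eq, map_one]
      exact hα
    have h2 : algebraMap A (Localization.Away a) (α - 1) ∈
        I.map (algebraMap A (Localization.Away a)) := Ideal.mem_map_of_mem _ h1
    have := Ideal.add_mem _ hα' h2
    rw [map_sub, map_one] at this
    convert this using 1
    ring
  refine isNbhd_of_retr ρ' (fun y => ?_)
  obtain ⟨x, ⟨_, n, rfl⟩, rfl⟩ := IsLocalization.exists_mk'_eq (Submonoid.powers a) y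
  obtain ⟨α, -, hα⟩ := hcong x
  refine ⟨α, ?_⟩
  set y := IsLocalization.mk' (Localization.Away a) x
    (⟨a ^ n, n, rfl⟩ : Submonoid.powers a) with hy
  have hspec : y * algebraMap G (Localization.Away a) (a ^ n) =
      algebraMap G (Localization.Away a) x := IsLocalization.mk'_spec _ _ _
  have han : algebraMap G (Localization.Away a) (a ^ n) - 1 ∈
      I.map (algebraMap A (Localization.Away a)) := by
    rw [map_pow]
    exact pow_sub_one_mem (A' := Localization.Away a) ha1 n
  have e1 : y - algebraMap A (Localization.Away a) α =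
      (algebraMap G (Localization.Away a) x - algebraMap A (Localization.Away a) α) -
        y * (algebraMap G (Localization.Away a) (a ^ n) - 1) := by
    rw [mul_sub, mul_one, hspec]
    ring
  rw [e1]
  exact Ideal.sub_mem _ hα (Ideal.mul_mem_left _ _ han)

end Groth.Agent.H11.PH
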