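import Mathlib
import Groth.Agent.H11.PairColim2
import Groth.Agent.H11.PairSection
import Groth.Agent.H11.IndEtaleTrans
import Groth.Agent.H11.HensLift
import Groth.Agent.S0523

/-!
# The colimit of étale neighbourhoods of `V(I)` is henselian along `I`
-/

set_option autoImplicit false
universe u
open CategoryTheory CategoryTheory.Limits TensorProduct

namespace Groth.Agent.H11.PH

noncomputable section

variable {A : Type u} [CommRing A] {I : Ideal A}

/-- Elements of the extended ideal come from the extended ideal of a stage. -/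
theorem exists_rep_of_mem_map {b : PHens A I} (hb : b ∈ I.map (algebraMap A (PHens A I))) :
    ∃ (j : NObj A I) (x : j.Q), x ∈ I.map (algebraMap A j.Q) ∧ ι j x = b := by
  unfold Ideal.map at hb
  induction hb using Submodule.span_induction with
  | mem b hb =>
    obtain ⟨i, hi, rfl⟩ := hb
    obtain ⟨j⟩ := (inferInstance : Nonempty (NObj A I))
    exact ⟨j, algebraMap A j.Q i, Ideal.mem_map_of_mem _ hi, (ι j).commutes i⟩
  | zero =>
    obtain ⟨j⟩ := (inferInstance : Nonempty (NObj A I))
    exact ⟨j, 0, Ideal.zero_mem _, map_zero _⟩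
  | add b c _ _ hb hc =>
    obtain ⟨j, x, hx, rfl⟩ := hb
    obtain ⟨k, y, hy, rfl⟩ := hc
    refine ⟨IsFiltered.max j k, toAlg (IsFiltered.leftToMax j k) x +
      toAlg (IsFiltered.rightToMax j k) y, Ideal.add_mem _ ?_ ?_, ?_⟩
    · have := Ideal.mem_map_of_mem (toAlg (IsFiltered.leftToMax j k)).toRingHom hx
      rw [Ideal.map_map] at this
      have h2 : (toAlg (IsFiltered.leftToMax j k)).toRingHom.comp (algebraMap A j.Q) =
          algebraMap A (IsFiltered.max j k).Q := by
        ext r
        exact (toAlg (IsFiltered.leftToMax j k)).commutes r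
      rw [h2] at this
      exact this
    · have := Ideal.mem_map_of_mem (toAlg (IsFiltered.rightToMax j k)).toRingHom hy
      rw [Ideal.map_map] at this
      have h2 : (toAlg (IsFiltered.rightToMax j k)).toRingHom.comp (algebraMap A k.Q) =
          algebraMap A (IsFiltered.max j k).Q := by
        ext r
        exact (toAlg (IsFiltered.rightToMax j k)).commutes r
      rw [h2] at this
      exact this
    · rw [map_add, ι_comp, ι_comp]
  | smul c b _ hb =>
    obtain ⟨j, x, hx, rfl⟩ := hb
    obtain ⟨k, y, rfl⟩ := exists_rep c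
    refine ⟨IsFiltered.max j k, toAlg (IsFiltered.rightToMax j k) y *
      toAlg (IsFiltered.leftToMax j k) x, Ideal.mul_mem_left _ _ ?_, ?_⟩
    · have := Ideal.mem_map_of_mem (toAlg (IsFiltered.leftToMax j k)).toRingHom hx
      rw [Ideal.map_map] at this
      have h2 : (toAlg (IsFiltered.leftToMax j k)).toRingHom.comp (algebraMap A j.Q) =
          algebraMap A (IsFiltered.max j k).Q := by
        ext r
        exact (toAlg (IsFiltered.leftToMax j k)).commutes r
      rw [h2] at this
      exact this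
    · rw [map_mul, ι_comp, ι_comp, smul_eq_mul]

/-- The extended ideal is contained in the Jacobson radical. -/
theorem map_le_jacobson :
    I.map (algebraMap A (PHens A I)) ≤ Ideal.jacobson (⊥ : Ideal (PHens A I)) := by
  intro b hb
  rw [Ideal.mem_jacobson_bot]
  intro c
  have hcb : b * c ∈ I.map (algebraMap A (PHens A I)) := Ideal.mul_mem_right _ _ hb
  obtain ⟨j, x, hx, hxb⟩ := exists_rep_of_mem_map hcb
  rw [← hxb]
  -- invert `1 + x`
  have ha : (x + 1) - 1 ∈ I.map (algebraMap A j.Q) := by rwa [add_sub_cancel_right]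
  haveI : Algebra.Etale A (Localization.Away (x + 1)) :=
    Algebra.Etale.comp A j.Q (Localization.Away (x + 1))
  obtain ⟨k, ⟨e⟩⟩ := exists_nobj (Localization.Away (x + 1)) (j.nbhd.away (x + 1) ha)
  let f : j ⟶ k := ofAlg ((e : Localization.Away (x + 1) →ₐ[A] k.Q).comp
    (IsScalarTower.toAlgHom A j.Q (Localization.Away (x + 1))))
  have hu : IsUnit (toAlg f (x + 1)) := by
    show IsUnit (e (algebraMap j.Q (Localization.Away (x + 1)) (x + 1)))
    exact (IsLocalization.Away.algebraMap_isUnit (x + 1)).map e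
  have := hu.map (ι k)
  rw [ι_comp, map_add, map_one] at this
  exact this

/-- The retraction onto `A/I` and its properties. -/
theorem exists_retr_pHens' : ∃ ρ : PHens A I →ₐ[A] A ⧸ I,
    ∀ b, ρ b = 0 ↔ b ∈ I.map (algebraMap A (PHens A I)) :=
  (isNbhd_pHens (A := A) (I := I)).exists_retr

/-- Maps from an étale neighbourhood to an algebra killed by `I` are unique. -/
theorem IsNbhd.algHom_ext_of_killed {A' : Type u} [CommRing A'] [Algebra A A'] (h : IsNbhd I A')
    {T : Type*} [CommRing T] [Algebra A T] (hT : ∀ i ∈ I, algebraMap A T i = 0)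
    (φ₁ φ₂ : A' →ₐ[A] T) : φ₁ = φ₂ := by
  have hk : ∀ φ : A' →ₐ[A] T, ∀ x ∈ I.map (algebraMap A A'), φ x = 0 := by
    intro φ x hx
    have : I.map (algebraMap A A') ≤ RingHom.ker φ.toRingHom := by
      rw [Ideal.map_le_iff_le_comap]
      intro i hi
      rw [Ideal.mem_comap, RingHom.mem_ker]
      show φ (algebraMap A A' i) = 0
      rw [φ.commutes, hT i hi]
    exact this hx
  ext x
  obtain ⟨a, ha⟩ := h.exists_sub_mem x
  have h1 := hk φ₁ _ ha
  have h2 := hk φ₂ _ ha
  rw [map_sub, sub_eq_zero] at h1 h2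
  rw [h1, h2, φ₁.commutes, φ₂.commutes]

/-- The colimit is henselian along the extension of `I`. -/
theorem henselianRing_pHens : HenselianRing (PHens A I) (I.map (algebraMap A (PHens A I))) := by
  rw [Groth.Agent.S0523.result]
  intro B' _ _ _ σ
  obtain ⟨ρB, hρB⟩ := exists_retr_pHens' (A := A) (I := I)
  -- the induced isomorphism `B/IB → A/I` (we only need the map and its injectivity)
  let ρb : (PHens A I ⧸ I.map (algebraMap A (PHens A I))) →+* A ⧸ I :=
    Ideal.Quotient.lift _ ρB.toRingHom (fun b hb => (hρB b).2 hb)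
  have hρb_inj : Function.Injective ρb := by
    rw [injective_iff_map_eq_zero]
    intro y hy
    obtain ⟨b, rfl⟩ := Ideal.Quotient.mk_surjective y
    rw [Ideal.Quotient.eq_zero_iff_mem, ← hρB]
    exact hy
  -- descent
  have H := IndEt.factor_of_isIndEtale (isIndEtale_pHens (A := A) (I := I))
  obtain ⟨E, _, _, hE, algEB, hT, G₀, _, _, hG₀, ⟨e⟩⟩ := IndEt.exists_etale_descent H B'
  letI algAG : Algebra A G₀ := ((algebraMap E G₀).comp (algebraMap A E)).toAlgebra
  haveI : IsScalarTower A E G₀ := IsScalarTower.of_algebraMap_eq (fun _ => rfl)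
  haveI : Algebra.Etale A G₀ := Algebra.Etale.comp A E G₀
  -- the section on `G₀`
  let incl : G₀ →+* B' := (e.symm : PHens A I ⊗[E] G₀ →+* B').comp
    (Algebra.TensorProduct.includeRight : G₀ →ₐ[E] PHens A I ⊗[E] G₀).toRingHom
  have hincl : ∀ ε : E, incl (algebraMap E G₀ ε) = algebraMap (PHens A I) B' (algebraMap E (PHens A I) ε) := by
    intro ε
    show e.symm ((1 : PHens A I) ⊗ₜ[E] (algebraMap E G₀ ε)) = _
    have h1 : ((1 : PHens A I) ⊗ₜ[E] (algebraMap E G₀ ε) : PHens A I ⊗[E] G₀) =
        algebraMap (PHens A I) (PHens A I ⊗[E] G₀) (algebraMap E (PHens A I) ε) := by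
      rw [Algebra.TensorProduct.algebraMap_apply, Algebra.algebraMap_eq_smul_one (A := G₀),
        ← TensorProduct.smul_tmul, Algebra.smul_def, mul_one]
      rfl
    rw [h1, AlgEquiv.commutes]
  let σ₀ : G₀ →ₐ[A] A ⧸ I :=
    { (ρb.comp σ.toRingHom).comp incl with
      commutes' := fun r => by
        show ρb (σ (incl (algebraMap E G₀ (algebraMap A E r)))) = _
        rw [hincl, AlgHom.commutes]
        show ρB (algebraMap E (PHens A I) (algebraMap A E r)) = _
        rw [← IsScalarTower.algebraMap_apply A E (PHens A I), AlgHom.commutes] }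
  have hσ₀ : ∀ x, σ₀ x = ρb (σ (incl x)) := fun x => rfl
  obtain ⟨a, hσa, hnb⟩ := exists_away_isNbhd σ₀
  haveI : Algebra.Etale A (Localization.Away a) := Algebra.Etale.comp A G₀ (Localization.Away a)
  obtain ⟨j, ⟨e₁⟩⟩ := exists_nobj (Localization.Away a) hnb
  let γ : G₀ →ₐ[A] PHens A I := ((ι j).comp (e₁ : Localization.Away a →ₐ[A] j.Q)).comp
    (IsScalarTower.toAlgHom A G₀ (Localization.Away a))
  -- `ρB ∘ γ = σ₀`
  have hργ : ∀ x, ρB (γ x) = σ₀ x := by
    have hu : IsUnit (σ₀ a) := hσa ▸ isUnit_one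
    let σ₀' : Localization.Away a →ₐ[A] A ⧸ I :=
      { IsLocalization.Away.lift (S := Localization.Away a) a (g := σ₀.toRingHom) hu with
        commutes' := fun r => by
          show IsLocalization.Away.lift (S := Localization.Away a) a (g := σ₀.toRingHom) hu
            (algebraMap G₀ (Localization.Away a) (algebraMap A G₀ r)) = _
          rw [IsLocalization.Away.lift_eq]
          exact σ₀.commutes r }
    have h1 : (ρB.comp (ι j)).comp (e₁ : Localization.Away a →ₐ[A] j.Q) = σ₀' := hnb.retr_ext _ _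
    intro x
    have h2 := DFunLike.congr_fun h1 (algebraMap G₀ (Localization.Away a) x)
    have h3 : σ₀' (algebraMap G₀ (Localization.Away a) x) = σ₀ x :=
      IsLocalization.Away.lift_eq a hu x
    rw [← h3, ← h2]
    rfl
  -- `γ` is `E`-linear
  have hγE : ∀ ε : E, γ (algebraMap E G₀ ε) = algebraMap E (PHens A I) ε := by
    have h1 : γ.comp (IsScalarTower.toAlgHom A E G₀) = IsScalarTower.toAlgHom A E (PHens A I) := by
      apply HensEt.algHom_eq_of_sub_mem_jacobson (R := A) (A := E) (S := PHens A I)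
      intro ε
      apply map_le_jacobson
      rw [← hρB, map_sub, sub_eq_zero]
      show ρB (γ (algebraMap E G₀ ε)) = ρB (algebraMap E (PHens A I) ε)
      rw [hργ, hσ₀, hincl, AlgHom.commutes]
      rfl
    intro ε
    exact DFunLike.congr_fun h1 ε
  let γE : G₀ →ₐ[E] PHens A I := { γ.toRingHom with commutes' := hγE }
  let τ' : PHens A I ⊗[E] G₀ →ₐ[PHens A I] PHens A I :=
    Algebra.TensorProduct.lift (AlgHom.id (PHens A I) (PHens A I)) γE (fun _ _ => Commute.all _ _)
  refine ⟨τ'.comp (e : B' →ₐ[PHens A I] PHens A I ⊗[E] G₀), ?_⟩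
  -- check the lift property
  have key : ((Ideal.Quotient.mkₐ (PHens A I) (I.map (algebraMap A (PHens A I)))).comp τ') =
      σ.comp (e.symm : PHens A I ⊗[E] G₀ →ₐ[PHens A I] B') := by
    apply Algebra.TensorProduct.ext'
    intro b x
    show Ideal.Quotient.mk _ (τ' (b ⊗ₜ[E] x)) = σ (e.symm (b ⊗ₜ[E] x))
    have h1 : τ' (b ⊗ₜ[E] x) = b * γ x := by
      show (Algebra.TensorProduct.lift (AlgHom.id (PHens A I) (PHens A I)) γE
        (fun _ _ => Commute.all _ _)) (b ⊗ₜ[E] x) = _
      rw [Algebra.TensorProduct.lift_tmul]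
      rfl
    have h2 : (b ⊗ₜ[E] x : PHens A I ⊗[E] G₀) = b • ((1 : PHens A I) ⊗ₜ[E] x) := by
      rw [TensorProduct.smul_tmul', smul_eq_mul, mul_one]
    rw [h1, h2, map_smul, map_smul, map_mul, Algebra.smul_def]
    congr 1
    apply hρb_inj
    show ρB (γ x) = ρb (σ (incl x))
    rw [hργ, hσ₀]
  ext y
  have := DFunLike.congr_fun key (e y)
  rw [AlgHom.comp_apply, AlgHom.comp_apply] at this
  show Ideal.Quotient.mkₐ (PHens A I) (I.map (algebraMap A (PHens A I))) (τ' (e y)) = σ y
  rw [this]
  show σ (e.symm (e y)) = σ y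
  rw [AlgEquiv.symm_apply_apply]

end

end Groth.Agent.H11.PH
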