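import Mathlib
import Groth.Prelude.Def_Hens2
import Groth.Agent.H11.PairHens

/-!
# The universal property: existence of the henselization of a pair
-/

set_option autoImplicit false
universe u
open CategoryTheory CategoryTheory.Limits TensorProduct

namespace Groth.Agent.H11.PH

noncomputable section

variable {A : Type u} [CommRing A] {I : Ideal A}

/-- Maps from an étale neighbourhood of `V(I)` to a ring henselian along an ideal containing the
image of `I` exist. -/
theorem exists_algHom_to_henselian {A' : Type u} [CommRing A'] [Algebra A A'] [Algebra.Etale A A']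
    (h : IsNbhd I A') {C : Type u} [CommRing C] [Algebra A C] (J : Ideal C) (hC : HenselianRing C J)
    (hIJ : I.map (algebraMap A C) ≤ J) : Nonempty (A' →ₐ[A] C) := by
  have hkill : ∀ i ∈ I, algebraMap A (C ⧸ J) i = 0 := by
    intro i hi
    rw [IsScalarTower.algebraMap_apply A C (C ⧸ J)]
    exact Ideal.Quotient.eq_zero_iff_mem.2 (hIJ (Ideal.mem_map_of_mem _ hi))
  obtain ⟨ρ, -⟩ := h.exists_retr
  let fbar : (A ⧸ I) →ₐ[A] C ⧸ J :=
    Ideal.Quotient.liftₐ I (Algebra.ofId A (C ⧸ J)) (fun i hi => hkill i hi)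
  let θ : A' →ₐ[A] C ⧸ J := fbar.comp ρ
  let sec : C ⊗[A] A' →ₐ[C] C ⧸ J :=
    Algebra.TensorProduct.lift (Algebra.ofId C (C ⧸ J)) θ (fun _ _ => Commute.all _ _)
  obtain ⟨τ, -⟩ := (Groth.Agent.S0523.result C J).1 hC (C ⊗[A] A') sec
  exact ⟨(τ.restrictScalars A).comp Algebra.TensorProduct.includeRight⟩

/-- Maps from an étale neighbourhood of `V(I)` to a ring henselian along an ideal containing the
image of `I` are unique. -/
theorem algHom_ext_to_henselian {A' : Type u} [CommRing A'] [Algebra A A'] [Algebra.Etale A A']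
    (h : IsNbhd I A') {C : Type u} [CommRing C] [Algebra A C] (J : Ideal C) (hC : HenselianRing C J)
    (hIJ : I.map (algebraMap A C) ≤ J) (φ₁ φ₂ : A' →ₐ[A] C) : φ₁ = φ₂ := by
  have hkill : ∀ i ∈ I, algebraMap A (C ⧸ J) i = 0 := by
    intro i hi
    rw [IsScalarTower.algebraMap_apply A C (C ⧸ J)]
    exact Ideal.Quotient.eq_zero_iff_mem.2 (hIJ (Ideal.mem_map_of_mem _ hi))
  apply HensEt.algHom_eq_of_sub_mem_jacobson (R := A) (A := A') (S := C)
  intro a
  apply hC.jac
  rw [← Ideal.Quotient.eq]
  have := h.algHom_ext_of_killed hkill ((Ideal.Quotient.mkₐ A J).comp φ₁)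
    ((Ideal.Quotient.mkₐ A J).comp φ₂)
  exact DFunLike.congr_fun this a

variable (A I) in
/-- The colimit of the étale neighbourhoods of `V(I)` is a henselization of the pair. -/
theorem isPairHenselization_pHens : Hens2.IsPairHenselization A I (PHens A I) := by
  refine ⟨henselianRing_pHens, ?_⟩
  intro C _ J f hC hIJ
  letI : Algebra A C := f.toAlgebra
  have hIJ' : I.map (algebraMap A C) ≤ J := hIJ
  have key : ∀ j : NObj A I, ∃ g : j.Q →ₐ[A] C, True := fun j => by
    obtain ⟨g⟩ := exists_algHom_to_henselian j.nbhd J hC hIJ'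
    exact ⟨g, trivial⟩
  choose g _ using key
  obtain ⟨G, hG⟩ := exists_lift (C := C) g (fun {j k} f x => by
    have := algHom_ext_to_henselian j.nbhd J hC hIJ' ((g k).comp (toAlg f)) (g j)
    exact DFunLike.congr_fun this x)
  refine ⟨G.toRingHom, ?_, ?_⟩
  · ext r
    exact G.commutes r
  · intro g' hg'
    let G' : PHens A I →ₐ[A] C :=
      { g' with commutes' := fun r => RingHom.congr_fun hg' r }
    have : G' = G := by
      apply algHom_ext
      intro j x
      have := algHom_ext_to_henselian j.nbhd J hC hIJ' (G'.comp (ι j)) (G.comp (ι j))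
      exact DFunLike.congr_fun this x
    ext b
    exact DFunLike.congr_fun this b

end

end Groth.Agent.H11.PH
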