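import Mathlib
import Groth.Agent.H11.PairUniv
import Groth.Agent.S0527
import Groth.Agent.S0736

/-!
# Properties of the henselization of a pair
-/

set_option autoImplicit false
universe u
open CategoryTheory CategoryTheory.Limits TensorProduct

namespace Groth.Agent.H11.PH

noncomputable section

variable {A : Type u} [CommRing A] {I : Ideal A}

/-- Any henselization of the pair is isomorphic to the colimit. -/
theorem nonempty_algEquiv_pHens (B : Type u) [CommRing B] [Algebra A B]
    (hB : Hens2.IsPairHenselization A I B) : Nonempty (B ≃ₐ[A] PHens A I) := by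
  have hP := isPairHenselization_pHens A I
  obtain ⟨g, hg, -⟩ := hB.2 (PHens A I) (I.map (algebraMap A (PHens A I)))
    (algebraMap A (PHens A I)) hP.1 le_rfl
  obtain ⟨g', hg', -⟩ := hP.2 B (I.map (algebraMap A B)) (algebraMap A B) hB.1 le_rfl
  obtain ⟨u, hu, huniq⟩ := hB.2 B (I.map (algebraMap A B)) (algebraMap A B) hB.1 le_rfl
  obtain ⟨v, hv, hvuniq⟩ := hP.2 (PHens A I) (I.map (algebraMap A (PHens A I)))
    (algebraMap A (PHens A I)) hP.1 le_rfl
  have h1 : g'.comp g = RingHom.id B := by
    have e1 := huniq (g'.comp g) (by show (g'.comp g).comp _ = _; rw [RingHom.comp_assoc, hg, hg'])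
    have e2 := huniq (RingHom.id B) (by show (RingHom.id B).comp _ = _; rw [RingHom.id_comp])
    rw [e1, e2]
  have h2 : g.comp g' = RingHom.id (PHens A I) := by
    have e1 := hvuniq (g.comp g') (by show (g.comp g').comp _ = _; rw [RingHom.comp_assoc, hg', hg])
    have e2 := hvuniq (RingHom.id _) (by show (RingHom.id _).comp _ = _; rw [RingHom.id_comp])
    rw [e1, e2]
  let G : B →ₐ[A] PHens A I := { g with commutes' := fun r => RingHom.congr_fun hg r }
  let G' : PHens A I →ₐ[A] B := { g' with commutes' := fun r => RingHom.congr_fun hg' r }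
  refine ⟨AlgEquiv.ofAlgHom G G' ?_ ?_⟩
  · ext b
    exact RingHom.congr_fun h2 b
  · ext b
    exact RingHom.congr_fun h1 b

/-- Surjectivity modulo powers. -/
theorem IsNbhd.exists_sub_mem_pow {A' : Type u} [CommRing A'] [Algebra A A'] (h : IsNbhd I A')
    (n : ℕ) (x : A') : ∃ a : A, x - algebraMap A A' a ∈ (I ^ n).map (algebraMap A A') := by
  induction n generalizing x with
  | zero =>
    refine ⟨0, ?_⟩
    rw [pow_zero, Ideal.one_eq_top, Ideal.map_top]
    trivial
  | succ n ih =>
    -- refine elements of `I^n A'`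
    have key : ∀ y ∈ (I ^ n).map (algebraMap A A'),
        ∃ a ∈ I ^ n, y - algebraMap A A' a ∈ (I ^ (n + 1)).map (algebraMap A A') := by
      intro y hy
      unfold Ideal.map at hy
      induction hy using Submodule.span_induction with
      | mem y hy =>
        obtain ⟨i, hi, rfl⟩ := hy
        exact ⟨i, hi, by rw [sub_self]; exact Ideal.zero_mem _⟩
      | zero => exact ⟨0, Ideal.zero_mem _, by rw [map_zero, sub_self]; exact Ideal.zero_mem _⟩
      | add y z _ _ hy hz =>
        obtain ⟨a, ha, hya⟩ := hy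
        obtain ⟨b, hb, hzb⟩ := hz
        refine ⟨a + b, Ideal.add_mem _ ha hb, ?_⟩
        have := Ideal.add_mem _ hya hzb
        rw [map_add]
        convert this using 1
        abel
      | smul c y _ hy =>
        obtain ⟨a, ha, hya⟩ := hy
        obtain ⟨α, hα⟩ := h.exists_sub_mem c
        refine ⟨α * a, Ideal.mul_mem_left _ _ ha, ?_⟩
        have e1 : c • y - algebraMap A A' (α * a) =
            c * (y - algebraMap A A' a) + (c - algebraMap A A' α) * algebraMap A A' a := by
          rw [smul_eq_mul, map_mul]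
          ring
        rw [e1]
        refine Ideal.add_mem _ (Ideal.mul_mem_left _ _ hya) ?_
        have h1 : (c - algebraMap A A' α) * algebraMap A A' a ∈
            I.map (algebraMap A A') * (I ^ n).map (algebraMap A A') :=
          Ideal.mul_mem_mul hα (Ideal.mem_map_of_mem _ ha)
        rw [← Ideal.map_mul, ← pow_succ'] at h1
        exact h1
    obtain ⟨a, ha⟩ := ih x
    obtain ⟨b, -, hb⟩ := key _ ha
    refine ⟨a + b, ?_⟩
    rw [map_add]
    convert hb using 1
    abel

/-- An étale neighbourhood of `V(I)` is an étale neighbourhood of `V(I^n)`. -/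
theorem IsNbhd.pow {A' : Type u} [CommRing A'] [Algebra A A'] [Algebra.Etale A A']
    (h : IsNbhd I A') (n : ℕ) : IsNbhd (I ^ n) A' := by
  let J : Ideal (A ⧸ I ^ n) := I.map (algebraMap A (A ⧸ I ^ n))
  have hJ : ∀ x ∈ J, IsNilpotent x := by
    intro x hx
    refine ⟨n, ?_⟩
    have h1 : x ^ n ∈ J ^ n := Ideal.pow_mem_pow hx n
    have h2 : J ^ n = ⊥ := by
      show (I.map (algebraMap A (A ⧸ I ^ n))) ^ n = ⊥
      rw [← Ideal.map_pow]
      exact Ideal.map_quotient_self _
    rw [h2] at h1
    exact h1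
  have hC : HenselianRing (A ⧸ I ^ n) J := Groth.Agent.S0527.result _ J hJ
  obtain ⟨ρ⟩ := exists_algHom_to_henselian h J hC le_rfl
  exact isNbhd_of_retr ρ (h.exists_sub_mem_pow n)

theorem ι_mem_map' (K : Ideal A) {j : NObj A I} {x : j.Q} (hx : x ∈ K.map (algebraMap A j.Q)) :
    ι j x ∈ K.map (algebraMap A (PHens A I)) := by
  have h1 : (ι j).toRingHom x ∈ (K.map (algebraMap A j.Q)).map (ι j).toRingHom :=
    Ideal.mem_map_of_mem _ hx
  rw [Ideal.map_map] at h1
  have h2 : (ι j).toRingHom.comp (algebraMap A j.Q) = algebraMap A (PHens A I) := by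
    ext r
    exact (ι j).commutes r
  rw [h2] at h1
  exact h1

/-- If every stage is a neighbourhood of `V(K)`, so is the colimit. -/
theorem isNbhd_pHens_of_forall (K : Ideal A) (hK : ∀ j : NObj A I, IsNbhd K j.Q) :
    IsNbhd K (PHens A I) := by
  have key : ∀ j : NObj A I, ∃ ρ : j.Q →ₐ[A] A ⧸ K, True := fun j => by
    obtain ⟨ρ, -⟩ := (hK j).exists_retr
    exact ⟨ρ, trivial⟩
  choose ρ _ using key
  obtain ⟨G, -⟩ := exists_lift (C := A ⧸ K) ρ (fun {j k} f x => by
    have := (hK j).retr_ext ((ρ k).comp (toAlg f)) (ρ j)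
    exact DFunLike.congr_fun this x)
  refine isNbhd_of_retr G (fun b => ?_)
  obtain ⟨j, x, rfl⟩ := exists_rep b
  obtain ⟨a, ha⟩ := (hK j).exists_sub_mem x
  refine ⟨a, ?_⟩
  have := ι_mem_map' K ha
  rw [map_sub, AlgHom.commutes] at this
  exact this

theorem isNbhd_pow_pHens (n : ℕ) : IsNbhd (I ^ n) (PHens A I) :=
  isNbhd_pHens_of_forall (I ^ n) (fun j => j.nbhd.pow n)

theorem flat_pHens : Module.Flat A (PHens A I) := by
  haveI := Groth.Agent.S0736.result A (PHens A I) isIndEtale_pHens
  infer_instance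

end

end Groth.Agent.H11.PH
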