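import Mathlib
import Groth.Prelude.Def_Hens2
import Groth.Agent.H11.PairProps
import Groth.Agent.H11.HCIndEtale

/-!
# Consequences for arbitrary henselizations of pairs; truncations
-/

set_option autoImplicit false
universe u
open TensorProduct

namespace Groth.Agent.H11.PH

variable {A : Type u} [CommRing A] {I : Ideal A}

theorem isNbhd_pow_of_isPairHenselization {B : Type u} [CommRing B] [Algebra A B]
    (hB : Hens2.IsPairHenselization A I B) (n : ℕ) : IsNbhd (I ^ n) B := by
  obtain ⟨e⟩ := nonempty_algEquiv_pHens B hB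
  exact (isNbhd_pow_pHens (A := A) (I := I) n).of_algEquiv e.symm

theorem isNbhd_of_isPairHenselization {B : Type u} [CommRing B] [Algebra A B]
    (hB : Hens2.IsPairHenselization A I B) : IsNbhd I B := by
  have := isNbhd_pow_of_isPairHenselization hB 1
  rwa [pow_one] at this

theorem flat_of_isPairHenselization {B : Type u} [CommRing B] [Algebra A B]
    (hB : Hens2.IsPairHenselization A I B) : Module.Flat A B := by
  obtain ⟨e⟩ := nonempty_algEquiv_pHens B hB
  haveI := flat_pHens (A := A) (I := I)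
  exact Module.Flat.of_linearEquiv e.toLinearEquiv

theorem isIndEtale_of_isPairHenselization {B : Type u} [CommRing B] [Algebra A B]
    (hB : Hens2.IsPairHenselization A I B) : EtPBC.IsIndEtale A B := by
  obtain ⟨e⟩ := nonempty_algEquiv_pHens B hB
  exact ((Groth.Agent.H11.IndEt.factor_of_isIndEtale
    (isIndEtale_pHens (A := A) (I := I))).approx.of_algEquiv e.symm).isIndEtale

/-- If `R → B` is a neighbourhood of `V(K R)`, then `R/KR ≃ B/KB` over `A/K`. -/
theorem nonempty_algEquiv_quotient {R B : Type u} [CommRing R] [CommRing B]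
    [Algebra A R] [Algebra R B] [Algebra A B] [IsScalarTower A R B] (K : Ideal A)
    (h : IsNbhd (K.map (algebraMap A R)) B) :
    Nonempty ((R ⧸ K.map (algebraMap A R)) ≃ₐ[A ⧸ K] (B ⧸ K.map (algebraMap A B))) := by
  have hmap : (K.map (algebraMap A R)).map (algebraMap R B) = K.map (algebraMap A B) := by
    rw [Ideal.map_map, ← IsScalarTower.algebraMap_eq]
  obtain ⟨h1, h2⟩ := isNbhd_iff.1 h
  rw [hmap] at h1 h2
  have hle : K.map (algebraMap A R) ≤ (K.map (algebraMap A B)).comap (algebraMap R B) := by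
    rw [← Ideal.map_le_iff_le_comap, hmap]
  let φ : (R ⧸ K.map (algebraMap A R)) →ₐ[A ⧸ K] (B ⧸ K.map (algebraMap A B)) :=
    { Ideal.quotientMap (K.map (algebraMap A B)) (algebraMap R B) hle with
      commutes' := fun x => by
        obtain ⟨a, rfl⟩ := Ideal.Quotient.mk_surjective x
        show Ideal.quotientMap (K.map (algebraMap A B)) (algebraMap R B) hle
          (algebraMap (A ⧸ K) (R ⧸ K.map (algebraMap A R)) (Ideal.Quotient.mk K a)) = _
        rw [Ideal.Quotient.algebraMap_quotient_map_quotient,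
          Ideal.Quotient.algebraMap_quotient_map_quotient, Ideal.quotientMap_mk,
          ← IsScalarTower.algebraMap_apply] }
  have hφ : ∀ r : R, φ (Ideal.Quotient.mk _ r) = Ideal.Quotient.mk _ (algebraMap R B r) :=
    fun r => rfl
  refine ⟨AlgEquiv.ofBijective φ ⟨?_, ?_⟩⟩
  · rw [injective_iff_map_eq_zero]
    intro x hx
    obtain ⟨r, rfl⟩ := Ideal.Quotient.mk_surjective x
    rw [hφ, Ideal.Quotient.eq_zero_iff_mem] at hx
    exact Ideal.Quotient.eq_zero_iff_mem.2 (h2 r hx)
  · intro y
    obtain ⟨b, rfl⟩ := Ideal.Quotient.mk_surjective y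
    obtain ⟨r, hr⟩ := h1 b
    refine ⟨Ideal.Quotient.mk _ r, ?_⟩
    rw [hφ]
    exact (Ideal.Quotient.eq.2 hr).symm

/-- Truncations of a henselization of `(R, IR)`: `R/I^nR ≃ B/I^nB` over `A/I^n`. -/
theorem nonempty_algEquiv_truncation {R B : Type u} [CommRing R] [CommRing B]
    [Algebra A R] [Algebra R B] [Algebra A B] [IsScalarTower A R B]
    (hB : Hens2.IsPairHenselization R (I.map (algebraMap A R)) B) (n : ℕ) :
    Nonempty ((R ⧸ (I ^ n).map (algebraMap A R)) ≃ₐ[A ⧸ I ^ n]
      (B ⧸ (I ^ n).map (algebraMap A B))) := by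
  apply nonempty_algEquiv_quotient
  rw [Ideal.map_pow]
  exact isNbhd_pow_of_isPairHenselization hB n

/-- Étale algebras lift along `C → C/J` for a henselian pair `(C, J)`. -/
theorem exists_algHom_lift_of_etale {R : Type u} [CommRing R] [Algebra A R] [Algebra.Etale A R]
    {C : Type u} [CommRing C] [Algebra A C] (J : Ideal C) (hC : HenselianRing C J)
    (σ : R →ₐ[A] C ⧸ J) : ∃ τ : R →ₐ[A] C, (Ideal.Quotient.mkₐ A J).comp τ = σ := by
  let sec : C ⊗[A] R →ₐ[C] C ⧸ J :=
    Algebra.TensorProduct.lift (Algebra.ofId C (C ⧸ J)) σ (fun _ _ => Commute.all _ _)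
  obtain ⟨τ, hτ⟩ := (Groth.Agent.S0523.result C J).1 hC (C ⊗[A] R) sec
  refine ⟨(τ.restrictScalars A).comp Algebra.TensorProduct.includeRight, ?_⟩
  ext r
  have := DFunLike.congr_fun hτ ((1 : C) ⊗ₜ[A] r)
  simp only [AlgHom.comp_apply, Ideal.Quotient.mkₐ_eq_mk] at this
  simp only [AlgHom.comp_apply, Ideal.Quotient.mkₐ_eq_mk, Algebra.TensorProduct.includeRight_apply,
    AlgHom.restrictScalars_apply]
  rw [this]
  simp [sec]

/-- Maps from an étale algebra to a henselian pair are determined by their reductions. -/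
theorem algHom_ext_of_etale {R : Type u} [CommRing R] [Algebra A R] [Algebra.Etale A R]
    {C : Type u} [CommRing C] [Algebra A C] (J : Ideal C) (hC : HenselianRing C J)
    (φ ψ : R →ₐ[A] C) (h : ∀ r, φ r - ψ r ∈ J) : φ = ψ :=
  HensEt.algHom_eq_of_sub_mem_jacobson (R := A) (A := R) (S := C) φ ψ (fun a => hC.jac (h a))

/-- Any ring is henselian along the zero ideal. -/
theorem henselianRing_bot (C : Type u) [CommRing C] : HenselianRing C (⊥ : Ideal C) :=
  Groth.Agent.S0527.result C ⊥ (fun x hx => by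
    rw [Ideal.mem_bot] at hx
    subst hx
    exact IsNilpotent.zero)

end Groth.Agent.H11.PH
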