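import Mathlib
import Groth.Prelude.Def_Hens2
import Groth.Agent.H11.PairEt
import Groth.Agent.S0526
import Groth.Agent.S0525

/-!
# Formal consequences of the universal property of the henselization of a pair
-/

set_option autoImplicit false
universe u
open TensorProduct

namespace Groth.Agent.H11.PH

variable {A : Type u} [CommRing A] {I : Ideal A}

/-- A map between two henselizations of the same pair is bijective. -/
theorem bijective_of_isPairHenselization {B B' : Type u} [CommRing B] [CommRing B']
    [Algebra A B] [Algebra A B'] (hB : Hens2.IsPairHenselization A I B)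
    (hB' : Hens2.IsPairHenselization A I B') (ψ : B →+* B')
    (hψ : ψ.comp (algebraMap A B) = algebraMap A B') : Function.Bijective ψ := by
  obtain ⟨g', hg', -⟩ := hB'.2 B (I.map (algebraMap A B)) (algebraMap A B) hB.1 le_rfl
  obtain ⟨u, -, huniq⟩ := hB.2 B (I.map (algebraMap A B)) (algebraMap A B) hB.1 le_rfl
  obtain ⟨v, -, hvuniq⟩ := hB'.2 B' (I.map (algebraMap A B')) (algebraMap A B') hB'.1 le_rfl
  have h1 : g'.comp ψ = RingHom.id B := by
    have e1 := huniq (g'.comp ψ) (by show (g'.comp ψ).comp _ = _; rw [RingHom.comp_assoc, hψ, hg'])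
    have e2 := huniq (RingHom.id B) (by show (RingHom.id B).comp _ = _; rw [RingHom.id_comp])
    rw [e1, e2]
  have h2 : ψ.comp g' = RingHom.id B' := by
    have e1 := hvuniq (ψ.comp g') (by show (ψ.comp g').comp _ = _; rw [RingHom.comp_assoc, hg', hψ])
    have e2 := hvuniq (RingHom.id _) (by show (RingHom.id _).comp _ = _; rw [RingHom.id_comp])
    rw [e1, e2]
  refine ⟨fun x y hxy => ?_, fun y => ⟨g' y, RingHom.congr_fun h2 y⟩⟩
  have := congrArg g' hxy
  rwa [← RingHom.comp_apply, ← RingHom.comp_apply, h1] at this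

/-- Ring maps out of a henselization to a henselian pair are determined by their restriction. -/
theorem ringHom_ext_of_isPairHenselization {B : Type u} [CommRing B] [Algebra A B]
    (hB : Hens2.IsPairHenselization A I B) {C : Type u} [CommRing C] (J : Ideal C)
    (hC : HenselianRing C J) (g₁ g₂ : B →+* C)
    (hIJ : I.map (g₁.comp (algebraMap A B)) ≤ J)
    (h : g₁.comp (algebraMap A B) = g₂.comp (algebraMap A B)) : g₁ = g₂ := by
  obtain ⟨g, -, huniq⟩ := hB.2 C J (g₁.comp (algebraMap A B)) hC hIJ
  rw [huniq g₁ rfl, huniq g₂ h.symm]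

/-- A henselization of `(A, I)` is a henselization of each étale neighbourhood through which it
factors. -/
theorem isPairHenselization_of_isNbhd {A' : Type u} [CommRing A'] [Algebra A A']
    [Algebra.Etale A A'] (h : IsNbhd I A') {B : Type u} [CommRing B] [Algebra A' B] [Algebra A B]
    [IsScalarTower A A' B] (hB : Hens2.IsPairHenselization A I B) :
    Hens2.IsPairHenselization A' (I.map (algebraMap A A')) B := by
  have hmap : (I.map (algebraMap A A')).map (algebraMap A' B) = I.map (algebraMap A B) := by
    rw [Ideal.map_map, ← IsScalarTower.algebraMap_eq]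
  refine ⟨hmap ▸ hB.1, ?_⟩
  intro C _ J f hC hIJ
  have hIJ0 : I.map (f.comp (algebraMap A A')) ≤ J := by
    rw [← Ideal.map_map]
    exact hIJ
  obtain ⟨g, hg, huniq⟩ := hB.2 C J (f.comp (algebraMap A A')) hC hIJ0
  letI : Algebra A C := (f.comp (algebraMap A A')).toAlgebra
  have key : g.comp (algebraMap A' B) = f := by
    let φ₁ : A' →ₐ[A] C :=
      { g.comp (algebraMap A' B) with
        commutes' := fun a => by
          show g (algebraMap A' B (algebraMap A A' a)) = f (algebraMap A A' a)
          rw [← IsScalarTower.algebraMap_apply A A' B]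
          exact RingHom.congr_fun hg a }
    let φ₂ : A' →ₐ[A] C := { f with commutes' := fun a => rfl }
    have := algHom_ext_to_henselian h J hC hIJ0 φ₁ φ₂
    ext x
    exact DFunLike.congr_fun this x
  refine ⟨g, key, fun g' hg' => huniq g' ?_⟩
  show g'.comp (algebraMap A B) = f.comp (algebraMap A A')
  rw [← hg', RingHom.comp_assoc, ← IsScalarTower.algebraMap_eq]

/-- Conversely, a henselization of an étale neighbourhood is a henselization of `(A, I)`. -/
theorem isPairHenselization_of_isNbhd' {A' : Type u} [CommRing A'] [Algebra A A']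
    [Algebra.Etale A A'] (h : IsNbhd I A') {B : Type u} [CommRing B] [Algebra A' B] [Algebra A B]
    [IsScalarTower A A' B] (hB : Hens2.IsPairHenselization A' (I.map (algebraMap A A')) B) :
    Hens2.IsPairHenselization A I B := by
  have hmap : (I.map (algebraMap A A')).map (algebraMap A' B) = I.map (algebraMap A B) := by
    rw [Ideal.map_map, ← IsScalarTower.algebraMap_eq]
  refine ⟨hmap ▸ hB.1, ?_⟩
  intro C _ J f hC hIJ
  letI : Algebra A C := f.toAlgebra
  have hIJ' : I.map (algebraMap A C) ≤ J := hIJ
  obtain ⟨f'⟩ := exists_algHom_to_henselian h J hC hIJ'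
  have hf' : (f' : A' →+* C).comp (algebraMap A A') = f := by
    ext a
    exact f'.commutes a
  have hle : (I.map (algebraMap A A')).map (f' : A' →+* C) ≤ J := by
    rw [Ideal.map_map, hf']
    exact hIJ
  obtain ⟨g, hg, huniq⟩ := hB.2 C J (f' : A' →+* C) hC hle
  refine ⟨g, ?_, fun g' hg' => huniq g' ?_⟩
  · show g.comp (algebraMap A B) = f
    rw [IsScalarTower.algebraMap_eq A A' B, ← RingHom.comp_assoc, hg, hf']
  · show g'.comp (algebraMap A' B) = (f' : A' →+* C)
    let φ₁ : A' →ₐ[A] C :=
      { g'.comp (algebraMap A' B) with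
        commutes' := fun a => by
          show g' (algebraMap A' B (algebraMap A A' a)) = f a
          rw [← IsScalarTower.algebraMap_apply A A' B]
          exact RingHom.congr_fun hg' a }
    have := algHom_ext_to_henselian h J hC hIJ' φ₁ f'
    ext x
    exact DFunLike.congr_fun this x

/-- Henselization commutes with quotients. -/
theorem isPairHenselization_quotient {B : Type u} [CommRing B] [Algebra A B]
    (hB : Hens2.IsPairHenselization A I B) (𝔞 : Ideal A) :
    Hens2.IsPairHenselization (A ⧸ 𝔞) (I.map (Ideal.Quotient.mk 𝔞))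
      (B ⧸ 𝔞.map (algebraMap A B)) := by
  have hmap : (I.map (Ideal.Quotient.mk 𝔞)).map
      (algebraMap (A ⧸ 𝔞) (B ⧸ 𝔞.map (algebraMap A B))) =
      (I.map (algebraMap A B)).map (algebraMap B (B ⧸ 𝔞.map (algebraMap A B))) := by
    rw [Ideal.map_map, Ideal.map_map]
    congr 1
  constructor
  · rw [hmap]
    haveI := hB.1
    haveI : Algebra.IsIntegral B (B ⧸ 𝔞.map (algebraMap A B)) := ⟨fun x => by
      obtain ⟨b, rfl⟩ := Ideal.Quotient.mk_surjective x
      exact isIntegral_algebraMap⟩
    exact Groth.Agent.S0526.result B (I.map (algebraMap A B)) (B ⧸ 𝔞.map (algebraMap A B))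
  · intro C _ J f hC hIJ
    have hIJ0 : I.map (f.comp (Ideal.Quotient.mk 𝔞)) ≤ J := by
      rw [← Ideal.map_map]
      exact hIJ
    obtain ⟨g₀, hg₀, huniq⟩ := hB.2 C J (f.comp (Ideal.Quotient.mk 𝔞)) hC hIJ0
    have hkill : ∀ b ∈ 𝔞.map (algebraMap A B), g₀ b = 0 := by
      intro b hb
      have h1 : g₀ b ∈ (𝔞.map (algebraMap A B)).map g₀ := Ideal.mem_map_of_mem _ hb
      rw [Ideal.map_map, hg₀, ← Ideal.map_map, Ideal.map_quotient_self, Ideal.map_bot,
        Ideal.mem_bot] at h1
      exact h1
    refine ⟨Ideal.Quotient.lift _ g₀ hkill, ?_, fun g' hg' => ?_⟩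
    · refine RingHom.ext fun x => ?_
      obtain ⟨a, rfl⟩ := Ideal.Quotient.mk_surjective x
      show Ideal.Quotient.lift _ g₀ hkill (algebraMap (A ⧸ 𝔞) _ (Ideal.Quotient.mk 𝔞 a)) = _
      rw [Ideal.Quotient.algebraMap_quotient_map_quotient, Ideal.Quotient.lift_mk]
      exact RingHom.congr_fun hg₀ a
    · have h1 := huniq (g'.comp (Ideal.Quotient.mk _)) (by
        ext a
        show g' (Ideal.Quotient.mk _ (algebraMap A B a)) = f (Ideal.Quotient.mk 𝔞 a)
        rw [← RingHom.congr_fun hg' (Ideal.Quotient.mk 𝔞 a)]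
        show _ = g' (algebraMap (A ⧸ 𝔞) _ (Ideal.Quotient.mk 𝔞 a))
        rw [Ideal.Quotient.algebraMap_quotient_map_quotient])
      refine RingHom.ext fun x => ?_
      obtain ⟨b, rfl⟩ := Ideal.Quotient.mk_surjective x
      rw [Ideal.Quotient.lift_mk]
      exact RingHom.congr_fun h1 b

/-- Transport of a henselization along an isomorphism of the base ring. -/
theorem isPairHenselization_of_ringEquiv {A' : Type u} [CommRing A'] (e : A ≃+* A')
    {B : Type u} [CommRing B] [Algebra A B] [Algebra A' B]
    (he : (algebraMap A' B).comp (e : A →+* A') = algebraMap A B)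
    (hB : Hens2.IsPairHenselization A I B) :
    Hens2.IsPairHenselization A' (I.map (e : A →+* A')) B := by
  have hmap : (I.map (e : A →+* A')).map (algebraMap A' B) = I.map (algebraMap A B) := by
    rw [Ideal.map_map, he]
  refine ⟨hmap ▸ hB.1, ?_⟩
  intro C _ J f hC hIJ
  have hIJ0 : I.map (f.comp (e : A →+* A')) ≤ J := by
    rw [← Ideal.map_map]
    exact hIJ
  obtain ⟨g, hg, huniq⟩ := hB.2 C J (f.comp (e : A →+* A')) hC hIJ0
  refine ⟨g, ?_, fun g' hg' => huniq g' ?_⟩
  · ext x
    obtain ⟨a, rfl⟩ := e.surjective x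
    have := RingHom.congr_fun hg a
    rw [← he] at this
    exact this
  · show g'.comp (algebraMap A B) = f.comp (e : A →+* A')
    rw [← he, ← RingHom.comp_assoc, hg']

/-- Transport of a henselization along an isomorphism of the target ring. -/
theorem isPairHenselization_of_ringEquiv_target {B B' : Type u} [CommRing B] [CommRing B']
    [Algebra A B] [Algebra A B'] (e : B ≃+* B')
    (he : (e : B →+* B').comp (algebraMap A B) = algebraMap A B')
    (hB : Hens2.IsPairHenselization A I B) : Hens2.IsPairHenselization A I B' := by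
  constructor
  · letI : Algebra B B' := (e : B →+* B').toAlgebra
    haveI : Algebra.IsIntegral B B' := ⟨fun x => by
      obtain ⟨b, rfl⟩ := e.surjective x
      exact isIntegral_algebraMap (R := B) (A := B') (x := b)⟩
    haveI := hB.1
    have h1 := Groth.Agent.S0526.result B (I.map (algebraMap A B)) B'
    have h2 : (I.map (algebraMap A B)).map (algebraMap B B') = I.map (algebraMap A B') := by
      rw [Ideal.map_map]
      congr 1
    rw [h2] at h1
    exact h1
  · intro C _ J f hC hIJ
    obtain ⟨g, hg, huniq⟩ := hB.2 C J f hC hIJ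
    refine ⟨g.comp (e.symm : B' →+* B), ?_, fun g' hg' => ?_⟩
    · show (g.comp (e.symm : B' →+* B)).comp (algebraMap A B') = f
      rw [← he, ← hg]
      ext a
      simp
    · have h1 := huniq (g'.comp (e : B →+* B')) (by
        show (g'.comp (e : B →+* B')).comp (algebraMap A B) = f
        rw [RingHom.comp_assoc, he]
        exact hg')
      rw [← h1]
      ext b
      simp

end Groth.Agent.H11.PH
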