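import Mathlib
import Groth.Prelude.Def_Hens2
import Groth.Agent.H11.PairUP
import Groth.Agent.H11.HensGabber

/-!
# Henselization along a finite intersection of pairwise comaximal ideals
-/

set_option autoImplicit false
universe u
open Polynomial

namespace Groth.Agent.H11.PH

/-- An idempotent in the Jacobson radical is zero. -/
theorem idem_eq_zero_of_mem_jacobson {C : Type*} [CommRing C] {e : C} (he : IsIdempotentElem e)
    (h : e ∈ Ideal.jacobson (⊥ : Ideal C)) : e = 0 := by
  have hu : IsUnit (e * (-1) + 1) := Ideal.mem_jacobson_bot.1 h (-1)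
  have h0 : e * (e * (-1) + 1) = 0 := by
    have : e * e = e := he
    linear_combination (-1 : C) * this
  exact (IsUnit.mul_left_eq_zero hu).mp h0

/-- Idempotents lift along henselian pairs. -/
theorem exists_idempotent_lift {C : Type*} [CommRing C] {J : Ideal C} (hC : HenselianRing C J)
    (a : C) (ha : a * a - a ∈ J) : ∃ e : C, IsIdempotentElem e ∧ e - a ∈ J := by
  have hmonic : (X ^ 2 - X : C[X]).Monic := by
    nontriviality C
    apply monic_X_pow_sub
    rw [degree_X]
    norm_num
  have h1 : (X ^ 2 - X : C[X]).eval a ∈ J := by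
    simp only [eval_sub, eval_pow, eval_X]
    rw [pow_two]
    exact ha
  have h2 : IsUnit (Ideal.Quotient.mk J ((X ^ 2 - X : C[X]).derivative.eval a)) := by
    have hd : (X ^ 2 - X : C[X]).derivative.eval a = 2 * a - 1 := by
      simp
      ring
    rw [hd]
    have hsq : Ideal.Quotient.mk J (2 * a - 1) * Ideal.Quotient.mk J (2 * a - 1) = 1 := by
      rw [← map_mul, ← map_one (Ideal.Quotient.mk J), Ideal.Quotient.eq]
      have : (2 * a - 1) * (2 * a - 1) - 1 = 4 * (a * a - a) := by ring
      rw [this]
      exact J.mul_mem_left _ ha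
    exact IsUnit.of_mul_eq_one _ hsq
  obtain ⟨e, he, hea⟩ := hC.is_henselian _ hmonic a h1 h2
  refine ⟨e, ?_, hea⟩
  rw [IsRoot.def] at he
  simp only [eval_sub, eval_pow, eval_X] at he
  show e * e = e
  rw [← pow_two]
  exact sub_eq_zero.mp he

variable {A : Type u} [CommRing A] {ι : Type*} [Fintype ι] [DecidableEq ι]

/-- The orthogonal idempotents of a henselization along an intersection of pairwise comaximal
ideals. -/
theorem exists_idempotents (I : ι → Ideal A) (hI : Pairwise fun i j => I i ⊔ I j = ⊤)
    {B : Type u} [CommRing B] [Algebra A B]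
    (hB : Hens2.IsPairHenselization A (⨅ i, I i) B) :
    ∃ (a : ι → A) (e : ι → B), (∀ i, a i - 1 ∈ I i) ∧ (∀ i j, j ≠ i → a i ∈ I j) ∧
      (∀ i, IsIdempotentElem (e i)) ∧
      (∀ i, e i - algebraMap A B (a i) ∈ (⨅ i, I i).map (algebraMap A B)) ∧
      (∀ i j, i ≠ j → e i * e j = 0) ∧ ∑ i, e i = 1 := by
  have hcop : Pairwise (Function.onFun IsCoprime I) := fun i j hij =>
    Ideal.isCoprime_iff_sup_eq.2 (hI hij)
  have hex : ∀ i, ∃ a : A, ∀ j, a - (if j = i then (1 : A) else 0) ∈ I j := fun i =>
    Ideal.exists_forall_sub_mem_ideal hcop (fun j => if j = i then 1 else 0)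
  choose a ha using hex
  have ha1 : ∀ i, a i - 1 ∈ I i := fun i => by simpa using ha i i
  have ha0 : ∀ i j, j ≠ i → a i ∈ I j := fun i j hj => by simpa [hj] using ha i j
  set K : Ideal A := ⨅ i, I i with hK
  have memK : ∀ x, x ∈ K ↔ ∀ j, x ∈ I j := fun x => Ideal.mem_iInf
  set J : Ideal B := K.map (algebraMap A B) with hJ
  have hjac : J ≤ Ideal.jacobson ⊥ := hB.1.jac
  have hα : ∀ x ∈ K, algebraMap A B x ∈ J := fun x hx => Ideal.mem_map_of_mem _ hx
  have hidem : ∀ i, a i * a i - a i ∈ K := by
    intro i
    rw [memK]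
    intro j
    have e1 : a i * a i - a i = a i * (a i - 1) := by ring
    rw [e1]
    by_cases hj : j = i
    · subst hj
      exact (I j).mul_mem_left _ (ha1 j)
    · exact (I j).mul_mem_right _ (ha0 i j hj)
  have hlift : ∀ i, ∃ e : B, IsIdempotentElem e ∧ e - algebraMap A B (a i) ∈ J := by
    intro i
    apply exists_idempotent_lift hB.1
    rw [← map_mul, ← map_sub]
    exact hα _ (hidem i)
  choose e he hea using hlift
  have hprod : ∀ i j, i ≠ j → a i * a j ∈ K := by
    intro i j hij
    rw [memK]
    intro l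
    by_cases hl : l = i
    · subst hl
      exact (I l).mul_mem_left _ (ha0 j l hij)
    · exact (I l).mul_mem_right _ (ha0 i l hl)
  have horth : ∀ i j, i ≠ j → e i * e j = 0 := by
    intro i j hij
    apply idem_eq_zero_of_mem_jacobson ((he i).mul (he j))
    apply hjac
    have e1 : e i * e j = (e i - algebraMap A B (a i)) * e j +
        algebraMap A B (a i) * (e j - algebraMap A B (a j)) +
        algebraMap A B (a i * a j) := by
      rw [map_mul]
      ring
    rw [e1]
    exact J.add_mem (J.add_mem (J.mul_mem_right _ (hea i)) (J.mul_mem_left _ (hea j)))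
      (hα _ (hprod i j hij))
  have hss : (∑ i, e i) * (∑ i, e i) = ∑ i, e i := by
    rw [Finset.sum_mul_sum]
    apply Finset.sum_congr rfl
    intro i _
    rw [Finset.sum_eq_single i]
    · exact he i
    · intro j _ hji
      exact horth i j (Ne.symm hji)
    · intro h
      exact absurd (Finset.mem_univ i) h
  have hsumK : 1 - ∑ i, a i ∈ K := by
    rw [memK]
    intro l
    have e1 : 1 - ∑ i, a i = -(a l - 1) - ∑ i ∈ Finset.univ.erase l, a i := by
      rw [← Finset.add_sum_erase Finset.univ a (Finset.mem_univ l)]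
      ring
    rw [e1]
    refine (I l).sub_mem ((I l).neg_mem (ha1 l)) ((I l).sum_mem fun i hi => ?_)
    exact ha0 i l (Ne.symm (Finset.ne_of_mem_erase hi))
  have hsum : ∑ i, e i = 1 := by
    have hid : IsIdempotentElem (1 - ∑ i, e i) := IsIdempotentElem.one_sub hss
    have hmem : 1 - ∑ i, e i ∈ J := by
      have e1 : 1 - ∑ i, e i = algebraMap A B (1 - ∑ i, a i) -
          ∑ i, (e i - algebraMap A B (a i)) := by
        rw [map_sub, map_one, map_sum, Finset.sum_sub_distrib]
        ring
      rw [e1]
      exact J.sub_mem (hα _ hsumK) (J.sum_mem fun i _ => hea i)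
    have := idem_eq_zero_of_mem_jacobson hid (hjac hmem)
    exact (sub_eq_zero.mp this).symm
  exact ⟨a, e, ha1, ha0, he, hea, horth, hsum⟩

/-- The corner `B/(1 - e_i)` of a henselization along `⨅ I` is a henselization along `I i`. -/
theorem isPairHenselization_corner (I : ι → Ideal A) {B : Type u} [CommRing B] [Algebra A B]
    (hB : Hens2.IsPairHenselization A (⨅ i, I i) B) (i : ι) (ai : A) (ei : B)
    (ha1 : ai - 1 ∈ I i) (ha0 : ∀ j, j ≠ i → ai ∈ I j) (he : IsIdempotentElem ei)
    (hea : ei - algebraMap A B ai ∈ (⨅ i, I i).map (algebraMap A B)) :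
    Hens2.IsPairHenselization A (I i) (B ⧸ Ideal.span {1 - ei}) := by
  set K : Ideal A := ⨅ i, I i with hK
  have memK : ∀ x, x ∈ K ↔ ∀ j, x ∈ I j := fun x => Ideal.mem_iInf
  set J : Ideal B := K.map (algebraMap A B) with hJ
  set 𝔟 : Ideal B := Ideal.span {1 - ei} with h𝔟
  have hmk1 : Ideal.Quotient.mk 𝔟 ei = 1 := by
    have : Ideal.Quotient.mk 𝔟 (1 - ei) = 0 :=
      Ideal.Quotient.eq_zero_iff_mem.2 (Ideal.subset_span rfl)
    rw [map_sub, map_one, sub_eq_zero] at this
    exact this.symm
  constructor
  · have hQ1 : HenselianRing (B ⧸ 𝔟) (J.map (Ideal.Quotient.mk 𝔟)) :=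
      Groth.Agent.H11.hens_map_of_surjective _ Ideal.Quotient.mk_surjective J hB.1
    have heq : (I i).map (algebraMap A (B ⧸ 𝔟)) = J.map (Ideal.Quotient.mk 𝔟) := by
      have hJm : J.map (Ideal.Quotient.mk 𝔟) = K.map (algebraMap A (B ⧸ 𝔟)) := by
        rw [hJ, Ideal.map_map]
        rfl
      apply le_antisymm
      · rw [Ideal.map_le_iff_le_comap]
        intro x hx
        rw [Ideal.mem_comap]
        have e1 : algebraMap A (B ⧸ 𝔟) x = Ideal.Quotient.mk 𝔟 (algebraMap A B x * ei) := by
          rw [map_mul, hmk1, mul_one]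
          rfl
        rw [e1]
        apply Ideal.mem_map_of_mem
        have e2 : algebraMap A B x * ei = algebraMap A B x * (ei - algebraMap A B ai) +
            algebraMap A B (x * ai) := by
          rw [map_mul]
          ring
        rw [e2]
        refine J.add_mem (J.mul_mem_left _ hea) (Ideal.mem_map_of_mem _ ?_)
        rw [memK]
        intro l
        by_cases hl : l = i
        · subst hl
          exact (I l).mul_mem_right _ hx
        · exact (I l).mul_mem_left _ (ha0 l hl)
      · rw [hJm]
        exact Ideal.map_mono (iInf_le I i)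
    rw [heq]
    exact hQ1
  · intro C _ J' f hC hJ'
    have hKJ : K.map f ≤ J' := (Ideal.map_mono (iInf_le I i)).trans hJ'
    obtain ⟨g, hg, huniq⟩ := hB.2 C J' f hC hKJ
    have hg' : ∀ x, g (algebraMap A B x) = f x := fun x => RingHom.congr_fun hg x
    have hgJ : ∀ b ∈ J, g b ∈ J' := by
      intro b hb
      have h1 : g b ∈ J.map g := Ideal.mem_map_of_mem _ hb
      rw [hJ, Ideal.map_map, hg] at h1
      exact hKJ h1
    have hge : g ei = 1 := by
      have hid : IsIdempotentElem (1 - g ei) := IsIdempotentElem.one_sub (he.map g)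
      have hmem : 1 - g ei ∈ J' := by
        have e1 : 1 - g ei = -(g (ei - algebraMap A B ai)) - f (ai - 1) := by
          rw [map_sub, hg', map_sub, map_one]
          ring
        rw [e1]
        exact J'.sub_mem (J'.neg_mem (hgJ _ hea)) (hJ' (Ideal.mem_map_of_mem _ ha1))
      have := idem_eq_zero_of_mem_jacobson hid (hC.jac hmem)
      exact (sub_eq_zero.mp this).symm
    have hkill : ∀ b ∈ 𝔟, g b = 0 := by
      intro b hb
      have hle : 𝔟 ≤ RingHom.ker g := by
        rw [h𝔟, Ideal.span_le]
        intro y hy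
        rw [Set.mem_singleton_iff] at hy
        subst hy
        show g (1 - ei) = 0
        rw [map_sub, map_one, hge, sub_self]
      exact hle hb
    refine ⟨Ideal.Quotient.lift 𝔟 g hkill, ?_, fun g₂ hg₂ => ?_⟩
    · ext x
      show Ideal.Quotient.lift 𝔟 g hkill (Ideal.Quotient.mk 𝔟 (algebraMap A B x)) = f x
      rw [Ideal.Quotient.lift_mk, hg']
    · have h1 := huniq (g₂.comp (Ideal.Quotient.mk 𝔟)) (by
        ext x
        exact RingHom.congr_fun hg₂ x)
      refine RingHom.ext fun y => ?_
      obtain ⟨b, rfl⟩ := Ideal.Quotient.mk_surjective y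
      rw [Ideal.Quotient.lift_mk]
      exact RingHom.congr_fun h1 b

/-- A ring with complete orthogonal idempotents is the product of its corners. -/
theorem bijective_pi_corner {B : Type u} [CommRing B] (e : ι → B)
    (he : ∀ i, IsIdempotentElem (e i)) (horth : ∀ i j, i ≠ j → e i * e j = 0)
    (hsum : ∑ i, e i = 1) :
    Function.Bijective (RingHom.pi (fun i => Ideal.Quotient.mk (Ideal.span {1 - e i}))) := by
  constructor
  · rw [injective_iff_map_eq_zero]
    intro b hb
    have h1 : ∀ i, b * e i = 0 := by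
      intro i
      have h2 : Ideal.Quotient.mk (Ideal.span {1 - e i}) b = 0 := congrFun hb i
      rw [Ideal.Quotient.eq_zero_iff_mem, Ideal.mem_span_singleton'] at h2
      obtain ⟨c, rfl⟩ := h2
      have : e i * e i = e i := he i
      linear_combination (-c) * this
    calc b = b * ∑ i, e i := by rw [hsum, mul_one]
      _ = ∑ i, b * e i := Finset.mul_sum _ _ _
      _ = 0 := Finset.sum_eq_zero fun i _ => h1 i
  · intro y
    have hy : ∀ i, ∃ b : B, Ideal.Quotient.mk (Ideal.span {1 - e i}) b = y i := fun i =>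
      Ideal.Quotient.mk_surjective (y i)
    choose b hb using hy
    refine ⟨∑ i, b i * e i, ?_⟩
    funext j
    show Ideal.Quotient.mk (Ideal.span {1 - e j}) (∑ i, b i * e i) = y j
    rw [map_sum, Finset.sum_eq_single j]
    · rw [map_mul, hb]
      have : Ideal.Quotient.mk (Ideal.span {1 - e j}) (1 - e j) = 0 :=
        Ideal.Quotient.eq_zero_iff_mem.2 (Ideal.subset_span rfl)
      rw [map_sub, map_one, sub_eq_zero] at this
      rw [← this, mul_one]
    · intro i _ hij
      rw [map_mul]
      have : Ideal.Quotient.mk (Ideal.span {1 - e j}) (e i) = 0 := by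
        rw [Ideal.Quotient.eq_zero_iff_mem, Ideal.mem_span_singleton']
        refine ⟨e i, ?_⟩
        have := horth i j hij
        linear_combination (-1 : B) * this
      rw [this, mul_zero]
    · intro h
      exact absurd (Finset.mem_univ j) h

end Groth.Agent.H11.PH
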