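import Mathlib
import Groth.Agent.H11.PairCRT
import Groth.Agent.H11.HensRad

/-!
# Lifting clopen subsets of `V(K)` along a henselian pair `(C, K)` to idempotents
-/

set_option autoImplicit false
universe u

namespace Groth.Agent.H11.ClopenLift

open PrimeSpectrum

/-- `(C, K)` henselian, `S ⊆ Spec C` open with `S ∩ V(K)` closed. Then there is an idempotent `e`
with `D(e) ⊆ S` and `D(e) ∩ V(K) = S ∩ V(K)`. -/
theorem exists_idempotent_basicOpen {C : Type*} [CommRing C] {K : Ideal C}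
    (hC : HenselianRing C K) (S : Set (PrimeSpectrum C)) (hS : IsOpen S)
    (hcl : IsClosed (S ∩ zeroLocus (K : Set C))) :
    ∃ e : C, IsIdempotentElem e ∧ (basicOpen e : Set (PrimeSpectrum C)) ⊆ S ∧
      (basicOpen e : Set (PrimeSpectrum C)) ∩ zeroLocus (K : Set C) =
        S ∩ zeroLocus (K : Set C) := by
  classical
  obtain ⟨𝔞, h𝔞⟩ := (isClosed_iff_zeroLocus_ideal _).1 hcl
  have hcl2 : IsClosed (Sᶜ ∩ zeroLocus (K : Set C)) :=
    hS.isClosed_compl.inter (isClosed_zeroLocus _)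
  obtain ⟨𝔟, h𝔟⟩ := (isClosed_iff_zeroLocus_ideal _).1 hcl2
  have htop : 𝔞 ⊔ 𝔟 = ⊤ := by
    rw [← zeroLocus_empty_iff_eq_top, zeroLocus_sup, ← h𝔞, ← h𝔟]
    ext p
    simp only [Set.mem_inter_iff, Set.mem_compl_iff, Set.mem_empty_iff_false, iff_false]
    tauto
  obtain ⟨a, ha, b, hb, hab⟩ := Submodule.mem_sup.1 (htop ▸ Submodule.mem_top : (1 : C) ∈ 𝔞 ⊔ 𝔟)
  have hmem : ∀ p : PrimeSpectrum C, p ∈ zeroLocus (K : Set C) →
      (p ∈ S → a ∈ p.asIdeal) ∧ (p ∉ S → b ∈ p.asIdeal) := by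
    intro p hp
    refine ⟨fun hpS => ?_, fun hpS => ?_⟩
    · have : p ∈ zeroLocus (𝔞 : Set C) := h𝔞 ▸ ⟨hpS, hp⟩
      exact this ha
    · have : p ∈ zeroLocus (𝔟 : Set C) := h𝔟 ▸ ⟨hpS, hp⟩
      exact this hb
  have hprod : a * b ∈ K.radical := by
    rw [Ideal.radical_eq_sInf, Ideal.mem_sInf]
    rintro P ⟨hKP, hP⟩
    have hp : (⟨P, hP⟩ : PrimeSpectrum C) ∈ zeroLocus (K : Set C) := hKP
    by_cases hpS : (⟨P, hP⟩ : PrimeSpectrum C) ∈ S
    · exact P.mul_mem_right _ ((hmem _ hp).1 hpS)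
    · exact P.mul_mem_left _ ((hmem _ hp).2 hpS)
  have hrad : HenselianRing C K.radical := hens_radical_of_hens K hC
  have haa : a * a - a ∈ K.radical := by
    have h1 : a * a - a = -(a * b) := by
      have h2 : b = 1 - a := by rw [← hab]; ring
      rw [h2]; ring
    rw [h1]
    exact neg_mem hprod
  obtain ⟨e', he', he'a⟩ := PH.exists_idempotent_lift hrad a haa
  have hkey : ∀ p : PrimeSpectrum C, p ∈ zeroLocus (K : Set C) →
      ((1 - e') ∉ p.asIdeal ↔ p ∈ S) := by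
    intro p hp
    have hradp : K.radical ≤ p.asIdeal := by
      rw [Ideal.radical_eq_sInf]
      exact sInf_le ⟨hp, p.2⟩
    have h1 : (1 - e') - b ∈ p.asIdeal := by
      have : (1 - e') - b = -(e' - a) := by
        have h2 : b = 1 - a := by rw [← hab]; ring
        rw [h2]; ring
      rw [this]
      exact neg_mem (hradp he'a)
    have h2 : (1 - e') ∈ p.asIdeal ↔ b ∈ p.asIdeal := by
      constructor
      · intro h
        have := p.asIdeal.sub_mem h h1
        simpa using this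
      · intro h
        have := p.asIdeal.add_mem h1 h
        simpa using this
    rw [h2]
    constructor
    · intro hb'
      by_contra hpS
      exact hb' ((hmem p hp).2 hpS)
    · intro hpS hb'
      have ha' := (hmem p hp).1 hpS
      have : (1 : C) ∈ p.asIdeal := by
        rw [← hab]
        exact p.asIdeal.add_mem ha' hb'
      exact p.2.ne_top ((Ideal.eq_top_iff_one _).2 this)
  have he : IsIdempotentElem (1 - e') := he'.one_sub
  have hinter : (basicOpen (1 - e') : Set (PrimeSpectrum C)) ∩ zeroLocus (K : Set C) =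
      S ∩ zeroLocus (K : Set C) := by
    ext p
    simp only [Set.mem_inter_iff, SetLike.mem_coe, mem_basicOpen]
    constructor
    · rintro ⟨h1, h2⟩
      exact ⟨(hkey p h2).1 h1, h2⟩
    · rintro ⟨h1, h2⟩
      exact ⟨(hkey p h2).2 h1, h2⟩
  refine ⟨1 - e', he, ?_, hinter⟩
  -- `D(e) ⊆ S`
  by_contra hsub
  have hclF : IsClosed ((basicOpen (1 - e') : Set (PrimeSpectrum C)) ∩ Sᶜ) := by
    refine IsClosed.inter ?_ hS.isClosed_compl
    rw [basicOpen_eq_zeroLocus_of_isIdempotentElem _ he]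
    exact isClosed_zeroLocus _
  obtain ⟨𝔠, h𝔠⟩ := (isClosed_iff_zeroLocus_ideal _).1 hclF
  have hne : 𝔠 ≠ ⊤ := by
    intro htop'
    rw [htop'] at h𝔠
    apply hsub
    intro p hp
    by_contra hpS
    have : p ∈ zeroLocus ((⊤ : Ideal C) : Set C) := h𝔠 ▸ ⟨hp, hpS⟩
    simp at this
  obtain ⟨𝔪, h𝔪, h𝔠𝔪⟩ := Ideal.exists_le_maximal 𝔠 hne
  have hpt : (⟨𝔪, h𝔪.isPrime⟩ : PrimeSpectrum C) ∈
      (basicOpen (1 - e') : Set (PrimeSpectrum C)) ∩ Sᶜ := by
    rw [h𝔠]
    exact h𝔠𝔪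
  have hK𝔪 : K ≤ 𝔪 := hC.jac.trans (sInf_le ⟨bot_le, h𝔪⟩)
  have hin : (⟨𝔪, h𝔪.isPrime⟩ : PrimeSpectrum C) ∈ S ∩ zeroLocus (K : Set C) := by
    rw [← hinter]
    exact ⟨hpt.1, hK𝔪⟩
  exact hpt.2 hin.1

end Groth.Agent.H11.ClopenLift
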