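import Mathlib
import Groth.Agent.H27.FieldSmooth

/-!
# Uniqueness of coefficient fields
-/

set_option autoImplicit false

universe u

namespace Groth.Agent.H11.CoefUnique

open IsLocalRing

/-- `I`-adically complete implies `I^k`-adically complete for `k ≥ 1`. -/
theorem isAdicComplete_pow {R : Type*} [CommRing R] (I : Ideal R) [IsAdicComplete I R]
    (k : ℕ) (hk : 1 ≤ k) : IsAdicComplete (I ^ k) R := by
  have hle : ∀ n : ℕ, ((I ^ k) ^ n • ⊤ : Ideal R) ≤ (I ^ n • ⊤ : Ideal R) := by
    intro n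
    rw [smul_eq_mul, Ideal.mul_top, smul_eq_mul, Ideal.mul_top, ← pow_mul]
    exact Ideal.pow_le_pow_right (by nlinarith)
  refine { toIsHausdorff := ⟨fun x hx => ?_⟩, toIsPrecomplete := ⟨fun f hf => ?_⟩ }
  · apply IsHausdorff.haus (I := I) inferInstance
    intro n
    exact (SModEq.mono (hle n)) (hx n)
  · -- reindex
    let g : ℕ → R := fun j => f ((j + k - 1) / k)
    have hg : ∀ {m n : ℕ}, m ≤ n → g m ≡ g n [SMOD (I ^ m • ⊤ : Submodule R R)] := by
      intro m n hmn
      have h1 : (m + k - 1) / k ≤ (n + k - 1) / k := Nat.div_le_div_right (by omega)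
      have h2 := hf h1
      refine SModEq.mono ?_ h2
      rw [smul_eq_mul, Ideal.mul_top, smul_eq_mul, Ideal.mul_top, ← pow_mul]
      apply Ideal.pow_le_pow_right
      -- m ≤ k * ((m + k - 1)/k)
      have := Nat.div_add_mod (m + k - 1) k
      have hmod := Nat.mod_lt (m + k - 1) (show 0 < k by omega)
      omega
    obtain ⟨L, hL⟩ := IsPrecomplete.prec (I := I) inferInstance hg
    refine ⟨L, fun n => ?_⟩
    have h3 := hL (k * n)
    have h4 : g (k * n) = f n := by
      simp only [g]
      congr 1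
      apply Nat.div_eq_of_lt_le
      · rw [Nat.mul_comm n k]; omega
      · rw [Nat.add_mul, Nat.mul_comm n k]; omega
    rw [h4] at h3
    refine SModEq.mono ?_ h3
    rw [smul_eq_mul, Ideal.mul_top, smul_eq_mul, Ideal.mul_top, ← pow_mul]

/-- If `Ω[K⁄ℤ] = 0`, every `ℤ`-derivation of `K` vanishes. -/
theorem derivation_eq_zero {K M : Type*} [CommRing K] [AddCommGroup M] [Module K M]
    [Subsingleton (Ω[K⁄ℤ])] (δ : Derivation ℤ K M) : δ = 0 := by
  rw [← Derivation.liftKaehlerDifferential_comp δ]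
  have : δ.liftKaehlerDifferential = 0 := by
    apply LinearMap.ext
    intro w
    rw [Subsingleton.elim w 0, map_zero, map_zero]
  rw [this]
  ext a
  simp

/-- If `Ω[K⁄ℤ] = 0`, two sections agree modulo every power of the maximal ideal. -/
theorem sub_mem_pow {C K : Type u} [CommRing C] [IsLocalRing C] [Field K] (π : C →+* K)
    (hker : RingHom.ker π = maximalIdeal C)
    (u v : K →+* C) (hu : ∀ x, π (u x) = x) (hv : ∀ x, π (v x) = x)
    [Subsingleton (Ω[K⁄ℤ])] (n : ℕ) :
    ∀ x, v x - u x ∈ maximalIdeal C ^ (n + 1) := by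
  induction n with
  | zero =>
    intro x
    rw [zero_add, pow_one, ← hker, RingHom.mem_ker, map_sub, hu, hv, sub_self]
  | succ n ih =>
    intro x
    letI : Algebra K C := u.toAlgebra
    letI : Module K (C ⧸ maximalIdeal C ^ (n + 1 + 1)) :=
      Module.compHom _ ((Ideal.Quotient.mk (maximalIdeal C ^ (n + 1 + 1))).comp u)
    let δ₀ : K →+ C ⧸ maximalIdeal C ^ (n + 1 + 1) :=
      ((Ideal.Quotient.mk (maximalIdeal C ^ (n + 1 + 1))).toAddMonoidHom).comp
        (v.toAddMonoidHom - u.toAddMonoidHom)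
    have hδ₀ : ∀ a, δ₀ a = Ideal.Quotient.mk _ (v a - u a) := fun a => rfl
    let δ : Derivation ℤ K (C ⧸ maximalIdeal C ^ (n + 1 + 1)) :=
      { toLinearMap := δ₀.toIntLinearMap
        map_one_eq_zero' := by
          change δ₀ 1 = 0
          rw [hδ₀, map_one, map_one, sub_self, map_zero]
        leibniz' := by
          intro a b
          change δ₀ (a * b) = a • δ₀ b + b • δ₀ a
          rw [hδ₀, hδ₀, hδ₀]
          have h1 : ∀ (c : K) (y : C),
              c • (Ideal.Quotient.mk (maximalIdeal C ^ (n + 1 + 1)) y) =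
                Ideal.Quotient.mk _ (u c * y) := fun c y => rfl
          rw [h1, h1, ← map_add, ← sub_eq_zero, ← map_sub, Ideal.Quotient.eq_zero_iff_mem]
          have h2 : v (a * b) - u (a * b) - (u a * (v b - u b) + u b * (v a - u a)) =
              (v a - u a) * (v b - u b) := by
            rw [map_mul, map_mul]; ring
          rw [h2]
          have h3 := Ideal.mul_mem_mul (ih a) (ih b)
          rw [← pow_add] at h3
          exact Ideal.pow_le_pow_right (by omega) h3 }
    have hδ : δ = 0 := derivation_eq_zero δ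
    have h4 : δ x = 0 := by rw [hδ]; rfl
    exact Ideal.Quotient.eq_zero_iff_mem.mp h4

/-- Uniqueness of the coefficient field when `Ω[K⁄ℤ] = 0`. -/
theorem unique_of_subsingleton {C K : Type u} [CommRing C] [IsLocalRing C] [IsNoetherianRing C]
    [Field K] (π : C →+* K) (hker : RingHom.ker π = maximalIdeal C)
    (u v : K →+* C) (hu : ∀ x, π (u x) = x) (hv : ∀ x, π (v x) = x)
    [Subsingleton (Ω[K⁄ℤ])] : v = u := by
  apply RingHom.ext
  intro x
  rw [← sub_eq_zero, ← Ideal.mem_bot,
    ← Ideal.iInf_pow_eq_bot_of_isLocalRing (maximalIdeal C) Ideal.IsPrime.ne_top']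
  rw [Ideal.mem_iInf]
  intro n
  rcases n with _ | n
  · simp
  · exact sub_mem_pow π hker u v hu hv n x

/-- Lifting a ring map `K → C/m²` to `K → C` using formal smoothness over a prime field `F`. -/
theorem exists_lift_sq {C K : Type u} (F : Type) [Field F] [CommRing C] [IsLocalRing C]
    [IsAdicComplete (maximalIdeal C) C] [Field K] [Algebra F K] [Algebra.FormallySmooth F K]
    (hsub : ∀ f g : F →+* C ⧸ maximalIdeal C ^ 2, f = g)
    (u : K →+* C) (v₂ : K →+* C ⧸ maximalIdeal C ^ 2) :
    ∃ v : K →+* C, ∀ x, Ideal.Quotient.mk (maximalIdeal C ^ 2) (v x) = v₂ x := by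
  letI : Algebra F C := (u.comp (algebraMap F K)).toAlgebra
  let v₂' : K →ₐ[F] C ⧸ maximalIdeal C ^ 2 :=
    { v₂ with
      commutes' := fun r => RingHom.congr_fun
        (hsub (v₂.comp (algebraMap F K)) (algebraMap F (C ⧸ maximalIdeal C ^ 2))) r }
  haveI := isAdicComplete_pow (maximalIdeal C) 2 (by omega)
  obtain ⟨g, hg⟩ := Algebra.FormallySmooth.exists_mkₐ_comp_eq_of_isAdicComplete
    (I := maximalIdeal C ^ 2) v₂'
  exact ⟨g.toRingHom, fun x => AlgHom.congr_fun hg x⟩

/-- Same, choosing the prime field according to the characteristic. -/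
theorem exists_lift_sq' {C K : Type u} [CommRing C] [IsLocalRing C]
    [IsAdicComplete (maximalIdeal C) C] [Field K]
    (u : K →+* C) (v₂ : K →+* C ⧸ maximalIdeal C ^ 2) :
    ∃ v : K →+* C, ∀ x, Ideal.Quotient.mk (maximalIdeal C ^ 2) (v x) = v₂ x := by
  obtain ⟨p, hc⟩ := CharP.exists K
  rcases CharP.char_is_prime_or_zero K p with hp | rfl
  · haveI : Fact p.Prime := ⟨hp⟩
    letI : Algebra (ZMod p) K := ZMod.algebra K p
    haveI : Algebra.FormallySmooth (ZMod p) K :=
      Groth.Agent.H27.FieldSmooth.formallySmooth_zmod p K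
    exact exists_lift_sq (ZMod p) (fun f g => Subsingleton.elim f g) u v₂
  · haveI := CharP.charP_to_charZero K
    haveI : Algebra.FormallySmooth ℚ K :=
      Groth.Agent.H27.FieldSmooth.formallySmooth_of_charZero ℚ K
    exact exists_lift_sq ℚ (fun f g => Subsingleton.elim f g) u v₂

/-- If `Ω[K⁄ℤ] ≠ 0` and `m ≠ 0`, there is a second coefficient field. -/
theorem exists_ne_section {C K : Type u} [CommRing C] [IsLocalRing C] [IsNoetherianRing C]
    [IsAdicComplete (maximalIdeal C) C] [Field K] (π : C →+* K)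
    (hker : RingHom.ker π = maximalIdeal C) (hm : maximalIdeal C ≠ ⊥)
    (u : K →+* C) (hu : ∀ x, π (u x) = x) (hΩ : ¬ Subsingleton (Ω[K⁄ℤ])) :
    ∃ v : K →+* C, (∀ x, π (v x) = x) ∧ v ≠ u := by
  classical
  -- Step 1: an element of `m \ m²`
  obtain ⟨t, ht, ht2⟩ : ∃ t ∈ maximalIdeal C, t ∉ maximalIdeal C ^ 2 := by
    by_contra hcon
    push Not at hcon
    apply hm
    have hle : maximalIdeal C ≤ maximalIdeal C • maximalIdeal C := by
      intro x hx
      have := hcon x hx
      rwa [pow_two] at this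
    exact Submodule.eq_bot_of_le_smul_of_le_jacobson_bot (maximalIdeal C) (maximalIdeal C)
      (IsNoetherian.noetherian _) hle (maximalIdeal_le_jacobson ⊥)
  -- Step 2: a nonzero derivation
  obtain ⟨w, hw⟩ : ∃ w : Ω[K⁄ℤ], w ≠ 0 := by
    by_contra hcon
    push Not at hcon
    exact hΩ ⟨fun a b => by rw [hcon a, hcon b]⟩
  obtain ⟨ℓ, hℓ⟩ : ∃ ℓ : Module.Dual K (Ω[K⁄ℤ]), ℓ w ≠ 0 := by
    by_contra hcon
    push Not at hcon
    exact hw ((Module.forall_dual_apply_eq_zero_iff K w).mp hcon)
  obtain ⟨x₀, hx₀⟩ : ∃ x₀ : K, ℓ (KaehlerDifferential.D ℤ K x₀) ≠ 0 := by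
    by_contra hcon
    push Not at hcon
    have hall : ∀ w' : Ω[K⁄ℤ], ℓ w' = 0 := by
      intro w'
      have hw' : w' ∈ Submodule.span K (Set.range (KaehlerDifferential.D ℤ K)) := by
        rw [KaehlerDifferential.span_range_derivation]; trivial
      induction hw' using Submodule.span_induction with
      | mem w hw =>
        obtain ⟨a, rfl⟩ := hw
        exact hcon a
      | zero => simp
      | add a b _ _ ha hb => rw [map_add, ha, hb, add_zero]
      | smul c a _ ha => rw [map_smul, ha, smul_zero]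
    exact hℓ (hall w)
  let D₀ : K → K := fun x => ℓ (KaehlerDifferential.D ℤ K x)
  have hD_add : ∀ x y, D₀ (x + y) = D₀ x + D₀ y := fun x y => by simp [D₀]
  have hD_mul : ∀ x y, D₀ (x * y) = x * D₀ y + y * D₀ x := fun x y => by
    simp [D₀, Derivation.leibniz]
  have hD_one : D₀ 1 = 0 := by simp [D₀]
  have hD_zero : D₀ 0 = 0 := by simp [D₀]
  -- Step 3: the map mod `m²`
  let v₂ : K →+* C ⧸ maximalIdeal C ^ 2 :=
    { toFun := fun x => Ideal.Quotient.mk _ (u x + t * u (D₀ x))
      map_one' := by rw [hD_one, map_zero, mul_zero, add_zero, map_one, map_one]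
      map_zero' := by rw [hD_zero, map_zero, mul_zero, add_zero, map_zero]
      map_add' := fun x y => by
        rw [← map_add]; congr 1; rw [hD_add, map_add, map_add]; ring
      map_mul' := fun x y => by
        rw [← map_mul, hD_mul, ← sub_eq_zero, ← map_sub, Ideal.Quotient.eq_zero_iff_mem]
        have h2 : u (x * y) + t * u (x * D₀ y + y * D₀ x) -
            (u x + t * u (D₀ x)) * (u y + t * u (D₀ y)) = - (t * t * (u (D₀ x) * u (D₀ y))) := by
          simp only [map_mul, map_add]; ring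
        rw [h2, pow_two]
        exact neg_mem (Ideal.mul_mem_right _ _ (Ideal.mul_mem_mul ht ht)) }
  have hv₂ : ∀ x, v₂ x = Ideal.Quotient.mk _ (u x + t * u (D₀ x)) := fun x => rfl
  obtain ⟨v, hv⟩ := exists_lift_sq' u v₂
  have hmem : ∀ x, v x - (u x + t * u (D₀ x)) ∈ maximalIdeal C ^ 2 := by
    intro x
    rw [← Ideal.Quotient.eq_zero_iff_mem, map_sub, hv, hv₂, sub_self]
  have htπ : π t = 0 := by
    rw [← RingHom.mem_ker, hker]; exact ht
  refine ⟨v, fun x => ?_, fun hvu => ?_⟩
  · have h1 : v x - (u x + t * u (D₀ x)) ∈ RingHom.ker π := by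
      rw [hker]
      exact Ideal.pow_le_self (by norm_num) (hmem x)
    rw [RingHom.mem_ker, map_sub, map_add, map_mul, htπ, zero_mul, add_zero, hu, sub_eq_zero] at h1
    exact h1
  · have h1 := hmem x₀
    rw [hvu] at h1
    have h2 : t * u (D₀ x₀) ∈ maximalIdeal C ^ 2 := by
      have : u x₀ - (u x₀ + t * u (D₀ x₀)) = - (t * u (D₀ x₀)) := by ring
      rw [this] at h1
      exact (neg_mem_iff).mp h1
    have hunit : IsUnit (u (D₀ x₀)) := by
      by_contra hnu
      have : u (D₀ x₀) ∈ maximalIdeal C := (IsLocalRing.mem_maximalIdeal _).mpr hnu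
      rw [← hker, RingHom.mem_ker, hu] at this
      exact hx₀ this
    obtain ⟨b, hb⟩ := hunit
    apply ht2
    have : t = t * u (D₀ x₀) * ↑b⁻¹ := by
      rw [← hb, mul_assoc, Units.mul_inv, mul_one]
    rw [this]
    exact Ideal.mul_mem_right _ _ h2

end Groth.Agent.H11.CoefUnique
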