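import Mathlib
import Groth.Prelude.Def_ProCons

set_option autoImplicit false
universe u

namespace Groth.Agent.H11

open Topology Set Set.Notation

section Spectral

variable {V : Type*} [TopologicalSpace V]

/-- In a compact space, constructible sets are clopen for the constructible topology. -/
lemma isClopen_cons_of_isConstructible [CompactSpace V] {s : Set V} (hs : IsConstructible s) :
    IsClopen (WithTopology.ofTopology ⁻¹' s : Set (WithConstructibleTopology V)) := by
  induction hs using IsConstructible.empty_union_induction with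
  | open_retrocompact U hUopen hUcomp =>
    have hc : IsCompact U := hUcomp.isCompact
    constructor
    · rw [← isOpen_compl_iff, WithConstructibleTopology.isOpen_iff]
      exact IsCompact.isOpen_constructibleTopology_of_isClosed (s := Uᶜ)
        (by simpa using hc) hUopen.isClosed_compl
    · rw [WithConstructibleTopology.isOpen_iff]
      exact hc.isOpen_constructibleTopology_of_isOpen hUopen
  | union s hs t ht hs' ht' =>
    rw [preimage_union]
    exact hs'.union ht'
  | compl s hs hs' =>
    rw [preimage_compl]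
    exact hs'.compl

lemma mem_subbasis_isConstructible [QuasiSeparatedSpace V] {s : Set V} (hs : s ∈ constructibleTopologySubbasis V) :
    IsConstructible s := by
  rcases hs with hs | hs
  · exact hs.2.isConstructible hs.1
  · have := (hs.2.isConstructible hs.1.isOpen_compl)
    exact this.of_compl

/-- Every point of a set open in the constructible topology has a constructible neighbourhood
inside the set. -/
lemma exists_isConstructible_of_generateOpen [QuasiSeparatedSpace V] {A : Set V}
    (hA : TopologicalSpace.GenerateOpen (constructibleTopologySubbasis V) A) :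
    ∀ a ∈ A, ∃ C : Set V, IsConstructible C ∧ a ∈ C ∧ C ⊆ A := by
  induction hA with
  | basic s hs => exact fun a ha => ⟨s, mem_subbasis_isConstructible hs, ha, subset_rfl⟩
  | univ => exact fun a _ => ⟨univ, IsConstructible.univ, mem_univ _, subset_rfl⟩
  | inter s t _ _ ihs iht =>
    intro a ha
    obtain ⟨C₁, h₁, ha₁, hC₁⟩ := ihs a ha.1
    obtain ⟨C₂, h₂, ha₂, hC₂⟩ := iht a ha.2
    exact ⟨C₁ ∩ C₂, h₁.inter h₂, ⟨ha₁, ha₂⟩, inter_subset_inter hC₁ hC₂⟩
  | sUnion S _ ih =>
    intro a ha
    obtain ⟨s, hsS, has⟩ := ha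
    obtain ⟨C, hC, haC, hCs⟩ := ih s hsS a has
    exact ⟨C, hC, haC, hCs.trans (subset_sUnion_of_mem hsS)⟩

lemma exists_isConstructible_of_isOpen_cons [QuasiSeparatedSpace V] {A : Set V}
    (hA : IsOpen (WithTopology.ofTopology ⁻¹' A : Set (WithConstructibleTopology V))) :
    ∀ a ∈ A, ∃ C : Set V, IsConstructible C ∧ a ∈ C ∧ C ⊆ A :=
  exists_isConstructible_of_generateOpen hA

/-- In a spectral space, a set which is clopen for the constructible topology is constructible. -/
lemma isConstructible_of_isClopen_cons [CompactSpace V] [QuasiSober V] [PrespectralSpace V]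
    [QuasiSeparatedSpace V] {A : Set V}
    (hA : IsClopen (WithTopology.ofTopology ⁻¹' A : Set (WithConstructibleTopology V))) :
    IsConstructible A := by
  classical
  have hcomp : IsCompact (WithTopology.ofTopology ⁻¹' A : Set (WithConstructibleTopology V)) :=
    hA.1.isCompact
  have hloc := exists_isConstructible_of_isOpen_cons hA.2
  choose! C hC haC hCA using hloc
  obtain ⟨t, ht⟩ := hcomp.elim_finite_subcover
    (fun a : V => (WithTopology.ofTopology ⁻¹' (if a ∈ A then C a else ∅) :
      Set (WithConstructibleTopology V)))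
    (fun a => by
      by_cases ha : a ∈ A
      · simp only [ha, if_true]
        exact (isClopen_cons_of_isConstructible (hC a ha)).2
      · simp only [ha, if_false, preimage_empty]
        exact isOpen_empty)
    (fun x hx => by
      have hx' : WithTopology.ofTopology x ∈ A := hx
      refine mem_iUnion.mpr ⟨WithTopology.ofTopology x, ?_⟩
      simp only [hx', if_true]
      exact haC _ hx')
  have hEq : A = ⋃ a ∈ t, (if a ∈ A then C a else ∅) := by
    apply subset_antisymm
    · intro x hx
      have := ht (show WithTopology.toTopology _ x ∈ _ from hx)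
      simp only [mem_iUnion] at this ⊢
      obtain ⟨a, hat, hxa⟩ := this
      exact ⟨a, hat, hxa⟩
    · intro x hx
      simp only [mem_iUnion] at hx
      obtain ⟨a, _, hxa⟩ := hx
      by_cases ha : a ∈ A
      · simp only [ha, if_true] at hxa
        exact hCA a ha hxa
      · simp only [ha, if_false] at hxa
        exact hxa.elim
  rw [hEq]
  refine IsConstructible.biUnion t.finite_toSet (fun a _ => ?_)
  by_cases ha : a ∈ A
  · simp only [ha, if_true]
    exact hC a ha
  · simp only [ha, if_false]
    exact IsConstructible.empty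

end Spectral


section Local

variable {X : Type*} [TopologicalSpace X]

lemma isLocallyConstructible_compl {s : Set X} (hs : IsLocallyConstructible s) :
    IsLocallyConstructible sᶜ := by
  intro x
  obtain ⟨U, hU, hUo, hc⟩ := hs x
  refine ⟨U, hU, hUo, ?_⟩
  have := hc.compl
  rwa [← preimage_compl] at this

lemma isIndConstructible_compl {E : Set X} (hE : ProCons.IsProConstructible E) :
    ProCons.IsIndConstructible Eᶜ := by
  intro x
  obtain ⟨U, hU, hxU, S, hS, hES⟩ := hE x
  refine ⟨U, hU, hxU, compl '' S, ?_, ?_⟩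
  · rintro _ ⟨T, hT, rfl⟩
    exact isLocallyConstructible_compl (hS T hT)
  · rw [preimage_compl, hES, compl_sInter]

/-- An ind-constructible set meets every spectral open subspace in a set open for the
constructible topology of that subspace. -/
lemma isOpen_cons_of_isIndConstructible {E : Set X} (hE : ProCons.IsIndConstructible E)
    (W : Set X) (hW : IsOpen W) [CompactSpace W] [PrespectralSpace W] [QuasiSeparatedSpace W] :
    IsOpen (WithTopology.ofTopology ⁻¹' (W ↓∩ E) : Set (WithConstructibleTopology W)) := by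
  rw [isOpen_iff_forall_mem_open]
  intro w' hw'
  obtain ⟨w, rfl⟩ : ∃ w : W, WithTopology.toTopology _ w = w' :=
    ⟨WithTopology.ofTopology w', rfl⟩
  have hwE : (w : X) ∈ E := hw'
  obtain ⟨U, hU, hwU, S, hS, hES⟩ := hE w
  have hmem : (⟨w, hwU⟩ : U) ∈ (Subtype.val ⁻¹' E : Set U) := hwE
  rw [hES] at hmem
  obtain ⟨T, hTS, hwT⟩ := hmem
  have hUW : (W ↓∩ U) ∈ 𝓝 w := (hU.preimage continuous_subtype_val).mem_nhds hwU
  obtain ⟨K, ⟨hKo, hKc⟩, hwK, hKU⟩ :=
    (PrespectralSpace.isTopologicalBasis (X := W)).mem_nhds_iff.mp hUW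
  have : CompactSpace K := isCompact_iff_compactSpace.mp hKc
  have : PrespectralSpace K := hKo.isOpenEmbedding_subtypeVal.prespectralSpace
  have : QuasiSeparatedSpace K :=
    QuasiSeparatedSpace.of_isOpenEmbedding hKo.isOpenEmbedding_subtypeVal
  obtain ⟨j, hjdef⟩ : ∃ j : K → U, ∀ k : K, ((j k : U) : X) = ((k : W) : X) :=
    ⟨fun k => ⟨k.1.1, hKU k.2⟩, fun _ => rfl⟩
  have hj : IsOpenEmbedding j := by
    have h1 : IsOpenEmbedding ((Subtype.val : U → X) ∘ j) := by
      have h2 : (Subtype.val : U → X) ∘ j = (Subtype.val : W → X) ∘ (Subtype.val : K → W) := by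
        funext k
        exact hjdef k
      rw [h2]
      exact hW.isOpenEmbedding_subtypeVal.comp hKo.isOpenEmbedding_subtypeVal
    exact (IsOpenEmbedding.of_comp_iff j hU.isOpenEmbedding_subtypeVal).mp h1
  have h1 : IsConstructible (j ⁻¹' T) :=
    ((hS T hTS).preimage_of_isOpenEmbedding hj).isConstructible
  have h2 : IsConstructible (Subtype.val '' (j ⁻¹' T) : Set W) :=
    h1.image_of_isOpenEmbedding hKo.isOpenEmbedding_subtypeVal
      (by rw [Subtype.range_val]; exact hKc.isRetrocompact hKo)
  refine ⟨_, ?_, (isClopen_cons_of_isConstructible h2).2, ?_⟩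
  · rintro v' ⟨k, hkT, hk⟩
    show ((WithTopology.ofTopology v' : W) : X) ∈ E
    have hk' : (k : W) = WithTopology.ofTopology v' := hk
    rw [← hk', ← hjdef k]
    have : j k ∈ (Subtype.val ⁻¹' E : Set U) := by
      rw [hES]
      exact ⟨T, hTS, hkT⟩
    exact this
  · refine ⟨⟨w, hwK⟩, ?_, rfl⟩
    show j ⟨w, hwK⟩ ∈ T
    have : j ⟨w, hwK⟩ = ⟨w, hwU⟩ := Subtype.ext (hjdef _)
    rw [this]
    exact hwT

lemma isClosed_cons_of_isProConstructible {E : Set X} (hE : ProCons.IsProConstructible E)
    (W : Set X) (hW : IsOpen W) [CompactSpace W] [PrespectralSpace W] [QuasiSeparatedSpace W] :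
    IsClosed (WithTopology.ofTopology ⁻¹' (W ↓∩ E) : Set (WithConstructibleTopology W)) := by
  rw [← isOpen_compl_iff]
  have := isOpen_cons_of_isIndConstructible (isIndConstructible_compl hE) W hW
  rwa [preimage_compl, preimage_compl] at this

/-- The compactness statement on one spectral open subspace. -/
lemma exists_finset_inter_subset_of_spectral {ι : Type*} (W : Set X) (hW : IsOpen W)
    [CompactSpace W] [QuasiSober W] [PrespectralSpace W] [QuasiSeparatedSpace W]
    {E : Set X} (hE : ProCons.IsIndConstructible E) (F : ι → Set X)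
    (hF : ∀ i, ProCons.IsProConstructible (F i)) (h : W ∩ ⋂ i, F i ⊆ E) :
    ∃ J : Finset ι, W ∩ ⋂ i ∈ J, F i ⊆ E := by
  have hO := isOpen_cons_of_isIndConstructible hE W hW
  have hC := fun i => isClosed_cons_of_isProConstructible (hF i) W hW
  have hcomp := hO.isClosed_compl.isCompact
  obtain ⟨J, hJ⟩ := hcomp.elim_finite_subfamily_closed _ hC (by
    rw [eq_empty_iff_forall_notMem]
    rintro v ⟨hv1, hv2⟩
    apply hv1
    show ((WithTopology.ofTopology v : W) : X) ∈ E
    apply h
    refine ⟨(WithTopology.ofTopology v : W).2, ?_⟩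
    rw [mem_iInter] at hv2 ⊢
    exact fun i => hv2 i)
  refine ⟨J, ?_⟩
  rintro x ⟨hxW, hxF⟩
  by_contra hxE
  have : WithTopology.toTopology _ (⟨x, hxW⟩ : W) ∈ (∅ : Set (WithConstructibleTopology W)) := by
    rw [← hJ]
    refine ⟨hxE, ?_⟩
    simp only [mem_iInter] at hxF ⊢
    exact fun i hi => hxF i hi
  exact this

/-- A space is locally spectral if every point has a basis of neighbourhoods which are
spectral open subspaces. -/
def LocSpectral (X : Type*) [TopologicalSpace X] : Prop :=
  ∀ x : X, ∀ U ∈ 𝓝 x, ∃ W : Set X, IsOpen W ∧ x ∈ W ∧ W ⊆ U ∧ CompactSpace W ∧ QuasiSober W ∧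
    PrespectralSpace W ∧ QuasiSeparatedSpace W


/-- Quasi-compactness for the constructible topology, on a quasi-compact locally spectral space. -/
theorem exists_finset_iInter_subset [CompactSpace X] (hX : LocSpectral X) {ι : Type*}
    {E : Set X} (hE : ProCons.IsIndConstructible E) (F : ι → Set X)
    (hF : ∀ i, ProCons.IsProConstructible (F i)) (h : ⋂ i, F i ⊆ E) :
    ∃ J : Finset ι, ⋂ i ∈ J, F i ⊆ E := by
  classical
  have key : ∀ x : X, ∃ W : Set X, IsOpen W ∧ x ∈ W ∧ ∃ J : Finset ι, W ∩ ⋂ i ∈ J, F i ⊆ E := by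
    intro x
    obtain ⟨W, hW, hxW, -, h1, h2, h3, h4⟩ := hX x univ Filter.univ_mem
    exact ⟨W, hW, hxW, exists_finset_inter_subset_of_spectral W hW hE F hF
      (inter_subset_right.trans h)⟩
  choose W hW hxW J hJ using key
  obtain ⟨t, ht⟩ := isCompact_univ.elim_nhds_subcover W (fun x _ => (hW x).mem_nhds (hxW x))
  refine ⟨t.biUnion J, ?_⟩
  intro y hy
  obtain ⟨x, hxt, hyx⟩ := mem_iUnion₂.mp (ht.2 (mem_univ y))
  apply hJ x
  refine ⟨hyx, ?_⟩
  simp only [mem_iInter] at hy ⊢
  exact fun i hi => hy i (Finset.mem_biUnion.mpr ⟨x, hxt, hi⟩)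

/-- Interior points of an ind-constructible set are the points all of whose generizations lie in
the set. -/
theorem mem_interior_iff_of_isIndConstructible (hX : LocSpectral X) {E : Set X}
    (hE : ProCons.IsIndConstructible E) (x : X) :
    x ∈ interior E ↔ ∀ x' : X, x' ⤳ x → x' ∈ E := by
  constructor
  · intro hx x' hx'
    exact interior_subset (hx'.mem_open isOpen_interior hx)
  · intro hgen
    obtain ⟨W, hW, hxW, -, h1, h2, h3, h4⟩ := hX x univ Filter.univ_mem
    have hO := isOpen_cons_of_isIndConstructible hE W hW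
    have hcomp := hO.isClosed_compl.isCompact
    obtain ⟨J, hJ⟩ := hcomp.elim_finite_subfamily_closed
      (fun K : {K : Set W // IsOpen K ∧ IsCompact K ∧ (⟨x, hxW⟩ : W) ∈ K} =>
        (WithTopology.ofTopology ⁻¹' (K : Set W) : Set (WithConstructibleTopology W)))
      (fun K => (isClopen_cons_of_isConstructible (K.2.2.1.isConstructible K.2.1)).1) (by
        rw [eq_empty_iff_forall_notMem]
        rintro v ⟨hv1, hv2⟩
        apply hv1
        show ((WithTopology.ofTopology v : W) : X) ∈ E
        apply hgen
        have hsp : (WithTopology.ofTopology v : W) ⤳ (⟨x, hxW⟩ : W) := by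
          rw [specializes_iff_forall_open]
          intro s hs hxs
          obtain ⟨K, ⟨hKo, hKc⟩, hxK, hKs⟩ :=
            (PrespectralSpace.isTopologicalBasis (X := W)).mem_nhds_iff.mp (hs.mem_nhds hxs)
          apply hKs
          rw [mem_iInter] at hv2
          exact hv2 ⟨K, hKo, hKc, hxK⟩
        exact hsp.map continuous_subtype_val)
    rw [mem_interior]
    refine ⟨Subtype.val '' (⋂ K ∈ J, (K : Set W)), ?_, ?_, ?_⟩
    · rintro _ ⟨v, hv, rfl⟩
      by_contra hvE
      have : WithTopology.toTopology _ v ∈ (∅ : Set (WithConstructibleTopology W)) := by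
        rw [← hJ]
        refine ⟨hvE, ?_⟩
        simp only [mem_iInter] at hv ⊢
        exact fun K hK => hv K hK
      exact this
    · apply hW.isOpenMap_subtype_val
      exact isOpen_biInter_finset (fun K _ => K.2.1)
    · refine ⟨⟨x, hxW⟩, ?_, rfl⟩
      simp only [mem_iInter]
      exact fun K _ => K.2.2.2

/-- Locally constructible = ind-constructible and pro-constructible. -/
theorem isLocallyConstructible_iff_ind_and_pro (hX : LocSpectral X) (E : Set X) :
    IsLocallyConstructible E ↔ ProCons.IsIndConstructible E ∧ ProCons.IsProConstructible E := by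
  constructor
  · intro hE
    have hloc : IsLocallyConstructible (Subtype.val ⁻¹' E : Set (univ : Set X)) :=
      hE.preimage_of_isOpenEmbedding isOpen_univ.isOpenEmbedding_subtypeVal
    constructor
    · intro x
      refine ⟨univ, isOpen_univ, mem_univ x, {Subtype.val ⁻¹' E}, ?_, (sUnion_singleton _).symm⟩
      rintro T rfl
      exact hloc
    · intro x
      refine ⟨univ, isOpen_univ, mem_univ x, {Subtype.val ⁻¹' E}, ?_, (sInter_singleton _).symm⟩
      rintro T rfl
      exact hloc
  · rintro ⟨hind, hpro⟩ x
    obtain ⟨W, hW, hxW, -, h1, h2, h3, h4⟩ := hX x univ Filter.univ_mem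
    exact ⟨W, hW.mem_nhds hxW, hW, isConstructible_of_isClopen_cons
      ⟨isClosed_cons_of_isProConstructible hpro W hW, isOpen_cons_of_isIndConstructible hind W hW⟩⟩

end Local

section Scheme

open AlgebraicGeometry

theorem locSpectral_scheme (X : Scheme.{u}) : LocSpectral X := by
  intro x U hU
  obtain ⟨U', hU'U, hU'o, hxU'⟩ := mem_nhds_iff.mp hU
  obtain ⟨W, hW, hxW, hWU⟩ := (TopologicalSpace.Opens.isBasis_iff_nbhd.mp X.isBasis_affineOpens)
    (show x ∈ (⟨U', hU'o⟩ : X.Opens) from hxU')
  have hWaff : IsAffineOpen W := hW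
  refine ⟨W, W.isOpen, hxW, (fun y hy => hU'U (hWU hy)), ?_, ?_, ?_, ?_⟩
  · exact isCompact_iff_compactSpace.mp hWaff.isCompact
  · exact W.isOpen.isOpenEmbedding_subtypeVal.quasiSober
  · exact W.isOpen.isOpenEmbedding_subtypeVal.prespectralSpace
  · exact (isQuasiSeparated_iff_quasiSeparatedSpace _ W.isOpen).mp hWaff.isQuasiSeparated

end Scheme

end Groth.Agent.H11
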