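import Mathlib
import Groth.Agent.H11.ProCons

set_option autoImplicit false
universe u

namespace Groth.Agent.H11

open Topology Set Set.Notation

namespace ConsTop

variable {X : Type*} [TopologicalSpace X]

/-- The projection from the constructible-topology copy. -/
abbrev p (X : Type*) [TopologicalSpace X] : WithConstructibleTopology X → X := WithTopology.ofTopology

lemma isOpen_of_isCompact_isOpen {K : Set X} (hK : IsCompact K) (hKo : IsOpen K) :
    IsOpen (p X ⁻¹' K) := by
  rw [WithConstructibleTopology.isOpen_iff]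
  exact hK.isOpen_constructibleTopology_of_isOpen hKo

lemma isClosed_of_isCompact_isOpen {K : Set X} (hK : IsCompact K) (hKo : IsOpen K) :
    IsClosed (p X ⁻¹' K) := by
  rw [← isOpen_compl_iff, WithConstructibleTopology.isOpen_iff]
  exact IsCompact.isOpen_constructibleTopology_of_isClosed (s := Kᶜ) (by simpa using hK)
    hKo.isClosed_compl

lemma isOpen_of_isOpen [PrespectralSpace X] {U : Set X} (hU : IsOpen U) : IsOpen (p X ⁻¹' U) := by
  rw [isOpen_iff_forall_mem_open]
  intro x hx
  obtain ⟨K, ⟨hKo, hKc⟩, hxK, hKU⟩ :=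
    (PrespectralSpace.isTopologicalBasis (X := X)).mem_nhds_iff.mp (hU.mem_nhds hx)
  exact ⟨p X ⁻¹' K, preimage_mono hKU, isOpen_of_isCompact_isOpen hKc hKo, hxK⟩

lemma continuous_p [PrespectralSpace X] : Continuous (p X) :=
  ⟨fun _ hU => isOpen_of_isOpen hU⟩

/-- Continuity for the constructible topologies. -/
lemma continuous_cons_of {Y : Type*} [TopologicalSpace Y] (f : X → Y) (hf : Continuous f)
    (h : ∀ U : Set Y, IsOpen U → IsCompact U → IsCompact (f ⁻¹' U)) :
    Continuous (WithTopology.toTopology (constructibleTopology Y) ∘ f ∘ p X) := by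
  constructor
  intro s hs
  have hs' : IsOpen[constructibleTopology Y] (WithTopology.toTopology _ ⁻¹' s) := hs
  rw [WithConstructibleTopology.isOpen_iff]
  have hc : Continuous[constructibleTopology X, constructibleTopology Y] f := by
    rw [constructibleTopology, continuous_generateFrom_iff]
    rintro t (⟨hto, htc⟩ | ⟨htcl, htc⟩)
    · exact (h t hto htc).isOpen_constructibleTopology_of_isOpen (hto.preimage hf)
    · refine IsCompact.isOpen_constructibleTopology_of_isClosed ?_ (htcl.preimage hf)
      rw [← preimage_compl]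
      exact h _ htcl.isOpen_compl htc
  exact (@continuous_def X Y (constructibleTopology X) (constructibleTopology Y) f).mp hc _ hs'

/-- The inclusion of an open subspace with compact-open-preserving intersection is continuous for
the constructible topologies. -/
lemma continuous_incl [QuasiSeparatedSpace X] (W : Set X) (hW : IsOpen W) (hWc : IsCompact W) :
    Continuous (WithTopology.toTopology (constructibleTopology X) ∘ (Subtype.val : W → X) ∘ p W) := by
  apply continuous_cons_of _ continuous_subtype_val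
  intro U hU hUc
  have := QuasiSeparatedSpace.inter_isCompact U W hU hUc hW hWc
  rw [IsEmbedding.subtypeVal.isCompact_iff, Subtype.image_preimage_coe, inter_comm]
  exact this

/-- Compact opens are compact for the constructible topology. -/
lemma isCompact_of_isCompact_isOpen [QuasiSeparatedSpace X] [PrespectralSpace X] [QuasiSober X]
    {K : Set X} (hK : IsCompact K) (hKo : IsOpen K) : IsCompact (p X ⁻¹' K) := by
  have : CompactSpace K := isCompact_iff_compactSpace.mp hK
  have : QuasiSober K := hKo.isOpenEmbedding_subtypeVal.quasiSober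
  have : PrespectralSpace K := hKo.isOpenEmbedding_subtypeVal.prespectralSpace
  have : QuasiSeparatedSpace K := QuasiSeparatedSpace.of_isOpenEmbedding hKo.isOpenEmbedding_subtypeVal
  have hc := continuous_incl K hKo hK
  have := isCompact_range hc
  convert this using 1
  ext x
  constructor
  · intro hx
    exact ⟨WithTopology.toTopology _ ⟨p X x, hx⟩, rfl⟩
  · rintro ⟨y, rfl⟩
    exact (p K y).2

section Separation

variable [PrespectralSpace X] [T0Space X]

lemma exists_clopen_sep {x y : X} (hxy : x ≠ y) :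
    ∃ K : Set X, IsOpen K ∧ IsCompact K ∧ ((x ∈ K ∧ y ∉ K) ∨ (y ∈ K ∧ x ∉ K)) := by
  obtain ⟨U, hU, hU'⟩ := exists_isOpen_xor_mem hxy
  rcases hU' with ⟨hx, hy⟩ | ⟨hy, hx⟩
  · obtain ⟨K, ⟨hKo, hKc⟩, hxK, hKU⟩ :=
      (PrespectralSpace.isTopologicalBasis (X := X)).mem_nhds_iff.mp (hU.mem_nhds hx)
    exact ⟨K, hKo, hKc, Or.inl ⟨hxK, fun h => hy (hKU h)⟩⟩
  · obtain ⟨K, ⟨hKo, hKc⟩, hyK, hKU⟩ :=
      (PrespectralSpace.isTopologicalBasis (X := X)).mem_nhds_iff.mp (hU.mem_nhds hy)
    exact ⟨K, hKo, hKc, Or.inr ⟨hyK, fun h => hx (hKU h)⟩⟩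

instance t2Space : T2Space (WithConstructibleTopology X) := by
  constructor
  intro x y hxy
  have hxy' : p X x ≠ p X y := fun h => hxy (WithTopology.ofTopology_injective _ h)
  obtain ⟨K, hKo, hKc, h | h⟩ := exists_clopen_sep hxy'
  · exact ⟨p X ⁻¹' K, (p X ⁻¹' K)ᶜ, isOpen_of_isCompact_isOpen hKc hKo,
      (isClosed_of_isCompact_isOpen hKc hKo).isOpen_compl, h.1, h.2, disjoint_compl_right⟩
  · exact ⟨(p X ⁻¹' K)ᶜ, p X ⁻¹' K, (isClosed_of_isCompact_isOpen hKc hKo).isOpen_compl,
      isOpen_of_isCompact_isOpen hKc hKo, h.2, h.1, disjoint_compl_left⟩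

instance totallySeparatedSpace : TotallySeparatedSpace (WithConstructibleTopology X) := by
  constructor
  intro x _ y _ hxy
  have hxy' : p X x ≠ p X y := fun h => hxy (WithTopology.ofTopology_injective _ h)
  obtain ⟨K, hKo, hKc, h | h⟩ := exists_clopen_sep hxy'
  · exact ⟨p X ⁻¹' K, (p X ⁻¹' K)ᶜ, isOpen_of_isCompact_isOpen hKc hKo,
      (isClosed_of_isCompact_isOpen hKc hKo).isOpen_compl, h.1, h.2,
      by rw [union_compl_self], disjoint_compl_right⟩
  · exact ⟨(p X ⁻¹' K)ᶜ, p X ⁻¹' K, (isClosed_of_isCompact_isOpen hKc hKo).isOpen_compl,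
      isOpen_of_isCompact_isOpen hKc hKo, h.2, h.1, by rw [compl_union_self], disjoint_compl_left⟩

instance weaklyLocallyCompactSpace [QuasiSeparatedSpace X] [QuasiSober X] :
    WeaklyLocallyCompactSpace (WithConstructibleTopology X) := by
  constructor
  intro x
  obtain ⟨K, ⟨hKo, hKc⟩, hxK, -⟩ :=
    (PrespectralSpace.isTopologicalBasis (X := X)).mem_nhds_iff.mp (Filter.univ_mem (f := 𝓝 (p X x)))
  exact ⟨p X ⁻¹' K, isCompact_of_isCompact_isOpen hKc hKo,
    (isOpen_of_isCompact_isOpen hKc hKo).mem_nhds hxK⟩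

end Separation

end ConsTop

end Groth.Agent.H11
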