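import Mathlib
import Groth.Agent.H11.ConsTop

set_option autoImplicit false
universe u

namespace Groth.Agent.H11

open Topology Set Set.Notation

namespace ConsTop

section Transfer

/-- `X` with topology `t` is homeomorphic to `WithTopology X t`. -/
def homeo {X : Type*} (t : TopologicalSpace X) : @Homeomorph X (WithTopology X t) t _ :=
  letI := t
  { toEquiv := (WithTopology.equiv X t).symm
    continuous_toFun := WithTopology.continuous_toTopology t
    continuous_invFun := WithTopology.continuous_ofTopology t }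

lemma isProperMap_withTopology_iff {X Y : Type*} (t : TopologicalSpace X) (s : TopologicalSpace Y)
    (f : X → Y) :
    @IsProperMap X Y t s f ↔
      IsProperMap (WithTopology.toTopology s ∘ f ∘
        (WithTopology.ofTopology : WithTopology X t → X)) := by
  letI := t
  letI := s
  constructor
  · intro h
    exact (homeo s).isProperMap.comp (h.comp (homeo t).symm.isProperMap)
  · intro h
    have := (homeo s).symm.isProperMap.comp (h.comp (homeo t).isProperMap)
    exact this

end Transfer

variable {X : Type*} [TopologicalSpace X]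

lemma isClopen_of_isRetrocompact_isOpen [PrespectralSpace X] {U : Set X} (hU : IsOpen U)
    (hUr : IsRetrocompact U) : IsClopen (p X ⁻¹' U) := by
  refine ⟨?_, isOpen_of_isOpen hU⟩
  rw [← isOpen_compl_iff, isOpen_iff_forall_mem_open]
  intro x hx
  obtain ⟨K, ⟨hKo, hKc⟩, hxK, -⟩ :=
    (PrespectralSpace.isTopologicalBasis (X := X)).mem_nhds_iff.mp (Filter.univ_mem (f := 𝓝 (p X x)))
  refine ⟨p X ⁻¹' K ∩ (p X ⁻¹' (U ∩ K))ᶜ, ?_, ?_, ?_⟩
  · rintro y ⟨hyK, hyUK⟩ hyU
    exact hyUK ⟨hyU, hyK⟩
  · exact (isOpen_of_isCompact_isOpen hKc hKo).inter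
      (isClosed_of_isCompact_isOpen (hUr hKc hKo) (hU.inter hKo)).isOpen_compl
  · exact ⟨hxK, fun h => hx h.1⟩

lemma isClopen_of_isConstructible [PrespectralSpace X] {s : Set X} (hs : IsConstructible s) :
    IsClopen (p X ⁻¹' s) := by
  induction hs using IsConstructible.empty_union_induction with
  | open_retrocompact U hUopen hUcomp => exact isClopen_of_isRetrocompact_isOpen hUopen hUcomp
  | union s hs t ht hs' ht' =>
    rw [preimage_union]
    exact hs'.union ht'
  | compl s hs hs' =>
    rw [preimage_compl]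
    exact hs'.compl

lemma isOpen_of_isLocallyConstructible [PrespectralSpace X] [QuasiSeparatedSpace X] {E : Set X}
    (hE : IsLocallyConstructible E) : IsOpen (p X ⁻¹' E) := by
  rw [isOpen_iff_forall_mem_open]
  intro x hx
  obtain ⟨K, ⟨hKo, hKc⟩, hxK, -⟩ :=
    (PrespectralSpace.isTopologicalBasis (X := X)).mem_nhds_iff.mp (Filter.univ_mem (f := 𝓝 (p X x)))
  have hc := hE.inter_of_isOpen_isCompact hKo hKc
  exact ⟨p X ⁻¹' (E ∩ K), preimage_mono inter_subset_left, (isClopen_of_isConstructible hc).2,
    ⟨hx, hxK⟩⟩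

/-- Locally constructible sets are the clopen sets of the constructible topology. -/
theorem isLocallyConstructible_iff_isClopen [QuasiSeparatedSpace X] [PrespectralSpace X]
    [QuasiSober X] (E : Set X) :
    IsLocallyConstructible E ↔ IsClopen (p X ⁻¹' E) := by
  constructor
  · intro hE
    refine ⟨?_, isOpen_of_isLocallyConstructible hE⟩
    rw [← isOpen_compl_iff, ← preimage_compl]
    exact isOpen_of_isLocallyConstructible (isLocallyConstructible_compl hE)
  · intro hE x
    obtain ⟨K, ⟨hKo, hKc⟩, hxK, -⟩ :=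
      (PrespectralSpace.isTopologicalBasis (X := X)).mem_nhds_iff.mp (Filter.univ_mem (f := 𝓝 x))
    have : CompactSpace K := isCompact_iff_compactSpace.mp hKc
    have : QuasiSober K := hKo.isOpenEmbedding_subtypeVal.quasiSober
    have : PrespectralSpace K := hKo.isOpenEmbedding_subtypeVal.prespectralSpace
    have : QuasiSeparatedSpace K :=
      QuasiSeparatedSpace.of_isOpenEmbedding hKo.isOpenEmbedding_subtypeVal
    have hc := continuous_incl K hKo hKc
    have h1 : IsClopen (p K ⁻¹' (K ↓∩ E)) := hE.preimage hc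
    exact ⟨K, hKo.mem_nhds hxK, hKo, isConstructible_of_isClopen_cons h1⟩

/-- Quasi-compact maps are those which are proper for the constructible topologies. -/
theorem isProperMap_cons_iff {Y : Type*} [TopologicalSpace Y] [PrespectralSpace X]
    [QuasiSeparatedSpace X] [QuasiSober X] [PrespectralSpace Y] [T0Space Y] [QuasiSeparatedSpace Y]
    [QuasiSober Y] (f : X → Y) (hf : Continuous f) :
    (∀ U : Set Y, IsOpen U → IsCompact U → IsCompact (f ⁻¹' U)) ↔
      IsProperMap (WithTopology.toTopology (constructibleTopology Y) ∘ f ∘ p X) := by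
  constructor
  · intro h
    have hcont := continuous_cons_of f hf h
    rw [isProperMap_iff_isCompact_preimage]
    refine ⟨hcont, fun C hC => ?_⟩
    -- cover `C` by compact opens
    have hcov : ∀ y : WithConstructibleTopology Y, ∃ K : Set Y, IsOpen K ∧ IsCompact K ∧ p Y y ∈ K := by
      intro y
      obtain ⟨K, ⟨hKo, hKc⟩, hyK, -⟩ :=
        (PrespectralSpace.isTopologicalBasis (X := Y)).mem_nhds_iff.mp
          (Filter.univ_mem (f := 𝓝 (p Y y)))
      exact ⟨K, hKo, hKc, hyK⟩
    choose K hKo hKc hyK using hcov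
    obtain ⟨t, ht⟩ := hC.elim_nhds_subcover (fun y => p Y ⁻¹' K y)
      (fun y _ => (isOpen_of_isCompact_isOpen (hKc y) (hKo y)).mem_nhds (hyK y))
    have hD : IsCompact (⋃ y ∈ t, p X ⁻¹' (f ⁻¹' K y)) :=
      t.isCompact_biUnion (fun y _ => isCompact_of_isCompact_isOpen (h _ (hKo y) (hKc y))
        ((hKo y).preimage hf))
    refine hD.of_isClosed_subset (hC.isClosed.preimage hcont) ?_
    intro x hx
    obtain ⟨y, hyt, hxy⟩ := mem_iUnion₂.mp (ht.2 hx)
    exact mem_iUnion₂.mpr ⟨y, hyt, hxy⟩
  · intro h U hU hUc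
    have h1 := h.isCompact_preimage (isCompact_of_isCompact_isOpen hUc hU)
    have h2 := h1.image (continuous_p (X := X))
    convert h2 using 1
    ext x
    constructor
    · intro hx
      exact ⟨WithTopology.toTopology _ x, hx, rfl⟩
    · rintro ⟨y, hy, rfl⟩
      exact hy

end ConsTop

end Groth.Agent.H11
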