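import Mathlib
import Groth.Agent.H11.HensGabber

/-!
# A directed colimit of henselian pairs is henselian
-/

set_option autoImplicit false
universe u
open Polynomial

namespace Groth.Agent.H11.DL

variable {ι : Type u} [Preorder ι] [IsDirectedOrder ι] [Nonempty ι]
  (G : ι → Type u) [∀ i, CommRing (G i)] (f : ∀ i j : ι, i ≤ j → (G i →+* G j))
  [DirectedSystem G (fun i j h => f i j h)]

local notation "L" => DirectLimit G f
local notation "of" => DirectLimit.Ring.of G f

theorem of_surj (x : L) : ∃ i y, of i y = x := by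
  obtain ⟨i, y, rfl⟩ := DirectLimit.exists_eq_mk f x
  exact ⟨i, y, rfl⟩

theorem of_f' {i j : ι} (h : i ≤ j) (x : G i) : of j (f i j h x) = of i x :=
  DirectLimit.Ring.of_f h x

theorem of_eq_of_iff {i : ι} (x y : G i) :
    of i x = of i y ↔ ∃ (j : ι) (h : i ≤ j), f i j h x = f i j h y := by
  constructor
  · intro h
    obtain ⟨j, h1, h2, e⟩ := Quotient.eq.mp h
    exact ⟨j, h1, e⟩
  · rintro ⟨j, h, e⟩
    rw [← of_f' G f h x, ← of_f' G f h y, e]

theorem of_eq_zero_iff {i : ι} (x : G i) :
    of i x = 0 ↔ ∃ (j : ι) (h : i ≤ j), f i j h x = 0 := by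
  rw [← map_zero (of i), of_eq_of_iff]
  simp only [map_zero]

theorem of_surj₂ (x y : L) : ∃ i a b, of i a = x ∧ of i b = y := by
  obtain ⟨i, a, b, rfl, rfl⟩ := DirectLimit.exists_eq_mk₂ f x y
  exact ⟨i, a, b, rfl, rfl⟩

variable (J : ∀ i, Ideal (G i)) (hJ : ∀ (i j : ι) (h : i ≤ j), (J i).map (f i j h) ≤ J j)

/-- The colimit ideal. -/
noncomputable def colimIdeal : Ideal L := ⨆ i, (J i).map (of i)

include hJ in
theorem f_mem {i j : ι} (h : i ≤ j) {y : G i} (hy : y ∈ J i) : f i j h y ∈ J j :=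
  hJ i j h (Ideal.mem_map_of_mem _ hy)

include hJ in
theorem mem_colimIdeal_iff (x : L) :
    x ∈ colimIdeal G f J ↔ ∃ i, ∃ y ∈ J i, of i y = x := by
  let J' : Ideal L :=
    { carrier := {x | ∃ i, ∃ y ∈ J i, of i y = x}
      zero_mem' := by
        obtain ⟨i⟩ := ‹Nonempty ι›
        exact ⟨i, 0, (J i).zero_mem, map_zero _⟩
      add_mem' := by
        rintro _ _ ⟨i, y, hy, rfl⟩ ⟨j, z, hz, rfl⟩
        obtain ⟨k, hik, hjk⟩ := exists_ge_ge i j
        refine ⟨k, f i k hik y + f j k hjk z,
          (J k).add_mem (f_mem G f J hJ hik hy) (f_mem G f J hJ hjk hz), ?_⟩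
        rw [map_add, of_f', of_f']
      smul_mem' := by
        rintro c _ ⟨i, y, hy, rfl⟩
        obtain ⟨j, w, rfl⟩ := of_surj G f c
        obtain ⟨k, hik, hjk⟩ := exists_ge_ge i j
        refine ⟨k, f j k hjk w * f i k hik y, (J k).mul_mem_left _ (f_mem G f J hJ hik hy), ?_⟩
        rw [map_mul, of_f', of_f']
        rfl }
  have h1 : colimIdeal G f J ≤ J' := by
    refine iSup_le fun i => ?_
    rw [Ideal.map_le_iff_le_comap]
    intro y hy
    exact ⟨i, y, hy, rfl⟩
  constructor
  · intro hx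
    exact h1 hx
  · rintro ⟨i, y, hy, rfl⟩
    exact (le_iSup (fun i => (J i).map (of i)) i) (Ideal.mem_map_of_mem _ hy)

include hJ in
theorem henselianRing_directLimit (hH : ∀ i, HenselianRing (G i) (J i)) :
    HenselianRing L (colimIdeal G f J) := by
  classical
  apply Groth.Agent.H11.hens_of_gabber
  · intro x hx
    rw [mem_colimIdeal_iff G f J hJ] at hx
    obtain ⟨i, y, hy, rfl⟩ := hx
    rw [Ideal.mem_jacobson_bot]
    intro z
    obtain ⟨j, w, rfl⟩ := of_surj G f z
    obtain ⟨k, hik, hjk⟩ := exists_ge_ge i j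
    have h1 : f i k hik y ∈ Ideal.jacobson (⊥ : Ideal (G k)) :=
      (hH k).jac (f_mem G f J hJ hik hy)
    have h2 := ((Ideal.mem_jacobson_bot.1 h1) (f j k hjk w)).map (of k)
    rw [map_add, map_mul, map_one, of_f', of_f'] at h2
    exact h2
  · intro n _ p hp hpJ
    have hc : ∀ k, ∃ i, ∃ y ∈ J i, of i y = p.coeff k := fun k =>
      (mem_colimIdeal_iff G f J hJ _).1 (hpJ k)
    choose ik yk hyk hofk using hc
    obtain ⟨i, hi⟩ := Finset.exists_le ((Finset.range (n + 1)).image ik)
    have hik : ∀ k ∈ Finset.range (n + 1), ik k ≤ i := fun k hk =>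
      hi _ (Finset.mem_image_of_mem ik hk)
    let c : ℕ → G i := fun k => if h : k ∈ Finset.range (n + 1) then f (ik k) i (hik k h) (yk k)
      else 0
    have hcJ : ∀ k, c k ∈ J i := by
      intro k
      by_cases h : k ∈ Finset.range (n + 1)
      · simp only [c, dif_pos h]
        exact f_mem G f J hJ _ (hyk k)
      · simp only [c, dif_neg h]
        exact (J i).zero_mem
    have hcof : ∀ k ∈ Finset.range (n + 1), of i (c k) = p.coeff k := by
      intro k h
      simp only [c, dif_pos h]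
      rw [of_f', hofk]
    let q : (G i)[X] := ∑ k ∈ Finset.range (n + 1), C (c k) * X ^ k
    have hqdeg : q.natDegree ≤ n := by
      apply natDegree_sum_le_of_forall_le
      intro k hk
      refine (natDegree_C_mul_X_pow_le _ _).trans ?_
      have := Finset.mem_range.1 hk
      omega
    have hqJ : ∀ k, q.coeff k ∈ J i := by
      intro k
      simp only [q, finsetSum_coeff, coeff_C_mul_X_pow]
      refine (J i).sum_mem fun m _ => ?_
      split_ifs
      · exact hcJ m
      · exact (J i).zero_mem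
    have hqmap : q.map (of i) = p := by
      simp only [q, Polynomial.map_sum, Polynomial.map_mul, Polynomial.map_C, Polynomial.map_pow,
        Polynomial.map_X]
      rw [Finset.sum_congr rfl (fun k hk => by rw [hcof k hk, C_mul_X_pow_eq_monomial])]
      exact (as_sum_range' p (n + 1) (by omega)).symm
    obtain ⟨α, ⟨hα1, hα2⟩, -⟩ := Groth.Agent.H11.gabber_of_hens (J i) (hH i) n q hqdeg hqJ
    refine ⟨of i α, ?_, ?_⟩
    · rw [mem_colimIdeal_iff G f J hJ]
      exact ⟨i, α - 1, hα1, by rw [map_sub, map_one]⟩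
    · have e : (X ^ n * (X - 1) + p : L[X]) = (X ^ n * (X - 1) + q : (G i)[X]).map (of i) := by
        simp [hqmap]
      rw [IsRoot.def, e, eval_map_apply, hα2.eq_zero, map_zero]

end Groth.Agent.H11.DL
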