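import Mathlib
import Groth.Agent.H11.DLHens

/-!
# Maps from finitely presented algebras to a directed colimit
-/

set_option autoImplicit false
universe u

namespace Groth.Agent.H11.DL

variable {A : Type u} [CommRing A] {κ : Type u} [Preorder κ] [IsDirectedOrder κ] [Nonempty κ]
  (Ra : κ → Type u) [∀ a, CommRing (Ra a)] [∀ a, Algebra A (Ra a)]
  (t : ∀ a b : κ, a ≤ b → (Ra a →+* Ra b)) [DirectedSystem Ra (fun a b h => t a b h)]

local notation "L" => DirectLimit Ra t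
local notation "of" => DirectLimit.Ring.of Ra t

omit [∀ a, Algebra A (Ra a)] in
theorem exists_of_fin {n : ℕ} (x : Fin n → L) : ∃ (a : κ) (y : Fin n → Ra a), ∀ i, of a (y i) = x i := by
  classical
  have h : ∀ i, ∃ a y, of a y = x i := fun i => of_surj Ra t (x i)
  choose ai yi hyi using h
  obtain ⟨a, ha⟩ := Finset.exists_le (Finset.univ.image ai)
  have hai : ∀ i, ai i ≤ a := fun i => ha _ (Finset.mem_image_of_mem ai (Finset.mem_univ i))
  refine ⟨a, fun i => t (ai i) a (hai i) (yi i), fun i => ?_⟩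
  rw [of_f', hyi]

omit [∀ a, Algebra A (Ra a)] in
theorem exists_forall_eq_zero {a : κ} (s : Finset (Ra a)) (h : ∀ y ∈ s, of a y = 0) :
    ∃ (b : κ) (hab : a ≤ b), ∀ y ∈ s, t a b hab y = 0 := by
  classical
  induction s using Finset.induction_on with
  | empty => exact ⟨a, le_rfl, fun y hy => absurd hy (Finset.notMem_empty y)⟩
  | insert z s _ ih =>
    obtain ⟨b, hab, hb⟩ := ih (fun y hy => h y (Finset.mem_insert_of_mem hy))
    obtain ⟨c, hac, hc⟩ := (of_eq_zero_iff Ra t z).1 (h z (Finset.mem_insert_self z s))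
    obtain ⟨d, hbd, hcd⟩ := exists_ge_ge b c
    refine ⟨d, hab.trans hbd, fun y hy => ?_⟩
    rw [Finset.mem_insert] at hy
    rcases hy with rfl | hy
    · rw [← DirectedSystem.map_map' (f := t) hac hcd, hc, map_zero]
    · rw [← DirectedSystem.map_map' (f := t) hab hbd, hb y hy, map_zero]

variable (ht : ∀ (a b : κ) (h : a ≤ b), (t a b h).comp (algebraMap A (Ra a)) = algebraMap A (Ra b))
  [Algebra A (DirectLimit Ra t)]
  (halg : ∀ (a : κ) (x : A), algebraMap A (DirectLimit Ra t) x =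
    DirectLimit.Ring.of Ra t a (algebraMap A (Ra a) x))

/-- Transition maps as algebra maps. -/
def tAlg {a b : κ} (hab : a ≤ b) : Ra a →ₐ[A] Ra b :=
  { t a b hab with commutes' := fun x => RingHom.congr_fun (ht a b hab) x }

/-- Structure maps as algebra maps. -/
noncomputable def ofAlg (a : κ) : Ra a →ₐ[A] DirectLimit Ra t :=
  { DirectLimit.Ring.of Ra t a with commutes' := fun x => (halg a x).symm }

include ht halg in
theorem exists_factor_of_fp (R₀ : Type u) [CommRing R₀] [Algebra A R₀]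
    [Algebra.FinitePresentation A R₀] (χ₀ : R₀ →ₐ[A] DirectLimit Ra t) :
    ∃ (b : κ) (ψ : R₀ →ₐ[A] Ra b), ∀ r, DirectLimit.Ring.of Ra t b (ψ r) = χ₀ r := by
  classical
  obtain ⟨n, π, hπ, hker⟩ := (Algebra.FinitePresentation.out :
    ∃ (n : ℕ) (π : MvPolynomial (Fin n) A →ₐ[A] R₀), Function.Surjective π ∧
      (RingHom.ker π.toRingHom).FG)
  obtain ⟨G, hG⟩ := hker
  obtain ⟨a, y, hy⟩ := exists_of_fin Ra t (fun i => χ₀ (π (MvPolynomial.X i)))
  let ψ₀ : MvPolynomial (Fin n) A →ₐ[A] Ra a := MvPolynomial.aeval y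
  have h0 : (ofAlg Ra t halg a).comp ψ₀ = χ₀.comp π := by
    apply MvPolynomial.algHom_ext
    intro i
    show of a (MvPolynomial.aeval y (MvPolynomial.X i)) = χ₀ (π (MvPolynomial.X i))
    rw [MvPolynomial.aeval_X, hy]
  have h0' : ∀ p, of a (ψ₀ p) = χ₀ (π p) := fun p => DFunLike.congr_fun h0 p
  have hπG : ∀ p ∈ G, π p = 0 := by
    intro p hp
    have : p ∈ RingHom.ker π.toRingHom := hG ▸ Ideal.subset_span (Finset.mem_coe.2 hp)
    exact this
  obtain ⟨b, hab, hb⟩ := exists_forall_eq_zero Ra t (G.image ψ₀) (by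
    intro z hz
    rw [Finset.mem_image] at hz
    obtain ⟨p, hp, rfl⟩ := hz
    rw [h0', hπG p hp, map_zero])
  let ψ₁ : MvPolynomial (Fin n) A →ₐ[A] Ra b := (tAlg Ra t ht hab).comp ψ₀
  have hψ₁ : ∀ p, ψ₁ p = t a b hab (ψ₀ p) := fun _ => rfl
  have hle : RingHom.ker π.toRingHom ≤ RingHom.ker (ψ₁ : MvPolynomial (Fin n) A →+* Ra b) := by
    rw [← hG, Ideal.span_le]
    intro p hp
    show ψ₁ p = 0
    rw [hψ₁]
    exact hb _ (Finset.mem_image_of_mem ψ₀ hp)
  let ψ : R₀ →ₐ[A] Ra b := AlgHom.liftOfSurjective π hπ ψ₁ (fun p hp => hle hp)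
  have hψ : ∀ p, ψ (π p) = ψ₁ p := fun p => AlgHom.liftOfSurjective_apply π hπ ψ₁ _ p
  refine ⟨b, ψ, fun r => ?_⟩
  obtain ⟨p, rfl⟩ := hπ r
  rw [hψ, hψ₁, of_f', h0']

omit [Algebra A (DirectLimit Ra t)] in
include ht in
theorem exists_eq_of_ft (R₀ : Type u) [CommRing R₀] [Algebra A R₀]
    [Algebra.FiniteType A R₀] {a : κ} (ψ ψ' : R₀ →ₐ[A] Ra a)
    (h : ∀ r, DirectLimit.Ring.of Ra t a (ψ r) = DirectLimit.Ring.of Ra t a (ψ' r)) :
    ∃ (b : κ) (hab : a ≤ b), ∀ r, t a b hab (ψ r) = t a b hab (ψ' r) := by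
  classical
  obtain ⟨F, hF⟩ := (Algebra.FiniteType.out : (⊤ : Subalgebra A R₀).FG)
  obtain ⟨b, hab, hb⟩ := exists_forall_eq_zero Ra t (F.image (fun r => ψ r - ψ' r)) (by
    intro z hz
    rw [Finset.mem_image] at hz
    obtain ⟨r, _, rfl⟩ := hz
    rw [map_sub, h r, sub_self])
  refine ⟨b, hab, ?_⟩
  have : (tAlg Ra t ht hab).comp ψ = (tAlg Ra t ht hab).comp ψ' := by
    apply AlgHom.ext_of_adjoin_eq_top hF
    intro r hr
    show t a b hab (ψ r) = t a b hab (ψ' r)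
    have := hb _ (Finset.mem_image_of_mem (fun r => ψ r - ψ' r) (Finset.mem_coe.1 hr))
    rw [map_sub, sub_eq_zero] at this
    exact this
  intro r
  exact DFunLike.congr_fun this r

end Groth.Agent.H11.DL
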