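import Mathlib

/-!
# The equaliser of `L ⇉ (L ⊗[K] L)^` is the separable closure

Helper lemmas: annihilator of `x ⊗ 1 - 1 ⊗ x` in `L ⊗[K] L`.
-/

universe u

namespace Groth.Agent.H11.DiagComp

open TensorProduct Polynomial

variable {K L : Type u} [Field K] [Field L] [Algebra K L]
variable (F : Type u) [Field F] [Algebra K F] [Algebra F L] [IsScalarTower K F L]

section D

/-- multiplication `L ⊗[K] F → L` -/
noncomputable def mult₁ : L ⊗[K] F →ₐ[L] L :=
  Algebra.TensorProduct.lift (AlgHom.id L L) (IsScalarTower.toAlgHom K F L)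
    (fun _ _ => Commute.all _ _)

@[simp] lemma mult₁_tmul (l : L) (c : F) :
    mult₁ (K := K) F (l ⊗ₜ[K] c) = l * algebraMap F L c := by
  simp [mult₁]

variable {F}
variable {J : Type u} [DecidableEq J] (b : Module.Basis J F L)

/-- `L ⊗[K] L ≃ ⊕_J L ⊗[K] F` induced by an `F`-basis of `L`. -/
noncomputable def Phi : L ⊗[K] L →ₗ[K] (J →₀ L ⊗[K] F) :=
  ((TensorProduct.finsuppRight K K L F J).toLinearMap) ∘ₗ
    (LinearMap.lTensor L (b.repr.toLinearMap.restrictScalars K))

lemma Phi_tmul_apply (l l' : L) (j : J) :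
    Phi (K := K) b (l ⊗ₜ[K] l') j = l ⊗ₜ[K] (b.repr l' j) := by
  simp [Phi, TensorProduct.finsuppRight_apply_tmul_apply]

lemma Phi_mul (xF : F) (s : L ⊗[K] L) (j : J) :
    Phi (K := K) b (s * (algebraMap F L xF ⊗ₜ[K] (1 : L) - (1 : L) ⊗ₜ[K] algebraMap F L xF)) j =
      Phi (K := K) b s j * (algebraMap F L xF ⊗ₜ[K] (1 : F) - (1 : L) ⊗ₜ[K] xF) := by
  induction s using TensorProduct.induction_on with
  | zero => simp
  | tmul l l' =>
    rw [mul_sub, Algebra.TensorProduct.tmul_mul_tmul, Algebra.TensorProduct.tmul_mul_tmul,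
      map_sub, Finsupp.sub_apply, Phi_tmul_apply, Phi_tmul_apply, Phi_tmul_apply, mul_sub,
      Algebra.TensorProduct.tmul_mul_tmul, Algebra.TensorProduct.tmul_mul_tmul, mul_one, mul_one,
      mul_one]
    congr 2
    have : l' * algebraMap F L xF = xF • l' := by rw [mul_comm, Algebra.smul_def]
    rw [this, map_smul, Finsupp.smul_apply, smul_eq_mul, mul_comm]
  | add s t hs ht =>
    rw [add_mul, map_add, map_add, Finsupp.add_apply, Finsupp.add_apply, hs, ht, add_mul]

/-- Reassembling. -/
noncomputable def T : (J →₀ L ⊗[K] F) →ₗ[K] L :=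
  Finsupp.lsum K (fun j => (LinearMap.mulRight K (b j)) ∘ₗ
    ((mult₁ (K := K) F).toLinearMap.restrictScalars K))

lemma T_Phi (s : L ⊗[K] L) : T (K := K) b (Phi b s) = Algebra.TensorProduct.lmul' K s := by
  induction s using TensorProduct.induction_on with
  | zero => simp
  | tmul l l' =>
    have h1 : Phi (K := K) b (l ⊗ₜ[K] l') =
        (b.repr l').sum fun i n => Finsupp.single i (l ⊗ₜ[K] n) := by
      simp [Phi, TensorProduct.finsuppRight_apply_tmul]
    rw [h1, Algebra.TensorProduct.lmul'_apply_tmul]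
    conv_rhs => rw [← b.linearCombination_repr l', Finsupp.linearCombination_apply]
    rw [Finsupp.sum, map_sum, Finsupp.sum, Finset.mul_sum]
    refine Finset.sum_congr rfl fun i _ => ?_
    simp only [T, Finsupp.lsum_single, LinearMap.comp_apply, LinearMap.restrictScalars_apply,
      AlgHom.toLinearMap_apply, mult₁_tmul, LinearMap.mulRight_apply]
    rw [mul_assoc, Algebra.smul_def]
  | add s t hs ht => rw [map_add, map_add, map_add, hs, ht]

/-- **Lemma D**: the annihilator condition descends from `L ⊗[K] F` to `L ⊗[K] L`. -/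
theorem ann_le_of_sub (xF : F)
    (h : ∀ s' : L ⊗[K] F, s' * (algebraMap F L xF ⊗ₜ[K] (1 : F) - (1 : L) ⊗ₜ[K] xF) = 0 →
      mult₁ F s' = 0)
    (s : L ⊗[K] L)
    (hs : s * (algebraMap F L xF ⊗ₜ[K] (1 : L) - (1 : L) ⊗ₜ[K] algebraMap F L xF) = 0) :
    Algebra.TensorProduct.lmul' K s = 0 := by
  classical
  let b := Module.Free.chooseBasis F L
  rw [← T_Phi b s]
  have h0 : ∀ j, mult₁ F (Phi (K := K) b s j) = 0 := fun j => by
    apply h
    rw [← Phi_mul, hs, map_zero, Finsupp.zero_apply]
  rw [T, Finsupp.lsum_apply, Finsupp.sum]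
  refine Finset.sum_eq_zero fun j _ => ?_
  change mult₁ F (Phi (K := K) b s j) * b j = 0
  rw [h0, zero_mul]

end D

section Alg

variable {F}
variable (K L) in
/-- evaluation `L[X] → L ⊗[K] F`, `X ↦ 1 ⊗ g`. -/
noncomputable def ev (g : F) : L[X] →ₐ[L] L ⊗[K] F :=
  Polynomial.aeval ((1 : L) ⊗ₜ[K] g)

lemma mult₁_ev (g : F) (P : L[X]) :
    mult₁ F (ev K L g P) = P.eval (algebraMap F L g) := by
  have h : (mult₁ (K := K) F).comp (ev K L g) = Polynomial.aeval (algebraMap F L g) := by
    apply Polynomial.algHom_ext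
    simp [ev]
  have h' := congrArg (fun φ : L[X] →ₐ[L] L => φ P) h
  simpa using h'

lemma ev_map (g : F) (r : K[X]) :
    ev K L g (r.map (algebraMap K L)) = (1 : L) ⊗ₜ[K] (Polynomial.aeval g r) := by
  rw [ev, Polynomial.aeval_map_algebraMap]
  exact Polynomial.aeval_algHom_apply
    (Algebra.TensorProduct.includeRight : F →ₐ[K] L ⊗[K] F) g r

lemma ev_sub (g : F) :
    ev K L g (C (algebraMap F L g) - X) =
      algebraMap F L g ⊗ₜ[K] (1 : F) - (1 : L) ⊗ₜ[K] g := by
  simp [ev, Algebra.TensorProduct.algebraMap_apply]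

variable (pb : PowerBasis K F)

lemma ev_eq_zero (Q : L[X]) (hQ : Q.degree < (pb.dim : WithBot ℕ))
    (h0 : ev K L pb.gen Q = 0) : Q = 0 := by
  by_cases hQ0 : Q = 0
  · exact hQ0
  let bL := Algebra.TensorProduct.basis L pb.basis
  have hn : Q.natDegree < pb.dim := (Polynomial.natDegree_lt_iff_degree_lt hQ0).mpr hQ
  have h1 : ev K L pb.gen Q = ∑ i : Fin pb.dim, Q.coeff i • bL i := by
    rw [ev, Polynomial.aeval_eq_sum_range' hn, Finset.sum_range]
    refine Finset.sum_congr rfl fun i _ => ?_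
    rw [Algebra.TensorProduct.basis_apply, PowerBasis.coe_basis, Algebra.TensorProduct.tmul_pow,
      one_pow]
  have h2 := Fintype.linearIndependent_iff.mp bL.linearIndependent (fun i => Q.coeff i)
    (h1 ▸ h0)
  ext i
  by_cases hi : i < pb.dim
  · exact h2 ⟨i, hi⟩
  · rw [Polynomial.coeff_zero]
    exact Polynomial.coeff_eq_zero_of_natDegree_lt (by omega)

lemma exists_ev_eq (s' : L ⊗[K] F) : ∃ P : L[X], ev K L pb.gen P = s' := by
  let bL := Algebra.TensorProduct.basis L pb.basis
  refine ⟨∑ i : Fin pb.dim, C (bL.repr s' i) * X ^ (i : ℕ), ?_⟩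
  rw [map_sum]
  conv_rhs => rw [← bL.sum_repr s']
  refine Finset.sum_congr rfl fun i _ => ?_
  rw [ev, map_mul, map_pow, Polynomial.aeval_C, Polynomial.aeval_X,
    Algebra.TensorProduct.basis_apply, PowerBasis.coe_basis, Algebra.TensorProduct.tmul_pow,
    one_pow, Algebra.smul_def]

/-- **Lemma C' (algebraic inseparable case)**. -/
theorem ann_alg
    (hd : Polynomial.aeval (algebraMap F L pb.gen) (derivative (minpoly K pb.gen)) = 0)
    (s' : L ⊗[K] F)
    (hs : s' * (algebraMap F L pb.gen ⊗ₜ[K] (1 : F) - (1 : L) ⊗ₜ[K] pb.gen) = 0) :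
    mult₁ F s' = 0 := by
  obtain ⟨P₀, rfl⟩ := exists_ev_eq (L := L) pb s'
  set x := algebraMap F L pb.gen with hxdef
  set fL := (minpoly K pb.gen).map (algebraMap K L) with hfLdef
  have hfL : fL.Monic := (minpoly.monic pb.isIntegral_gen).map _
  have hev : ev K L pb.gen fL = 0 := by
    rw [hfLdef, ev_map, minpoly.aeval, TensorProduct.tmul_zero]
  have hfx : fL.eval x = 0 := by
    rw [hfLdef, Polynomial.eval_map_algebraMap, hxdef, Polynomial.aeval_algebraMap_apply,
      minpoly.aeval, map_zero]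
  have hfx' : (derivative fL).eval x = 0 := by
    rw [hfLdef, Polynomial.derivative_map, Polynomial.eval_map_algebraMap, hd]
  have hdecomp := Polynomial.modByMonic_add_div P₀ fL
  set P := P₀ %ₘ fL with hPdef
  have hP : ev K L pb.gen P = ev K L pb.gen P₀ := by
    conv_rhs => rw [← hdecomp]
    rw [map_add, map_mul, hev, zero_mul, add_zero]
  have hfLdeg : fL.degree = (pb.dim : WithBot ℕ) := by
    rw [Polynomial.degree_eq_natDegree hfL.ne_zero, hfLdef,
      Polynomial.natDegree_map, pb.natDegree_minpoly]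
  have hQ0 : ((C x - X) * P) %ₘ fL = 0 := by
    apply ev_eq_zero pb
    · rw [← hfLdeg]; exact Polynomial.degree_modByMonic_lt _ hfL
    · have h4 := Polynomial.modByMonic_add_div ((C x - X) * P) fL
      have h5 : ev K L pb.gen ((C x - X) * P) = 0 := by
        rw [map_mul, hxdef, ev_sub, hP, mul_comm]
        exact hs
      rw [← h4, map_add, map_mul, hev, zero_mul, add_zero] at h5
      exact h5
  obtain ⟨q, hq⟩ := (Polynomial.modByMonic_eq_zero_iff_dvd hfL).mp hQ0
  have h3 := congrArg (fun p => (derivative p).eval x) hq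
  simp only [Polynomial.derivative_mul, Polynomial.derivative_sub, Polynomial.derivative_C,
    Polynomial.derivative_X, zero_sub, Polynomial.eval_add, Polynomial.eval_mul,
    Polynomial.eval_neg, Polynomial.eval_one, Polynomial.eval_sub, Polynomial.eval_C,
    Polynomial.eval_X, sub_self, zero_mul, add_zero, hfx, hfx', neg_mul, one_mul,
    neg_eq_zero] at h3
  rw [mult₁_ev, ← hdecomp, Polynomial.eval_add, Polynomial.eval_mul, hfx, zero_mul, add_zero, h3]

end Alg

section Transc

variable {F}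

lemma ev_injective (g : F) (hg : Transcendental K g) : Function.Injective (ev K L g) := by
  have h1 : ev K L g = (Algebra.TensorProduct.map (AlgHom.id L L)
      (Polynomial.aeval g : K[X] →ₐ[K] F)).comp (polyEquivTensor' K L).toAlgHom := by
    apply Polynomial.algHom_ext
    simp [ev]
  have h2 : ∀ t : L ⊗[K] K[X], Algebra.TensorProduct.map (AlgHom.id L L)
      (Polynomial.aeval g : K[X] →ₐ[K] F) t =
        LinearMap.lTensor L (Polynomial.aeval g : K[X] →ₐ[K] F).toLinearMap t := by
    intro t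
    induction t using TensorProduct.induction_on with
    | zero => simp
    | tmul l r => simp
    | add a b ha hb => rw [map_add, map_add, ha, hb]
  have h3 : Function.Injective (LinearMap.lTensor L
      (Polynomial.aeval g : K[X] →ₐ[K] F).toLinearMap) :=
    Module.Flat.lTensor_preserves_injective_linearMap _
      ((transcendental_iff_injective).mp hg)
  intro P Q hPQ
  rw [h1] at hPQ
  simp only [AlgHom.comp_apply, h2] at hPQ
  exact (polyEquivTensor' K L).injective (h3 hPQ)

lemma exists_clear_denominator (g : F)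
    (hF : ∀ y : F, ∃ r d : K[X], y = Polynomial.aeval g r / Polynomial.aeval g d)
    (s' : L ⊗[K] F) :
    ∃ d : K[X], Polynomial.aeval g d ≠ 0 ∧ ∃ P : L[X],
      s' * ((1 : L) ⊗ₜ[K] Polynomial.aeval g d) = ev K L g P := by
  induction s' using TensorProduct.induction_on with
  | zero => exact ⟨1, by simp, 0, by simp⟩
  | tmul l y =>
    obtain ⟨r, d, rfl⟩ := hF y
    by_cases hd : Polynomial.aeval g d = 0
    · refine ⟨1, by simp, 0, ?_⟩
      rw [hd, div_zero, TensorProduct.tmul_zero, zero_mul, map_zero]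
    · refine ⟨d, hd, C l * r.map (algebraMap K L), ?_⟩
      rw [map_mul, ev_map, Algebra.TensorProduct.tmul_mul_tmul, mul_one, div_mul_cancel₀ _ hd,
        ev, Polynomial.aeval_C, Algebra.TensorProduct.algebraMap_apply,
        Algebra.TensorProduct.tmul_mul_tmul, mul_one, one_mul]
      rfl
  | add s t hs ht =>
    obtain ⟨d₁, hd₁, P₁, h₁⟩ := hs
    obtain ⟨d₂, hd₂, P₂, h₂⟩ := ht
    refine ⟨d₁ * d₂, by rw [map_mul]; exact mul_ne_zero hd₁ hd₂,
      P₁ * d₂.map (algebraMap K L) + P₂ * d₁.map (algebraMap K L), ?_⟩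
    have e1 : ev K L g (P₁ * d₂.map (algebraMap K L)) =
        s * ((1 : L) ⊗ₜ[K] Polynomial.aeval g d₁) * ((1 : L) ⊗ₜ[K] Polynomial.aeval g d₂) := by
      rw [map_mul, ev_map, h₁]
    have e2 : ev K L g (P₂ * d₁.map (algebraMap K L)) =
        t * ((1 : L) ⊗ₜ[K] Polynomial.aeval g d₂) * ((1 : L) ⊗ₜ[K] Polynomial.aeval g d₁) := by
      rw [map_mul, ev_map, h₂]
    rw [map_add, e1, e2, map_mul, add_mul, mul_assoc, mul_assoc,
      Algebra.TensorProduct.tmul_mul_tmul, Algebra.TensorProduct.tmul_mul_tmul, mul_one,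
      mul_comm (Polynomial.aeval g d₂)]

/-- **Lemma C' (transcendental case)**. -/
theorem ann_transc (g : F) (hg : Transcendental K g)
    (hF : ∀ y : F, ∃ r d : K[X], y = Polynomial.aeval g r / Polynomial.aeval g d)
    (s' : L ⊗[K] F)
    (hs : s' * (algebraMap F L g ⊗ₜ[K] (1 : F) - (1 : L) ⊗ₜ[K] g) = 0) :
    mult₁ F s' = 0 := by
  obtain ⟨d, hd, P, hP⟩ := exists_clear_denominator (L := L) g hF s'
  have h1 : ev K L g (P * (C (algebraMap F L g) - X)) = 0 := by
    rw [map_mul, ev_sub, ← hP, mul_right_comm, hs, zero_mul]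
  have h2 : P * (C (algebraMap F L g) - X) = 0 := ev_injective g hg (h1.trans (map_zero _).symm)
  have h3 : (C (algebraMap F L g) - X : L[X]) ≠ 0 := by
    intro h
    have := congrArg (fun p : L[X] => p.coeff 1) h
    simp at this
  have hP0 : P = 0 := (mul_eq_zero.mp h2).resolve_right h3
  rw [hP0, map_zero] at hP
  have hunit : IsUnit ((1 : L) ⊗ₜ[K] Polynomial.aeval g d : L ⊗[K] F) := by
    refine IsUnit.of_mul_eq_one ((1 : L) ⊗ₜ[K] (Polynomial.aeval g d)⁻¹) ?_
    rw [Algebra.TensorProduct.tmul_mul_tmul, mul_one, mul_inv_cancel₀ hd]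
    rfl
  rw [hunit.mul_left_eq_zero] at hP
  rw [hP, map_zero]

end Transc

section Main

open IntermediateField

omit F in
/-- If `x` is not separable algebraic over `K`, the annihilator of `x ⊗ 1 - 1 ⊗ x` in
`L ⊗[K] L` lies in the diagonal ideal. -/
theorem lmul'_eq_zero_of_mul_eq_zero (x : L) (hx : x ∉ separableClosure K L) (s : L ⊗[K] L)
    (hs : s * (x ⊗ₜ[K] (1 : L) - (1 : L) ⊗ₜ[K] x) = 0) :
    Algebra.TensorProduct.lmul' K s = 0 := by
  have hgen : algebraMap K⟮x⟯ L (AdjoinSimple.gen K x) = x := AdjoinSimple.algebraMap_gen K x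
  rw [← hgen] at hs
  refine ann_le_of_sub (F := K⟮x⟯) (AdjoinSimple.gen K x) ?_ s hs
  by_cases hint : IsIntegral K x
  · let pb := adjoin.powerBasis hint
    intro s' hs'
    refine ann_alg pb ?_ s' hs'
    rw [mem_separableClosure_iff] at hx
    have hirr := minpoly.irreducible hint
    have hder : derivative (minpoly K x) = 0 := by
      by_contra h
      exact hx ((Polynomial.separable_iff_derivative_ne_zero hirr).mpr h)
    change Polynomial.aeval (algebraMap K⟮x⟯ L (AdjoinSimple.gen K x))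
      (derivative (minpoly K (AdjoinSimple.gen K x))) = 0
    rw [minpoly_gen, hder, map_zero]
  · have hg : Transcendental K (AdjoinSimple.gen K x) := by
      intro halg
      apply hint
      have : IsAlgebraic K (algebraMap K⟮x⟯ L (AdjoinSimple.gen K x)) :=
        halg.algebraMap
      rw [hgen] at this
      exact this.isIntegral
    intro s' hs'
    refine ann_transc _ hg ?_ s' hs'
    intro y
    obtain ⟨r, d, h⟩ := (mem_adjoin_simple_iff K (y : L)).mp y.2
    refine ⟨r, d, Subtype.ext ?_⟩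
    rw [h, IntermediateField.coe_div]
    have e : ∀ q : K[X], ((Polynomial.aeval (AdjoinSimple.gen K x) q : K⟮x⟯) : L) =
        Polynomial.aeval x q := fun q => by
      have := Polynomial.aeval_algHom_apply (K⟮x⟯.val) (AdjoinSimple.gen K x) q
      rw [IntermediateField.val_mk] at this
      exact this.symm
    rw [e, e]

end Main

end Groth.Agent.H11.DiagComp
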