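import Mathlib
import Groth.Agent.S9436

/-!
Lifting an étale algebra together with a Frobenius lift along a square-zero thickening.
-/

namespace Groth.Agent.H11.EtLiftFrob

open TensorProduct

universe v

/-- A copy of a ring, used to carry a twisted algebra structure. -/
def Cp (S : Type*) : Type _ := S

instance (S : Type*) [CommRing S] : CommRing (Cp S) := inferInstanceAs (CommRing S)

/-- The `p`-th power map as a ring endomorphism when `p = 0`. -/
def powP (C : Type*) [CommRing C] (p : ℕ) (hp : p.Prime) (h : (p : C) = 0) : C →+* C where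
  toFun x := x ^ p
  map_one' := one_pow _
  map_mul' x y := mul_pow x y p
  map_zero' := zero_pow hp.ne_zero
  map_add' x y := by
    obtain ⟨r, hr⟩ := exists_add_pow_prime_eq hp x y
    rw [hr, h]
    ring

theorem main {B A C : Type v} [CommRing B] [CommRing A] [CommRing C] [Algebra A C]
    [Algebra.Etale A C] (π : B →+* A) (hπ : Function.Surjective π)
    (hJ : (RingHom.ker π) ^ 2 = ⊥) (p : ℕ) (hp : p.Prime) (hpC : (p : C) = 0)
    (Φ : B →+* B) (hred : ∀ b, π (Φ b) = π b ^ p) :
    ∃ (S : Type v) (_ : CommRing S) (_ : Algebra B S) (πC : S →+* C) (ΦC : S →+* S),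
      Algebra.Etale B S ∧ Function.Surjective πC ∧
      RingHom.ker πC = (RingHom.ker π).map (algebraMap B S) ∧
      πC.comp (algebraMap B S) = (algebraMap A C).comp π ∧
      ΦC.comp (algebraMap B S) = (algebraMap B S).comp Φ ∧ ∀ s, πC (ΦC s) = πC s ^ p := by
  let e₀ : B ⧸ RingHom.ker π ≃+* A := RingHom.quotientKerEquivOfSurjective hπ
  have he₀ : ∀ b, e₀ (Ideal.Quotient.mk _ b) = π b := fun b => rfl
  letI alg1 : Algebra (B ⧸ RingHom.ker π) A := e₀.toRingHom.toAlgebra
  letI alg2 : Algebra (B ⧸ RingHom.ker π) C := ((algebraMap A C).comp e₀.toRingHom).toAlgebra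
  haveI : IsScalarTower (B ⧸ RingHom.ker π) A C := .of_algebraMap_eq' rfl
  haveI : Algebra.Etale (B ⧸ RingHom.ker π) A :=
    RingHom.Etale.of_bijective (f := e₀.toRingHom) e₀.bijective
  haveI : Algebra.Etale (B ⧸ RingHom.ker π) C := Algebra.Etale.comp (B ⧸ RingHom.ker π) A C
  obtain ⟨S, _, _, hEt, ⟨e⟩⟩ := Groth.Agent.S9436.result B (RingHom.ker π) C
  let incl : S →+* (B ⧸ RingHom.ker π) ⊗[B] S :=
    (Algebra.TensorProduct.includeRight : S →ₐ[B] (B ⧸ RingHom.ker π) ⊗[B] S).toRingHom
  let πC : S →+* C := (e : (B ⧸ RingHom.ker π) ⊗[B] S →+* C).comp incl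
  have hπC : ∀ s, πC s = e (1 ⊗ₜ s) := fun s => rfl
  have hincl_surj : Function.Surjective incl := by
    intro z
    induction z using TensorProduct.induction_on with
    | zero => exact ⟨0, map_zero _⟩
    | add x y hx hy =>
      obtain ⟨x', rfl⟩ := hx
      obtain ⟨y', rfl⟩ := hy
      exact ⟨x' + y', map_add _ _ _⟩
    | tmul a s =>
      obtain ⟨a, rfl⟩ := Ideal.Quotient.mk_surjective a
      refine ⟨a • s, ?_⟩
      change (1 : B ⧸ RingHom.ker π) ⊗ₜ[B] (a • s) = _
      rw [← TensorProduct.smul_tmul, Algebra.smul_def, mul_one]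
      rfl
  have hsurj : Function.Surjective πC := e.surjective.comp hincl_surj
  have hker : RingHom.ker πC = (RingHom.ker π).map (algebraMap B S) := by
    ext s
    rw [RingHom.mem_ker, hπC, map_eq_zero_iff e e.injective,
      ← (TensorProduct.quotTensorEquivQuotSMul S (RingHom.ker π)).map_eq_zero_iff,
      TensorProduct.quotTensorEquivQuotSMul_mk_one_tmul, Submodule.Quotient.mk_eq_zero,
      Ideal.smul_top_eq_map]
    rfl
  have hcomm : πC.comp (algebraMap B S) = (algebraMap A C).comp π := by
    refine RingHom.ext fun b => ?_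
    change e (1 ⊗ₜ (algebraMap B S b)) = algebraMap A C (π b)
    have h1 : (1 : B ⧸ RingHom.ker π) ⊗ₜ[B] (algebraMap B S b) =
        algebraMap (B ⧸ RingHom.ker π) _ (Ideal.Quotient.mk _ b) := by
      rw [Algebra.algebraMap_eq_smul_one b, ← TensorProduct.smul_tmul, Algebra.smul_def, mul_one,
        Algebra.TensorProduct.algebraMap_apply]
      rfl
    rw [h1, e.commutes]
    rfl
  -- the Frobenius lift
  letI algTwS : Algebra B (Cp S) := ((algebraMap B S).comp Φ).toAlgebra
  letI algTwC : Algebra B (Cp C) := ((algebraMap A C).comp (π.comp Φ)).toAlgebra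
  have hcomm' : ∀ b, πC (algebraMap B S b) = algebraMap A C (π b) :=
    fun b => congrArg (fun f => f b) hcomm
  let f : S →ₐ[B] Cp C :=
    { toRingHom := (powP C p hp hpC).comp πC
      commutes' := fun b => by
        change (πC (algebraMap B S b)) ^ p = algebraMap A C (π (Φ b))
        rw [hcomm', hred, map_pow] }
  let g : Cp S →ₐ[B] Cp C :=
    { toRingHom := πC
      commutes' := fun b => by
        change πC (algebraMap B S (Φ b)) = algebraMap A C (π (Φ b))
        rw [hcomm'] }
  have hg : Function.Surjective g := hsurj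
  have hnilS : (RingHom.ker πC) ^ 2 = ⊥ := by
    rw [hker, ← Ideal.map_pow, hJ, Ideal.map_bot]
  have hnil : IsNilpotent (RingHom.ker (g : Cp S →+* Cp C)) := ⟨2, hnilS⟩
  let ΦC' : S →ₐ[B] Cp S := Algebra.FormallySmooth.liftOfSurjective f g hg hnil
  have hΦC : ∀ s, g (ΦC' s) = f s := Algebra.FormallySmooth.liftOfSurjective_apply f g hg hnil
  refine ⟨S, inferInstance, inferInstance, πC, ΦC'.toRingHom, hEt, hsurj, hker, hcomm, ?_, ?_⟩
  · refine RingHom.ext fun b => ?_
    exact ΦC'.commutes b
  · intro s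
    exact hΦC s

end Groth.Agent.H11.EtLiftFrob
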