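import Mathlib
import Groth.Prelude.Def_ProEtW

/-! Rings all of whose faithfully flat étale algebras have retractions (helper11). -/

set_option autoImplicit false
universe u

namespace Groth.Agent.H11.EtRetr

open Polynomial

variable {A : Type u} [CommRing A]

/-- the standard étale pair of `Localization.Away g`. -/
noncomputable def awayPair (g : A) : StandardEtalePair A where
  f := X
  monic_f := monic_X
  g := C g
  cond := ⟨1, 0, 0, by simp⟩

/-- restriction of an algebra map out of a product to a factor whose idempotent maps to `1`. -/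
noncomputable def singleAlgHom {ι : Type*} [DecidableEq ι] (T : ι → Type*) [∀ b, CommRing (T b)]
    [∀ b, Algebra A (T b)] {S : Type*} [CommRing S] [Algebra A S] (ρ : (Π b, T b) →ₐ[A] S)
    (b₀ : ι) (h : ρ (Pi.single b₀ 1) = 1) : T b₀ →ₐ[A] S where
  toFun x := ρ (Pi.single b₀ x)
  map_one' := h
  map_mul' x y := by rw [← map_mul, ← Pi.single_mul]
  map_zero' := by rw [Pi.single_zero, map_zero]
  map_add' x y := by rw [← map_add, ← Pi.single_add]
  commutes' a := by
    have h1 : (Pi.single b₀ (algebraMap A (T b₀) a) : Π b, T b) = a • Pi.single b₀ 1 := by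
      rw [← Pi.single_smul, Algebra.smul_def, mul_one]
    rw [h1, map_smul, h, Algebra.smul_def, mul_one]

lemma singleAlgHom_apply {ι : Type*} [DecidableEq ι] (T : ι → Type*) [∀ b, CommRing (T b)]
    [∀ b, Algebra A (T b)] {S : Type*} [CommRing S] [Algebra A S] (ρ : (Π b, T b) →ₐ[A] S)
    (b₀ : ι) (h : ρ (Pi.single b₀ 1) = 1) (x : T b₀) :
    singleAlgHom T ρ b₀ h x = ρ (Pi.single b₀ x) := rfl

theorem exists_hasMap_localization (hA : ProEtW.HasEtaleRetractions A) (m : Ideal A) [m.IsMaximal]
    (P : StandardEtalePair A) (L : Type*) [Field L] [Algebra A L]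
    (hker : RingHom.ker (algebraMap A L) = m) (x : L) (hx : P.HasMap x) :
    ∃ α : Localization.AtPrime m, P.HasMap α := by
  classical
  let χ : P.Ring →ₐ[A] L := P.lift x hx
  have hopen : IsOpen (Set.range (PrimeSpectrum.comap (algebraMap A P.Ring))) :=
    (PrimeSpectrum.isOpenMap_comap_of_hasGoingDown_of_finitePresentation).isOpen_range
  set U := Set.range (PrimeSpectrum.comap (algebraMap A P.Ring)) with hU
  have hmU : (⟨m, inferInstance⟩ : PrimeSpectrum A) ∈ U := by
    refine ⟨⟨RingHom.ker χ.toRingHom, RingHom.ker_isPrime _⟩, ?_⟩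
    ext a
    show algebraMap A P.Ring a ∈ RingHom.ker χ.toRingHom ↔ a ∈ m
    rw [RingHom.mem_ker]
    show χ (algebraMap A P.Ring a) = 0 ↔ _
    rw [AlgHom.commutes, ← RingHom.mem_ker, hker]
  obtain ⟨J, hJ⟩ : ∃ J : Ideal A, Uᶜ = PrimeSpectrum.zeroLocus (J : Set A) :=
    (PrimeSpectrum.isClosed_iff_zeroLocus_ideal _).1 hopen.isClosed_compl
  have hJm : ¬ J ≤ m := by
    intro hle
    have h1 : (⟨m, inferInstance⟩ : PrimeSpectrum A) ∈ PrimeSpectrum.zeroLocus (J : Set A) := hle
    rw [← hJ] at h1
    exact h1 hmU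
  obtain ⟨j, hjJ, hjm⟩ := SetLike.not_le_iff_exists.1 hJm
  obtain ⟨y, i, hi, hyi⟩ := Ideal.IsMaximal.exists_inv (inferInstance : m.IsMaximal) hjm
  -- the covering family
  let Pf : Bool → StandardEtalePair A := fun b => cond b P (awayPair i)
  have hff : Module.FaithfullyFlat A (Π b, (Pf b).Ring) := by
    apply Module.FaithfullyFlat.of_comap_surjective
    intro p
    by_cases hp : p ∈ U
    · obtain ⟨q, hq⟩ := hp
      refine ⟨⟨q.asIdeal.comap (Pi.evalRingHom (fun b => (Pf b).Ring) true),
        Ideal.comap_isPrime _ _⟩, ?_⟩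
      ext a
      have h1 : a ∈ (PrimeSpectrum.comap (algebraMap A P.Ring) q).asIdeal ↔ a ∈ p.asIdeal := by
        rw [hq]
      rw [← h1]
      rfl
    · have hpZ : p ∈ PrimeSpectrum.zeroLocus (J : Set A) := by rw [← hJ]; exact hp
      have hjp : j ∈ p.asIdeal := hpZ hjJ
      have hip : i ∉ p.asIdeal := by
        intro hip
        have : (1 : A) ∈ p.asIdeal := by
          rw [← hyi]
          exact Ideal.add_mem _ (Ideal.mul_mem_left _ _ hjp) hip
        exact p.isPrime.ne_top ((Ideal.eq_top_iff_one _).2 this)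
      have hmap : (awayPair i).HasMap (0 : p.asIdeal.ResidueField) := by
        refine ⟨by simp [awayPair], ?_⟩
        have h1 : aeval (0 : p.asIdeal.ResidueField) (awayPair i).g =
            algebraMap A p.asIdeal.ResidueField i := by simp [awayPair]
        rw [h1, isUnit_iff_ne_zero, Ne, Ideal.algebraMap_residueField_eq_zero]
        exact hip
      let θ : (awayPair i).Ring →ₐ[A] p.asIdeal.ResidueField := (awayPair i).lift 0 hmap
      haveI : (RingHom.ker θ.toRingHom).IsPrime := RingHom.ker_isPrime _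
      refine ⟨⟨(RingHom.ker θ.toRingHom).comap (Pi.evalRingHom (fun b => (Pf b).Ring) false),
        Ideal.comap_isPrime _ _⟩, ?_⟩
      ext a
      show algebraMap A (awayPair i).Ring a ∈ RingHom.ker θ.toRingHom ↔ a ∈ p.asIdeal
      rw [RingHom.mem_ker]
      show θ (algebraMap A _ a) = 0 ↔ _
      rw [AlgHom.commutes, Ideal.algebraMap_residueField_eq_zero]
  obtain ⟨ρ⟩ := hA (Π b, (Pf b).Ring) hff inferInstance
  let ρ' : (Π b, (Pf b).Ring) →ₐ[A] Localization.AtPrime m :=
    (Algebra.ofId A (Localization.AtPrime m)).comp ρ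
  have hsum : ρ' (Pi.single true 1) + ρ' (Pi.single false 1) = 1 := by
    rw [← map_add, ← map_one ρ']
    congr 1
    funext b
    cases b <;> simp
  have hidem : ∀ b, ρ' (Pi.single b 1) * ρ' (Pi.single b 1) = ρ' (Pi.single b 1) := by
    intro b
    rw [← map_mul, ← Pi.single_mul, mul_one]
  have hone : ∀ b, IsUnit (ρ' (Pi.single b 1)) → ρ' (Pi.single b 1) = 1 := by
    intro b hb
    have := hidem b
    nth_rewrite 3 [← mul_one (ρ' (Pi.single b 1))] at this
    exact hb.mul_left_cancel this
  rcases IsLocalRing.isUnit_or_isUnit_of_add_one hsum with h | h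
  · let β : P.Ring →ₐ[A] Localization.AtPrime m :=
      singleAlgHom (fun b => (Pf b).Ring) ρ' true (hone true h)
    exact ⟨β P.X, StandardEtalePair.hasMap_X.map β⟩
  · exfalso
    let β : (awayPair i).Ring →ₐ[A] Localization.AtPrime m :=
      singleAlgHom (fun b => (Pf b).Ring) ρ' false (hone false h)
    have h1 := (StandardEtalePair.hasMap_X (P := awayPair i)).map β
    have h2 : aeval (β (awayPair i).X) (awayPair i).g =
        algebraMap A (Localization.AtPrime m) i := by simp [awayPair]
    have h3 : IsUnit (algebraMap A (Localization.AtPrime m) i) := h2 ▸ h1.2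
    rw [IsLocalization.AtPrime.isUnit_to_map_iff (Localization.AtPrime m) m] at h3
    exact h3 hi

end Groth.Agent.H11.EtRetr
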