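import Mathlib
import Groth.Prelude.Def_ProEtW
import Groth.Prelude.Def_EtBase
import Groth.Agent.H11.EtRetr
import Groth.Agent.H11.HCStrict

/-! Étale retractions ⇒ strictly henselian localizations at maximal ideals (helper11). -/

set_option autoImplicit false
universe u

namespace Groth.Agent.H11.EtRetr2

open Polynomial IsLocalRing

variable {A : Type u} [CommRing A]

/-- the residue map `A_m → A/m`. -/
noncomputable def resMap (m : Ideal A) [m.IsMaximal] : Localization.AtPrime m →+* A ⧸ m :=
  IsLocalization.lift (M := m.primeCompl) (g := Ideal.Quotient.mk m) (by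
    intro y
    letI := Ideal.Quotient.field m
    rw [isUnit_iff_ne_zero, Ne, Ideal.Quotient.eq_zero_iff_mem]
    exact y.2)

lemma resMap_algebraMap (m : Ideal A) [m.IsMaximal] (a : A) :
    resMap m (algebraMap A _ a) = Ideal.Quotient.mk m a := IsLocalization.lift_eq _ _

lemma resMap_comp (m : Ideal A) [m.IsMaximal] :
    (resMap m).comp (algebraMap A (Localization.AtPrime m)) = Ideal.Quotient.mk m :=
  RingHom.ext (resMap_algebraMap m)

lemma resMap_surjective (m : Ideal A) [m.IsMaximal] : Function.Surjective (resMap m) := fun x => by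
  obtain ⟨a, rfl⟩ := Ideal.Quotient.mk_surjective x
  exact ⟨algebraMap A _ a, resMap_algebraMap m a⟩

lemma resMap_eq_zero_iff (m : Ideal A) [m.IsMaximal] (x : Localization.AtPrime m) :
    resMap m x = 0 ↔ x ∈ maximalIdeal (Localization.AtPrime m) := by
  letI := Ideal.Quotient.field m
  have h := IsLocalRing.eq_maximalIdeal
    (RingHom.ker_isMaximal_of_surjective (resMap m) (resMap_surjective m))
  rw [← h, RingHom.mem_ker]

/-- Step A: simple roots mod `m` of monic polynomials over `A` lift to `A_m`. -/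
theorem exists_root_of_monic (hA : ProEtW.HasEtaleRetractions A) (m : Ideal A) [m.IsMaximal]
    (F : A[X]) (hF : F.Monic) (c : A) (h0 : F.eval c ∈ m) (h1 : F.derivative.eval c ∉ m) :
    ∃ α : Localization.AtPrime m, aeval α F = 0 ∧ resMap m α = Ideal.Quotient.mk m c := by
  letI := Ideal.Quotient.field m
  set G := F /ₘ (X - C c) with hG
  have hFG : F = C (F.eval c) + (X - C c) * G := by
    have := X_sub_C_mul_divByMonic_eq_sub_modByMonic F c
    rw [modByMonic_X_sub_C_eq_C_eval] at this
    rw [hG, this]; ring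
  have hGc : G.eval c = F.derivative.eval c := by
    have : derivative F = G + (X - C c) * derivative G := by
      conv_lhs => rw [hFG]
      simp [derivative_mul]
    rw [this]; simp
  let P : StandardEtalePair A := ⟨F, hF, derivative F * G, ⟨G, 0, 1, by ring⟩⟩
  have hev : ∀ Q : A[X], aeval (Ideal.Quotient.mk m c : A ⧸ m) Q =
      Ideal.Quotient.mk m (Q.eval c) := by
    intro Q
    rw [← Ideal.Quotient.algebraMap_eq, aeval_algebraMap_apply, coe_aeval_eq_eval]
  have hmap : P.HasMap (Ideal.Quotient.mk m c : A ⧸ m) := by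
    constructor
    · show aeval _ F = 0
      rw [hev, Ideal.Quotient.eq_zero_iff_mem]; exact h0
    · show IsUnit (aeval _ (derivative F * G))
      rw [hev, isUnit_iff_ne_zero, Ne, Ideal.Quotient.eq_zero_iff_mem, eval_mul, hGc]
      intro hmem
      rcases (Ideal.IsMaximal.isPrime inferInstance).mem_or_mem hmem with h | h <;> exact h1 h
  have hker : RingHom.ker (algebraMap A (A ⧸ m)) = m := by
    rw [Ideal.Quotient.algebraMap_eq, Ideal.mk_ker]
  obtain ⟨α, hα1, hα2⟩ := EtRetr.exists_hasMap_localization hA m P (A ⧸ m) hker _ hmap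
  refine ⟨α, hα1, ?_⟩
  have hα2' : IsUnit (aeval α (derivative F) * aeval α G) := by
    have : aeval α P.g = aeval α (derivative F) * aeval α G := map_mul _ _ _
    rw [← this]; exact hα2
  have hGu : IsUnit (aeval α G) := isUnit_of_mul_isUnit_right hα2'
  have h2 : aeval α F = algebraMap A _ (F.eval c) + (α - algebraMap A _ c) * aeval α G := by
    conv_lhs => rw [hFG]
    simp
  have hα1' : aeval α F = 0 := hα1
  rw [hα1'] at h2
  have h3 := congrArg (resMap m) h2
  rw [map_zero, map_add, map_mul, map_sub, resMap_algebraMap, resMap_algebraMap,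
    Ideal.Quotient.eq_zero_iff_mem.2 h0, zero_add] at h3
  have h4 : resMap m (aeval α G) ≠ 0 := (hGu.map (resMap m)).ne_zero
  rcases mul_eq_zero.1 h3.symm with h | h
  · exact sub_eq_zero.1 h
  · exact absurd h h4

/-- Lemma D. -/
lemma scaleRoots_comp {R : Type*} [CommRing R] (p : R[X]) (s : R) :
    (scaleRoots p s).comp (C s * X) = C (s ^ p.natDegree) * p := by
  ext i
  rw [comp_C_mul_X_coeff, coeff_scaleRoots, coeff_C_mul]
  by_cases hi : i ≤ p.natDegree
  · rw [mul_assoc, ← pow_add, Nat.sub_add_cancel hi, mul_comm]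
  · rw [coeff_eq_zero_of_natDegree_lt (not_le.1 hi)]; simp

lemma scaleRoots_derivative_eval {R : Type*} [CommRing R] (p : R[X]) (s r : R) :
    s * (derivative (scaleRoots p s)).eval (s * r) = s ^ p.natDegree * (derivative p).eval r := by
  have h := congrArg (fun q => (derivative q).eval r) (scaleRoots_comp p s)
  simp only [derivative_comp, derivative_mul, derivative_C, derivative_X, zero_mul, zero_add,
    mul_one, eval_mul, eval_C, eval_comp, eval_X] at h
  simpa using h

/-- Step B. -/
theorem henselian (hA : ProEtW.HasEtaleRetractions A) (m : Ideal A) [m.IsMaximal] :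
    HenselianLocalRing (Localization.AtPrime m) := by
  classical
  letI := Ideal.Quotient.field m
  set R := Localization.AtPrime m with hR
  constructor
  intro f hf a₀ h0 h1
  obtain ⟨b, hb⟩ := IsLocalization.exist_integer_multiples_of_finset m.primeCompl
    (insert a₀ f.coeffs)
  set σ : R := algebraMap A R b with hσ
  have hσu : IsUnit σ := IsLocalization.map_units R b
  have hint : ∀ x ∈ insert a₀ f.coeffs, ∃ y : A, algebraMap A R y = σ * x := by
    intro x hx
    obtain ⟨y, hy⟩ := hb x hx
    exact ⟨y, by rw [hy, Algebra.smul_def]⟩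
  set F₁ := scaleRoots f σ with hF₁
  have hF₁m : F₁.Monic := (monic_scaleRoots_iff σ).2 hf
  have hlift : F₁ ∈ lifts (algebraMap A R) := by
    rw [lifts_iff_coeff_lifts]
    intro i
    rw [hF₁, coeff_scaleRoots]
    rcases lt_trichotomy i f.natDegree with hi | hi | hi
    · by_cases hfi : f.coeff i = 0
      · rw [hfi, zero_mul]; exact ⟨0, map_zero _⟩
      · obtain ⟨y, hy⟩ := hint (f.coeff i)
          (Finset.mem_insert_of_mem (coeff_mem_coeffs hfi))
        refine ⟨y * b ^ (f.natDegree - i - 1), ?_⟩
        rw [map_mul, map_pow, hy, ← hσ]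
        have : f.natDegree - i = (f.natDegree - i - 1) + 1 := by omega
        rw [this, pow_succ]
        have : f.natDegree - i - 1 + 1 - 1 = f.natDegree - i - 1 := by omega
        rw [this]; ring
    · subst hi
      rw [hf.coeff_natDegree, Nat.sub_self, pow_zero, mul_one]
      exact ⟨1, map_one _⟩
    · rw [coeff_eq_zero_of_natDegree_lt hi, zero_mul]; exact ⟨0, map_zero _⟩
  obtain ⟨F, hFmap, -, hFm⟩ := lifts_and_natDegree_eq_and_monic hlift hF₁m
  obtain ⟨c, hc⟩ := hint a₀ (Finset.mem_insert_self _ _)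
  have hev : ∀ Q : A[X], algebraMap A R (Q.eval c) = (Q.map (algebraMap A R)).eval (σ * a₀) := by
    intro Q
    rw [← hc, eval_map, eval₂_at_apply]
  have hmem : ∀ a : A, a ∈ m ↔ algebraMap A R a ∈ maximalIdeal R := fun a =>
    (IsLocalization.AtPrime.to_map_mem_maximal_iff R m a).symm
  have hc0 : F.eval c ∈ m := by
    rw [hmem, hev, hFmap, hF₁, scaleRoots_eval_mul]
    exact Ideal.mul_mem_left _ _ h0
  have hc1 : F.derivative.eval c ∉ m := by
    rw [hmem, hev, ← derivative_map, hFmap, hF₁, mem_maximalIdeal, mem_nonunits_iff, not_not]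
    have h2 := scaleRoots_derivative_eval f σ a₀
    have h3 : IsUnit (σ * eval (σ * a₀) (derivative (f.scaleRoots σ))) := by
      rw [h2]; exact (hσu.pow _).mul h1
    exact isUnit_of_mul_isUnit_right h3
  obtain ⟨α, hα1, hα2⟩ := exists_root_of_monic hA m F hFm c hc0 hc1
  obtain ⟨τ, hτ⟩ := hσu.exists_right_inv
  refine ⟨τ * α, ?_, ?_⟩
  · have h2 : F₁.eval (σ * (τ * α)) = σ ^ f.natDegree * f.eval (τ * α) :=
      scaleRoots_eval_mul f (τ * α) σ
    have h3 : σ * (τ * α) = α := by rw [← mul_assoc, hτ, one_mul]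
    rw [h3, ← hFmap, eval_map, ← aeval_def, hα1] at h2
    exact ((hσu.pow _).mul_right_eq_zero.1 h2.symm)
  · have h2 : resMap m (α - algebraMap A R c) = 0 := by
      rw [map_sub, hα2, resMap_algebraMap, sub_self]
    rw [resMap_eq_zero_iff, hc] at h2
    have h3 : τ * α - a₀ = τ * (α - σ * a₀) := by
      rw [mul_sub, ← mul_assoc, mul_comm τ σ, hτ, one_mul]
    rw [h3]
    exact Ideal.mul_mem_left _ _ h2

/-- Step C. -/
theorem isSepClosed_quotient (hA : ProEtW.HasEtaleRetractions A) (m : Ideal A) [m.IsMaximal] :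
    letI := Ideal.Quotient.field m
    IsSepClosed (A ⧸ m) := by
  classical
  letI := Ideal.Quotient.field m
  apply IsSepClosed.of_exists_root
  intro p hpm hirr hsep
  have hlift : p ∈ lifts (Ideal.Quotient.mk m) := by
    rw [lifts_iff_coeff_lifts]
    intro i
    exact Ideal.Quotient.mk_surjective _
  obtain ⟨F, hFmap, -, hFm⟩ := lifts_and_natDegree_eq_and_monic hlift hpm
  let P : StandardEtalePair A := ⟨F, hFm, derivative F, ⟨1, 0, 1, by ring⟩⟩
  haveI : Fact (Irreducible p) := ⟨hirr⟩
  let L := AdjoinRoot p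
  have hker : RingHom.ker (algebraMap A L) = m := by
    rw [IsScalarTower.algebraMap_eq A (A ⧸ m) L, ← RingHom.comap_ker,
      (RingHom.injective_iff_ker_eq_bot _).1 (algebraMap (A ⧸ m) L).injective,
      Ideal.Quotient.algebraMap_eq, ← RingHom.ker_eq_comap_bot, Ideal.mk_ker]
  have hev : ∀ Q : A[X], aeval (AdjoinRoot.root p) Q =
      AdjoinRoot.mk p (Q.map (Ideal.Quotient.mk m)) := by
    intro Q
    rw [← AdjoinRoot.aeval_eq, ← Ideal.Quotient.algebraMap_eq, aeval_map_algebraMap]
  have hmap : P.HasMap (AdjoinRoot.root p : L) := by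
    constructor
    · show aeval _ F = 0
      rw [hev, hFmap, AdjoinRoot.mk_self]
    · show IsUnit (aeval _ (derivative F))
      rw [hev, ← derivative_map, hFmap]
      obtain ⟨a, b, hab⟩ := hsep
      have := congrArg (AdjoinRoot.mk p) hab
      rw [map_add, map_mul, map_mul, AdjoinRoot.mk_self, mul_zero, zero_add, map_one] at this
      exact IsUnit.of_mul_eq_one _ (by rw [mul_comm]; exact this)
  obtain ⟨α, hα1, -⟩ := EtRetr.exists_hasMap_localization hA m P L hker _ hmap
  refine ⟨resMap m α, ?_⟩
  have hα1' : aeval α F = 0 := hα1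
  rw [← hFmap, eval_map, ← resMap_comp, ← hom_eval₂, ← aeval_def, hα1', map_zero]

theorem strictlyHenselian (hA : ProEtW.HasEtaleRetractions A) (m : Ideal A) [m.IsMaximal] :
    EtCoh.IsStrictlyHenselianLocalRing (Localization.AtPrime m) := by
  refine ⟨henselian hA m, ?_⟩
  letI := Ideal.Quotient.field m
  haveI := isSepClosed_quotient hA m
  let e : A ⧸ m ≃+* ResidueField (Localization.AtPrime m) :=
    IsLocalization.AtPrime.equivQuotMaximalIdeal m (Localization.AtPrime m)
  exact Groth.Agent.H11.HC.isSepClosed_of_ringEquiv e.symm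

end Groth.Agent.H11.EtRetr2
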