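import Mathlib
import Groth.Prelude.Def_ProEtW
import Groth.Agent.H11.EtRetr

/-! Transfer of étale retractions along ring maps with local lifting of standard étale pairs
(helper11). -/

set_option autoImplicit false
universe u

namespace Groth.Agent.H11.EtRetr3

open Polynomial TensorProduct

section basics

variable {A : Type u} [CommRing A]

lemma isOpen_range (P : StandardEtalePair A) :
    IsOpen (Set.range (PrimeSpectrum.comap (algebraMap A P.Ring))) :=
  (PrimeSpectrum.isOpenMap_comap_of_hasGoingDown_of_finitePresentation).isOpen_range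

lemma mem_range_of_hasMap (P : StandardEtalePair A) (L : Type*) [Field L] [Algebra A L] (x : L)
    (hx : P.HasMap x) (p : PrimeSpectrum A) (hp : RingHom.ker (algebraMap A L) = p.asIdeal) :
    p ∈ Set.range (PrimeSpectrum.comap (algebraMap A P.Ring)) := by
  let χ : P.Ring →ₐ[A] L := P.lift x hx
  refine ⟨⟨RingHom.ker χ.toRingHom, RingHom.ker_isPrime _⟩, ?_⟩
  ext a
  show algebraMap A P.Ring a ∈ RingHom.ker χ.toRingHom ↔ a ∈ p.asIdeal
  rw [RingHom.mem_ker]
  show χ (algebraMap A P.Ring a) = 0 ↔ _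
  rw [AlgHom.commutes, ← RingHom.mem_ker, hp]

lemma mem_range_awayPair (i : A) (p : PrimeSpectrum A) (hip : i ∉ p.asIdeal) :
    p ∈ Set.range (PrimeSpectrum.comap (algebraMap A (EtRetr.awayPair i).Ring)) := by
  have hmap : (EtRetr.awayPair i).HasMap (0 : p.asIdeal.ResidueField) := by
    refine ⟨by simp [EtRetr.awayPair], ?_⟩
    have h1 : aeval (0 : p.asIdeal.ResidueField) (EtRetr.awayPair i).g =
        algebraMap A p.asIdeal.ResidueField i := by simp [EtRetr.awayPair]
    rw [h1, isUnit_iff_ne_zero, Ne, Ideal.algebraMap_residueField_eq_zero]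
    exact hip
  refine mem_range_of_hasMap _ p.asIdeal.ResidueField 0 hmap p ?_
  ext a
  rw [RingHom.mem_ker, Ideal.algebraMap_residueField_eq_zero]

lemma faithfullyFlat_pi {ι : Type*} [Finite ι] (Pf : ι → StandardEtalePair A)
    (hcov : ∀ p : PrimeSpectrum A,
      ∃ o, p ∈ Set.range (PrimeSpectrum.comap (algebraMap A (Pf o).Ring))) :
    Module.FaithfullyFlat A (Π o, (Pf o).Ring) := by
  apply Module.FaithfullyFlat.of_comap_surjective
  intro p
  obtain ⟨o, q, hq⟩ := hcov p
  refine ⟨⟨q.asIdeal.comap (Pi.evalRingHom (fun b => (Pf b).Ring) o),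
    Ideal.comap_isPrime _ _⟩, ?_⟩
  ext a
  have h1 : a ∈ (PrimeSpectrum.comap (algebraMap A (Pf o).Ring) q).asIdeal ↔ a ∈ p.asIdeal := by
    rw [hq]
  rw [← h1]
  rfl

lemma exists_finset_standardEtale (R S : Type u) [CommRing R] [CommRing S] [Algebra R S]
    [Algebra.Etale R S] :
    ∃ s : Finset S, Ideal.span (s : Set S) = ⊤ ∧
      ∀ f ∈ s, Algebra.IsStandardEtale R (Localization.Away f) := by
  let Sg : Set S := {f | Algebra.IsStandardEtale R (Localization.Away f)}
  have h : Ideal.span Sg = ⊤ := by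
    by_contra hne
    obtain ⟨Q, hQ, hle⟩ := Ideal.exists_le_maximal _ hne
    haveI := hQ.isPrime
    haveI : Algebra.IsEtaleAt R Q := by
      have h1 : (⟨Q, inferInstance⟩ : PrimeSpectrum S) ∈ Algebra.etaleLocus R S := by
        rw [Algebra.etaleLocus_eq_univ_iff.2 inferInstance]; trivial
      exact h1
    obtain ⟨f, hfQ, hf⟩ := Algebra.IsEtaleAt.exists_isStandardEtale (R := R) Q
    exact hfQ (hle (Ideal.subset_span hf))
  obtain ⟨s, hs, hs'⟩ := (Ideal.span_eq_top_iff_finite _).1 h
  exact ⟨s, hs', fun f hf => hs hf⟩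

end basics


section main

variable {A Ab : Type u} [CommRing A] [CommRing Ab] [Algebra A Ab]

theorem hasEtaleRetractions_of_lifting (I : Ideal A)
    (ha : PrimeSpectrum.zeroLocus (I : Set A) ⊆
      Set.range (PrimeSpectrum.comap (algebraMap A Ab)))
    (hb : ∀ e : A, IsIdempotentElem e → e ∈ I → algebraMap A Ab e = 0)
    (hc : ∀ Pb : StandardEtalePair Ab, ∃ P : StandardEtalePair A,
      (∃ y : Ab ⊗[A] P.Ring, Pb.HasMap y) ∧
      ∀ (L : Type u) [Field L] [Algebra Ab L] [Algebra A L] [IsScalarTower A Ab L] (x : L),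
        Pb.HasMap x → ∃ x' : L, P.HasMap x')
    (hA : ProEtW.HasEtaleRetractions A) : ProEtW.HasEtaleRetractions Ab := by
  classical
  intro Bb _ _ hff het
  obtain ⟨s, hs, hstd⟩ := exists_finset_standardEtale Ab Bb
  have hpres : ∀ j : s, Nonempty (StandardEtalePresentation Ab (Localization.Away j.1)) :=
    fun j => (hstd j.1 j.2).nonempty_standardEtalePresentation
  let Pb : ∀ j : s, StandardEtalePresentation Ab (Localization.Away j.1) :=
    fun j => (hpres j).some
  choose P hy hpt using fun j : s => hc (Pb j).P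
  choose y hy using hy
  -- the images cover `V(I)`
  have hVU : ∀ p ∈ PrimeSpectrum.zeroLocus (I : Set A),
      ∃ j : s, p ∈ Set.range (PrimeSpectrum.comap (algebraMap A (P j).Ring)) := by
    intro p hp
    obtain ⟨pb, rfl⟩ := ha hp
    obtain ⟨Q, rfl⟩ := PrimeSpectrum.comap_surjective_of_faithfullyFlat (A := Ab) (B := Bb) pb
    have : ∃ j : s, j.1 ∉ Q.asIdeal := by
      by_contra hcon
      push Not at hcon
      have : Ideal.span (s : Set Bb) ≤ Q.asIdeal := Ideal.span_le.2 (fun f hf => hcon ⟨f, hf⟩)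
      rw [hs] at this
      exact Q.isPrime.ne_top (top_le_iff.1 this)
    obtain ⟨j, hj⟩ := this
    let L := Q.asIdeal.ResidueField
    letI : Algebra A L := ((algebraMap Ab L).comp (algebraMap A Ab)).toAlgebra
    haveI : IsScalarTower A Ab L := IsScalarTower.of_algebraMap_eq (fun _ => rfl)
    have hju : IsUnit (IsScalarTower.toAlgHom Ab Bb L j.1) := by
      rw [isUnit_iff_ne_zero]
      show algebraMap Bb L j.1 ≠ 0
      rw [Ne, Ideal.algebraMap_residueField_eq_zero]
      exact hj
    let ψ : Localization.Away j.1 →ₐ[Ab] L := IsLocalization.Away.liftAlgHom j.1 hju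
    obtain ⟨x', hx'⟩ := hpt j L (ψ (Pb j).x) ((Pb j).hasMap.map ψ)
    refine ⟨j, mem_range_of_hasMap _ L x' hx' _ ?_⟩
    ext a
    rw [RingHom.mem_ker]
    show algebraMap Bb L (algebraMap Ab Bb (algebraMap A Ab a)) = 0 ↔ _
    rw [Ideal.algebraMap_residueField_eq_zero]
    rfl
  set U : Set (PrimeSpectrum A) :=
    ⋃ j : s, Set.range (PrimeSpectrum.comap (algebraMap A (P j).Ring)) with hU
  have hUo : IsOpen U := isOpen_iUnion fun j => isOpen_range (P j)
  obtain ⟨J, hJ⟩ := (PrimeSpectrum.isClosed_iff_zeroLocus_ideal _).1 hUo.isClosed_compl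
  have hIJ : I ⊔ J = ⊤ := by
    rw [← PrimeSpectrum.zeroLocus_empty_iff_eq_top, PrimeSpectrum.zeroLocus_sup, ← hJ]
    ext p
    simp only [Set.mem_inter_iff, Set.mem_compl_iff, Set.mem_empty_iff_false, iff_false, not_and,
      not_not]
    intro hp
    obtain ⟨j, hj⟩ := hVU p hp
    exact Set.mem_iUnion.2 ⟨j, hj⟩
  obtain ⟨i, hi, j', hj', hij⟩ := Submodule.mem_sup.1 ((Ideal.eq_top_iff_one _).1 hIJ)
  let Pf : Option s → StandardEtalePair A := fun o => o.elim (EtRetr.awayPair i) P
  have hcov : ∀ p : PrimeSpectrum A,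
      ∃ o, p ∈ Set.range (PrimeSpectrum.comap (algebraMap A (Pf o).Ring)) := by
    intro p
    by_cases hp : p ∈ U
    · obtain ⟨j, hj⟩ := Set.mem_iUnion.1 hp
      exact ⟨some j, hj⟩
    · have hpZ : p ∈ PrimeSpectrum.zeroLocus (J : Set A) := by rw [← hJ]; exact hp
      have hjp : j' ∈ p.asIdeal := hpZ hj'
      have hip : i ∉ p.asIdeal := by
        intro hip
        have : (1 : A) ∈ p.asIdeal := by
          rw [← hij]
          exact Ideal.add_mem _ hip hjp
        exact p.isPrime.ne_top ((Ideal.eq_top_iff_one _).2 this)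
      exact ⟨none, mem_range_awayPair i p hip⟩
  have hff' : Module.FaithfullyFlat A (Π o, (Pf o).Ring) := faithfullyFlat_pi Pf hcov
  obtain ⟨ρ⟩ := hA (Π o, (Pf o).Ring) hff' inferInstance
  -- the idempotent
  have he1 : IsIdempotentElem (ρ (Pi.single none 1)) := by
    show ρ _ * ρ _ = ρ _
    rw [← map_mul, ← Pi.single_mul, mul_one]
  have he2 : ρ (Pi.single none 1) ∈ I := by
    have hu : IsUnit (algebraMap A (Pf none).Ring i) := by
      have h1 := (StandardEtalePair.hasMap_X (P := EtRetr.awayPair i)).2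
      have h2 : aeval (EtRetr.awayPair i).X (EtRetr.awayPair i).g =
          algebraMap A (EtRetr.awayPair i).Ring i := by
        show aeval _ (C i) = _
        exact aeval_C _ _
      rw [h2] at h1
      exact h1
    obtain ⟨u, hu⟩ := hu.exists_right_inv
    have h3 : (Pi.single none 1 : Π o, (Pf o).Ring) = i • Pi.single none u := by
      funext o
      cases o with
      | none =>
        rw [Pi.smul_apply, Pi.single_eq_same, Pi.single_eq_same, Algebra.smul_def]
        exact hu.symm
      | some j =>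
        rw [Pi.smul_apply, Pi.single_eq_of_ne (by simp), Pi.single_eq_of_ne (by simp), smul_zero]
    rw [h3, map_smul, smul_eq_mul]
    exact Ideal.mul_mem_right _ _ hi
  let ρb : (Π o, (Pf o).Ring) →ₐ[A] Ab := (Algebra.ofId A Ab).comp ρ
  have hρ0 : ρb (Pi.single none 1) = 0 := hb _ he1 he2
  -- projection to the `some` factors
  let π : (Π o, (Pf o).Ring) →ₐ[A] Π j : s, (P j).Ring :=
    AlgHom.pi (A := fun j : s => (P j).Ring)
      (fun j => (Pi.evalAlgHom A (fun o => (Pf o).Ring) (some j)))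
  have hπ : Function.Surjective π := by
    intro x
    refine ⟨fun o => match o with
      | none => 0
      | some j => x j, ?_⟩
    funext j
    rfl
  have hker : RingHom.ker π.toRingHom ≤ RingHom.ker ρb.toRingHom := by
    intro t ht
    have ht' : ∀ j : s, t (some j) = 0 := fun j => congrFun ht j
    have h1 : t = Pi.single none 1 * t := by
      funext o
      cases o with
      | none => simp
      | some j => simp [ht' j]
    show ρb t = 0
    rw [h1, map_mul, hρ0, zero_mul]
  let ρ₁ : (Π j : s, (P j).Ring) →ₐ[A] Ab := AlgHom.liftOfSurjective π hπ ρb hker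
  let θ : ∀ j : s, Bb →ₐ[Ab] Ab ⊗[A] (P j).Ring := fun j =>
    (((Pb j).P.lift (y j) (hy j)).comp ((Pb j).equivRing.toAlgHom)).comp
      (IsScalarTower.toAlgHom Ab Bb (Localization.Away j.1))
  let Θ : Bb →ₐ[Ab] Π j : s, Ab ⊗[A] (P j).Ring := AlgHom.pi θ
  let Λ : (Ab ⊗[A] Π j : s, (P j).Ring) →ₐ[Ab] Ab :=
    Algebra.TensorProduct.lift (AlgHom.id Ab Ab) ρ₁ (fun _ _ => .all _ _)
  exact ⟨Λ.comp ((Algebra.TensorProduct.piRight A Ab Ab
    (fun j : s => (P j).Ring)).symm.toAlgHom.comp Θ)⟩

end main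


section quotient

lemma hasMap_iff_of_map {A Ab : Type*} [CommRing A] [CommRing Ab] [Algebra A Ab]
    (P : StandardEtalePair A) (Pb : StandardEtalePair Ab)
    (hf : P.f.map (algebraMap A Ab) = Pb.f)
    (hg : P.g.map (algebraMap A Ab) = derivative Pb.f * Pb.g)
    {S : Type*} [CommRing S] [Algebra Ab S] [Algebra A S] [IsScalarTower A Ab S] (x : S) :
    P.HasMap x ↔ Pb.HasMap x := by
  have h1 : ∀ Q : A[X], aeval x Q = aeval x (Q.map (algebraMap A Ab)) :=
    fun Q => (aeval_map_algebraMap Ab x Q).symm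
  constructor
  · rintro ⟨h0, hu⟩
    rw [h1, hf] at h0
    rw [h1, hg, map_mul] at hu
    exact ⟨h0, isUnit_of_mul_isUnit_right hu⟩
  · intro h
    refine ⟨by rw [h1, hf]; exact h.1, ?_⟩
    rw [h1, hg, map_mul]
    exact h.isUnit_derivative_f.mul h.2

variable {A : Type u} [CommRing A]

theorem hasEtaleRetractions_quotient (hA : ProEtW.HasEtaleRetractions A) (I : Ideal A) :
    ProEtW.HasEtaleRetractions (A ⧸ I) := by
  refine hasEtaleRetractions_of_lifting I ?_ ?_ ?_ hA
  · intro p hp
    rw [Ideal.Quotient.algebraMap_eq,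
      range_comap_of_surjective _ _ Ideal.Quotient.mk_surjective, Ideal.mk_ker]
    exact hp
  · intro e _ he
    rw [Ideal.Quotient.algebraMap_eq, Ideal.Quotient.eq_zero_iff_mem]; exact he
  · intro Pb
    have hlift : Pb.f ∈ lifts (Ideal.Quotient.mk I) := by
      rw [lifts_iff_coeff_lifts]; intro n; exact Ideal.Quotient.mk_surjective _
    obtain ⟨F, hFmap, -, hFm⟩ := lifts_and_natDegree_eq_and_monic hlift Pb.monic_f
    obtain ⟨G, hG⟩ := map_surjective (Ideal.Quotient.mk I) Ideal.Quotient.mk_surjective Pb.g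
    let P : StandardEtalePair A := ⟨F, hFm, derivative F * G, ⟨G, 0, 1, by ring⟩⟩
    have hf : P.f.map (algebraMap A (A ⧸ I)) = Pb.f := hFmap
    have hg : P.g.map (algebraMap A (A ⧸ I)) = derivative Pb.f * Pb.g := by
      show (derivative F * G).map _ = _
      rw [Polynomial.map_mul, ← derivative_map, Ideal.Quotient.algebraMap_eq, hFmap, hG]
    refine ⟨P, ⟨(1 : A ⧸ I) ⊗ₜ[A] P.X, ?_⟩, ?_⟩
    · rw [← hasMap_iff_of_map P Pb hf hg]
      exact (StandardEtalePair.hasMap_X (P := P)).map
        (Algebra.TensorProduct.includeRight : P.Ring →ₐ[A] (A ⧸ I) ⊗[A] P.Ring)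
    · intro L _ _ _ _ x hx
      exact ⟨x, (hasMap_iff_of_map P Pb hf hg x).2 hx⟩

end quotient

end Groth.Agent.H11.EtRetr3
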