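import Mathlib
import Groth.Prelude.Def_ProEtW
import Groth.Agent.H11.EtRetr2
import Groth.Agent.H11.EtRetr3

/-! Étale retractions pass to localizations along a closed subset (helper11). -/

set_option autoImplicit false
universe u

namespace Groth.Agent.H11.EtRetr4

open Polynomial TensorProduct

lemma scaleRoots_derivative_aeval {R S' : Type*} [CommRing R] [CommRing S'] [Algebra R S']
    (p : R[X]) (s : R) (x : S') :
    algebraMap R S' s * aeval (algebraMap R S' s * x) (derivative (scaleRoots p s)) =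
      algebraMap R S' s ^ p.natDegree * aeval x (derivative p) := by
  have h := congrArg (fun q => aeval x (derivative q)) (EtRetr2.scaleRoots_comp p s)
  simp only [derivative_comp, derivative_C_mul, derivative_X,
    mul_one, map_mul, aeval_C, aeval_comp, aeval_X] at h
  simpa using h

lemma scaleRoots_aeval {R S' : Type*} [CommRing R] [CommRing S'] [Algebra R S']
    (p : R[X]) (s : R) (x : S') :
    aeval (algebraMap R S' s * x) (scaleRoots p s) =
      algebraMap R S' s ^ p.natDegree * aeval x p := by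
  rw [aeval_def, aeval_def, scaleRoots_eval₂_mul]

section scale

variable {A B : Type*} [CommRing A] [CommRing B] [Algebra A B]

lemma hasMap_scale_iff (P : StandardEtalePair A) (Pb : StandardEtalePair B) (σ : B)
    (hσ : IsUnit σ)
    (hf : P.f.map (algebraMap A B) = scaleRoots Pb.f σ)
    (hg : P.g.map (algebraMap A B) =
      derivative (scaleRoots Pb.f σ) * (C σ * scaleRoots Pb.g σ))
    {S' : Type*} [CommRing S'] [Algebra B S'] [Algebra A S'] [IsScalarTower A B S'] (x : S') :
    P.HasMap (algebraMap B S' σ * x) ↔ Pb.HasMap x := by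
  have h1 : ∀ (Q : A[X]) (z : S'), aeval z Q = aeval z (Q.map (algebraMap A B)) :=
    fun Q z => (aeval_map_algebraMap B z Q).symm
  have hσ' : IsUnit (algebraMap B S' σ) := hσ.map _
  have e1 : aeval (algebraMap B S' σ * x) P.f =
      algebraMap B S' σ ^ Pb.f.natDegree * aeval x Pb.f := by
    rw [h1, hf, scaleRoots_aeval]
  have e2 : aeval (algebraMap B S' σ * x) P.g =
      aeval (algebraMap B S' σ * x) (derivative (scaleRoots Pb.f σ)) *
        (algebraMap B S' σ * (algebraMap B S' σ ^ Pb.g.natDegree * aeval x Pb.g)) := by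
    rw [h1, hg, map_mul, map_mul, aeval_C, scaleRoots_aeval]
  have e3 := scaleRoots_derivative_aeval Pb.f σ x
  constructor
  · rintro ⟨h0, hu⟩
    rw [e1] at h0
    rw [e2] at hu
    refine ⟨(hσ'.pow _).mul_right_eq_zero.1 h0, ?_⟩
    have h2 := isUnit_of_mul_isUnit_right hu
    have h3 := isUnit_of_mul_isUnit_right h2
    exact isUnit_of_mul_isUnit_right h3
  · intro h
    refine ⟨by rw [e1, h.1, mul_zero], ?_⟩
    rw [e2]
    have h4 : IsUnit (algebraMap B S' σ *
        aeval (algebraMap B S' σ * x) (derivative (scaleRoots Pb.f σ))) := by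
      rw [e3]; exact (hσ'.pow _).mul h.isUnit_derivative_f
    exact (isUnit_of_mul_isUnit_right h4).mul (hσ'.mul ((hσ'.pow _).mul h.2))

end scale

section loc

variable {A B : Type u} [CommRing A] [CommRing B] [Algebra A B]

theorem exists_pair_of_isLocalization (S : Submonoid A) [IsLocalization S B]
    (Pb : StandardEtalePair B) :
    ∃ (P : StandardEtalePair A) (σ : B), IsUnit σ ∧
      P.f.map (algebraMap A B) = scaleRoots Pb.f σ ∧
      P.g.map (algebraMap A B) =
        derivative (scaleRoots Pb.f σ) * (C σ * scaleRoots Pb.g σ) := by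
  classical
  obtain ⟨b, hb⟩ := IsLocalization.exist_integer_multiples_of_finset S
    (Pb.f.coeffs ∪ Pb.g.coeffs)
  set σ : B := algebraMap A B b with hσ
  have hσu : IsUnit σ := IsLocalization.map_units B b
  have hint : ∀ x ∈ Pb.f.coeffs ∪ Pb.g.coeffs, ∃ y : A, algebraMap A B y = σ * x := by
    intro x hx
    obtain ⟨y, hy⟩ := hb x hx
    exact ⟨y, by rw [hy, Algebra.smul_def]⟩
  have hint' : ∀ (p : B[X]), p.coeffs ⊆ Pb.f.coeffs ∪ Pb.g.coeffs → ∀ i,
      ∃ y : A, algebraMap A B y = σ * p.coeff i := by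
    intro p hp i
    by_cases hfi : p.coeff i = 0
    · rw [hfi, mul_zero]; exact ⟨0, map_zero _⟩
    · exact hint _ (hp (coeff_mem_coeffs hfi))
  have hF₁m : (scaleRoots Pb.f σ).Monic := (monic_scaleRoots_iff σ).2 Pb.monic_f
  have hlift : scaleRoots Pb.f σ ∈ lifts (algebraMap A B) := by
    rw [lifts_iff_coeff_lifts]
    intro i
    rw [coeff_scaleRoots]
    rcases lt_trichotomy i Pb.f.natDegree with hi | hi | hi
    · obtain ⟨y, hy⟩ := hint' Pb.f Finset.subset_union_left i
      refine ⟨y * b ^ (Pb.f.natDegree - i - 1), ?_⟩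
      rw [map_mul, map_pow, hy, ← hσ]
      have : Pb.f.natDegree - i = (Pb.f.natDegree - i - 1) + 1 := by omega
      rw [this, pow_succ]
      have : Pb.f.natDegree - i - 1 + 1 - 1 = Pb.f.natDegree - i - 1 := by omega
      rw [this]; ring
    · subst hi
      rw [Pb.monic_f.coeff_natDegree, Nat.sub_self, pow_zero, mul_one]
      exact ⟨1, map_one _⟩
    · rw [coeff_eq_zero_of_natDegree_lt hi, zero_mul]; exact ⟨0, map_zero _⟩
  obtain ⟨F, hFmap, -, hFm⟩ := lifts_and_natDegree_eq_and_monic hlift hF₁m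
  have hliftG : C σ * scaleRoots Pb.g σ ∈ lifts (algebraMap A B) := by
    rw [lifts_iff_coeff_lifts]
    intro i
    rw [coeff_C_mul, coeff_scaleRoots]
    obtain ⟨y, hy⟩ := hint' Pb.g Finset.subset_union_right i
    refine ⟨y * b ^ (Pb.g.natDegree - i), ?_⟩
    rw [map_mul, map_pow, hy, ← hσ]; ring
  obtain ⟨G, hG⟩ := hliftG
  refine ⟨⟨F, hFm, derivative F * G, ⟨G, 0, 1, by ring⟩⟩, σ, hσu, hFmap, ?_⟩
  show (derivative F * G).map _ = _
  rw [Polynomial.map_mul, ← derivative_map, hFmap]
  congr 1

theorem hasEtaleRetractions_localization (S : Submonoid A) [IsLocalization S B] (I : Ideal A)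
    (hB : Set.range (PrimeSpectrum.comap (algebraMap A B)) =
      {x | ∃ z : PrimeSpectrum A, z ∈ PrimeSpectrum.zeroLocus (R := A) I ∧ x ⤳ z})
    (hA : ProEtW.HasEtaleRetractions A) : ProEtW.HasEtaleRetractions B := by
  refine EtRetr3.hasEtaleRetractions_of_lifting I ?_ ?_ ?_ hA
  · intro z hz
    rw [hB]
    exact ⟨z, hz, specializes_rfl⟩
  · intro e he heI
    have hnil : IsNilpotent (algebraMap A B e) := by
      rw [← mem_nilradical, nilradical_eq_sInf, Ideal.mem_sInf]
      intro q hq
      haveI : q.IsPrime := hq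
      have hmem : PrimeSpectrum.comap (algebraMap A B) ⟨q, hq⟩ ∈
          Set.range (PrimeSpectrum.comap (algebraMap A B)) := ⟨_, rfl⟩
      rw [hB] at hmem
      obtain ⟨z, hz, hspec⟩ := hmem
      rw [← PrimeSpectrum.le_iff_specializes] at hspec
      by_contra hne
      have h1 : e * (1 - e) = 0 := by rw [mul_sub, mul_one, he.eq, sub_self]
      have h2 : (1 - e) ∈ (PrimeSpectrum.comap (algebraMap A B) ⟨q, hq⟩).asIdeal := by
        have h3 : algebraMap A B e * algebraMap A B (1 - e) ∈ q := by
          rw [← map_mul, h1, map_zero]; exact q.zero_mem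
        rcases hq.mem_or_mem h3 with h | h
        · exact absurd h hne
        · exact h
      have h4 : (1 - e) ∈ z.asIdeal := hspec h2
      have h5 : e ∈ z.asIdeal := hz heI
      have h6 : (1 : A) ∈ z.asIdeal := by
        have := Ideal.add_mem _ h4 h5
        rwa [sub_add_cancel] at this
      exact z.isPrime.ne_top ((Ideal.eq_top_iff_one _).2 h6)
    exact (he.map (algebraMap A B)).eq_zero_of_isNilpotent hnil
  · intro Pb
    obtain ⟨P, σ, hσ, hf, hg⟩ := exists_pair_of_isLocalization S Pb
    obtain ⟨τ, hτ⟩ := hσ.exists_right_inv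
    refine ⟨P, ⟨τ ⊗ₜ[A] P.X, ?_⟩, ?_⟩
    · rw [← hasMap_scale_iff P Pb σ hσ hf hg]
      have h1 : algebraMap B (B ⊗[A] P.Ring) σ * τ ⊗ₜ[A] P.X = (1 : B) ⊗ₜ[A] P.X := by
        rw [Algebra.TensorProduct.algebraMap_apply, Algebra.TensorProduct.tmul_mul_tmul, one_mul]
        congr 1
      rw [h1]
      exact (StandardEtalePair.hasMap_X (P := P)).map
        (Algebra.TensorProduct.includeRight : P.Ring →ₐ[A] B ⊗[A] P.Ring)
    · intro L _ _ _ _ x hx
      exact ⟨algebraMap B L σ * x, (hasMap_scale_iff P Pb σ hσ hf hg x).2 hx⟩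

end loc

end Groth.Agent.H11.EtRetr4
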