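import Mathlib
import Groth.Agent.H11.BasisAway

/-! Construction of `B = Sym_A(Q)` (concretely `A[y]/(linear forms)`) for a smooth `R`-algebra `A`,
with the data needed to show that a localization of `B` is standard smooth over `R`. -/

namespace Groth.Agent.H11.SymRetract

open MvPolynomial KaehlerDifferential

universe u

/-- If `S` is generated by `gens` over `R` and `T` contains all `D s`, `s ∈ gens`, then `T = ⊤`. -/
theorem span_eq_top_of_adjoin {R S : Type*} [CommRing R] [CommRing S] [Algebra R S]
    (T : Submodule S Ω[S⁄R]) (gens : Set S) (hgen : Algebra.adjoin R gens = ⊤)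
    (h : ∀ s ∈ gens, D R S s ∈ T) : T = ⊤ := by
  rw [eq_top_iff, ← KaehlerDifferential.span_range_derivation, Submodule.span_le]
  rintro _ ⟨s, rfl⟩
  have hs : s ∈ Algebra.adjoin R gens := by rw [hgen]; trivial
  induction hs using Algebra.adjoin_induction with
  | mem s hs => exact h s hs
  | algebraMap r => simp
  | add a b _ _ ha hb => simpa using T.add_mem ha hb
  | mul a b _ _ ha hb =>
    have : D R S (a * b) = a • D R S b + b • D R S a := (D R S).leibniz a b
    simp only [SetLike.mem_coe] at ha hb ⊢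
    rw [this]
    exact T.add_mem (T.smul_mem _ hb) (T.smul_mem _ ha)

theorem aux_sum {T M : Type*} [CommRing T] [AddCommGroup M] [Module T M] {n : ℕ} (β : T)
    (g : Fin n → T) (v : Fin n → M) (hg : ∑ i, g i • v i = 0) : ∑ i, (β * g i) • v i = 0 := by
  simp_rw [mul_smul, ← Finset.smul_sum, hg, smul_zero]

theorem aux_sum' {T M : Type*} [CommRing T] [AddCommGroup M] [Module T M] {n : ℕ} (c : T)
    (k : Fin n → T) (m : Fin n → M) : ∑ i, (c * k i) • m i = c • ∑ i, k i • m i := by
  simp_rw [mul_smul, Finset.smul_sum]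

theorem aux_smul {T M : Type*} [CommRing T] [AddCommGroup M] [Module T M] (a b : T) (m : M) :
    a • b • m = (a * b) • m := (mul_smul a b m).symm

section Construction

variable {R A : Type u} [CommRing R] [CommRing A] [Algebra R A] {n : ℕ}
  (x : Fin n → A) (σ : Ω[A⁄R] →ₗ[A] (Fin n → A))

/-- The matrix of the idempotent `σ ∘ π`. -/
noncomputable def Mx (i j : Fin n) : A := σ (D R A (x i)) j

/-- The linear forms. -/
noncomputable def gen (i : Fin n) : MvPolynomial (Fin n) A := ∑ j, C (Mx x σ i j) * X j

/-- The ideal of linear forms. -/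
noncomputable def J : Ideal (MvPolynomial (Fin n) A) := Ideal.span (Set.range (gen x σ))

/-- The ring `B`. -/
abbrev B : Type u := MvPolynomial (Fin n) A ⧸ J x σ

noncomputable instance : Algebra R (B x σ) := Ideal.Quotient.algebra R
instance : IsScalarTower R A (B x σ) := Ideal.Quotient.isScalarTower R A _

/-- The idempotent endomorphism of the polynomial ring. -/
noncomputable def φ : MvPolynomial (Fin n) A →ₐ[A] MvPolynomial (Fin n) A :=
  aeval (fun i => X i - gen x σ i)

variable (hσ : ∀ ω : Ω[A⁄R], ∑ j, σ ω j • D R A (x j) = ω)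

include hσ in
theorem Mx_idem (i l : Fin n) : ∑ j, Mx x σ i j * Mx x σ j l = Mx x σ i l := by
  have h1 : σ (D R A (x i)) = ∑ j, Mx x σ i j • σ (D R A (x j)) := by
    conv_lhs => rw [← hσ (D R A (x i)), map_sum]
    simp only [map_smul]
    rfl
  have := congrFun h1 l
  simp only [Finset.sum_apply, Pi.smul_apply, smul_eq_mul] at this
  exact this.symm

include hσ in
theorem φ_gen (i : Fin n) : φ x σ (gen x σ i) = 0 := by
  have h1 : φ x σ (gen x σ i) = gen x σ i - ∑ j, C (Mx x σ i j) * gen x σ j := by
    simp only [gen, φ, map_sum, map_mul, aeval_C, aeval_X, algebraMap_eq, mul_sub,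
      Finset.sum_sub_distrib]
  have h2 : ∑ j, C (Mx x σ i j) * gen x σ j = gen x σ i := by
    simp only [gen, Finset.mul_sum]
    rw [Finset.sum_comm]
    refine Finset.sum_congr rfl fun l _ => ?_
    rw [← Mx_idem x σ hσ i l, map_sum, Finset.sum_mul]
    refine Finset.sum_congr rfl fun j _ => ?_
    rw [map_mul]; ring
  rw [h1, h2, sub_self]

include hσ in
theorem φ_J (a : MvPolynomial (Fin n) A) (ha : a ∈ J x σ) : φ x σ a = 0 := by
  have : J x σ ≤ RingHom.ker (φ x σ).toRingHom := by
    rw [J, Ideal.span_le]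
    rintro _ ⟨i, rfl⟩
    exact φ_gen x σ hσ i
  exact this ha

/-- The section `B → A[y]`. -/
noncomputable def φbar : B x σ →ₐ[A] MvPolynomial (Fin n) A :=
  Ideal.Quotient.liftₐ (J x σ) (φ x σ) (φ_J x σ hσ)

theorem φbar_mk (p : MvPolynomial (Fin n) A) :
    φbar x σ hσ (Ideal.Quotient.mk (J x σ) p) = φ x σ p := rfl

theorem gen_mem (i : Fin n) : gen x σ i ∈ J x σ := Ideal.subset_span ⟨i, rfl⟩

theorem mk_φbar : (Ideal.Quotient.mkₐ A (J x σ)).comp (φbar x σ hσ) = AlgHom.id A (B x σ) := by
  apply Ideal.Quotient.algHom_ext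
  apply MvPolynomial.algHom_ext
  intro i
  change Ideal.Quotient.mk (J x σ) (φ x σ (X i)) = Ideal.Quotient.mk (J x σ) (X i)
  rw [φ, aeval_X, map_sub, sub_eq_self, Ideal.Quotient.eq_zero_iff_mem]
  exact gen_mem x σ i

/-- The retraction `B → A`. -/
noncomputable def ε : B x σ →ₐ[A] A := (aeval (0 : Fin n → A)).comp (φbar x σ hσ)

theorem aeval_zero_gen (i : Fin n) : aeval (0 : Fin n → A) (gen x σ i) = 0 := by
  simp [gen]

theorem ε_mk_X (i : Fin n) : ε x σ hσ (Ideal.Quotient.mk (J x σ) (X i)) = 0 := by
  change aeval (0 : Fin n → A) (φ x σ (X i)) = 0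
  rw [φ, aeval_X, map_sub, aeval_zero_gen]
  simp

instance formallySmooth_B_inst : Algebra.FinitePresentation A (B x σ) :=
  Algebra.FinitePresentation.quotient (Submodule.fg_span (Set.finite_range _))

include hσ in
theorem formallySmooth_B : Algebra.FormallySmooth A (B x σ) := by
  refine Algebra.FormallySmooth.of_split (Ideal.Quotient.mkₐ A (J x σ))
    ((Ideal.Quotient.mkₐ A _).comp (φbar x σ hσ)) ?_
  apply Ideal.Quotient.algHom_ext
  apply MvPolynomial.algHom_ext
  intro i
  have := congrArg (fun f => f (Ideal.Quotient.mk (J x σ) (X i))) (mk_φbar x σ hσ)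
  exact this

include hσ in
theorem smooth_B : Algebra.Smooth A (B x σ) :=
  haveI := formallySmooth_B x σ hσ
  ⟨inferInstance, inferInstance⟩


/-- The elements `t_i = x_i + y_i`. -/
noncomputable def t (i : Fin n) : B x σ :=
  algebraMap A (B x σ) (x i) + Ideal.Quotient.mk (J x σ) (X i)

/-- The auxiliary "derivation" on the polynomial ring, along evaluation at `0`. -/
noncomputable def D0 : MvPolynomial (Fin n) A →ₗ[R] (Fin n → A) where
  toFun p := σ (D R A (aeval (0 : Fin n → A) p)) + fun j => aeval (0 : Fin n → A) (pderiv j p)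
  map_add' p q := by
    ext j
    simp only [map_add, Pi.add_apply]
    ring
  map_smul' r p := by
    ext j
    simp only [AlgHom.map_smul_of_tower, LinearMap.map_smul_of_tower,
      Derivation.map_smul_of_tower, Pi.add_apply, Pi.smul_apply, RingHom.id_apply, smul_add]

theorem D0_apply (p : MvPolynomial (Fin n) A) (j : Fin n) :
    D0 (R := R) σ p j = σ (D R A (aeval (0 : Fin n → A) p)) j +
      aeval (0 : Fin n → A) (pderiv j p) := rfl

theorem D0_mul (p q : MvPolynomial (Fin n) A) :
    D0 (R := R) σ (p * q) = aeval (0 : Fin n → A) p • D0 (R := R) σ q +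
      aeval (0 : Fin n → A) q • D0 (R := R) σ p := by
  ext j
  simp only [D0_apply, map_mul, Derivation.leibniz, map_add, map_smul, Pi.add_apply,
    Pi.smul_apply, smul_eq_mul]
  ring

theorem D0_C (a : A) : D0 (R := R) σ (C a) = σ (D R A a) := by
  ext j
  simp [D0_apply]

theorem D0_X (i : Fin n) : D0 (R := R) σ (X i) = Pi.single i 1 := by
  ext j
  simp [D0_apply, pderiv_X, Pi.single_apply, eq_comm]

theorem D0_gen (i : Fin n) : D0 (R := R) σ (gen x σ i) = σ (D R A (x i)) := by
  ext j
  rw [D0_apply, aeval_zero_gen]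
  simp only [map_zero, LinearMap.zero_apply, Pi.zero_apply, zero_add, gen, map_sum,
    Derivation.leibniz, pderiv_C, pderiv_X, smul_eq_mul, mul_zero, add_zero]
  rw [Finset.sum_eq_single j (fun b _ hb => by simp [Pi.single_apply, hb])
    (fun h => absurd (Finset.mem_univ j) h)]
  simp [Pi.single_apply, Mx]

theorem D0_φ_t (i : Fin n) :
    D0 (R := R) σ (φ x σ (C (x i) + X i)) = Pi.single i 1 := by
  rw [map_add, φ, aeval_X, map_add, map_sub]
  have : aeval (fun i => X i - gen x σ i) (C (x i)) = (C (x i) : MvPolynomial (Fin n) A) := by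
    simp
  rw [this, D0_C, D0_X, D0_gen]
  abel

theorem t_eq (i : Fin n) : t x σ i = Ideal.Quotient.mk (J x σ) (C (x i) + X i) := by
  rw [map_add]; rfl

/-- `A` as a `B`-algebra via `ε`. -/
@[reducible] noncomputable def algBA : Algebra (B x σ) A := (ε x σ hσ).toRingHom.toAlgebra

theorem indep (k : Fin n → B x σ) (hk : ∑ j, k j • D R (B x σ) (t x σ j) = 0) (j : Fin n) :
    ε x σ hσ (k j) = 0 := by
  classical
  letI := algBA x σ hσ
  haveI : IsScalarTower R (B x σ) A := IsScalarTower.of_algebraMap_eq fun r => by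
    change algebraMap R A r = ε x σ hσ (algebraMap R (B x σ) r)
    rw [IsScalarTower.algebraMap_apply R A (B x σ), AlgHom.commutes]
    rfl
  have hsmul : ∀ (b : B x σ) (v : Fin n → A), b • v = ε x σ hσ b • v := fun b v => by
    ext l
    rw [Pi.smul_apply, Pi.smul_apply, Algebra.smul_def]
    rfl
  let DB : Derivation R (B x σ) (Fin n → A) :=
    Derivation.mk' (D0 (R := R) σ ∘ₗ ((φbar x σ hσ).restrictScalars R).toLinearMap)
      (fun a b => by
        change D0 (R := R) σ (φbar x σ hσ (a * b)) =
          a • D0 (R := R) σ (φbar x σ hσ b) + b • D0 (R := R) σ (φbar x σ hσ a)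
        rw [map_mul, D0_mul, hsmul, hsmul]
        rfl)
  have hDB : ∀ i, DB (t x σ i) = Pi.single i 1 := fun i => by
    change D0 (R := R) σ (φbar x σ hσ (t x σ i)) = _
    rw [t_eq, φbar_mk, D0_φ_t]
  have hL := congrArg DB.liftKaehlerDifferential hk
  rw [map_sum, map_zero] at hL
  simp only [map_smul, Derivation.liftKaehlerDifferential_comp_D, hDB, hsmul] at hL
  have := congrFun hL j
  simpa [Finset.sum_apply, Pi.single_apply] using this

theorem mk_X_mem_ker (i : Fin n) :
    Ideal.Quotient.mk (J x σ) (X i) ∈ RingHom.ker (ε x σ hσ) := by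
  rw [RingHom.mem_ker]
  exact ε_mk_X x σ hσ i

theorem adjoin_eq_top (hx : Algebra.adjoin R (Set.range x) = ⊤) :
    Algebra.adjoin R (Set.range (fun i => algebraMap A (B x σ) (x i)) ∪
      Set.range (fun i => Ideal.Quotient.mk (J x σ) (X i))) = ⊤ := by
  set 𝒮 := Algebra.adjoin R (Set.range (fun i => algebraMap A (B x σ) (x i)) ∪
      Set.range (fun i => Ideal.Quotient.mk (J x σ) (X i))) with h𝒮
  have hA : ∀ a : A, algebraMap A (B x σ) a ∈ 𝒮 := by
    intro a
    have ha : a ∈ Algebra.adjoin R (Set.range x) := by rw [hx]; trivial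
    induction ha using Algebra.adjoin_induction with
    | mem a ha =>
      obtain ⟨i, rfl⟩ := ha
      exact Algebra.subset_adjoin (Or.inl ⟨i, rfl⟩)
    | algebraMap r =>
      rw [← IsScalarTower.algebraMap_apply R A (B x σ)]
      exact Subalgebra.algebraMap_mem _ r
    | add a b _ _ ha hb => rw [map_add]; exact Subalgebra.add_mem _ ha hb
    | mul a b _ _ ha hb => rw [map_mul]; exact Subalgebra.mul_mem _ ha hb
  have hP : ∀ p : MvPolynomial (Fin n) A, Ideal.Quotient.mk (J x σ) p ∈ 𝒮 := by
    intro p
    induction p using MvPolynomial.induction_on with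
    | C a => exact hA a
    | add p q hp hq => rw [map_add]; exact Subalgebra.add_mem _ hp hq
    | mul_X p i hp =>
      rw [map_mul]
      exact Subalgebra.mul_mem _ hp (Algebra.subset_adjoin (Or.inr ⟨i, rfl⟩))
  rw [eq_top_iff]
  intro b _
  obtain ⟨p, rfl⟩ := Ideal.Quotient.mk_surjective b
  exact hP p

theorem mk_gen (i : Fin n) :
    ∑ j, algebraMap A (B x σ) (Mx x σ i j) * Ideal.Quotient.mk (J x σ) (X j) = 0 := by
  have h := Ideal.Quotient.eq_zero_iff_mem.mpr (gen_mem x σ i)
  rw [gen, map_sum] at h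
  rw [← h]
  refine Finset.sum_congr rfl fun j _ => ?_
  rw [map_mul]
  rfl

theorem gen_span (hx : Algebra.adjoin R (Set.range x) = ⊤) :
    Submodule.span (B x σ) (Set.range fun j => D R (B x σ) (t x σ j)) ⊔
      (RingHom.ker (ε x σ hσ)) • (⊤ : Submodule (B x σ) Ω[B x σ⁄R]) = ⊤ := by
  classical
  set S := Submodule.span (B x σ) (Set.range fun j => D R (B x σ) (t x σ j)) ⊔
      (RingHom.ker (ε x σ hσ)) • (⊤ : Submodule (B x σ) Ω[B x σ⁄R]) with hS
  have hI : ∀ (b : B x σ) (ω : Ω[B x σ⁄R]), b ∈ RingHom.ker (ε x σ hσ) → b • ω ∈ S :=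
    fun b ω hb => Submodule.mem_sup_right (Submodule.smul_mem_smul hb Submodule.mem_top)
  have ht : ∀ j, D R (B x σ) (t x σ j) ∈ S := fun j =>
    Submodule.mem_sup_left (Submodule.subset_span ⟨j, rfl⟩)
  -- Fact A
  have hA : ∀ i, D R (B x σ) (algebraMap A (B x σ) (x i)) =
      ∑ j, algebraMap A (B x σ) (Mx x σ i j) • D R (B x σ) (algebraMap A (B x σ) (x j)) := by
    intro i
    have h1 := congrArg (KaehlerDifferential.map R R A (B x σ)) (hσ (D R A (x i)))
    rw [map_sum] at h1
    simp only [map_smul, KaehlerDifferential.map_D] at h1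
    rw [← h1]
    refine Finset.sum_congr rfl fun j _ => ?_
    exact (algebraMap_smul (B x σ) (Mx x σ i j)
      (D R (B x σ) (algebraMap A (B x σ) (x j)))).symm
  -- Fact B
  have hB : ∀ i, ∑ j, algebraMap A (B x σ) (Mx x σ i j) •
      D R (B x σ) (Ideal.Quotient.mk (J x σ) (X j)) ∈ S := by
    intro i
    have h1 := congrArg (D R (B x σ)) (mk_gen x σ i)
    rw [map_sum, map_zero] at h1
    simp only [Derivation.leibniz] at h1
    rw [Finset.sum_add_distrib] at h1
    rw [eq_neg_of_add_eq_zero_left h1]
    refine S.neg_mem (S.sum_mem fun j _ => ?_)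
    exact hI _ _ (mk_X_mem_ker x σ hσ j)
  have hxS : ∀ i, D R (B x σ) (algebraMap A (B x σ) (x i)) ∈ S := by
    intro i
    have h1 : D R (B x σ) (algebraMap A (B x σ) (x i)) =
        ∑ j, algebraMap A (B x σ) (Mx x σ i j) • D R (B x σ) (t x σ j) -
        ∑ j, algebraMap A (B x σ) (Mx x σ i j) •
          D R (B x σ) (Ideal.Quotient.mk (J x σ) (X j)) := by
      rw [← Finset.sum_sub_distrib]
      conv_lhs => rw [hA i]
      refine Finset.sum_congr rfl fun j _ => ?_
      have h3 : ∀ (c : B x σ) (u v : Ω[B x σ⁄R]), c • u = c • (u + v) - c • v :=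
        fun c u v => eq_sub_of_add_eq (_root_.smul_add c u v).symm
      rw [t, map_add]
      exact h3 _ _ _
    rw [h1]
    exact S.sub_mem (S.sum_mem fun j _ => S.smul_mem _ (ht j)) (hB i)
  apply span_eq_top_of_adjoin S _ (adjoin_eq_top x σ hx)
  rintro s (⟨i, rfl⟩ | ⟨i, rfl⟩)
  · exact hxS i
  · have : D R (B x σ) (Ideal.Quotient.mk (J x σ) (X i)) =
        D R (B x σ) (t x σ i) - D R (B x σ) (algebraMap A (B x σ) (x i)) := by
      rw [t, map_add, add_sub_cancel_left]
    rw [this]
    exact S.sub_mem (ht i) (hxS i)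

end Construction


section Main

variable (R A : Type u) [CommRing R] [CommRing A] [Algebra R A] [Algebra.Smooth R A]

theorem main :
    ∃ (B' : Type u) (_ : CommRing B') (_ : Algebra R B') (_ : Algebra A B')
      (_ : IsScalarTower R A B'),
      Algebra.Smooth A B' ∧ Nonempty (B' →ₐ[A] A) ∧ Algebra.IsStandardSmooth R B' := by
  classical
  obtain ⟨n, f, hf⟩ := Algebra.FiniteType.iff_quotient_mvPolynomial''.mp
    (inferInstance : Algebra.FiniteType R A)
  set x : Fin n → A := fun i => f (X i) with hxdef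
  have hx : Algebra.adjoin R (Set.range x) = ⊤ := by
    rw [Algebra.adjoin_range_eq_range_aeval]
    have : (aeval x : MvPolynomial (Fin n) R →ₐ[R] A) = f := by
      apply MvPolynomial.algHom_ext
      intro i
      simp [hxdef]
    rw [this]
    exact (AlgHom.range_eq_top f).mpr hf
  -- the surjection onto Ω
  let π : (Fin n → A) →ₗ[A] Ω[A⁄R] := Fintype.linearCombination A (fun j => D R A (x j))
  have hπ : Function.Surjective π := by
    rw [← LinearMap.range_eq_top, Fintype.range_linearCombination]
    apply span_eq_top_of_adjoin _ (Set.range x) hx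
    rintro _ ⟨i, rfl⟩
    exact Submodule.subset_span ⟨i, rfl⟩
  obtain ⟨σ, hσ'⟩ := Module.projective_lifting_property π LinearMap.id hπ
  have hσ : ∀ ω : Ω[A⁄R], ∑ j, σ ω j • D R A (x j) = ω := fun ω => by
    have := congrArg (fun g => g ω) hσ'
    simpa [π, Fintype.linearCombination_apply] using this
  -- the ring B₀
  haveI : Algebra.Smooth A (B x σ) := smooth_B x σ hσ
  haveI : Algebra.Smooth R (B x σ) := Algebra.Smooth.comp R A (B x σ)
  obtain ⟨h, hh, hgen, hind⟩ := BasisAway.main (RingHom.ker (ε x σ hσ))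
    (fun j => D R (B x σ) (t x σ j)) (gen_span x σ hσ hx)
    (fun k hk j => (RingHom.mem_ker).mpr (indep x σ hσ k hk j))
  have hεh : ε x σ hσ h = 1 := by
    have := (RingHom.mem_ker).mp hh
    rw [map_sub, map_one, sub_eq_zero] at this
    exact this
  let B' := Localization.Away h
  haveI : Algebra.Smooth (B x σ) B' := Algebra.Smooth.of_isLocalization_Away h
  haveI : Algebra.Smooth A B' := Algebra.Smooth.comp A (B x σ) B'
  haveI : Algebra.Smooth R B' := Algebra.Smooth.comp R (B x σ) B'
  refine ⟨B', inferInstance, inferInstance, inferInstance, inferInstance, inferInstance, ?_, ?_⟩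
  · refine ⟨IsLocalization.liftAlgHom (M := Submonoid.powers h) (f := ε x σ hσ) ?_⟩
    rintro ⟨_, k, rfl⟩
    rw [map_pow, hεh, one_pow]
    exact isUnit_one
  · -- standard smooth
    let mp : Ω[B x σ⁄R] →ₗ[B x σ] Ω[B'⁄R] := KaehlerDifferential.map R R (B x σ) B'
    haveI : IsLocalizedModule (Submonoid.powers h) mp :=
      KaehlerDifferential.isLocalizedModule_map R (B x σ) B' (Submonoid.powers h)
    let v : Fin n → Ω[B'⁄R] := fun j => D R B' (algebraMap (B x σ) B' (t x σ j))
    have hv : ∀ j, v j = mp (D R (B x σ) (t x σ j)) := fun j =>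
      (KaehlerDifferential.map_D R R (B x σ) B' _).symm
    have hunit : ∀ c ∈ Submonoid.powers h, IsUnit (algebraMap (B x σ) B' c) := fun c hc =>
      IsLocalization.map_units B' (⟨c, hc⟩ : Submonoid.powers h)
    have hhunit : IsUnit (algebraMap (B x σ) B' h) := hunit h (Submonoid.mem_powers h)
    have hmp_smul : ∀ (c : B x σ) (ω : Ω[B x σ⁄R]), mp (c • ω) = algebraMap (B x σ) B' c • mp ω :=
      fun c ω => by rw [map_smul, algebraMap_smul]
    have hspan : ⊤ ≤ Submodule.span B' (Set.range v) := by
      intro ω' _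
      obtain ⟨⟨ω, s⟩, hs⟩ := IsLocalizedModule.surj (Submonoid.powers h) mp ω'
      have h1 : mp (h • ω) ∈ Submodule.span B' (Set.range v) := by
        have h2 := hgen ω
        have h3 : Submodule.span (B x σ) (Set.range fun j => D R (B x σ) (t x σ j)) ≤
            Submodule.comap mp ((Submodule.span B' (Set.range v)).restrictScalars (B x σ)) := by
          rw [Submodule.span_le]
          rintro _ ⟨j, rfl⟩
          change mp _ ∈ Submodule.span B' (Set.range v)
          rw [← hv]
          exact Submodule.subset_span ⟨j, rfl⟩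
        exact h3 h2
      have hs' : mp ω = algebraMap (B x σ) B' s • ω' := by
        rw [algebraMap_smul]
        exact hs.symm
      have h4 : mp (h • ω) = (algebraMap (B x σ) B' h * algebraMap (B x σ) B' s) • ω' := by
        rw [hmp_smul, hs']
        exact aux_smul _ _ _
      rw [h4] at h1
      exact (Submodule.smul_mem_iff_of_isUnit _ (hhunit.mul (hunit s s.2))).mp h1
    have hli : LinearIndependent B' v := by
      rw [Fintype.linearIndependent_iff]
      intro g hg j
      obtain ⟨b, hb⟩ := IsLocalization.exist_integer_multiples_of_finite (Submonoid.powers h) g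
      choose k hk using hb
      set β : B' := algebraMap (B x σ) B' (b : B x σ) with hβ
      have hβu : IsUnit β := hunit b b.2
      have hk' : ∀ i, algebraMap (B x σ) B' (k i) = β * g i := fun i => by
        rw [hk i, Algebra.smul_def]
      have h1 : mp (∑ j, k j • D R (B x σ) (t x σ j)) = 0 := by
        rw [map_sum]
        have : ∀ j, mp (k j • D R (B x σ) (t x σ j)) = (β * g j) • v j := fun j => by
          rw [hmp_smul, hk', hv]
        rw [Finset.sum_congr rfl (fun j _ => this j)]
        exact aux_sum β g v hg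
      obtain ⟨c, hc⟩ := (IsLocalizedModule.eq_zero_iff (Submonoid.powers h) mp).mp h1
      have h2 : ∑ j, ((c : B x σ) * k j) • D R (B x σ) (t x σ j) = 0 := by
        rw [aux_sum' (c : B x σ) k (fun j => D R (B x σ) (t x σ j))]
        exact hc
      have h3 := hind _ h2 j
      have h4 : β * g j = 0 := by
        rw [← hk']
        have := congrArg (algebraMap (B x σ) B') h3
        rw [map_mul, map_mul, map_zero] at this
        have hu : IsUnit (algebraMap (B x σ) B' h * algebraMap (B x σ) B' c) :=
          hhunit.mul (hunit c c.2)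
        rw [← mul_assoc] at this
        exact (hu.mul_right_eq_zero).mp this
      exact (hβu.mul_right_eq_zero).mp h4
    let bas : Module.Basis (Fin n) B' Ω[B'⁄R] := Module.Basis.mk hli hspan
    refine Algebra.IsStandardSmooth.of_basis_kaehlerDifferential bas ?_
    rintro _ ⟨j, rfl⟩
    exact ⟨algebraMap (B x σ) B' (t x σ j), by simp [bas, v]⟩

end Main

end Groth.Agent.H11.SymRetract
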