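import Mathlib
import Groth.Agent.H11.SymRetract

/-! Sections of smooth algebras modulo an ideal lift étale locally around the section. -/

namespace Groth.Agent.H11.EtSection

open TensorProduct MvPolynomial

universe u

/-- Standard smooth case: factor the section through an étale algebra. -/
theorem exists_etale_factor (R : Type u) [CommRing R] (B : Type u) [CommRing B]
    [Algebra R B] [Algebra.IsStandardSmooth R B] (A : Type u) [CommRing A] [Algebra R A]
    (I : Ideal A) (σ : B →ₐ[R] A ⧸ I) :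
    ∃ (A' : Type u) (_ : CommRing A') (_ : Algebra A A') (_ : Algebra.Etale A A')
      (s : A' →ₐ[A] A ⧸ I) (j : B →+* A'),
      (∀ r, j (algebraMap R B r) = algebraMap A A' (algebraMap R A r)) ∧ ∀ b, s (j b) = σ b := by
  classical
  obtain ⟨n, g, hgC, hg⟩ := RingHom.IsStandardSmooth.exists_etale_mvPolynomial
    (RingHom.isStandardSmooth_algebraMap.mpr (inferInstance : Algebra.IsStandardSmooth R B))
  choose a ha using fun i : Fin n => Ideal.Quotient.mk_surjective (σ (g (X i)))
  let ψ : MvPolynomial (Fin n) R →ₐ[R] A := aeval a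
  have hψ : ∀ p, Ideal.Quotient.mk I (ψ p) = σ (g p) := by
    intro p
    induction p using MvPolynomial.induction_on with
    | C r =>
      have h1 : g (C r) = algebraMap R B r := by rw [← hgC]; rfl
      rw [h1, AlgHom.commutes]
      simp [ψ]
    | add p q hp hq => simp only [map_add, hp, hq]
    | mul_X p i hp =>
      simp only [map_mul, hp]
      congr 1
      simp [ψ, ha]
  letI algPB : Algebra (MvPolynomial (Fin n) R) B := g.toAlgebra
  letI algPA : Algebra (MvPolynomial (Fin n) R) A := ψ.toRingHom.toAlgebra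
  haveI : Algebra.Etale (MvPolynomial (Fin n) R) B := hg
  let A' := A ⊗[MvPolynomial (Fin n) R] B
  let σP : B →ₐ[MvPolynomial (Fin n) R] A ⧸ I :=
    { σ.toRingHom with
      commutes' := fun p => by
        change σ (g p) = Ideal.Quotient.mk I (ψ p)
        exact (hψ p).symm }
  let s : A' →ₐ[A] A ⧸ I :=
    Algebra.TensorProduct.lift (Ideal.Quotient.mkₐ A I) σP (fun _ _ => Commute.all _ _)
  let inc : B →+* A' := (Algebra.TensorProduct.includeRight :
    B →ₐ[MvPolynomial (Fin n) R] A').toRingHom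
  refine ⟨A', inferInstance, inferInstance, inferInstance, s, inc, ?_, ?_⟩
  · intro r
    change (1 : A) ⊗ₜ[MvPolynomial (Fin n) R] (algebraMap R B r) = _
    have h1 : algebraMap R B r = algebraMap (MvPolynomial (Fin n) R) B (C r) := by
      change _ = g (C r)
      rw [← hgC]; rfl
    have e1 : algebraMap (MvPolynomial (Fin n) R) B (C r) =
        (C r : MvPolynomial (Fin n) R) • (1 : B) := Algebra.algebraMap_eq_smul_one _
    have e2 : (C r : MvPolynomial (Fin n) R) • (1 : A) = algebraMap R A r := by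
      rw [Algebra.smul_def, mul_one]
      change ψ (C r) = _
      simp [ψ]
    rw [h1, e1, ← TensorProduct.smul_tmul, e2, Algebra.TensorProduct.algebraMap_apply]
    rfl
  · intro b
    change s ((1 : A) ⊗ₜ[MvPolynomial (Fin n) R] b) = σ b
    have hs : s ((1 : A) ⊗ₜ[MvPolynomial (Fin n) R] b) =
        (Ideal.Quotient.mkₐ A I) 1 * σP b := Algebra.TensorProduct.lift_tmul _ _ _ _ _
    rw [hs, map_one, one_mul]
    rfl

/-- For an étale algebra with a section modulo `I`, an element cutting out the section. -/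
theorem exists_cut (A : Type u) [CommRing A] (I : Ideal A) (A₁ : Type u) [CommRing A₁]
    [Algebra A A₁] [Algebra.Etale A A₁] (s : A₁ →ₐ[A] A ⧸ I) :
    ∃ f : A₁, s f = 1 ∧ ∀ x : A₁, s x = 0 → f * x ∈ I.map (algebraMap A A₁) := by
  classical
  obtain ⟨e, he, hsp⟩ : ∃ e, IsIdempotentElem e ∧
      KaehlerDifferential.ideal A A₁ = Ideal.span {e} :=
    (Ideal.isIdempotentElem_iff_of_fg _ (KaehlerDifferential.ideal_fg A A₁)).mp <|
      (Ideal.cotangent_subsingleton_iff _).mp <| inferInstanceAs <| Subsingleton Ω[A₁⁄A]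
  let IA : Ideal A₁ := I.map (algebraMap A A₁)
  -- the ring hom A/I → A₁/IA₁
  let q : A ⧸ I →ₐ[A] A₁ ⧸ IA := IsScalarTower.toAlgHom A (A ⧸ I) (A₁ ⧸ IA)
  have hq : ∀ a, q (Ideal.Quotient.mk I a) = Ideal.Quotient.mk IA (algebraMap A A₁ a) :=
    fun a => rfl
  let θ : A₁ ⊗[A] A₁ →ₐ[A] A₁ ⧸ IA :=
    Algebra.TensorProduct.lift (q.comp s) (Ideal.Quotient.mkₐ A IA) (fun _ _ => Commute.all _ _)
  have hθ : ∀ x y, θ (x ⊗ₜ y) = q (s x) * Ideal.Quotient.mk IA y := fun x y =>
    Algebra.TensorProduct.lift_tmul _ _ _ _ _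
  -- s̄
  have hIA : ∀ z ∈ IA, s z = 0 := by
    intro z hz
    have : IA ≤ RingHom.ker (s : A₁ →+* A ⧸ I) := by
      rw [Ideal.map_le_iff_le_comap]
      intro i hi
      rw [Ideal.mem_comap, RingHom.mem_ker]
      change s (algebraMap A A₁ i) = 0
      rw [AlgHom.commutes]
      exact Ideal.Quotient.eq_zero_iff_mem.mpr hi
    exact this hz
  let sbar : A₁ ⧸ IA →+* A ⧸ I := Ideal.Quotient.lift IA (s : A₁ →+* A ⧸ I) hIA
  have hsbar : ∀ y, sbar (Ideal.Quotient.mk IA y) = s y := fun y => rfl
  have hsq : ∀ z, sbar (q z) = z := by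
    intro z
    obtain ⟨a, rfl⟩ := Ideal.Quotient.mk_surjective z
    rw [hq, hsbar, AlgHom.commutes]
    rfl
  let μ : A₁ ⊗[A] A₁ →ₐ[A] A₁ := Algebra.TensorProduct.lmul' A
  have hcomp : ∀ z, sbar (θ z) = s (μ z) := by
    intro z
    induction z using TensorProduct.induction_on with
    | zero => simp
    | tmul x y =>
      rw [hθ, map_mul, hsq, hsbar]
      change _ = s (x * y)
      rw [map_mul]
    | add z w hz hw => simp only [map_add, hz, hw]
  have hμe : μ e = 0 := by
    have : e ∈ KaehlerDifferential.ideal A A₁ := by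
      rw [hsp]; exact Ideal.mem_span_singleton_self e
    exact this
  obtain ⟨f, hf⟩ := Ideal.Quotient.mk_surjective (θ (1 - e))
  refine ⟨f, ?_, ?_⟩
  · rw [← hsbar, hf, hcomp, map_sub, hμe, sub_zero, map_one, map_one]
  · intro x hx
    rw [← Ideal.Quotient.eq_zero_iff_mem, map_mul, hf]
    have h1 : (1 : A₁) ⊗ₜ[A] x - x ⊗ₜ[A] (1 : A₁) ∈ KaehlerDifferential.ideal A A₁ := by
      change μ _ = 0
      simp [μ]
    rw [hsp, Ideal.mem_span_singleton'] at h1
    obtain ⟨c, hc⟩ := h1
    have h2 : (1 - e) * ((1 : A₁) ⊗ₜ[A] x) = (1 - e) * (x ⊗ₜ[A] (1 : A₁)) := by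
      rw [← sub_eq_zero, ← mul_sub, ← hc]
      have : (1 - e) * (c * e) = c * (e - e * e) := by ring
      rw [this, he.eq, sub_self, mul_zero]
    have h3 : Ideal.Quotient.mk IA x = θ ((1 : A₁) ⊗ₜ[A] x) := by
      rw [hθ, map_one, map_one, one_mul]
    rw [h3, ← map_mul, h2, map_mul, hθ, hx, map_zero, zero_mul, mul_zero]


/-- The étale localization around a section. -/
theorem main {A B : Type u} [CommRing A] [CommRing B] [Algebra A B]
    [Algebra.Smooth A B] (I : Ideal A) (σ : B →ₐ[A] A ⧸ I) :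
    ∃ (A' : Type u) (_ : CommRing A') (_ : Algebra A A'), Algebra.Etale A A' ∧
      Function.Bijective (algebraMap (A ⧸ I) (A' ⧸ I.map (algebraMap A A'))) ∧
      ∃ τ : B →ₐ[A] A', ∀ b : B,
        Ideal.Quotient.mk (I.map (algebraMap A A')) (τ b) =
          algebraMap (A ⧸ I) (A' ⧸ I.map (algebraMap A A')) (σ b) := by
  classical
  obtain ⟨B₁, _, _, _, _, _, ⟨ρ⟩, _⟩ := Groth.Agent.H11.SymRetract.main A B
  obtain ⟨A₁, _, _, _, s, j, hjA, hsj⟩ :=
    exists_etale_factor A B₁ A I (σ.comp (ρ.restrictScalars A))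
  obtain ⟨f, hsf, hcut⟩ := exists_cut A I A₁ s
  let A' := Localization.Away f
  haveI : Algebra.Etale A₁ A' := Algebra.Etale.of_isLocalizationAway f
  haveI : Algebra.Etale A A' := Algebra.Etale.comp A A₁ A'
  let IA' : Ideal A' := I.map (algebraMap A A')
  have hfu : IsUnit (algebraMap A₁ A' f) := IsLocalization.Away.algebraMap_isUnit f
  -- key congruence
  have hmapI : ∀ z ∈ I.map (algebraMap A A₁), algebraMap A₁ A' z ∈ IA' := by
    intro z hz
    have : (I.map (algebraMap A A₁)).map (algebraMap A₁ A') = IA' := by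
      rw [Ideal.map_map, ← IsScalarTower.algebraMap_eq]
    rw [← this]
    exact Ideal.mem_map_of_mem _ hz
  have hcong : ∀ (y : A₁) (a : A), s y = Ideal.Quotient.mk I a →
      algebraMap A₁ A' y - algebraMap A A' a ∈ IA' := by
    intro y a hya
    have h1 : s (y - algebraMap A A₁ a) = 0 := by
      rw [map_sub, hya, AlgHom.commutes]
      exact sub_self _
    have h2 := hmapI _ (hcut _ h1)
    rw [map_mul] at h2
    have h3 : algebraMap A₁ A' (y - algebraMap A A₁ a) ∈ IA' := by
      obtain ⟨u, hu⟩ := hfu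
      have := IA'.mul_mem_left (↑u⁻¹ : A') h2
      rwa [← hu, ← mul_assoc, Units.inv_mul, one_mul] at this
    rwa [map_sub, ← IsScalarTower.algebraMap_apply] at h3
  -- the section on A'
  let s' : A' →+* A ⧸ I := IsLocalization.Away.lift f (g := (s : A₁ →+* A ⧸ I))
    (by change IsUnit (s f); rw [hsf]; exact isUnit_one)
  have hs' : ∀ y, s' (algebraMap A₁ A' y) = s y := fun y => IsLocalization.Away.lift_eq f _ y
  have hs'A : ∀ a, s' (algebraMap A A' a) = Ideal.Quotient.mk I a := fun a => by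
    rw [IsScalarTower.algebraMap_apply A A₁ A', hs', AlgHom.commutes]
    rfl
  have hs'I : ∀ z ∈ IA', s' z = 0 := by
    intro z hz
    have : IA' ≤ RingHom.ker s' := by
      rw [Ideal.map_le_iff_le_comap]
      intro i hi
      rw [Ideal.mem_comap, RingHom.mem_ker, hs'A]
      exact Ideal.Quotient.eq_zero_iff_mem.mpr hi
    exact this hz
  refine ⟨A', inferInstance, inferInstance, inferInstance, ⟨?_, ?_⟩, ?_⟩
  · -- injective
    rw [injective_iff_map_eq_zero]
    intro z hz
    obtain ⟨a, rfl⟩ := Ideal.Quotient.mk_surjective z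
    change Ideal.Quotient.mk IA' (algebraMap A A' a) = 0 at hz
    rw [Ideal.Quotient.eq_zero_iff_mem] at hz
    rw [← hs'A]
    exact hs'I _ hz
  · -- surjective
    intro z
    obtain ⟨z, rfl⟩ := Ideal.Quotient.mk_surjective z
    obtain ⟨m, y, hz⟩ := IsLocalization.Away.surj f z
    -- z * f^m = y
    obtain ⟨a, ha⟩ := Ideal.Quotient.mk_surjective (s y)
    refine ⟨Ideal.Quotient.mk I a, ?_⟩
    change Ideal.Quotient.mk IA' (algebraMap A A' a) = Ideal.Quotient.mk IA' z
    have h1 : Ideal.Quotient.mk IA' (algebraMap A₁ A' f) = 1 := by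
      have := hcong f 1 (by rw [hsf, map_one])
      rw [map_one] at this
      rw [← map_one (Ideal.Quotient.mk IA'), Ideal.Quotient.eq]
      exact this
    have h2 : Ideal.Quotient.mk IA' (algebraMap A₁ A' y) =
        Ideal.Quotient.mk IA' (algebraMap A A' a) := by
      rw [Ideal.Quotient.eq]
      exact hcong y a ha.symm
    rw [← h2, ← hz, map_mul, map_pow, h1, one_pow, mul_one]
  · -- the lift
    let τ : B →ₐ[A] A' :=
      { toRingHom := (algebraMap A₁ A').comp (j.comp (algebraMap B B₁))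
        commutes' := fun a => by
          change algebraMap A₁ A' (j (algebraMap B B₁ (algebraMap A B a))) = _
          rw [← IsScalarTower.algebraMap_apply A B B₁, hjA]
          change algebraMap A₁ A' (algebraMap A A₁ a) = _
          rw [← IsScalarTower.algebraMap_apply] }
    refine ⟨τ, fun b => ?_⟩
    obtain ⟨a, ha⟩ := Ideal.Quotient.mk_surjective (σ b)
    rw [← ha]
    change Ideal.Quotient.mk IA' (algebraMap A₁ A' (j (algebraMap B B₁ b))) =
      Ideal.Quotient.mk IA' (algebraMap A A' a)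
    rw [Ideal.Quotient.eq]
    apply hcong
    rw [hsj, ha]
    change σ (ρ (algebraMap B B₁ b)) = σ b
    rw [AlgHom.commutes]
    rfl

end Groth.Agent.H11.EtSection
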