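import Mathlib

open TensorProduct

namespace Groth.Agent.H11.EtNorm

/-- A reduced artinian ring with only trivial idempotents is a field. -/
theorem isField_of_trivial_idempotents (T : Type*) [CommRing T] [IsArtinianRing T] [IsReduced T]
    [Nontrivial T] (h : ∀ e : T, IsIdempotentElem e → e = 0 ∨ e = 1) : IsField T := by
  refine ⟨exists_pair_ne T, mul_comm, ?_⟩
  intro x hx
  obtain ⟨n, y, hy⟩ := IsArtinian.exists_pow_succ_smul_dvd x (1 : T)
  rw [smul_eq_mul, smul_eq_mul, mul_one, pow_succ] at hy
  have key : x ^ n * (1 - x * y) = 0 := by rw [mul_sub, mul_one, ← mul_assoc, hy, sub_self]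
  have h2 : x * (1 - x * y) = 0 := by
    cases n with
    | zero =>
      rw [pow_zero, one_mul] at key
      rw [key, mul_zero]
    | succ m =>
      apply IsReduced.eq_zero
      refine ⟨m + 1, ?_⟩
      rw [mul_pow, pow_succ (1 - x * y), ← mul_assoc, mul_comm (x ^ (m + 1)), mul_assoc, key,
        mul_zero]
  have hidem : IsIdempotentElem (x * y) := by
    have : x = x * x * y := by
      rw [mul_sub, mul_one, sub_eq_zero] at h2
      rw [mul_assoc]
      exact h2
    show x * y * (x * y) = x * y
    calc x * y * (x * y) = (x * x * y) * y := by ring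
      _ = x * y := by rw [← this]
  rcases h _ hidem with h0 | h1'
  · exfalso
    apply hx
    rw [h0, sub_zero, mul_one] at h2
    exact h2
  · exact ⟨y, h1'⟩


/-- A smooth algebra over an integrally closed domain is integrally closed in its generic
fibre. -/
theorem isIntegrallyClosedIn_tensor (R A F : Type*) [CommRing R] [IsDomain R]
    [IsIntegrallyClosed R] [Field F] [Algebra R F] [IsFractionRing R F] [CommRing A]
    [Algebra R A] [Algebra.Smooth R A] : IsIntegrallyClosedIn A (A ⊗[R] F) := by
  rw [isIntegrallyClosedIn_iff]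
  haveI : Module.Flat R A := inferInstance
  refine ⟨Algebra.TensorProduct.includeLeft_injective (S := A) (IsFractionRing.injective R F),
    fun {x} hx => ?_⟩
  obtain ⟨z, hz⟩ := (TensorProduct.toIntegralClosure_bijective_of_smooth (R := R) (S := A)
    (B := F)).2 ⟨x, hx⟩
  have key : ∀ z : A ⊗[R] integralClosure R F, ∃ a : A,
      ((TensorProduct.toIntegralClosure R A F z : integralClosure A (A ⊗[R] F)) : A ⊗[R] F) =
        algebraMap A (A ⊗[R] F) a := by
    intro z
    induction z using TensorProduct.induction_on with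
    | zero => exact ⟨0, by rw [map_zero, map_zero]; rfl⟩
    | tmul a y =>
      obtain ⟨r, hr⟩ := (IsIntegrallyClosed.isIntegral_iff (R := R) (K := F)).1 y.2
      refine ⟨r • a, ?_⟩
      show a ⊗ₜ[R] (y : F) = (r • a) ⊗ₜ[R] (1 : F)
      rw [← hr, TensorProduct.smul_tmul, Algebra.smul_def, mul_one]
    | add z₁ z₂ h₁ h₂ =>
      obtain ⟨a₁, ha₁⟩ := h₁
      obtain ⟨a₂, ha₂⟩ := h₂
      refine ⟨a₁ + a₂, ?_⟩
      rw [map_add, map_add, ← ha₁, ← ha₂]
      rfl
  obtain ⟨a, ha⟩ := key z
  refine ⟨a, ?_⟩
  rw [← ha, hz]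


/-- Being integrally closed in an algebra is preserved by localization. -/
theorem isIntegrallyClosedIn_localization (A B : Type*) [CommRing A] [CommRing B] [Algebra A B]
    [IsIntegrallyClosedIn A B] (M : Submonoid A) (Aₘ Bₘ : Type*) [CommRing Aₘ] [CommRing Bₘ]
    [Algebra A Aₘ] [IsLocalization M Aₘ] [Algebra B Bₘ]
    [IsLocalization (Algebra.algebraMapSubmonoid B M) Bₘ] [Algebra Aₘ Bₘ] [Algebra A Bₘ]
    [IsScalarTower A Aₘ Bₘ] [IsScalarTower A B Bₘ] : IsIntegrallyClosedIn Aₘ Bₘ := by
  have hinjAB : Function.Injective (algebraMap A B) := IsIntegralClosure.algebraMap_injective A A B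
  rw [isIntegrallyClosedIn_iff]
  constructor
  · rw [injective_iff_map_eq_zero]
    intro x hx
    obtain ⟨a, s, rfl⟩ := IsLocalization.exists_mk'_eq M x
    have h1 : algebraMap Aₘ Bₘ (algebraMap A Aₘ a) = 0 := by
      have := congrArg (fun t => algebraMap Aₘ Bₘ (algebraMap A Aₘ s) * t) hx
      simp only [mul_zero] at this
      rw [← map_mul, mul_comm, IsLocalization.mk'_spec] at this
      exact this
    rw [← IsScalarTower.algebraMap_apply, IsScalarTower.algebraMap_apply A B Bₘ,
      IsLocalization.map_eq_zero_iff (Algebra.algebraMapSubmonoid B M)] at h1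
    obtain ⟨⟨_, m, hm, rfl⟩, hm0⟩ := h1
    rw [← map_mul] at hm0
    have hm1 : m * a = 0 := hinjAB (by rw [hm0, map_zero])
    rw [IsLocalization.mk'_eq_zero_iff]
    exact ⟨⟨m, hm⟩, hm1⟩
  · intro y hy
    obtain ⟨⟨z, ⟨_, s, hs, rfl⟩⟩, hyz⟩ :=
      IsLocalization.surj (Algebra.algebraMapSubmonoid B M) y
    replace hyz : y * algebraMap A Bₘ s = algebraMap B Bₘ z := by
      rw [IsScalarTower.algebraMap_apply A B Bₘ]
      exact hyz
    obtain ⟨⟨m, hm⟩, hmint⟩ :=
      IsIntegral.exists_multiple_integral_of_isLocalization M y hy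
    replace hmint : IsIntegral A (algebraMap A Bₘ m * y) := by
      rw [Submonoid.smul_def, Algebra.smul_def] at hmint
      exact hmint
    have h2 : IsIntegral A (algebraMap B Bₘ (m • z)) := by
      have e : algebraMap B Bₘ (m • z) = algebraMap A Bₘ s * (algebraMap A Bₘ m * y) := by
        rw [Algebra.smul_def, map_mul, ← IsScalarTower.algebraMap_apply, ← hyz]
        ring
      rw [e]
      exact (isIntegral_algebraMap).mul hmint
    obtain ⟨m', hm', hint'⟩ := IsLocalization.exists_isIntegral_smul_of_isIntegral_map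
      (Sₘ := Bₘ) M (x := m • z) h2
    obtain ⟨a, ha⟩ := (IsIntegrallyClosedIn.isIntegral_iff (R := A) (A := B)).1 hint'
    obtain ⟨t, ht⟩ : ∃ t : M, (t : A) = m' * m * s :=
      ⟨⟨m' * m * s, M.mul_mem (M.mul_mem hm' hm) hs⟩, rfl⟩
    refine ⟨IsLocalization.mk' Aₘ a t, ?_⟩
    have hunit : IsUnit (algebraMap A Bₘ (t : A)) := by
      rw [IsScalarTower.algebraMap_apply A Aₘ Bₘ]
      exact (IsLocalization.map_units Aₘ t).map _
    apply hunit.mul_left_cancel
    have e3 : algebraMap A Bₘ (t : A) * algebraMap Aₘ Bₘ (IsLocalization.mk' Aₘ a t) =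
        algebraMap A Bₘ a := by
      rw [IsScalarTower.algebraMap_apply A Aₘ Bₘ, ← map_mul, mul_comm, IsLocalization.mk'_spec,
        ← IsScalarTower.algebraMap_apply]
    rw [e3, IsScalarTower.algebraMap_apply A B Bₘ, ha, Algebra.smul_def, Algebra.smul_def,
      map_mul, map_mul, ← IsScalarTower.algebraMap_apply, ← IsScalarTower.algebraMap_apply,
      ← hyz, ht, map_mul, map_mul]
    ring


theorem idempotent_of_isLocalRing {L : Type*} [CommRing L] [IsLocalRing L] (e : L)
    (he : IsIdempotentElem e) : e = 0 ∨ e = 1 := by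
  have h0 : e * (1 - e) = 0 := by rw [mul_sub, mul_one, he.eq, sub_self]
  rcases IsLocalRing.isUnit_or_isUnit_one_sub_self e with h | h
  · right
    have := (h.mul_right_eq_zero).1 h0
    exact (sub_eq_zero.1 this).symm
  · left
    exact (h.mul_left_eq_zero).1 h0

/-- The generic fibre of an étale algebra over a domain is artinian and reduced. -/
theorem generic_fibre_props (R A F : Type*) [CommRing R] [Field F] [Algebra R F] [CommRing A]
    [Algebra R A] [Algebra.Etale R A] : IsArtinianRing (A ⊗[R] F) ∧ IsReduced (A ⊗[R] F) := by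
  obtain ⟨e⟩ : Nonempty (A ⊗[R] F ≃ₐ[R] F ⊗[R] A) := ⟨Algebra.TensorProduct.comm R A F⟩
  haveI : Module.Finite F (F ⊗[R] A) := Algebra.FormallyUnramified.finite_of_free F _
  haveI : IsArtinianRing (F ⊗[R] A) := IsArtinianRing.of_finite F _
  haveI : IsReduced (F ⊗[R] A) := Algebra.FormallyUnramified.isReduced_of_field F _
  exact ⟨e.symm.toRingEquiv.isArtinianRing, isReduced_of_injective e e.injective⟩

/-- A local ring integrally closed in a reduced artinian overring is a normal domain. -/
theorem normal_of_isIntegrallyClosedIn (L T : Type*) [CommRing L] [IsLocalRing L] [CommRing T]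
    [Algebra L T] [IsIntegrallyClosedIn L T] [IsArtinianRing T] [IsReduced T] :
    IsDomain L ∧ IsIntegrallyClosed L := by
  have hinj : Function.Injective (algebraMap L T) :=
    (isIntegrallyClosedIn_iff.1 (inferInstance : IsIntegrallyClosedIn L T)).1
  haveI : Nontrivial T := hinj.nontrivial
  have hfield : IsField T := by
    apply isField_of_trivial_idempotents
    intro e he
    have hint : IsIntegral L e := by
      refine ⟨Polynomial.X ^ 2 - Polynomial.X, Polynomial.monic_X_pow_sub
        (by rw [Polynomial.degree_X]; exact_mod_cast one_lt_two), ?_⟩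
      rw [Polynomial.eval₂_sub, Polynomial.eval₂_pow, Polynomial.eval₂_X, pow_two, he.eq,
        sub_self]
    obtain ⟨l, rfl⟩ := (IsIntegrallyClosedIn.isIntegral_iff (R := L)).1 hint
    have hl : IsIdempotentElem l := by
      apply hinj
      rw [map_mul]
      exact he
    rcases idempotent_of_isLocalRing l hl with h | h
    · left
      rw [h, map_zero]
    · right
      rw [h, map_one]
  haveI hdomT : IsDomain T := hfield.isDomain
  haveI hdom : IsDomain L := hinj.isDomain (algebraMap L T)
  refine ⟨hdom, ?_⟩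
  rw [isIntegrallyClosed_iff (FractionRing L)]
  intro x hx
  obtain ⟨j, hj⟩ : ∃ j : FractionRing L →+* T,
      ∀ l, j (algebraMap _ _ l) = algebraMap L T l := by
    letI := hfield.toField
    exact ⟨IsFractionRing.lift hinj, fun l => IsFractionRing.lift_algebraMap hinj l⟩
  have hjx : IsIntegral L (j x) := by
    obtain ⟨p, hpm, hp⟩ := hx
    refine ⟨p, hpm, ?_⟩
    have := congrArg j hp
    rw [map_zero, Polynomial.hom_eval₂] at this
    have e : j.comp (algebraMap L (FractionRing L)) = algebraMap L T := RingHom.ext hj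
    rw [e] at this
    exact this
  obtain ⟨l, hl⟩ := (IsIntegrallyClosedIn.isIntegral_iff (R := L)).1 hjx
  refine ⟨l, j.injective ?_⟩
  rw [hj, hl]

/-- The local rings of an étale algebra over an integrally closed domain are integrally closed
domains. -/
theorem normal_localization_of_etale (R A : Type*) [CommRing R] [IsDomain R]
    [IsIntegrallyClosed R] [CommRing A] [Algebra R A] [Algebra.Etale R A] (q : Ideal A)
    [q.IsPrime] :
    IsDomain (Localization.AtPrime q) ∧ IsIntegrallyClosed (Localization.AtPrime q) := by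
  haveI : IsIntegrallyClosedIn A (A ⊗[R] FractionRing R) :=
    isIntegrallyClosedIn_tensor R A (FractionRing R)
  obtain ⟨hart, hred⟩ := generic_fibre_props R A (FractionRing R)
  haveI := hart
  haveI := hred
  haveI hic : IsIntegrallyClosedIn (Localization q.primeCompl)
      (Localization (Algebra.algebraMapSubmonoid (A ⊗[R] FractionRing R) q.primeCompl)) :=
    isIntegrallyClosedIn_localization A (A ⊗[R] FractionRing R) q.primeCompl _ _
  exact normal_of_isIntegrallyClosedIn (Localization.AtPrime q)
    (Localization (Algebra.algebraMapSubmonoid (A ⊗[R] FractionRing R) q.primeCompl))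

end Groth.Agent.H11.EtNorm
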