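import Mathlib

/-!
# Cutting a smooth algebra by coordinates whose differentials form a basis gives an étale algebra
-/

set_option autoImplicit false
universe u v w

namespace Groth.Agent.H11.EtaleQuotBasis

open KaehlerDifferential TensorProduct

variable {R : Type u} {S : Type v} [CommRing R] [CommRing S] [Algebra R S] [Algebra.Smooth R S]
  {κ : Type w} [Finite κ] (s : κ → S) (b : Module.Basis κ S Ω[S⁄R]) (hb : ∀ i, b i = D R S (s i))

include hb

theorem etale_quotient : Algebra.Etale R (S ⧸ Ideal.span (Set.range s)) := by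
  classical
  haveI := Fintype.ofFinite κ
  set I : Ideal S := Ideal.span (Set.range s) with hI
  have hsurj : Function.Surjective (algebraMap S (S ⧸ I)) := Ideal.Quotient.mk_surjective
  have hker : RingHom.ker (algebraMap S (S ⧸ I)) = I := Ideal.mk_ker
  have hsmem : ∀ i, s i ∈ RingHom.ker (algebraMap S (S ⧸ I)) := by
    intro i
    rw [hker]
    exact Ideal.subset_span (Set.mem_range_self i)
  -- generators of the conormal module
  let nn : κ → (RingHom.ker (algebraMap S (S ⧸ I))).Cotangent :=
    fun i => Ideal.toCotangent _ ⟨s i, hsmem i⟩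
  have hnspan : Submodule.span S (Set.range nn) = ⊤ := by
    have h1 : Submodule.span S (Set.range fun i => (⟨s i, hsmem i⟩ :
        RingHom.ker (algebraMap S (S ⧸ I)))) = ⊤ := by
      apply Submodule.map_injective_of_injective
        (RingHom.ker (algebraMap S (S ⧸ I))).subtype_injective
      rw [Submodule.map_span, Submodule.map_subtype_top, ← Set.range_comp]
      have : ((RingHom.ker (algebraMap S (S ⧸ I))).subtype ∘ fun i =>
          (⟨s i, hsmem i⟩ : RingHom.ker (algebraMap S (S ⧸ I)))) = s := rfl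
      rw [this, hker]
    have h2 := congrArg (Submodule.map (Ideal.toCotangent (RingHom.ker (algebraMap S (S ⧸ I))))) h1
    rw [Submodule.map_span, Submodule.map_top, LinearMap.range_eq_top.mpr
      (Ideal.toCotangent_surjective _), ← Set.range_comp] at h2
    exact h2
  -- the module structure over the quotient
  let eq : (S ⧸ I) ≃+* (S ⧸ RingHom.ker (algebraMap S (S ⧸ I))) := Ideal.quotEquivOfEq hker.symm
  letI : Module (S ⧸ I) (RingHom.ker (algebraMap S (S ⧸ I))).Cotangent :=
    Module.compHom _ eq.toRingHom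
  haveI : IsScalarTower S (S ⧸ I) (RingHom.ker (algebraMap S (S ⧸ I))).Cotangent := by
    refine ⟨fun x y z => ?_⟩
    obtain ⟨y, rfl⟩ := Ideal.Quotient.mk_surjective y
    show eq (x • Ideal.Quotient.mk I y) • z = x • (eq (Ideal.Quotient.mk I y) • z)
    have h1 : x • Ideal.Quotient.mk I y = Ideal.Quotient.mk I (x * y) := rfl
    rw [h1]
    have h2 : ∀ t : S, eq (Ideal.Quotient.mk I t) = Ideal.Quotient.mk _ t := fun t => rfl
    rw [h2, h2, map_mul, mul_smul]
    rfl
  let ψ : Ω[S⁄R] →ₗ[S] (RingHom.ker (algebraMap S (S ⧸ I))).Cotangent := b.constr S nn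
  let l : (S ⧸ I) ⊗[S] Ω[S⁄R] →ₗ[S] (RingHom.ker (algebraMap S (S ⧸ I))).Cotangent :=
    (LinearMap.liftBaseChange (S ⧸ I) ψ).restrictScalars S
  have hk : ∀ i, kerCotangentToTensor R S (S ⧸ I) (nn i) = 1 ⊗ₜ b i := by
    intro i
    rw [hb]
    exact kerCotangentToTensor_toCotangent R S (S ⧸ I) ⟨s i, hsmem i⟩
  have hl : l ∘ₗ kerCotangentToTensor R S (S ⧸ I) = LinearMap.id := by
    apply LinearMap.ext_on hnspan
    rintro _ ⟨i, rfl⟩
    rw [LinearMap.comp_apply, hk, LinearMap.id_apply]
    show LinearMap.liftBaseChange (S ⧸ I) ψ (1 ⊗ₜ b i) = nn i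
    rw [LinearMap.liftBaseChange_tmul, one_smul]
    exact b.constr_basis S nn i
  haveI : Algebra.FormallySmooth R (S ⧸ I) :=
    (Algebra.FormallySmooth.iff_split_injection hsurj).mpr ⟨l, hl⟩
  -- unramified
  have hksurj : Function.Surjective (kerCotangentToTensor R S (S ⧸ I)) := by
    rw [← LinearMap.range_eq_top, eq_top_iff]
    have h1 : Submodule.span (S ⧸ I) (Set.range (b.baseChange (S ⧸ I))) = ⊤ :=
      (b.baseChange (S ⧸ I)).span_eq
    intro z _
    have hz : z ∈ Submodule.span (S ⧸ I) (Set.range (b.baseChange (S ⧸ I))) := by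
      rw [h1]
      trivial
    refine Submodule.span_induction ?_ ?_ ?_ ?_ hz
    · rintro _ ⟨i, rfl⟩
      rw [Module.Basis.baseChange_apply]
      exact ⟨nn i, hk i⟩
    · exact zero_mem _
    · intro x y _ _ hx hy
      exact add_mem hx hy
    · intro t x _ hx
      obtain ⟨t, rfl⟩ := Ideal.Quotient.mk_surjective t
      have : (Ideal.Quotient.mk I t) • x = t • x := by
        rw [← algebraMap_smul (S ⧸ I) t x]
        rfl
      rw [this]
      exact Submodule.smul_mem _ _ hx
  haveI : Subsingleton Ω[(S ⧸ I)⁄R] := by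
    have hex := exact_kerCotangentToTensor_mapBaseChange R S (S ⧸ I) hsurj
    have hms := mapBaseChange_surjective R S (S ⧸ I) hsurj
    refine ⟨fun x y => ?_⟩
    obtain ⟨x', rfl⟩ := hms x
    obtain ⟨y', rfl⟩ := hms y
    obtain ⟨x'', rfl⟩ := hksurj x'
    obtain ⟨y'', rfl⟩ := hksurj y'
    rw [(hex _).mpr ⟨x'', rfl⟩, (hex _).mpr ⟨y'', rfl⟩]
  haveI : Algebra.FormallyUnramified R (S ⧸ I) := ⟨inferInstance⟩
  haveI : Algebra.FinitePresentation R (S ⧸ I) := by
    apply Algebra.FinitePresentation.quotient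
    exact ⟨Finset.univ.image s, by simp [hI]⟩
  haveI : Algebra.FormallyEtale R (S ⧸ I) := .of_formallyUnramified_and_formallySmooth
  exact { formallyEtale := inferInstance, finitePresentation := inferInstance }

end Groth.Agent.H11.EtaleQuotBasis
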