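import Mathlib

/-!
The expansion map `X i ↦ X i ^ p` of a polynomial ring in finitely many variables is free, hence
flat.
-/

namespace Groth.Agent.H11.ExpandFlat

open MvPolynomial

/-- A ring hom `f : R →+* S` such that `S` has an `f`-basis is flat. -/
theorem flat_of_bijective_sum {R S ι : Type*} [CommRing R] [CommRing S] (f : R →+* S) (v : ι → S)
    (h : Function.Bijective (fun l : ι →₀ R => l.sum (fun i r => f r * v i))) : f.Flat := by
  algebraize [f]
  have hl : ∀ l : ι →₀ R, Finsupp.linearCombination R v l = l.sum (fun i r => f r * v i) := by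
    intro l
    rw [Finsupp.linearCombination_apply]
    refine Finsupp.sum_congr fun i _ => ?_
    rw [Algebra.smul_def]
    rfl
  have hb : Function.Bijective (Finsupp.linearCombination R v) := by
    have : (fun l : ι →₀ R => Finsupp.linearCombination R v l) =
        (fun l : ι →₀ R => l.sum (fun i r => f r * v i)) := funext hl
    change Function.Bijective (fun l : ι →₀ R => Finsupp.linearCombination R v l)
    rw [this]
    exact h
  exact Module.Flat.of_linearEquiv (LinearEquiv.ofBijective _ hb).symm

variable {σ : Type*} [Fintype σ] (A : Type*) [CommRing A] (p : ℕ)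

/-- exponent vector of `e : σ → Fin p`. -/
noncomputable def expo (e : σ → Fin p) : σ →₀ ℕ :=
  Finsupp.equivFunOnFinite.symm (fun i => (e i : ℕ))

@[simp] theorem expo_apply (e : σ → Fin p) (i : σ) : expo p e i = (e i : ℕ) := rfl

/-- Division with remainder on exponent vectors. -/
noncomputable def idx (hp : 0 < p) : ((σ → Fin p) × (σ →₀ ℕ)) ≃ (σ →₀ ℕ) where
  toFun x := p • x.2 + expo p x.1
  invFun n := ⟨fun i => ⟨n i % p, Nat.mod_lt _ hp⟩, Finsupp.mapRange (· / p) (Nat.zero_div p) n⟩
  left_inv := by
    rintro ⟨e, m⟩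
    refine Prod.ext ?_ ?_
    · funext i
      refine Fin.ext ?_
      simp [Nat.mod_eq_of_lt (e i).2]
    · ext i
      simp [Nat.mul_add_div hp, Nat.div_eq_of_lt (e i).2]
  right_inv n := by
    ext i
    simp [Nat.div_add_mod]

theorem expand_flat (hp : 0 < p) :
    (expand p : MvPolynomial σ A →ₐ[A] MvPolynomial σ A).toRingHom.Flat := by
  refine flat_of_bijective_sum _ (fun e : σ → Fin p => monomial (expo p e) (1 : A)) ?_
  let Φ : ((σ → Fin p) →₀ MvPolynomial σ A) →ₗ[A] MvPolynomial σ A :=
    Finsupp.lsum A (fun e => (LinearMap.mulRight A (monomial (expo p e) (1 : A))).comp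
      (expand p).toLinearMap)
  have hΦ : ∀ l, Φ l = l.sum (fun e r => (expand p : MvPolynomial σ A →ₐ[A] _).toRingHom r *
      monomial (expo p e) 1) := by
    intro l
    rw [Finsupp.lsum_apply]
    rfl
  let b₁ := Finsupp.basis (fun _ : σ → Fin p => basisMonomials σ A)
  let b₂ := basisMonomials σ A
  let ε : (Σ _ : σ → Fin p, (σ →₀ ℕ)) ≃ (σ →₀ ℕ) :=
    (Equiv.sigmaEquivProd _ _).trans (idx p hp)
  have hΦe : Φ = (b₁.equiv b₂ ε).toLinearMap := by
    refine b₁.ext fun ⟨e, m⟩ => ?_
    rw [LinearEquiv.coe_coe, Module.Basis.equiv_apply, hΦ]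
    simp only [b₁, b₂, Finsupp.coe_basis, coe_basisMonomials]
    rw [Finsupp.sum_single_index (by simp)]
    simp [ε, idx, monomial_mul]
  have hbij : Function.Bijective Φ := hΦe ▸ (LinearEquiv.bijective _)
  have : (fun l => Φ l) = fun l : (σ → Fin p) →₀ MvPolynomial σ A =>
      l.sum (fun e r => (expand p : MvPolynomial σ A →ₐ[A] _).toRingHom r *
      monomial (expo p e) 1) := funext hΦ
  exact this ▸ hbij

end Groth.Agent.H11.ExpandFlat
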