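import Mathlib
import Groth.Agent.H11.AdicOmega

/-!
# Square-zero extensions are determined by their conormal sequence
(when the conormal map is injective)
-/

set_option autoImplicit false

universe u

namespace Groth.Agent.H11.ExtIso

open TensorProduct KaehlerDifferential Algebra TrivSqZeroExt

variable {A B : Type u} [CommRing A] [CommRing B] [Algebra A B]

/-- The derivation `e ↦ 1 ⊗ d e`. -/
noncomputable def dP (P : Extension.{u} A B) : Derivation A P.Ring P.CotangentSpace :=
  (TensorProduct.mk P.Ring B Ω[P.Ring⁄A] 1).compDer (KaehlerDifferential.D A P.Ring)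

lemma dP_apply (P : Extension.{u} A B) (e : P.Ring) : dP P e = 1 ⊗ₜ D A P.Ring e := rfl

/-- The map `E → B ⊕ (B ⊗ Ω_E)`. -/
noncomputable def iota (P : Extension.{u} A B) : P.Ring →ₐ[A] TrivSqZeroExt B P.CotangentSpace :=
  Groth.Agent.H11.AdicOmega.derHom B (dP P)

lemma iota_fst (P : Extension.{u} A B) (e : P.Ring) : (iota P e).fst = algebraMap P.Ring B e := by
  change (inl (algebraMap P.Ring B e) + inr (dP P e)).fst = _
  simp

lemma iota_snd (P : Extension.{u} A B) (e : P.Ring) : (iota P e).snd = 1 ⊗ₜ D A P.Ring e := by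
  change (inl (algebraMap P.Ring B e) + inr (dP P e) : TrivSqZeroExt B P.CotangentSpace).snd = _
  simp [dP_apply]

lemma iota_injective (P : Extension.{u} A B) (hsq : P.ker ^ 2 = ⊥)
    (hinj : Function.Injective P.cotangentComplex) : Function.Injective (iota P) := by
  rw [injective_iff_map_eq_zero]
  intro e he
  have h1 : algebraMap P.Ring B e = 0 := by rw [← iota_fst, he]; rfl
  have h2 : (1 : B) ⊗ₜ[P.Ring] D A P.Ring e = 0 := by rw [← iota_snd, he]; rfl
  have hmem : e ∈ P.ker := h1
  have h3 : P.cotangentComplex (Extension.Cotangent.mk ⟨e, hmem⟩) = 0 := by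
    rw [Extension.cotangentComplex_mk]
    exact h2
  have h4 := hinj (h3.trans (map_zero _).symm)
  rw [Extension.Cotangent.mk_eq_zero_iff, hsq] at h4
  exact h4

lemma toKaehler_iota (P : Extension.{u} A B) (e : P.Ring) :
    P.toKaehler (iota P e).snd = D A B (iota P e).fst := by
  rw [iota_snd, iota_fst]
  simp [Extension.toKaehler]

lemma mem_range_iota (P : Extension.{u} A B) (x : TrivSqZeroExt B P.CotangentSpace)
    (hx : P.toKaehler x.snd = D A B x.fst) : ∃ e, iota P e = x := by
  obtain ⟨e₀, he₀⟩ := P.algebraMap_surjective x.fst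
  have h1 : P.toKaehler (x.snd - (iota P e₀).snd) = 0 := by
    rw [map_sub, hx, toKaehler_iota, iota_fst, he₀, sub_self]
  obtain ⟨c, hc⟩ := (P.exact_cotangentComplex_toKaehler _).1 h1
  obtain ⟨y, rfl⟩ := Extension.Cotangent.mk_surjective c
  rw [Extension.cotangentComplex_mk] at hc
  refine ⟨e₀ + y.1, ?_⟩
  apply TrivSqZeroExt.ext
  · rw [iota_fst, map_add, he₀]
    have : algebraMap P.Ring B y.1 = 0 := y.2
    rw [this, add_zero]
  · rw [iota_snd, map_add, tmul_add, hc, iota_snd]
    abel

/-- Two square-zero extensions with injective conormal maps and isomorphic conormal sequences are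
isomorphic. -/
theorem exists_hom (P P' : Extension.{u} A B) (hsq : P.ker ^ 2 = ⊥) (hsq' : P'.ker ^ 2 = ⊥)
    (hinj : Function.Injective P.cotangentComplex)
    (hinj' : Function.Injective P'.cotangentComplex)
    (e₁ : P.Cotangent ≃ₗ[B] P'.Cotangent) (e₂ : P.CotangentSpace ≃ₗ[B] P'.CotangentSpace)
    (h₁ : ∀ x, e₂ (P.cotangentComplex x) = P'.cotangentComplex (e₁ x))
    (h₂ : ∀ y, P'.toKaehler (e₂ y) = P.toKaehler y) :
    ∃ f : P.Hom P', Function.Bijective f.toRingHom ∧
      Extension.Cotangent.map f = e₁.toLinearMap := by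
  let Φ : TrivSqZeroExt B P.CotangentSpace →ₐ[A] TrivSqZeroExt B P'.CotangentSpace :=
    (TrivSqZeroExt.map e₂.toLinearMap).restrictScalars A
  have hΦfst : ∀ x, (Φ x).fst = x.fst := fun x => TrivSqZeroExt.fst_map _ x
  have hΦsnd : ∀ x, (Φ x).snd = e₂ x.snd := fun x => TrivSqZeroExt.snd_map _ x
  have hι' := iota_injective P' hsq' hinj'
  have hι := iota_injective P hsq hinj
  have hrange : ∀ e, ∃ e', iota P' e' = Φ (iota P e) := by
    intro e
    apply mem_range_iota
    rw [hΦfst, hΦsnd, h₂, toKaehler_iota]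
  let g : P.Ring →ₐ[A] (iota P').range :=
    (Φ.comp (iota P)).codRestrict (iota P').range (fun e => by
      obtain ⟨e', he'⟩ := hrange e
      exact ⟨e', he'⟩)
  let f₀ : P.Ring →ₐ[A] P'.Ring :=
    ((AlgEquiv.ofInjective (iota P') hι').symm : (iota P').range →ₐ[A] P'.Ring).comp g
  have hf₀ : ∀ e, iota P' (f₀ e) = Φ (iota P e) := by
    intro e
    have := (AlgEquiv.ofInjective (iota P') hι').apply_symm_apply (g e)
    exact congrArg Subtype.val this
  have hfst : ∀ e, algebraMap P'.Ring B (f₀ e) = algebraMap P.Ring B e := by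
    intro e
    rw [← iota_fst, hf₀, hΦfst, iota_fst]
  have hsnd : ∀ e, (1 : B) ⊗ₜ[P'.Ring] D A P'.Ring (f₀ e) = e₂ (1 ⊗ₜ D A P.Ring e) := by
    intro e
    rw [← iota_snd, hf₀, hΦsnd, iota_snd]
  let f : P.Hom P' :=
    { toRingHom := f₀.toRingHom
      toRingHom_algebraMap := fun a => by
        have := f₀.commutes a
        simp
      algebraMap_toRingHom := fun e => by
        have := hfst e
        simpa using this }
  refine ⟨f, ⟨?_, ?_⟩, ?_⟩
  · intro a b hab
    have hab' : f₀ a = f₀ b := hab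
    apply hι
    have h3 : Φ (iota P a) = Φ (iota P b) := by rw [← hf₀, ← hf₀, hab']
    apply TrivSqZeroExt.ext
    · rw [← hΦfst, h3, hΦfst]
    · apply e₂.injective
      rw [← hΦsnd, h3, hΦsnd]
  · intro e'
    obtain ⟨e, he⟩ := mem_range_iota P (inl (iota P' e').fst + inr (e₂.symm (iota P' e').snd)) (by
      simp only [snd_add, snd_inl, snd_inr, zero_add, fst_add, fst_inl, fst_inr, add_zero]
      rw [← h₂, e₂.apply_symm_apply, toKaehler_iota])
    refine ⟨e, ?_⟩
    apply hι'
    change iota P' (f₀ e) = _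
    rw [hf₀, he]
    apply TrivSqZeroExt.ext
    · rw [hΦfst]; simp
    · rw [hΦsnd]; simp
  · ext c
    obtain ⟨x, rfl⟩ := Extension.Cotangent.mk_surjective c
    apply congrArg Extension.Cotangent.val
    apply hinj'
    rw [LinearEquiv.coe_coe, ← h₁, Extension.Cotangent.map_mk, Extension.cotangentComplex_mk,
      Extension.cotangentComplex_mk]
    exact hsnd x.1

end Groth.Agent.H11.ExtIso
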