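import Mathlib

/-!
# Nakayama at a prime: generators of the fibre generate up to a denominator outside the prime
-/

set_option autoImplicit false

universe u

namespace Groth.Agent.H11.NakPrime

open TensorProduct

variable {A : Type u} [CommRing A] {M : Type u} [AddCommGroup M] [Module A M]
  (q : Ideal A) [q.IsPrime]

/-- If `g` spans `M`, then `1 ⊗ g` spans the fibre `κ ⊗ M`. -/
theorem span_one_tmul_eq_top {ι : Type*} (g : ι → M)
    (hg : Submodule.span A (Set.range g) = ⊤) :
    Submodule.span q.ResidueField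
      (Set.range fun i => (1 : q.ResidueField) ⊗ₜ[A] g i) = ⊤ := by
  have h := Submodule.baseChange_span (R := A) (M := M) (A := q.ResidueField) (Set.range g)
  rw [hg, Submodule.baseChange_top] at h
  rw [h, ← Set.range_comp]
  rfl

/-- Nakayama at a prime. -/
theorem exists_smul_mem_span [Module.Finite A M] {ι : Type*} (x : ι → M)
    (hx : Submodule.span q.ResidueField
      (Set.range fun i => (1 : q.ResidueField) ⊗ₜ[A] x i) = ⊤) :
    ∃ s : A, s ∉ q ∧ ∀ y : M, s • y ∈ Submodule.span A (Set.range x) := by
  set N := Submodule.span A (Set.range x) with hN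
  let L : q.ResidueField ⊗[A] M →ₗ[q.ResidueField] q.ResidueField ⊗[A] (M ⧸ N) :=
    TensorProduct.AlgebraTensorModule.lTensor q.ResidueField q.ResidueField N.mkQ
  have hker : (⊤ : Submodule q.ResidueField (q.ResidueField ⊗[A] M)) ≤ LinearMap.ker L := by
    rw [← hx, Submodule.span_le]
    rintro _ ⟨i, rfl⟩
    change L (1 ⊗ₜ[A] x i) = 0
    have : N.mkQ (x i) = 0 := by
      rw [Submodule.mkQ_apply, Submodule.Quotient.mk_eq_zero]
      exact Submodule.subset_span ⟨i, rfl⟩
    change (1 : q.ResidueField) ⊗ₜ[A] N.mkQ (x i) = 0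
    rw [this, tmul_zero]
  have hzero : ∀ z : q.ResidueField ⊗[A] M, (N.mkQ.lTensor q.ResidueField) z = 0 := by
    intro z
    exact hker (Submodule.mem_top (x := z))
  have hsub : Subsingleton (q.ResidueField ⊗[A] (M ⧸ N)) := by
    refine ⟨fun a b => ?_⟩
    obtain ⟨a, rfl⟩ := LinearMap.lTensor_surjective q.ResidueField N.mkQ_surjective a
    obtain ⟨b, rfl⟩ := LinearMap.lTensor_surjective q.ResidueField N.mkQ_surjective b
    rw [hzero, hzero]
  have hsupp : (⟨q, inferInstance⟩ : PrimeSpectrum A) ∉ Module.support A (M ⧸ N) := by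
    rw [Module.mem_support_iff_nontrivial_residueField_tensorProduct]
    exact not_nontrivial _
  rw [Module.mem_support_iff_of_finite, SetLike.not_le_iff_exists] at hsupp
  obtain ⟨s, hs, hsq⟩ := hsupp
  refine ⟨s, hsq, fun y => ?_⟩
  have := Module.mem_annihilator.1 hs (N.mkQ y)
  rw [← map_smul, Submodule.mkQ_apply, Submodule.Quotient.mk_eq_zero] at this
  exact this

end Groth.Agent.H11.NakPrime
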