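import Mathlib
import Groth.Agent.H11.NakPrime

/-!
The annihilator of the `n`-th exterior power of a finite module is contained in a prime `p`
iff the fibre at `p` has dimension at least `n`.
-/

namespace Groth.Agent.H11.ExtPowAnn

open TensorProduct

universe u

variable {R : Type u} [CommRing R] {M : Type u} [AddCommGroup M] [Module R M]

/-- The wedge of `n` vectors lying in the span of fewer than `n` vectors vanishes. -/
theorem ιMulti_eq_zero_of_mem_span {d n : ℕ} (hdn : d < n) (x : Fin d → M) (z : Fin n → M)
    (hz : ∀ i, z i ∈ Submodule.span R (Set.range x)) : exteriorPower.ιMulti R n z = 0 := by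
  let z' : Fin n → Submodule.span R (Set.range x) := fun i => ⟨z i, hz i⟩
  have h1 : exteriorPower.ιMulti R n z =
      exteriorPower.map n (Submodule.span R (Set.range x)).subtype
        (exteriorPower.ιMulti R n z') := by
    rw [exteriorPower.map_apply_ιMulti]
    rfl
  have h2 : exteriorPower.map n (Submodule.span R (Set.range x)).subtype
      (exteriorPower.ιMulti R n z') ∈
      LinearMap.range (exteriorPower.map n (Submodule.span R (Set.range x)).subtype) :=
    LinearMap.mem_range_self _ _
  rw [exteriorPower.ιMulti_family_span (R := R) (n := n) x] at h2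
  haveI : IsEmpty (Set.powersetCard (Fin d) n) := ⟨fun s => by
    have h3 : s.1.card = n := s.2
    have h4 : s.1.card ≤ d := by simpa using Finset.card_le_univ s.1
    omega⟩
  rw [Set.range_eq_empty, Submodule.span_empty, Submodule.mem_bot] at h2
  rw [h1, h2]

variable (p : Ideal R) [p.IsPrime]

/-- A basis of the fibre consisting of pure tensors. -/
theorem exists_basis_one_tmul [Module.Finite R M] :
    ∃ (x : Fin (Module.finrank p.ResidueField (p.ResidueField ⊗[R] M)) → M)
      (B : Module.Basis (Fin (Module.finrank p.ResidueField (p.ResidueField ⊗[R] M)))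
        p.ResidueField (p.ResidueField ⊗[R] M)),
      ∀ i, B i = (1 : p.ResidueField) ⊗ₜ[R] x i := by
  classical
  have hS : Submodule.span p.ResidueField
      (Set.range fun m : M => (1 : p.ResidueField) ⊗ₜ[R] m) = ⊤ :=
    Groth.Agent.H11.NakPrime.span_one_tmul_eq_top p (fun m : M => m) (by
      rw [show (Set.range fun m : M => m) = Set.univ from Set.range_id]
      exact Submodule.span_univ)
  obtain ⟨b, hbS, hspan, hli⟩ := exists_linearIndependent p.ResidueField
    (Set.range fun m : M => (1 : p.ResidueField) ⊗ₜ[R] m)
  let B₀ : Module.Basis b p.ResidueField (p.ResidueField ⊗[R] M) :=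
    Module.Basis.mk hli (by
      rw [Subtype.range_coe_subtype, Set.ofPred_mem_eq, hspan, hS])
  haveI : Finite b := Module.Finite.finite_basis B₀
  haveI : Fintype b := Fintype.ofFinite b
  let e : b ≃ Fin (Module.finrank p.ResidueField (p.ResidueField ⊗[R] M)) :=
    Fintype.equivFinOfCardEq (Module.finrank_eq_card_basis B₀).symm
  have hmem : ∀ i, ∃ m : M, (1 : p.ResidueField) ⊗ₜ[R] m = (e.symm i : p.ResidueField ⊗[R] M) :=
    fun i => hbS (e.symm i).2
  choose x hx using hmem
  refine ⟨x, B₀.reindex e, fun i => ?_⟩
  rw [Module.Basis.reindex_apply, Module.Basis.mk_apply, hx]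

theorem annihilator_le_iff [Module.Finite R M] (n : ℕ) :
    (⋀[R]^n M).annihilator ≤ p ↔
      n ≤ Module.finrank p.ResidueField (p.ResidueField ⊗[R] M) := by
  classical
  obtain ⟨x, B, hB⟩ := exists_basis_one_tmul (M := M) p
  constructor
  · -- contrapositive
    intro hJ
    by_contra hlt
    push Not at hlt
    have hspan : Submodule.span p.ResidueField
        (Set.range fun i => (1 : p.ResidueField) ⊗ₜ[R] x i) = ⊤ := by
      rw [← B.span_eq]
      congr 1
      exact congrArg Set.range (funext fun i => (hB i).symm)
    obtain ⟨s, hsp, hs⟩ := Groth.Agent.H11.NakPrime.exists_smul_mem_span p x hspan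
    have hsn : s ^ n ∈ (⋀[R]^n M).annihilator := by
      rw [Submodule.mem_annihilator]
      intro ω hω
      rw [← exteriorPower.ιMulti_span_fixedDegree R n M] at hω
      induction hω using Submodule.span_induction with
      | mem ω hω =>
        obtain ⟨y, rfl⟩ := hω
        have h1 : exteriorPower.ιMulti R n (fun i => s • y i) = 0 :=
          ιMulti_eq_zero_of_mem_span hlt x _ (fun i => hs (y i))
        have h2 : (ExteriorAlgebra.ιMulti R n) (fun i => s • y i) =
            s ^ n • ExteriorAlgebra.ιMulti R n y := by
          rw [AlternatingMap.map_smul_univ, Finset.prod_const, Finset.card_univ,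
            Fintype.card_fin]
        rw [← h2, ← exteriorPower.ιMulti_apply_coe, h1]
        rfl
      | zero => exact smul_zero _
      | add a b _ _ ha hb => rw [smul_add, ha, hb, add_zero]
      | smul c a _ ha => rw [smul_comm, ha, smul_zero]
    exact hsp (Ideal.IsPrime.mem_of_pow_mem inferInstance n (hJ hsn))
  · intro hn a ha
    -- construct an alternating form
    let f : M →ₗ[R] (Fin n → p.ResidueField) :=
      (((LinearMap.funLeft p.ResidueField p.ResidueField (Fin.castLE hn)).comp
        B.equivFun.toLinearMap).restrictScalars R).comp (TensorProduct.mk R p.ResidueField M 1)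
    have hf : ∀ i j, f (x (Fin.castLE hn i)) j = (1 : Matrix (Fin n) (Fin n) p.ResidueField) i j := by
      intro i j
      change B.equivFun ((1 : p.ResidueField) ⊗ₜ[R] x (Fin.castLE hn i)) (Fin.castLE hn j) = _
      rw [← hB, Module.Basis.equivFun_apply, Module.Basis.repr_self, Finsupp.single_apply,
        Matrix.one_apply]
      simp only [Fin.castLE_inj]
    let alt : M [⋀^Fin n]→ₗ[R] p.ResidueField :=
      { toMultilinearMap :=
          ((Matrix.detRowAlternating (n := Fin n) (R := p.ResidueField)).toMultilinearMap.restrictScalars
            R).compLinearMap (fun _ => f)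
        map_eq_zero_of_eq' := fun v i j hij hne => by
          change Matrix.detRowAlternating (fun k => f (v k)) = 0
          exact (Matrix.detRowAlternating).map_eq_zero_of_eq (fun k => f (v k))
            (by rw [hij]) hne }
    let φ : ⋀[R]^n M →ₗ[R] p.ResidueField := exteriorPower.alternatingMapLinearEquiv alt
    have hφ : φ (exteriorPower.ιMulti R n (fun i => x (Fin.castLE hn i))) = 1 := by
      rw [exteriorPower.alternatingMapLinearEquiv_apply_ιMulti]
      change Matrix.det (Matrix.of fun i => f (x (Fin.castLE hn i))) = 1
      rw [show (Matrix.of fun i => f (x (Fin.castLE hn i))) =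
        (1 : Matrix (Fin n) (Fin n) p.ResidueField) from Matrix.ext hf, Matrix.det_one]
    have h0 : a • (exteriorPower.ιMulti R n (fun i => x (Fin.castLE hn i))) = 0 := by
      apply Subtype.ext
      exact (Submodule.mem_annihilator.1 ha) _ (Subtype.coe_prop _)
    have h1 := congrArg φ h0
    rw [map_smul, hφ, map_zero, Algebra.smul_def, mul_one] at h1
    exact Ideal.algebraMap_residueField_eq_zero.1 h1

end Groth.Agent.H11.ExtPowAnn
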