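import Mathlib
import Groth.Agent.H11.AdicOmega

/-!
# Realizing an extension of `Ω[B⁄A]` by a square-zero algebra extension
-/

set_option autoImplicit false

universe u

namespace Groth.Agent.H11.ExtReal

open TensorProduct KaehlerDifferential Algebra TrivSqZeroExt

variable {A B : Type u} [CommRing A] [CommRing B] [Algebra A B]
variable {N : Type u} [AddCommGroup N] [Module B N] [Module Bᵐᵒᵖ N] [IsCentralScalar B N]
  [Module A N] [IsScalarTower A B N]

/-- The fibre product `B ×_Ω N` as a subalgebra of `B ⊕ N`. -/
noncomputable def E (q : N →ₗ[B] Ω[B⁄A]) : Subalgebra A (TrivSqZeroExt B N) where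
  carrier := {x | q x.snd = D A B x.fst}
  mul_mem' := by
    intro x y hx hy
    simp only [Set.mem_ofPred_eq] at *
    rw [snd_mul, fst_mul, map_add, op_smul_eq_smul, map_smul, map_smul, hx, hy,
      Derivation.leibniz]
  add_mem' := by
    intro x y hx hy
    simp only [Set.mem_ofPred_eq] at *
    rw [snd_add, fst_add, map_add, map_add, hx, hy]
  algebraMap_mem' := by
    intro a
    simp only [Set.mem_ofPred_eq]
    rw [TrivSqZeroExt.algebraMap_eq_inl', snd_inl, fst_inl, map_zero, Derivation.map_algebraMap]

lemma mem_E (q : N →ₗ[B] Ω[B⁄A]) (x : TrivSqZeroExt B N) :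
    x ∈ E q ↔ q x.snd = D A B x.fst := Iff.rfl

/-- The projection `B ×_Ω N → B`. -/
noncomputable def proj (q : N →ₗ[B] Ω[B⁄A]) : E q →ₐ[A] B :=
  (TrivSqZeroExt.fstHom A B N).comp (E q).val

lemma proj_apply (q : N →ₗ[B] Ω[B⁄A]) (x : E q) : proj q x = x.1.fst := rfl

lemma proj_surjective (q : N →ₗ[B] Ω[B⁄A]) (hq : Function.Surjective q) :
    Function.Surjective (proj q) := by
  intro b
  obtain ⟨n, hn⟩ := hq (D A B b)
  refine ⟨⟨inl b + inr n, ?_⟩, ?_⟩
  · rw [mem_E]; simpa using hn
  · rw [proj_apply]; simp

/-- The extension `B ×_Ω N → B`. -/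
noncomputable def ext (q : N →ₗ[B] Ω[B⁄A]) (hq : Function.Surjective q) : Extension.{u} A B :=
  Extension.ofSurjective (proj q) (proj_surjective q hq)

section Ext

variable (q : N →ₗ[B] Ω[B⁄A]) (hq : Function.Surjective q)

lemma algebraMap_ext (x : (ext q hq).Ring) : algebraMap (ext q hq).Ring B x = x.1.fst := rfl

lemma mem_ker_ext (x : (ext q hq).Ring) : x ∈ (ext q hq).ker ↔ x.1.fst = 0 := Iff.rfl

lemma ker_sq : (ext q hq).ker ^ 2 = ⊥ := by
  rw [eq_bot_iff, pow_two, Ideal.mul_le]
  intro x hx y hy
  rw [mem_ker_ext] at hx hy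
  rw [Ideal.mem_bot]
  apply Subtype.ext
  apply TrivSqZeroExt.ext
  · change x.1.fst * y.1.fst = 0
    rw [hx, zero_mul]
  · change x.1.fst • y.1.snd + MulOpposite.op y.1.fst • x.1.snd = 0
    rw [hx, hy, zero_smul, MulOpposite.op_zero, zero_smul, add_zero]

/-- The module structure on `N` over the extension ring. -/
@[instance_reducible]
noncomputable def modN : Module (ext q hq).Ring N :=
  Module.compHom N (algebraMap (ext q hq).Ring B)

attribute [local instance] modN

lemma smul_def' (x : (ext q hq).Ring) (n : N) :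
    (letI := modN q hq; x • n) = x.1.fst • n := rfl

instance towerB : letI := modN q hq; IsScalarTower (ext q hq).Ring B N :=
  letI := modN q hq
  IsScalarTower.of_algebraMap_smul fun _ _ => rfl

instance towerA : letI := modN q hq; IsScalarTower A (ext q hq).Ring N := by
  letI := modN q hq
  refine ⟨fun a x n => ?_⟩
  change (a • x).1.fst • n = a • (x.1.fst • n)
  change (a • x.1).fst • n = _
  rw [TrivSqZeroExt.fst_smul, smul_assoc]

/-- The derivation `(b, n) ↦ n`. -/
noncomputable def dN : letI := modN q hq; Derivation A (ext q hq).Ring N :=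
  letI := modN q hq
  { toFun := fun x => x.1.snd
    map_add' := fun x y => rfl
    map_smul' := fun a x => rfl
    map_one_eq_zero' := rfl
    leibniz' := fun x y => by
      change x.1.fst • y.1.snd + MulOpposite.op y.1.fst • x.1.snd = _
      rw [op_smul_eq_smul]
      rfl }

/-- The comparison map `B ⊗ Ω_E → N`. -/
noncomputable def psi : (ext q hq).CotangentSpace →ₗ[B] N :=
  letI := modN q hq
  LinearMap.liftBaseChange B (dN q hq).liftKaehlerDifferential

lemma psi_tmul (b : B) (x : (ext q hq).Ring) :
    psi q hq (b ⊗ₜ D A (ext q hq).Ring x) = b • x.1.snd := by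
  letI := modN q hq
  change LinearMap.liftBaseChange B (dN q hq).liftKaehlerDifferential (b ⊗ₜ D A _ x) = _
  rw [LinearMap.liftBaseChange_tmul, Derivation.liftKaehlerDifferential_comp_D]
  rfl

lemma q_psi (y : (ext q hq).CotangentSpace) : q (psi q hq y) = (ext q hq).toKaehler y := by
  induction y using TensorProduct.induction_on with
  | zero => simp
  | add a b ha hb => simp only [map_add, ha, hb]
  | tmul b w =>
    have hw : w ∈ Submodule.span (ext q hq).Ring (Set.range (D A (ext q hq).Ring)) := by
      rw [KaehlerDifferential.span_range_derivation]; trivial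
    induction hw using Submodule.span_induction generalizing b with
    | mem w hw =>
      obtain ⟨x, rfl⟩ := hw
      rw [psi_tmul, map_smul, x.2]
      simp [Extension.toKaehler, algebraMap_ext]
    | zero => simp
    | add w₁ w₂ _ _ h₁ h₂ => rw [tmul_add, map_add, map_add, map_add, h₁, h₂]
    | smul e w _ h =>
      rw [← smul_tmul, h]

end Ext

section Main

variable (q : N →ₗ[B] Ω[B⁄A]) (hq : Function.Surjective q)
variable {M : Type u} [AddCommGroup M] [Module B M] (i : M →ₗ[B] N)

/-- The element `(0, i m)` of the kernel. -/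
noncomputable def jker (hex : Function.Exact i q) (m : M) : (ext q hq).ker :=
  ⟨⟨inr (i m), by
      show q (inr (i m) : TrivSqZeroExt B N).snd = D A B (inr (i m) : TrivSqZeroExt B N).fst
      rw [snd_inr, fst_inr, map_zero]
      exact hex.apply_apply_eq_zero m⟩, by
    show (inr (i m) : TrivSqZeroExt B N).fst = 0
    exact fst_inr _ _⟩

lemma jker_val_snd (hex : Function.Exact i q) (m : M) : (jker q hq i hex m).1.1.snd = i m := by
  simp [jker]

/-- The map `M → I/I²`. -/
noncomputable def c₁ (hex : Function.Exact i q) : M →ₗ[B] (ext q hq).Cotangent where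
  toFun m := Extension.Cotangent.mk (jker q hq i hex m)
  map_add' m₁ m₂ := by
    rw [← map_add]
    congr 1
    apply Subtype.ext
    apply Subtype.ext
    change inr (i (m₁ + m₂)) = inr (i m₁) + inr (i m₂)
    rw [map_add, inr_add]
  map_smul' b m := by
    obtain ⟨e, rfl⟩ := (ext q hq).algebraMap_surjective b
    have hsm : algebraMap _ B e • Extension.Cotangent.mk (jker q hq i hex m) =
        e • Extension.Cotangent.mk (jker q hq i hex m) := algebraMap_smul B e _
    rw [RingHom.id_apply, hsm, ← map_smul]
    congr 1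
    apply Subtype.ext
    apply Subtype.ext
    apply TrivSqZeroExt.ext
    · have h1 : (jker q hq i hex (algebraMap _ B e • m)).1.1.fst = 0 :=
        (jker q hq i hex (algebraMap _ B e • m)).2
      have h2 : (e • jker q hq i hex m).1.1.fst = e.1.fst * (jker q hq i hex m).1.1.fst := rfl
      have h3 : (jker q hq i hex m).1.1.fst = 0 := (jker q hq i hex m).2
      rw [h1, h2, h3, mul_zero]
    · change _ = e.1.fst • (jker q hq i hex m).1.1.snd +
        MulOpposite.op (jker q hq i hex m).1.1.fst • e.1.snd
      rw [jker_val_snd, jker_val_snd, algebraMap_ext, map_smul]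
      have : (jker q hq i hex m).1.1.fst = 0 := (jker q hq i hex m).2
      rw [this, MulOpposite.op_zero, zero_smul, add_zero]

lemma c₁_bijective (hi : Function.Injective i) (hex : Function.Exact i q) :
    Function.Bijective (c₁ q hq i hex) := by
  constructor
  · rw [injective_iff_map_eq_zero]
    intro m hm
    change Extension.Cotangent.mk (jker q hq i hex m) = 0 at hm
    rw [Extension.Cotangent.mk_eq_zero_iff, ker_sq, Ideal.mem_bot] at hm
    apply hi
    rw [map_zero, ← jker_val_snd q hq i hex m, hm]
    rfl
  · intro c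
    obtain ⟨x, rfl⟩ := Extension.Cotangent.mk_surjective c
    have hx0 : x.1.1.fst = 0 := x.2
    have hxq : q x.1.1.snd = 0 := by
      have := (mem_E q x.1.1).1 x.1.2
      rw [this, hx0, map_zero]
    obtain ⟨m, hm⟩ := (hex _).1 hxq
    refine ⟨m, ?_⟩
    change Extension.Cotangent.mk (jker q hq i hex m) = _
    congr 1
    apply Subtype.ext
    apply Subtype.ext
    apply TrivSqZeroExt.ext
    · rw [hx0]; exact (jker q hq i hex m).2
    · rw [jker_val_snd, hm]

lemma psi_cotangentComplex (hex : Function.Exact i q) (m : M) :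
    psi q hq ((ext q hq).cotangentComplex (c₁ q hq i hex m)) = i m := by
  change psi q hq ((ext q hq).cotangentComplex (Extension.Cotangent.mk (jker q hq i hex m))) = _
  rw [Extension.cotangentComplex_mk, psi_tmul, one_smul, jker_val_snd]

lemma psi_bijective (hi : Function.Injective i) (hex : Function.Exact i q) :
    Function.Bijective (psi q hq) := by
  constructor
  · rw [injective_iff_map_eq_zero]
    intro y hy
    have h1 : (ext q hq).toKaehler y = 0 := by rw [← q_psi, hy, map_zero]
    obtain ⟨c, rfl⟩ := ((ext q hq).exact_cotangentComplex_toKaehler y).1 h1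
    obtain ⟨m, rfl⟩ := (c₁_bijective q hq i hi hex).2 c
    rw [psi_cotangentComplex] at hy
    have : m = 0 := hi (hy.trans (map_zero i).symm)
    rw [this, map_zero, map_zero]
  · intro n
    obtain ⟨y, hy⟩ := (ext q hq).toKaehler_surjective (q n)
    have h1 : q (n - psi q hq y) = 0 := by rw [map_sub, q_psi, hy, sub_self]
    obtain ⟨m, hm⟩ := (hex _).1 h1
    refine ⟨y + (ext q hq).cotangentComplex (c₁ q hq i hex m), ?_⟩
    rw [map_add, psi_cotangentComplex, hm]
    abel

include hq in
/-- Realization of an extension of `Ω[B⁄A]` by a module as the conormal sequence of a square-zero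
algebra extension. -/
theorem exists_extension (hi : Function.Injective i) (hex : Function.Exact i q) :
    ∃ P : Algebra.Extension.{u} A B, P.ker ^ 2 = ⊥ ∧
      ∃ (e₁ : P.Cotangent ≃ₗ[B] M) (e₂ : P.CotangentSpace ≃ₗ[B] N),
        (∀ x, e₂ (P.cotangentComplex x) = i (e₁ x)) ∧ (∀ y, q (e₂ y) = P.toKaehler y) := by
  refine ⟨ext q hq, ker_sq q hq,
    (LinearEquiv.ofBijective (c₁ q hq i hex) (c₁_bijective q hq i hi hex)).symm,
    LinearEquiv.ofBijective (psi q hq) (psi_bijective q hq i hi hex), ?_, ?_⟩
  · intro x
    obtain ⟨m, rfl⟩ := (c₁_bijective q hq i hi hex).2 x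
    rw [LinearEquiv.ofBijective_apply, psi_cotangentComplex]
    congr 1
    exact ((LinearEquiv.ofBijective (c₁ q hq i hex) (c₁_bijective q hq i hi hex)).symm_apply_apply
      m).symm
  · intro y
    exact q_psi q hq y

end Main

end Groth.Agent.H11.ExtReal
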