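import Mathlib

/-! Lifting idempotent ring endomorphisms along square-zero ideals. -/

namespace Groth.Agent.H11.IdemEndo

variable {T : Type*} [CommRing T] (f : T →+* T) (J : Ideal T)

/-- The corrected endomorphism `3 f² - 2 f³`. -/
noncomputable def corr (hJ : ∀ x ∈ J, ∀ y ∈ J, x * y = 0)
    (hb : ∀ b, f (f b) - f b ∈ J) : T →+* T where
  toFun b := f (f b) + 2 * (f (f b) - f (f (f b)))
  map_one' := by simp
  map_zero' := by simp
  map_add' x y := by simp only [map_add]; ring
  map_mul' x y := by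
    have hd : ∀ z, f (f z) - f (f (f z)) ∈ J := fun z => by
      have := hb (f z)
      rw [← neg_sub]
      exact J.neg_mem this
    have h0 := hJ _ (hd x) _ (hd y)
    simp only [map_mul]
    linear_combination (-6 : T) * h0

variable (hJ : ∀ x ∈ J, ∀ y ∈ J, x * y = 0) (hb : ∀ b, f (f b) - f b ∈ J)

theorem corr_apply (b : T) : corr f J hJ hb b = f (f b) + 2 * (f (f b) - f (f (f b))) := rfl

variable (hc1 : ∀ x ∈ J, f x ∈ J) (hc2 : ∀ x ∈ J, f (f x) = f x)

theorem corr_eq (b : T) : corr f J hJ hb b = f (f b) - 2 * f (f (f b) - f b) := by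
  rw [corr_apply, map_sub]
  ring

include hc1 hc2 in
theorem corr_mem (x : T) (hx : x ∈ J) : corr f J hJ hb x = f x := by
  have a1 : f (f x) = f x := hc2 x hx
  have a2 : f (f (f x)) = f (f x) := hc2 (f x) (hc1 x hx)
  rw [corr_apply]
  linear_combination a1 - 2 * a2

include hc1 hc2 in
theorem corr_idem (b : T) : corr f J hJ hb (corr f J hJ hb b) = corr f J hJ hb b := by
  set δ := f (f b) - f b with hδ
  have hδJ : δ ∈ J := hb b
  set Dd := f δ with hD
  have hDJ : Dd ∈ J := hc1 δ hδJ
  have h3 : f (f (f b)) = f (f b) + Dd := by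
    rw [hD, hδ, map_sub]; ring
  have hfD : f Dd = Dd := hc2 δ hδJ
  have h4 : f (f (f (f b))) = f (f b) + 2 * Dd := by
    have h := congrArg f h3
    rw [map_add, hfD] at h
    linear_combination h + h3
  have h5 : f (f (f (f (f b)))) = f (f b) + 3 * Dd := by
    have h := congrArg f h4
    rw [map_add, map_mul, map_ofNat, hfD] at h
    linear_combination h + h3
  have e1 : corr f J hJ hb b = f (f b) - 2 * Dd := by
    rw [corr_apply]
    linear_combination (-2 : T) * h3
  have e2 : corr f J hJ hb (f (f b)) = f (f b) := by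
    rw [corr_apply]
    linear_combination 3 * h4 - 2 * h5
  have e3 : corr f J hJ hb Dd = Dd := by
    rw [corr_mem f J hJ hb hc1 hc2 Dd hDJ, hfD]
  rw [e1, map_sub, map_mul, e2, e3, map_ofNat]

include hc1 hc2 in
theorem corr_sub_mem (b : T) : corr f J hJ hb b - f b ∈ J := by
  have h1 : corr f J hJ hb b - f b =
      (f (f b) - f b) - 2 * f (f (f b) - f b) := by
    rw [corr_eq f J hJ hb]; ring
  rw [h1]
  exact J.sub_mem (hb b) (J.mul_mem_left _ (hc1 _ (hb b)))

theorem corr_fixed (w : T) (hw : f w = w) : corr f J hJ hb w = w := by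
  simp only [corr_apply, hw]; ring

end Groth.Agent.H11.IdemEndo
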