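import Mathlib
import Groth.Prelude.Def_W4c1liftfrobW2
import Groth.Agent.H2.W2
import Groth.Agent.H11.IdemEndo

/-! Frobenius-liftability passes to retracts of a formally smooth Frobenius lifting. -/

set_option autoImplicit false

namespace Groth.Agent.H11.FLiftRetract

open FrobAlg

universe u

theorem isFLiftable_of_retract (p : ℕ) [Fact p.Prime] (k : Type u) [Field k] [CharP k p]
    [PerfectRing k p]
    (A B : Type u) [CommRing A] [CommRing B] [Algebra k A] [Algebra k B]
    (s : A →ₐ[k] B) (ρ : B →ₐ[k] A) (hρs : ∀ a, ρ (s a) = a)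
    (Bt : Type u) [CommRing Bt] (ι : W2 p k →+* Bt) (π : Bt →+* B) (Φ : Bt →+* Bt)
    (h : IsFrobLift p k B Bt ι π Φ)
    (hfs : @Algebra.FormallySmooth (W2 p k) Bt _ _ ι.toAlgebra) :
    IsFLiftable p k A := by
  classical
  have hker : RingHom.ker π = Ideal.span {(p : Bt)} := Groth.Agent.H2.W2.lift_ker p k h.toIsLift
  have hpp : (p : Bt) * (p : Bt) = 0 := Groth.Agent.H2.W2.natCast_mul_natCast p k ι
  have hpA : (p : A) = 0 := by
    rw [← map_natCast (algebraMap k A) p, CharP.cast_eq_zero k p, map_zero]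
  have hπp : π (p : Bt) = 0 := Groth.Agent.H2.W2.lift_map_p p k h.toIsLift
  have hmemJ : ∀ x : Bt, π x = 0 → ∃ y, x = (p : Bt) * y := fun x hx => by
    have : x ∈ RingHom.ker π := hx
    rw [hker, Ideal.mem_span_singleton'] at this
    obtain ⟨y, hy⟩ := this
    exact ⟨y, by rw [← hy, mul_comm]⟩
  -- the idempotent endomorphism of B
  let e : B →+* B := (s : A →+* B).comp (ρ : B →+* A)
  have he : ∀ z, e z = s (ρ z) := fun z => rfl
  have hee : ∀ z, e (e z) = e z := fun z => by rw [he, he, hρs]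
  have hπι : ∀ w, π (ι w) = algebraMap k B (res p k w) := fun w => RingHom.congr_fun h.comm w
  have heι : ∀ w, e (π (ι w)) = π (ι w) := fun w => by
    rw [hπι, he, AlgHom.commutes, AlgHom.commutes]
  -- lift e to Bt
  letI algWBt : Algebra (W2 p k) Bt := ι.toAlgebra
  letI algWB : Algebra (W2 p k) B := (π.comp ι).toAlgebra
  haveI : Algebra.FormallySmooth (W2 p k) Bt := hfs
  let g : Bt →ₐ[W2 p k] B := { π with commutes' := fun w => rfl }
  let fC : Bt →ₐ[W2 p k] B := { e.comp π with commutes' := fun w => heι w }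
  have hgsurj : Function.Surjective g := h.surj
  have hnil : IsNilpotent (RingHom.ker (g : Bt →+* B)) := by
    refine ⟨2, ?_⟩
    change (RingHom.ker π) ^ 2 = ⊥
    rw [hker, Ideal.span_singleton_pow, sq, hpp]
    exact Ideal.span_singleton_eq_bot.2 rfl
  let f0 : Bt →ₐ[W2 p k] Bt := Algebra.FormallySmooth.liftOfSurjective fC g hgsurj hnil
  have hf0 : ∀ b, π (f0 b) = e (π b) :=
    Algebra.FormallySmooth.liftOfSurjective_apply fC g hgsurj hnil
  let f : Bt →+* Bt := f0.toRingHom
  have hfπ : ∀ b, π (f b) = e (π b) := hf0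
  have hfι : ∀ w, f (ι w) = ι w := fun w => f0.commutes w
  have hfp : f (p : Bt) = (p : Bt) := map_natCast f p
  -- hypotheses of the correction lemma
  set J : Ideal Bt := RingHom.ker π with hJdef
  have hJ : ∀ x ∈ J, ∀ y ∈ J, x * y = 0 := by
    intro x hx y hy
    obtain ⟨a, rfl⟩ := hmemJ x hx
    obtain ⟨b, rfl⟩ := hmemJ y hy
    calc (p : Bt) * a * ((p : Bt) * b) = ((p : Bt) * (p : Bt)) * (a * b) := by ring
      _ = 0 := by rw [hpp, zero_mul]
  have hb : ∀ b, f (f b) - f b ∈ J := fun b => by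
    rw [hJdef, RingHom.mem_ker, map_sub, hfπ, hfπ, hee, sub_self]
  have hc1 : ∀ x ∈ J, f x ∈ J := fun x hx => by
    rw [hJdef, RingHom.mem_ker] at hx ⊢
    rw [hfπ, hx, map_zero]
  have hc2 : ∀ x ∈ J, f (f x) = f x := fun x hx => by
    obtain ⟨y, rfl⟩ := hmemJ x hx
    obtain ⟨z, hz⟩ := hmemJ _ (hb y)
    rw [← sub_eq_zero]
    have : f (f ((p : Bt) * y)) - f ((p : Bt) * y) = (p : Bt) * (f (f y) - f y) := by
      simp only [map_mul, hfp]; ring
    rw [this, hz, ← mul_assoc, hpp, zero_mul]
  let et : Bt →+* Bt := IdemEndo.corr f J hJ hb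
  have het_idem : ∀ b, et (et b) = et b := IdemEndo.corr_idem f J hJ hb hc1 hc2
  have hetπ : ∀ b, π (et b) = e (π b) := fun b => by
    have := RingHom.mem_ker.mp (IdemEndo.corr_sub_mem f J hJ hb hc1 hc2 b)
    rw [map_sub, sub_eq_zero] at this
    rw [← hfπ]; exact this
  have hetι : ∀ w, et (ι w) = ι w := fun w => IdemEndo.corr_fixed f J hJ hb (ι w) (hfι w)
  -- the fixed ring
  let At : Subring Bt := RingHom.eqLocus et (RingHom.id Bt)
  have hAt : ∀ x : Bt, x ∈ At ↔ et x = x := fun x => Iff.rfl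
  let ιA : W2 p k →+* At := ι.codRestrict At (fun w => (hAt _).mpr (hetι w))
  let πA : At →+* A := (ρ : B →+* A).comp (π.comp At.subtype)
  let ΦA : At →+* At := (et.comp (Φ.comp At.subtype)).codRestrict At
    (fun x => (hAt _).mpr (het_idem _))
  have hπA : ∀ x : At, πA x = ρ (π (x : Bt)) := fun x => rfl
  have hπx : ∀ x : At, π (x : Bt) = s (πA x) := fun x => by
    have h1 : et (x : Bt) = x := (hAt _).mp x.2
    have h2 := hetπ (x : Bt)
    rw [h1] at h2
    rw [h2, he]; rfl
  refine ⟨At, inferInstance, ιA, πA, ΦA, ?_⟩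
  refine { flat := ?_, surj := ?_, ker_eq := ?_, comm := ?_, semi := ?_, red := ?_ }
  · -- flat
    letI algWAt : Algebra (W2 p k) At := ιA.toAlgebra
    haveI : Module.Flat (W2 p k) Bt := h.flat
    let i : At →ₗ[W2 p k] Bt :=
      { toFun := fun x => (x : Bt)
        map_add' := fun x y => rfl
        map_smul' := fun w x => by
          simp only [Algebra.smul_def, RingHom.id_apply]
          rfl }
    let r : Bt →ₗ[W2 p k] At :=
      { toFun := fun b => ⟨et b, (hAt _).mpr (het_idem b)⟩
        map_add' := fun x y => Subtype.ext (map_add et x y)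
        map_smul' := fun w x => by
          apply Subtype.ext
          simp only [Algebra.smul_def, RingHom.id_apply]
          change et (ι w * x) = ι w * et x
          rw [map_mul, hetι] }
    have hri : r.comp i = LinearMap.id := by
      ext x
      exact (hAt _).mp x.2
    exact Module.Flat.of_retract i r hri
  · -- surjective
    intro a
    obtain ⟨b, hb'⟩ := h.surj (s a)
    refine ⟨⟨et b, (hAt _).mpr (het_idem b)⟩, ?_⟩
    rw [hπA]
    change ρ (π (et b)) = a
    rw [hetπ, hb', he, hρs, hρs]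
  · -- kernel
    have hres : RingHom.ker (res p k) = Ideal.span {(p : W2 p k)} := Groth.Agent.H2.W2.ker_res p k
    rw [hres, Ideal.map_span, Set.image_singleton, map_natCast]
    ext x
    rw [RingHom.mem_ker, Ideal.mem_span_singleton']
    constructor
    · intro hx
      have h1 : π (x : Bt) = 0 := by rw [hπx, hx, map_zero]
      obtain ⟨y, hy⟩ := hmemJ _ h1
      refine ⟨⟨et y, (hAt _).mpr (het_idem y)⟩, ?_⟩
      apply Subtype.ext
      change et y * ((p : ℕ) : At).1 = x.1
      have h2 : et (x : Bt) = x := (hAt _).mp x.2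
      rw [← h2, hy, map_mul, map_natCast]
      simp [mul_comm]
    · rintro ⟨y, rfl⟩
      rw [map_mul, map_natCast, hpA, mul_zero]
  · -- comm
    ext w
    change ρ (π (ι w)) = algebraMap k A (res p k w)
    rw [hπι, AlgHom.commutes]
  · -- semi
    ext w
    change et (Φ (ι w)) = ι (sigma p k w)
    have := RingHom.congr_fun h.semi w
    change Φ (ι w) = ι (sigma p k w) at this
    rw [this, hetι]
  · -- red
    intro x
    change ρ (π (et (Φ (x : Bt)))) = (ρ (π (x : Bt))) ^ p
    rw [hetπ, h.red, he, hρs, map_pow]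

end Groth.Agent.H11.FLiftRetract
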