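import Mathlib
import Groth.Prelude.Def_W4c1liftfrobW2
import Groth.Agent.H2.W2
import Groth.Agent.H2.W2Poly
import Groth.Agent.H11.EtLiftFrob
import Groth.Agent.H11.SymRetract
import Groth.Agent.H11.FLiftRetract

/-! Smooth algebras over a perfect field of characteristic `p` are Frobenius-liftable over `W₂`. -/

set_option autoImplicit false

namespace Groth.Agent.H11.FLiftSmooth

open FrobAlg MvPolynomial

universe u

theorem main (p : ℕ) [Fact p.Prime] (k : Type u) [Field k] [CharP k p] [PerfectRing k p]
    (A : Type u) [CommRing A] [Algebra k A] [Algebra.Smooth k A] :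
    IsFLiftable p k A := by
  classical
  have hp : p.Prime := Fact.out
  obtain ⟨B, _, _, _, _, _, ⟨ρ⟩, hstd⟩ := Groth.Agent.H11.SymRetract.main k A
  obtain ⟨n, g, hgC, hg⟩ := RingHom.IsStandardSmooth.exists_etale_mvPolynomial
    (RingHom.isStandardSmooth_algebraMap.mpr hstd)
  let πP : MvPolynomial (Fin n) (W2 p k) →+* MvPolynomial (Fin n) k := MvPolynomial.map (res p k)
  have hresS : Function.Surjective (res p k) := fun a =>
    ⟨TruncatedWittVector.mk p ![a, 0], by rw [res_apply]; rfl⟩
  have hπPsurj : Function.Surjective πP := MvPolynomial.map_surjective _ hresS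
  have hkerP : RingHom.ker πP = Ideal.span {(p : MvPolynomial (Fin n) (W2 p k))} :=
    Groth.Agent.H2.W2.ker_map_res p k n
  have hkerP' : RingHom.ker πP = (RingHom.ker (res p k)).map
      (C : W2 p k →+* MvPolynomial (Fin n) (W2 p k)) := MvPolynomial.ker_map _
  have hJP : (RingHom.ker πP) ^ 2 = ⊥ := by
    rw [hkerP, Ideal.span_singleton_pow, sq, Groth.Agent.H2.W2.pR_sq p k n]
    exact Ideal.span_singleton_eq_bot.2 rfl
  letI algPB : Algebra (MvPolynomial (Fin n) k) B := g.toAlgebra
  haveI : Algebra.Etale (MvPolynomial (Fin n) k) B := hg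
  have hpB : (p : B) = 0 := by
    rw [← map_natCast (algebraMap k B), CharP.cast_eq_zero, map_zero]
  obtain ⟨S, _, _, πC, ΦC, hEt, hsurj, hkerC, hcomm, hsemi, hredC⟩ :=
    Groth.Agent.H11.EtLiftFrob.main πP hπPsurj hJP p hp hpB (polyFrob p k (Fin n))
      (Groth.Agent.H2.W2.map_res_polyFrob p k n)
  let ι : W2 p k →+* S := (algebraMap (MvPolynomial (Fin n) (W2 p k)) S).comp C
  have hlift : IsFrobLift p k B S ι πC ΦC :=
    { flat := by
        refine RingHom.Flat.comp ?_ (RingHom.flat_algebraMap_iff.2 inferInstance)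
        have : (C : W2 p k →+* MvPolynomial (Fin n) (W2 p k)) =
            algebraMap (W2 p k) (MvPolynomial (Fin n) (W2 p k)) := rfl
        rw [this]
        exact RingHom.flat_algebraMap_iff.2 inferInstance
      surj := hsurj
      ker_eq := by rw [hkerC, hkerP', Ideal.map_map]
      comm := by
        ext w
        change πC (algebraMap _ S (C w)) = algebraMap k B (res p k w)
        have h1 := RingHom.congr_fun hcomm (C w)
        change πC (algebraMap _ S (C w)) = g (πP (C w)) at h1
        rw [h1]
        have h2 : πP (C w) = C (res p k w) := MvPolynomial.map_C _ _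
        rw [h2, ← hgC]
        rfl
      semi := by
        ext w
        change ΦC (algebraMap _ S (C w)) = algebraMap _ S (C (sigma p k w))
        have h1 := RingHom.congr_fun hsemi (C w)
        change ΦC (algebraMap _ S (C w)) = algebraMap _ S (polyFrob p k (Fin n) (C w)) at h1
        rw [h1, Groth.Agent.H2.W2.polyFrob_C]
      red := hredC }
  have hfs : @Algebra.FormallySmooth (W2 p k) S _ _ ι.toAlgebra := by
    letI : Algebra (W2 p k) S := ι.toAlgebra
    haveI : IsScalarTower (W2 p k) (MvPolynomial (Fin n) (W2 p k)) S :=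
      IsScalarTower.of_algebraMap_eq' rfl
    exact Algebra.FormallySmooth.comp (W2 p k) (MvPolynomial (Fin n) (W2 p k)) S
  exact Groth.Agent.H11.FLiftRetract.isFLiftable_of_retract p k A B
    (IsScalarTower.toAlgHom k A B) (ρ.restrictScalars k) (fun a => ρ.commutes a) S ι πC ΦC
    hlift hfs

end Groth.Agent.H11.FLiftSmooth
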