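import Mathlib
import Groth.Agent.H11.PairEt

/-!
# The multivariable Hensel lemma for henselian pairs
-/

set_option autoImplicit false
universe u
open MvPolynomial

namespace Groth.Agent.H11.MVH

variable {A : Type u} [CommRing A]

theorem pderiv_rename_of_notMem_range {σ τ : Type*} {f : σ → τ} (x : τ) (hx : x ∉ Set.range f)
    (p : MvPolynomial σ A) : pderiv x (rename f p) = 0 := by
  induction p using MvPolynomial.induction_on with
  | C a => simp
  | add p q hp hq => simp [hp, hq]
  | mul_X p i hp =>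
    rw [map_mul, rename_X, Derivation.leibniz, hp, smul_zero, add_zero,
      pderiv_X_of_ne (fun h => hx ⟨i, h⟩), smul_zero]

section Presentation

variable {n : ℕ} (F : Fin n → MvPolynomial (Fin n) A)

/-- The Jacobian determinant. -/
noncomputable def jac : MvPolynomial (Fin n) A := (Matrix.of fun i j => pderiv i (F j)).det

/-- The relations of the standard étale algebra attached to the system. -/
noncomputable def rel : Fin n ⊕ Unit → MvPolynomial (Fin n ⊕ Unit) A :=
  Sum.elim (fun i => rename Sum.inl (F i)) (fun _ => X (Sum.inr ()) * rename Sum.inl (jac F) - 1)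

/-- The standard étale algebra attached to the system. -/
abbrev G : Type u := MvPolynomial (Fin n ⊕ Unit) A ⧸ Ideal.span (Set.range (rel F))

/-- The presubmersive presentation. -/
noncomputable def pre : Algebra.PreSubmersivePresentation A (G F) (Fin n ⊕ Unit) (Fin n ⊕ Unit) :=
  Algebra.PreSubmersivePresentation.naive (v := rel F) id Function.injective_id

theorem jacobiMatrix_pre : (pre F).jacobiMatrix =
    Matrix.fromBlocks ((rename Sum.inl : MvPolynomial (Fin n) A →ₐ[A] _).toRingHom.mapMatrix
        (Matrix.of fun i j => pderiv i (F j)))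
      (Matrix.of fun i _ => X (Sum.inr ()) * rename Sum.inl (pderiv i (jac F)))
      0 (Matrix.of fun _ _ => rename Sum.inl (jac F)) := by
  refine Matrix.ext fun i j => ?_
  rw [pre, Algebra.PreSubmersivePresentation.jacobiMatrix_naive]
  rcases i with i | ⟨⟩ <;> rcases j with j | ⟨⟩
  · simp only [id, rel, Sum.elim_inl, Matrix.fromBlocks_apply₁₁]
    rw [pderiv_rename Sum.inl_injective]
    rfl
  · simp only [id, rel, Sum.elim_inr, Matrix.fromBlocks_apply₁₂, Matrix.of_apply]
    rw [map_sub, Derivation.leibniz, pderiv_one, sub_zero,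
      pderiv_X_of_ne (by simp), smul_zero, add_zero, pderiv_rename Sum.inl_injective, smul_eq_mul]
  · simp only [id, rel, Sum.elim_inl, Matrix.fromBlocks_apply₂₁, Matrix.zero_apply]
    exact pderiv_rename_of_notMem_range (f := (Sum.inl : Fin n → Fin n ⊕ Unit)) (Sum.inr ())
      (by simp) (F j)
  · simp only [id, rel, Sum.elim_inr, Matrix.fromBlocks_apply₂₂, Matrix.of_apply]
    rw [map_sub, Derivation.leibniz, pderiv_one, sub_zero, pderiv_X_self,
      pderiv_rename_of_notMem_range (f := (Sum.inl : Fin n → Fin n ⊕ Unit)) (Sum.inr ())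
        (by simp) (jac F), smul_zero, zero_add, smul_eq_mul, mul_one]

theorem jacobian_pre : (pre F).jacobian =
    Ideal.Quotient.mk _ (rename Sum.inl (jac F)) * Ideal.Quotient.mk _ (rename Sum.inl (jac F)) := by
  have h22 : (Matrix.of fun (_ _ : Unit) => rename Sum.inl (jac F) :
      Matrix Unit Unit (MvPolynomial (Fin n ⊕ Unit) A)).det = rename Sum.inl (jac F) := by
    rw [Matrix.det_unique]
    rfl
  have h11 : ((rename Sum.inl : MvPolynomial (Fin n) A →ₐ[A]
      MvPolynomial (Fin n ⊕ Unit) A).toRingHom.mapMatrix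
      (Matrix.of fun i j => pderiv i (F j))).det = rename Sum.inl (jac F) := by
    rw [← RingHom.map_det]
    rfl
  rw [Algebra.PreSubmersivePresentation.jacobian_eq_jacobiMatrix_det, jacobiMatrix_pre,
    Matrix.det_fromBlocks_zero₂₁, h11, h22, map_mul]
  rfl

theorem isUnit_mk_jac : IsUnit (Ideal.Quotient.mk (Ideal.span (Set.range (rel F)))
    (rename Sum.inl (jac F))) := by
  have h : Ideal.Quotient.mk (Ideal.span (Set.range (rel F)))
      (X (Sum.inr ()) * rename Sum.inl (jac F) - 1) = 0 :=
    Ideal.Quotient.eq_zero_iff_mem.2 (Ideal.subset_span ⟨Sum.inr (), rfl⟩)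
  rw [map_sub, map_one, sub_eq_zero, map_mul] at h
  exact IsUnit.of_mul_eq_one _ ((mul_comm _ _).trans h)

/-- The submersive presentation. -/
noncomputable def sub : Algebra.SubmersivePresentation A (G F) (Fin n ⊕ Unit) (Fin n ⊕ Unit) :=
  { pre F with
    jacobian_isUnit := by
      rw [jacobian_pre]
      exact (isUnit_mk_jac F).mul (isUnit_mk_jac F) }

instance : Algebra.Etale A (G F) := by
  haveI : Algebra.IsStandardSmoothOfRelativeDimension 0 A (G F) :=
    (sub F).isStandardSmoothOfRelativeDimension (by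
      simp [Algebra.Presentation.dimension])
  infer_instance

end Presentation

/-- The multivariable Hensel lemma for a henselian pair. -/
theorem exists_root {I : Ideal A} (hA : HenselianRing A I) {n : ℕ}
    (F : Fin n → MvPolynomial (Fin n) A) (a₀ : Fin n → A) (h0 : ∀ i, eval a₀ (F i) ∈ I)
    (hJ : IsUnit (Ideal.Quotient.mk I (eval a₀ (jac F)))) :
    ∃ a : Fin n → A, (∀ i, eval a (F i) = 0) ∧ ∀ i, a i - a₀ i ∈ I := by
  obtain ⟨u, hu⟩ := hJ.exists_right_inv
  let val : Fin n ⊕ Unit → A ⧸ I := Sum.elim (fun i => Ideal.Quotient.mk I (a₀ i)) (fun _ => u)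
  let σ₁ : MvPolynomial (Fin n ⊕ Unit) A →ₐ[A] A ⧸ I := aeval val
  have hren : ∀ p : MvPolynomial (Fin n) A,
      σ₁ (rename Sum.inl p) = Ideal.Quotient.mk I (eval a₀ p) := by
    intro p
    have h1 : σ₁.comp (rename Sum.inl) = (Ideal.Quotient.mkₐ A I).comp (aeval a₀) := by
      apply MvPolynomial.algHom_ext
      intro i
      simp [σ₁, val]
    have h2 := DFunLike.congr_fun h1 p
    simp only [AlgHom.comp_apply, Ideal.Quotient.mkₐ_eq_mk] at h2
    rw [h2]
    rfl
  have hkill : ∀ x ∈ Ideal.span (Set.range (rel F)), σ₁ x = 0 := by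
    intro x hx
    have hle : Ideal.span (Set.range (rel F)) ≤ RingHom.ker (σ₁ : _ →+* A ⧸ I) := by
      rw [Ideal.span_le]
      rintro _ ⟨i | ⟨⟩, rfl⟩
      · show σ₁ (rename Sum.inl (F i)) = 0
        rw [hren]
        exact Ideal.Quotient.eq_zero_iff_mem.2 (h0 i)
      · show σ₁ (X (Sum.inr ()) * rename Sum.inl (jac F) - 1) = 0
        rw [map_sub, map_mul, hren, map_one]
        have : σ₁ (X (Sum.inr ())) = u := by simp [σ₁, val]
        rw [this, mul_comm, hu, sub_self]
    exact hle hx
  let σ₀ : G F →ₐ[A] A ⧸ I := Ideal.Quotient.liftₐ _ σ₁ hkill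
  obtain ⟨τ, hτ⟩ := Groth.Agent.H11.PH.exists_algHom_lift_of_etale (A := A) (R := G F) (C := A)
    I hA σ₀
  let a : Fin n → A := fun i => τ (Ideal.Quotient.mk _ (X (Sum.inl i)))
  have key : ∀ p : MvPolynomial (Fin n) A,
      τ (Ideal.Quotient.mk _ (rename Sum.inl p)) = eval a p := by
    intro p
    have h1 : (τ.comp (Ideal.Quotient.mkₐ A _)).comp (rename Sum.inl) = aeval a := by
      apply MvPolynomial.algHom_ext
      intro i
      simp [a]
    have h2 := DFunLike.congr_fun h1 p
    simp only [AlgHom.comp_apply, Ideal.Quotient.mkₐ_eq_mk] at h2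
    rw [h2]
    rfl
  refine ⟨a, fun i => ?_, fun i => ?_⟩
  · rw [← key]
    have : Ideal.Quotient.mk (Ideal.span (Set.range (rel F))) (rename Sum.inl (F i)) = 0 :=
      Ideal.Quotient.eq_zero_iff_mem.2 (Ideal.subset_span ⟨Sum.inl i, rfl⟩)
    rw [this, map_zero]
  · rw [← Ideal.Quotient.eq]
    have h1 := DFunLike.congr_fun hτ (Ideal.Quotient.mk _ (X (Sum.inl i)))
    simp only [AlgHom.comp_apply, Ideal.Quotient.mkₐ_eq_mk] at h1
    show Ideal.Quotient.mk I (τ _) = _
    rw [h1]
    show σ₁ (X (Sum.inl i)) = _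
    simp [σ₁, val]

end Groth.Agent.H11.MVH
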