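import Mathlib
import Groth.Agent.H11.MVHensel

/-! Lifting factorizations of non-monic polynomials over henselian local rings (helper11). -/

set_option autoImplicit false
universe u

namespace Groth.Agent.H11.FactorLift

open Finset

section Defs

variable {R : Type u} [CommRing R] (d m : ℕ)

/-- the variables, indexed by naturals (zero when out of range). -/
noncomputable def Y (i : ℕ) : MvPolynomial (Fin (d + (m + 1))) R :=
  if h : i < d + (m + 1) then MvPolynomial.X ⟨i, h⟩ else 0

/-- coefficients of the generic monic polynomial of degree `d`. -/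
noncomputable def Gc (i : ℕ) : MvPolynomial (Fin (d + (m + 1))) R :=
  if i < d then Y d m i else if i = d then 1 else 0

/-- coefficients of the generic polynomial of degree `≤ m`. -/
noncomputable def Hc (j : ℕ) : MvPolynomial (Fin (d + (m + 1))) R :=
  if j < m + 1 then Y d m (d + j) else 0

/-- the system of equations `g * h = f`. -/
noncomputable def Fsys (f : Polynomial R) (k : Fin (d + (m + 1))) :
    MvPolynomial (Fin (d + (m + 1))) R :=
  ∑ p ∈ antidiagonal k.1, Gc d m p.1 * Hc d m p.2 - MvPolynomial.C (f.coeff k.1)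

lemma pderiv_Y (t : Fin (d + (m + 1))) (i : ℕ) :
    MvPolynomial.pderiv t (Y (R := R) d m i) = if t.1 = i then 1 else 0 := by
  classical
  unfold Y
  split_ifs with h1 h2 h2
  · rw [MvPolynomial.pderiv_X]
    have : (⟨i, h1⟩ : Fin (d + (m + 1))) = t := Fin.ext h2.symm
    rw [this, Pi.single_eq_same]
  · rw [MvPolynomial.pderiv_X]
    have : (⟨i, h1⟩ : Fin (d + (m + 1))) ≠ t := fun h => h2 (by rw [← h])
    rw [Pi.single_eq_of_ne this]
  · exfalso
    exact h1 (h2 ▸ t.2)
  · exact map_zero _

lemma pderiv_Gc (t : Fin (d + (m + 1))) (i : ℕ) :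
    MvPolynomial.pderiv t (Gc (R := R) d m i) = if i < d ∧ t.1 = i then 1 else 0 := by
  unfold Gc
  split_ifs with h1 h2 h3 h4 h5
  · rw [pderiv_Y, if_pos h2.2]
  · rw [pderiv_Y]
    rw [if_neg]
    intro h
    exact h2 ⟨h1, h⟩
  · exact absurd h4.1 h1
  · exact MvPolynomial.pderiv_one
  · exact absurd h5.1 h1
  · exact map_zero _

lemma pderiv_Hc (t : Fin (d + (m + 1))) (j : ℕ) :
    MvPolynomial.pderiv t (Hc (R := R) d m j) = if j < m + 1 ∧ t.1 = d + j then 1 else 0 := by
  unfold Hc
  split_ifs with h1 h2 h3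
  · rw [pderiv_Y, if_pos h2.2]
  · rw [pderiv_Y, if_neg]
    intro h
    exact h2 ⟨h1, h⟩
  · exact absurd h3.1 h1
  · exact map_zero _

variable {S : Type*} [CommRing S] (φ : MvPolynomial (Fin (d + (m + 1))) R →+* S)

/-- the specialized monic polynomial. -/
noncomputable def gP : Polynomial S :=
  Polynomial.X ^ d + ∑ i ∈ range d, Polynomial.monomial i (φ (Gc d m i))

/-- the specialized second factor. -/
noncomputable def hP : Polynomial S :=
  ∑ j ∈ range (m + 1), Polynomial.monomial j (φ (Hc d m j))

lemma coeff_sum_monomial (n : ℕ) (c : ℕ → S) (i : ℕ) :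
    (∑ j ∈ range n, Polynomial.monomial j (c j)).coeff i = if i < n then c i else 0 := by
  rw [Polynomial.finset_sum_coeff]
  simp only [Polynomial.coeff_monomial]
  split_ifs with h
  · rw [Finset.sum_eq_single i]
    · simp
    · intro b _ hb
      rw [if_neg hb]
    · intro hi
      exact absurd (mem_range.2 h) hi
  · apply Finset.sum_eq_zero
    intro b hb
    rw [if_neg]
    intro hbi
    exact h (hbi ▸ mem_range.1 hb)

lemma coeff_gP (i : ℕ) : (gP d m φ).coeff i = φ (Gc d m i) := by
  unfold gP
  rw [Polynomial.coeff_add, Polynomial.coeff_X_pow, coeff_sum_monomial]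
  unfold Gc
  by_cases h1 : i < d
  · rw [if_neg (Nat.ne_of_lt h1), if_pos h1, if_pos h1, zero_add]
  · by_cases h2 : i = d
    · rw [if_pos h2, if_neg h1, if_neg h1, if_pos h2, map_one, add_zero]
    · rw [if_neg h2, if_neg h1, if_neg h1, if_neg h2, map_zero, add_zero]

lemma coeff_hP (j : ℕ) : (hP d m φ).coeff j = φ (Hc d m j) := by
  unfold hP
  rw [coeff_sum_monomial]
  split_ifs with h
  · rfl
  · unfold Hc
    rw [if_neg h, map_zero]

lemma degree_sum_lt (n : ℕ) (c : ℕ → S) :
    (∑ j ∈ range n, Polynomial.monomial j (c j)).degree < n := by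
  rw [Polynomial.degree_lt_iff_coeff_zero]
  intro i hi
  rw [coeff_sum_monomial, if_neg (by omega)]

lemma monic_gP : (gP d m φ).Monic := by
  unfold gP
  exact Polynomial.monic_X_pow_add (degree_sum_lt d _)

lemma natDegree_gP_le : (gP d m φ).natDegree ≤ d := by
  rw [Polynomial.natDegree_le_iff_coeff_eq_zero]
  intro i hi
  rw [coeff_gP]
  unfold Gc
  rw [if_neg (by omega), if_neg (by omega), map_zero]

lemma natDegree_hP_le : (hP d m φ).natDegree ≤ m := by
  rw [Polynomial.natDegree_le_iff_coeff_eq_zero]
  intro i hi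
  rw [coeff_hP]
  unfold Hc
  rw [if_neg (by omega), map_zero]

lemma map_Fsys (f : Polynomial R) (k : Fin (d + (m + 1))) :
    φ (Fsys d m f k) = (gP d m φ * hP d m φ).coeff k.1 - φ (MvPolynomial.C (f.coeff k.1)) := by
  unfold Fsys
  rw [map_sub, map_sum, Polynomial.coeff_mul]
  congr 1
  refine Finset.sum_congr rfl fun p _ => ?_
  rw [map_mul, coeff_gP, coeff_hP]

lemma gP_map {S' : Type*} [CommRing S'] (ψ : S →+* S') :
    (gP d m φ).map ψ = gP d m (ψ.comp φ) := by
  ext i
  rw [Polynomial.coeff_map, coeff_gP, coeff_gP]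
  rfl

lemma hP_map {S' : Type*} [CommRing S'] (ψ : S →+* S') :
    (hP d m φ).map ψ = hP d m (ψ.comp φ) := by
  ext i
  rw [Polynomial.coeff_map, coeff_hP, coeff_hP]
  rfl

end Defs


section Main

variable {R : Type u} [CommRing R] [HenselianLocalRing R]

open IsLocalRing

theorem factor_lift (f : Polynomial R) (g₀ h₀ : Polynomial (ResidueField R)) (hg : g₀.Monic)
    (hc : IsCoprime g₀ h₀) (hf : Polynomial.map (residue R) f = g₀ * h₀) :
    ∃ g h : Polynomial R, f = g * h ∧ g.Monic ∧ Polynomial.map (residue R) g = g₀ ∧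
      Polynomial.map (residue R) h = h₀ := by
  classical
  set d := g₀.natDegree with hd
  set m := f.natDegree with hm
  have hh₀ : h₀.natDegree ≤ m := by
    by_cases h0 : h₀ = 0
    · rw [h0]; simp
    · have h1 : (g₀ * h₀).natDegree = d + h₀.natDegree := hg.natDegree_mul' h0
      have h2 : (Polynomial.map (residue R) f).natDegree ≤ m := Polynomial.natDegree_map_le
      rw [hf, h1] at h2
      omega
  let c : Fin (d + (m + 1)) → ResidueField R :=
    fun t => if t.1 < d then g₀.coeff t.1 else h₀.coeff (t.1 - d)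
  have hex : ∀ t, ∃ r : R, residue R r = c t := fun t => residue_surjective (c t)
  choose a₀ ha₀ using hex
  let φ₀ : MvPolynomial (Fin (d + (m + 1))) R →+* ResidueField R :=
    (residue R).comp (MvPolynomial.eval a₀)
  have hφ₀Y : ∀ i (h : i < d + (m + 1)), φ₀ (Y d m i) = c ⟨i, h⟩ := by
    intro i h
    unfold Y
    rw [dif_pos h]
    show residue R (MvPolynomial.eval a₀ (MvPolynomial.X ⟨i, h⟩)) = _
    rw [MvPolynomial.eval_X, ha₀]
  have hg₀ : gP d m φ₀ = g₀ := by
    ext i
    rw [coeff_gP]
    unfold Gc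
    by_cases h1 : i < d
    · rw [if_pos h1, hφ₀Y i (by omega)]
      show (if i < d then _ else _) = _
      rw [if_pos h1]
    · by_cases h2 : i = d
      · rw [if_neg h1, if_pos h2, map_one, h2]
        exact hg.coeff_natDegree.symm
      · rw [if_neg h1, if_neg h2, map_zero]
        exact (Polynomial.coeff_eq_zero_of_natDegree_lt (by omega)).symm
  have hh₀' : hP d m φ₀ = h₀ := by
    ext j
    rw [coeff_hP]
    unfold Hc
    by_cases h1 : j < m + 1
    · rw [if_pos h1, hφ₀Y (d + j) (by omega)]
      show (if d + j < d then _ else _) = _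
      rw [if_neg (by omega), Nat.add_sub_cancel_left]
    · rw [if_neg h1, map_zero]
      exact (Polynomial.coeff_eq_zero_of_natDegree_lt (by omega)).symm
  have h0 : ∀ k, MvPolynomial.eval a₀ (Fsys d m f k) ∈ maximalIdeal R := by
    intro k
    rw [← Ideal.Quotient.eq_zero_iff_mem]
    show φ₀ (Fsys d m f k) = 0
    rw [map_Fsys, hg₀, hh₀', ← hf, Polynomial.coeff_map]
    show _ - residue R (MvPolynomial.eval a₀ (MvPolynomial.C _)) = 0
    rw [MvPolynomial.eval_C, sub_self]
  -- the Jacobian
  have hJ : IsUnit (Ideal.Quotient.mk (maximalIdeal R)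
      (MvPolynomial.eval a₀ (MVH.jac (Fsys d m f)))) := by
    show IsUnit (φ₀ (MVH.jac (Fsys d m f)))
    rw [isUnit_iff_ne_zero]
    unfold MVH.jac
    rw [RingHom.map_det]
    intro hdet
    obtain ⟨w, hw0, hw⟩ := Matrix.exists_vecMul_eq_zero_iff.2 hdet
    apply hw0
    have hM : ∀ j : Fin (d + (m + 1)),
        ∑ i, w i * φ₀ (MvPolynomial.pderiv i (Fsys d m f j)) = 0 := by
      intro j
      have := congrFun hw j
      simpa [Matrix.vecMul, dotProduct] using this
    let cU : ℕ → ResidueField R := fun s => ∑ i, w i * φ₀ (MvPolynomial.pderiv i (Gc d m s))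
    let cV : ℕ → ResidueField R := fun s => ∑ i, w i * φ₀ (MvPolynomial.pderiv i (Hc d m s))
    let U : Polynomial (ResidueField R) := ∑ s ∈ range d, Polynomial.monomial s (cU s)
    let V : Polynomial (ResidueField R) := ∑ s ∈ range (m + 1), Polynomial.monomial s (cV s)
    have hcU : ∀ s, U.coeff s = cU s := by
      intro s
      rw [coeff_sum_monomial]
      split_ifs with h
      · rfl
      · symm
        apply Finset.sum_eq_zero
        intro i _
        rw [pderiv_Gc, if_neg (fun hh => h hh.1), map_zero, mul_zero]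
    have hcV : ∀ s, V.coeff s = cV s := by
      intro s
      rw [coeff_sum_monomial]
      split_ifs with h
      · rfl
      · symm
        apply Finset.sum_eq_zero
        intro i _
        rw [pderiv_Hc, if_neg (fun hh => h hh.1), map_zero, mul_zero]
    have hcoef : ∀ j : Fin (d + (m + 1)), (U * h₀ + g₀ * V).coeff j.1 = 0 := by
      intro j
      rw [← hM j, Polynomial.coeff_add, Polynomial.coeff_mul, Polynomial.coeff_mul,
        ← Finset.sum_add_distrib]
      have hp : ∀ i, φ₀ (MvPolynomial.pderiv i (Fsys d m f j)) =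
          ∑ p ∈ antidiagonal j.1, (φ₀ (MvPolynomial.pderiv i (Gc d m p.1)) * h₀.coeff p.2 +
            g₀.coeff p.1 * φ₀ (MvPolynomial.pderiv i (Hc d m p.2))) := by
        intro i
        unfold Fsys
        rw [map_sub, MvPolynomial.pderiv_C, sub_zero, map_sum, map_sum]
        refine Finset.sum_congr rfl fun p _ => ?_
        rw [Derivation.leibniz, smul_eq_mul, smul_eq_mul, map_add, map_mul, map_mul,
          ← coeff_gP d m φ₀, ← coeff_hP d m φ₀, hg₀, hh₀']
        ring
      simp_rw [hp, Finset.mul_sum]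
      rw [Finset.sum_comm]
      refine Finset.sum_congr rfl fun p _ => ?_
      rw [hcU, hcV]
      show (∑ i, w i * φ₀ (MvPolynomial.pderiv i (Gc d m p.1))) * _ +
        _ * (∑ i, w i * φ₀ (MvPolynomial.pderiv i (Hc d m p.2))) = _
      rw [Finset.sum_mul, Finset.mul_sum, ← Finset.sum_add_distrib]
      refine Finset.sum_congr rfl fun i _ => ?_
      ring
    have hUhi : ∀ s, d ≤ s → U.coeff s = 0 := by
      intro s hs
      rw [coeff_sum_monomial, if_neg (by omega)]
    have hVhi : ∀ s, m + 1 ≤ s → V.coeff s = 0 := by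
      intro s hs
      rw [coeff_sum_monomial, if_neg (by omega)]
    have hzero : U * h₀ + g₀ * V = 0 := by
      ext k
      rw [Polynomial.coeff_zero]
      by_cases hk : k < d + (m + 1)
      · exact hcoef ⟨k, hk⟩
      · rw [Polynomial.coeff_add, Polynomial.coeff_mul, Polynomial.coeff_mul]
        rw [Finset.sum_eq_zero, Finset.sum_eq_zero, add_zero]
        · intro p hp
          have hpk : p.1 + p.2 = k := mem_antidiagonal.1 hp
          by_cases h1 : d < p.1
          · rw [Polynomial.coeff_eq_zero_of_natDegree_lt (by omega), zero_mul]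
          · rw [hVhi p.2 (by omega), mul_zero]
        · intro p hp
          have hpk : p.1 + p.2 = k := mem_antidiagonal.1 hp
          by_cases h1 : d ≤ p.1
          · rw [hUhi p.1 h1, zero_mul]
          · rw [Polynomial.coeff_eq_zero_of_natDegree_lt (p := h₀) (by omega), mul_zero]
    have hdvd : g₀ ∣ U * h₀ := ⟨-V, by
      rw [mul_neg]
      exact eq_neg_of_add_eq_zero_left hzero⟩
    have hdvdU : g₀ ∣ U := hc.dvd_of_dvd_mul_right hdvd
    have hU0 : U = 0 := by
      apply Polynomial.eq_zero_of_dvd_of_degree_lt hdvdU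
      rw [Polynomial.degree_eq_natDegree hg.ne_zero]
      exact degree_sum_lt d _
    have hV0 : V = 0 := by
      rw [hU0, zero_mul, zero_add] at hzero
      exact (hg.mul_right_eq_zero_iff).1 hzero
    funext i
    show w i = 0
    by_cases hi : i.1 < d
    · have h1 : cU i.1 = w i := by
        show ∑ i', w i' * φ₀ (MvPolynomial.pderiv i' (Gc d m i.1)) = w i
        rw [Finset.sum_eq_single i]
        · rw [pderiv_Gc, if_pos ⟨hi, rfl⟩, map_one, mul_one]
        · intro b _ hb
          rw [pderiv_Gc, if_neg, map_zero, mul_zero]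
          intro hh
          exact hb (Fin.ext hh.2)
        · intro hh
          exact absurd (Finset.mem_univ i) hh
      rw [← h1, ← hcU, hU0, Polynomial.coeff_zero]
    · have h1 : cV (i.1 - d) = w i := by
        show ∑ i', w i' * φ₀ (MvPolynomial.pderiv i' (Hc d m (i.1 - d))) = w i
        have hi2 : i.1 - d < m + 1 := by have := i.2; omega
        have hi3 : i.1 = d + (i.1 - d) := by omega
        rw [Finset.sum_eq_single i]
        · rw [pderiv_Hc, if_pos ⟨hi2, hi3⟩, map_one, mul_one]
        · intro b _ hb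
          rw [pderiv_Hc, if_neg, map_zero, mul_zero]
          intro hh
          exact hb (Fin.ext (hh.2.trans hi3.symm))
        · intro hh
          exact absurd (Finset.mem_univ i) hh
      rw [← h1, ← hcV, hV0, Polynomial.coeff_zero]
  obtain ⟨a, ha, haa⟩ := MVH.exists_root (inferInstance : HenselianRing R (maximalIdeal R))
    (Fsys d m f) a₀ h0 hJ
  let φ : MvPolynomial (Fin (d + (m + 1))) R →+* R := MvPolynomial.eval a
  have hφφ₀ : (residue R).comp φ = φ₀ := by
    apply MvPolynomial.ringHom_ext
    · intro r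
      show residue R (MvPolynomial.eval a (MvPolynomial.C r)) =
        residue R (MvPolynomial.eval a₀ (MvPolynomial.C r))
      rw [MvPolynomial.eval_C, MvPolynomial.eval_C]
    · intro t
      show residue R (MvPolynomial.eval a (MvPolynomial.X t)) =
        residue R (MvPolynomial.eval a₀ (MvPolynomial.X t))
      rw [MvPolynomial.eval_X, MvPolynomial.eval_X]
      exact Ideal.Quotient.eq.2 (haa t)
  refine ⟨gP d m φ, hP d m φ, ?_, monic_gP d m φ, ?_, ?_⟩
  · ext k
    by_cases hk : k < d + (m + 1)
    · have h1 := ha ⟨k, hk⟩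
      have h2 : φ (Fsys d m f ⟨k, hk⟩) = 0 := h1
      rw [map_Fsys] at h2
      have h3 : φ (MvPolynomial.C (f.coeff k)) = f.coeff k := MvPolynomial.eval_C _
      rw [h3, sub_eq_zero] at h2
      exact h2.symm
    · rw [Polynomial.coeff_eq_zero_of_natDegree_lt (by omega),
        Polynomial.coeff_eq_zero_of_natDegree_lt]
      refine lt_of_le_of_lt Polynomial.natDegree_mul_le ?_
      have h1 := natDegree_gP_le d m φ
      have h2 := natDegree_hP_le d m φ
      omega
  · rw [gP_map, hφφ₀, hg₀]
  · rw [hP_map, hφφ₀, hh₀']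

end Main

end Groth.Agent.H11.FactorLift
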