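import Mathlib
import Groth.Prelude.Def_W4c6instabfans3FanCvx

open CategoryTheory Opposite Instab

namespace Groth.Agent.H11.FanLib

universe u
variable {F : Fan.{u}}

theorem realMap_id {n : ICone} (v : Fin n.dim → ℝ) : (𝟙 n : n ⟶ n).realMap v = v := by
  funext j
  show ∑ i, (((𝟙 n : n ⟶ n).toLin (Pi.single i 1) j : ℤ) : ℝ) * v i = v j
  have : ∀ i, ((𝟙 n : n ⟶ n).toLin (Pi.single i 1) j : ℤ) = if j = i then 1 else 0 := by
    intro i
    show (Pi.single i (1 : ℤ) : Fin n.dim → ℤ) j = _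
    rw [Pi.single_apply]
  simp only [this]
  simp

theorem mk_smul {n : ICone} (ξ : F.obj (op n)) (v w : Fan.Orth n) (c : ℝ) (hc : 0 < c)
    (h : w.1 = c • v.1) : Fan.P.mk ξ v = Fan.P.mk ξ w := by
  have := Fan.Rel.glue (F := F) (𝟙 n) ξ v w c hc (by rw [realMap_id]; exact h)
  have e : F.map (𝟙 n : n ⟶ n).op ξ = ξ := by
    simp
  rw [e] at this
  exact Quot.sound this

end Groth.Agent.H11.FanLib
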