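import Mathlib
import Groth.Agent.H11.Cartier
import Groth.Agent.H14Lib.KrullDim

/-!
# Fibre dimension of Kähler differentials on a variety
-/

set_option autoImplicit false

universe u

namespace Groth.Agent.H11.FibreDim

open TensorProduct Module

section Semicont

variable {A : Type u} [CommRing A] (M : Type u) [AddCommGroup M] [Module A M] [Module.Finite A M]

/-- The images of `1 ⊗ m` span `K ⊗ M`. -/
lemma span_one_tmul (K : Type u) [Field K] [Algebra A K] :
    Submodule.span K (Set.range fun m : M => (1 : K) ⊗ₜ[A] m) = ⊤ := by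
  rw [eq_top_iff]
  rintro z -
  induction z using TensorProduct.induction_on with
  | zero => exact Submodule.zero_mem _
  | add a b ha hb => exact Submodule.add_mem _ ha hb
  | tmul c m =>
    have : c ⊗ₜ[A] m = c • ((1 : K) ⊗ₜ[A] m) := by
      rw [TensorProduct.smul_tmul', smul_eq_mul, mul_one]
    rw [this]
    exact Submodule.smul_mem _ _ (Submodule.subset_span ⟨m, rfl⟩)

/-- If the images of the `m j` span `K ⊗ M` and `N = M / span (m j)` then `K ⊗ N = 0`. -/
lemma subsingleton_tensor_quotient (K : Type u) [Field K] [Algebra A K] {ι : Type*} (m : ι → M)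
    (hm : Submodule.span K (Set.range fun j => (1 : K) ⊗ₜ[A] m j) = ⊤) :
    Subsingleton (K ⊗[A] (M ⧸ Submodule.span A (Set.range m))) := by
  set M' := Submodule.span A (Set.range m) with hM'
  have hex : Function.Exact (LinearMap.lTensor K M'.subtype) (LinearMap.lTensor K M'.mkQ) :=
    lTensor_exact K (LinearMap.exact_subtype_mkQ M') (Submodule.mkQ_surjective M')
  have hsurj : Function.Surjective (LinearMap.lTensor K M'.mkQ) :=
    LinearMap.lTensor_surjective K (Submodule.mkQ_surjective M')
  -- the base-changed map is K-linear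
  have hzero : ∀ z : K ⊗[A] M, (LinearMap.baseChange K M'.mkQ) z = 0 := by
    intro z
    have hz : z ∈ Submodule.span K (Set.range fun j => (1 : K) ⊗ₜ[A] m j) := by rw [hm]; trivial
    induction hz using Submodule.span_induction with
    | mem x hx =>
      obtain ⟨j, rfl⟩ := hx
      rw [LinearMap.baseChange_tmul]
      have : M'.mkQ (m j) = 0 := by
        rw [Submodule.mkQ_apply, Submodule.Quotient.mk_eq_zero]
        exact Submodule.subset_span ⟨j, rfl⟩
      rw [this, tmul_zero]
    | zero => simp
    | add x y _ _ hx hy => rw [map_add, hx, hy, add_zero]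
    | smul c x _ hx => rw [map_smul, hx, smul_zero]
  refine ⟨fun a b => ?_⟩
  obtain ⟨a', rfl⟩ := hsurj a
  obtain ⟨b', rfl⟩ := hsurj b
  have ha := hzero a'
  have hb := hzero b'
  rw [LinearMap.baseChange_eq_ltensor] at ha hb
  rw [ha, hb]

/-- Upper semicontinuity of the fibre dimension of a finite module along specialization. -/
theorem finrank_le_of_le (q P : Ideal A) [q.IsPrime] [P.IsPrime] (h : q ≤ P) :
    finrank q.ResidueField (q.ResidueField ⊗[A] M) ≤
      finrank P.ResidueField (P.ResidueField ⊗[A] M) := by
  classical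
  -- choose a basis among the `1 ⊗ m`
  obtain ⟨b, hb1, hb2, hb3⟩ := exists_linearIndependent P.ResidueField
    (Set.range fun m : M => (1 : P.ResidueField) ⊗ₜ[A] m)
  rw [span_one_tmul M P.ResidueField] at hb2
  haveI : Module.Finite P.ResidueField (P.ResidueField ⊗[A] M) := inferInstance
  have hbfin : b.Finite := by
    have := hb3.finite
    exact Set.toFinite b
  haveI : Fintype b := hbfin.fintype
  have hcard : Fintype.card b = finrank P.ResidueField (P.ResidueField ⊗[A] M) := by
    have := finrank_span_eq_card hb3
    rw [Subtype.range_coe_subtype, Set.ofPred_mem_eq, hb2, finrank_top] at this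
    exact this.symm
  choose f hf using fun x : b => hb1 x.2
  have hspanP : Submodule.span P.ResidueField
      (Set.range fun j : b => (1 : P.ResidueField) ⊗ₜ[A] f j) = ⊤ := by
    have : (fun j : b => (1 : P.ResidueField) ⊗ₜ[A] f j) =
        fun j : b => (j : P.ResidueField ⊗[A] M) := by
      funext j
      exact hf j
    rw [this, Subtype.range_coe_subtype, Set.ofPred_mem_eq, hb2]
  have hN := subsingleton_tensor_quotient M P.ResidueField f hspanP
  set N := M ⧸ Submodule.span A (Set.range f) with hNdef
  have hPs : (⟨P, inferInstance⟩ : PrimeSpectrum A) ∉ Module.support A N := by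
    rw [Module.mem_support_iff_nontrivial_residueField_tensorProduct]
    exact not_nontrivial _
  have hqs : (⟨q, inferInstance⟩ : PrimeSpectrum A) ∉ Module.support A N := by
    intro hq
    exact hPs (Module.mem_support_mono (p := ⟨q, inferInstance⟩) (q := ⟨P, inferInstance⟩) h hq)
  rw [Module.mem_support_iff_nontrivial_residueField_tensorProduct,
    not_nontrivial_iff_subsingleton] at hqs
  -- hence the `1 ⊗ f j` span `κ(q) ⊗ M`
  have hspanq : Submodule.span q.ResidueField
      (Set.range fun j : b => (1 : q.ResidueField) ⊗ₜ[A] f j) = ⊤ := by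
    set M' := Submodule.span A (Set.range f) with hM'
    have hex : Function.Exact (LinearMap.lTensor q.ResidueField M'.subtype)
        (LinearMap.lTensor q.ResidueField M'.mkQ) :=
      lTensor_exact _ (LinearMap.exact_subtype_mkQ M') (Submodule.mkQ_surjective M')
    have key : ∀ w : q.ResidueField ⊗[A] M', LinearMap.lTensor q.ResidueField M'.subtype w ∈
        Submodule.span q.ResidueField (Set.range fun j : b => (1 : q.ResidueField) ⊗ₜ[A] f j) := by
      intro w
      induction w using TensorProduct.induction_on with
      | zero => rw [map_zero]; exact Submodule.zero_mem _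
      | add a c ha hc => rw [map_add]; exact Submodule.add_mem _ ha hc
      | tmul c x =>
        rw [LinearMap.lTensor_tmul]
        obtain ⟨x, hx⟩ := x
        change c ⊗ₜ[A] x ∈ _
        induction hx using Submodule.span_induction with
        | mem y hy =>
          obtain ⟨j, rfl⟩ := hy
          have : c ⊗ₜ[A] f j = c • ((1 : q.ResidueField) ⊗ₜ[A] f j) := by
            rw [TensorProduct.smul_tmul', smul_eq_mul, mul_one]
          rw [this]
          exact Submodule.smul_mem _ _ (Submodule.subset_span ⟨j, rfl⟩)
        | zero =>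
          rw [tmul_zero]; exact Submodule.zero_mem _
        | add y₁ y₂ _ _ h₁ h₂ =>
          rw [tmul_add]; exact Submodule.add_mem _ h₁ h₂
        | smul a y _ hy =>
          rw [← smul_tmul]
          have : (a • c) ⊗ₜ[A] y = (algebraMap A q.ResidueField a) • (c ⊗ₜ[A] y) := by
            rw [TensorProduct.smul_tmul', Algebra.smul_def, smul_eq_mul]
          rw [this]
          exact Submodule.smul_mem _ _ hy
    rw [eq_top_iff]
    rintro z -
    have hz0 : LinearMap.lTensor q.ResidueField M'.mkQ z = 0 := Subsingleton.elim _ _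
    obtain ⟨w, rfl⟩ := (hex z).1 hz0
    exact key w
  calc finrank q.ResidueField (q.ResidueField ⊗[A] M)
      = finrank q.ResidueField (⊤ : Submodule q.ResidueField (q.ResidueField ⊗[A] M)) :=
        (finrank_top q.ResidueField (q.ResidueField ⊗[A] M)).symm
    _ = finrank q.ResidueField (Submodule.span q.ResidueField
          (Set.range fun j : b => (1 : q.ResidueField) ⊗ₜ[A] f j)) := by rw [hspanq]
    _ ≤ Fintype.card b := finrank_range_le_card _
    _ = _ := hcard

end Semicont

section Omega

open KaehlerDifferential

variable (k : Type u) [Field k] (A : Type u) [CommRing A] [Algebra k A]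

/-- `κ(q) ⊗ Ω_{A/k} → Ω_{κ(q)/k}` is surjective. -/
theorem mapBaseChange_residueField_surjective (q : Ideal A) [q.IsPrime] :
    Function.Surjective (KaehlerDifferential.mapBaseChange k A q.ResidueField) := by
  haveI : Algebra.FormallyUnramified A (Localization.AtPrime q) :=
    Algebra.FormallyUnramified.of_isLocalization q.primeCompl
  haveI : Algebra.FormallyUnramified A q.ResidueField :=
    Algebra.FormallyUnramified.comp A (Localization.AtPrime q) q.ResidueField
  haveI : Subsingleton (Ω[q.ResidueField⁄A]) := inferInstance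
  intro w
  have h0 : KaehlerDifferential.map k A q.ResidueField q.ResidueField w = 0 :=
    Subsingleton.elim _ _
  exact (KaehlerDifferential.exact_mapBaseChange_map k A q.ResidueField w).1 h0

variable [Algebra.FiniteType k A]

/-- `dim_{κ(q)} Ω_{κ(q)/k} ≤ dim_{κ(q)} κ(q) ⊗ Ω_{A/k}`. -/
theorem finrank_kaehler_residueField_le (q : Ideal A) [q.IsPrime] :
    finrank q.ResidueField (Ω[q.ResidueField⁄k]) ≤
      finrank q.ResidueField (q.ResidueField ⊗[A] Ω[A⁄k]) := by
  haveI : Module.Finite A (Ω[A⁄k]) := inferInstance
  haveI : Module.Finite q.ResidueField (q.ResidueField ⊗[A] Ω[A⁄k]) := inferInstance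
  exact LinearMap.finrank_le_finrank_of_surjective
    (f := KaehlerDifferential.mapBaseChange k A q.ResidueField)
    (mapBaseChange_residueField_surjective k A q)

end Omega

section Trdeg

variable (k : Type u) [Field k] (A : Type u) [CommRing A] [Algebra k A] [Algebra.FiniteType k A]

/-- For a prime `q` of a finite type `k`-algebra, `dim A/q ≤ trdeg_k κ(q)`. -/
theorem le_trdeg_of_le_ringKrullDim (q : Ideal A) [q.IsPrime] (n : ℕ)
    (hq : (n : WithBot ℕ∞) ≤ ringKrullDim (A ⧸ q)) :
    (n : Cardinal.{u}) ≤ Algebra.trdeg k q.ResidueField := by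
  haveI : Algebra.FiniteType k (A ⧸ q) := inferInstance
  obtain ⟨s, g, hginj, hgfin⟩ := exists_finite_inj_algHom_of_fg k (A ⧸ q)
  -- dimension
  have hdim : ringKrullDim (A ⧸ q) = (s : WithBot ℕ∞) := by
    letI : Algebra (MvPolynomial (Fin s) k) (A ⧸ q) := g.toRingHom.toAlgebra
    haveI : Module.Finite (MvPolynomial (Fin s) k) (A ⧸ q) := hgfin
    haveI : Algebra.IsIntegral (MvPolynomial (Fin s) k) (A ⧸ q) := inferInstance
    rw [Groth.Agent.H14Lib.ringKrullDim_eq_of_isIntegral_of_injective (MvPolynomial (Fin s) k)
      (A ⧸ q) hginj, MvPolynomial.ringKrullDim_of_isNoetherianRing, ringKrullDim_eq_zero_of_field,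
      zero_add, Nat.card_eq_fintype_card, Fintype.card_fin]
  have hns : n ≤ s := by
    rw [hdim] at hq
    exact_mod_cast hq
  -- algebraic independence
  let φ : MvPolynomial (Fin s) k →ₐ[k] q.ResidueField :=
    (IsScalarTower.toAlgHom k (A ⧸ q) q.ResidueField).comp g
  have hφinj : Function.Injective φ :=
    (Ideal.injective_algebraMap_quotient_residueField (I := q)).comp hginj
  have hind : AlgebraicIndependent k (fun i : Fin s => φ (MvPolynomial.X i)) := by
    rw [algebraicIndependent_iff_injective_aeval]
    have : (MvPolynomial.aeval fun i : Fin s => φ (MvPolynomial.X i)) = φ := by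
      apply MvPolynomial.algHom_ext
      intro i
      rw [MvPolynomial.aeval_X]
    rw [this]
    exact hφinj
  have hcard := hind.lift_cardinalMk_le_trdeg
  rw [Cardinal.mk_fin, Cardinal.lift_natCast, Cardinal.lift_uzero] at hcard
  exact (Nat.cast_le.2 hns).trans hcard

end Trdeg

section Main

open KaehlerDifferential

variable (k : Type u) [Field k] (A : Type u) [CommRing A] [Algebra k A] [Algebra.FiniteType k A]

/-- The fibre of `Ω_{A/k}` at a point of a component of dimension `≥ n` has dimension `≥ n`. -/
theorem le_finrank_fibre (n : ℕ) (P : Ideal A) [P.IsPrime] (q : Ideal A) [q.IsPrime] (hqP : q ≤ P)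
    (hq : (n : WithBot ℕ∞) ≤ ringKrullDim (A ⧸ q)) :
    n ≤ finrank P.ResidueField (P.ResidueField ⊗[A] (Ω[A⁄k])) := by
  haveI : Module.Finite A (Ω[A⁄k]) := inferInstance
  refine le_trans ?_ (finrank_le_of_le (Ω[A⁄k]) q P hqP)
  refine le_trans ?_ (finrank_kaehler_residueField_le k A q)
  haveI : Algebra.EssFiniteType k A := inferInstance
  haveI : Algebra.EssFiniteType A (Localization.AtPrime q) :=
    Algebra.EssFiniteType.of_isLocalization _ q.primeCompl
  haveI : Algebra.EssFiniteType (Localization.AtPrime q) q.ResidueField := inferInstance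
  haveI : Algebra.EssFiniteType A q.ResidueField :=
    Algebra.EssFiniteType.comp A (Localization.AtPrime q) q.ResidueField
  haveI : Algebra.EssFiniteType k q.ResidueField := Algebra.EssFiniteType.comp k A q.ResidueField
  obtain ⟨h1, h2, h3, h4⟩ := Groth.Agent.H11.Cartier.cartier k q.ResidueField
  have h5 := le_trdeg_of_le_ringKrullDim k A q n hq
  have h6 : n ≤ Cardinal.toNat (Algebra.trdeg k q.ResidueField) := by
    have := Cardinal.toNat_le_toNat h5 h3
    rwa [Cardinal.toNat_natCast] at this
  have h7 : (Cardinal.toNat (Algebra.trdeg k q.ResidueField) : ℤ) ≤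
      finrank q.ResidueField (Ω[q.ResidueField⁄k]) := by
    rw [← h4]
    have : (0 : ℤ) ≤ finrank q.ResidueField (Algebra.H1Cotangent k q.ResidueField) :=
      Int.natCast_nonneg _
    omega
  exact_mod_cast (Int.ofNat_le.2 h6).trans h7

end Main

end Groth.Agent.H11.FibreDim
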