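import Mathlib

open TensorProduct

universe u

namespace Groth.Agent.H11.FlatNil

open Module in
/-- If `F/K` is flat with `F` free, every element of `K` is a combination of elements of `K`
with coefficients the coordinates of `x`. -/
theorem exists_eq_sum_coord_smul {A : Type*} [CommRing A] {Λ : Type*} {F : Type*} [AddCommGroup F]
    [Module A F] (b : Basis Λ A F) (K : Submodule A F) [Module.Flat A (F ⧸ K)] (x : F)
    (hx : x ∈ K) :
    ∃ w : ((b.repr x).support : Finset Λ) → K,
      x = ∑ i : ((b.repr x).support : Finset Λ), (b.repr x i) • (w i : F) := by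
  classical
  have hxsum : x = ∑ i : ((b.repr x).support : Finset Λ), (b.repr x i) • b i := by
    conv_lhs => rw [← b.linearCombination_repr x, Finsupp.linearCombination_apply, Finsupp.sum]
    exact (Finset.sum_coe_sort (b.repr x).support (fun i => (b.repr x i) • b i)).symm
  have hrel : ∑ i : ((b.repr x).support : Finset Λ),
      (b.repr x i) • (K.mkQ (b i)) = 0 := by
    have h0 : K.mkQ x = 0 := (Submodule.Quotient.mk_eq_zero K).2 hx
    rw [← h0]
    conv_rhs => rw [hxsum]
    rw [map_sum]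
    refine Finset.sum_congr rfl (fun i _ => ?_)
    rw [map_smul]
  obtain ⟨k, B, y, hy, hB⟩ := Module.Flat.isTrivialRelation_of_sum_smul_eq_zero hrel
  have hz : ∀ j, ∃ z : F, K.mkQ z = y j := fun j => K.mkQ_surjective (y j)
  choose z hz using hz
  have hw : ∀ i : ((b.repr x).support : Finset Λ), b i - ∑ j, B i j • z j ∈ K := by
    intro i
    rw [← Submodule.Quotient.mk_eq_zero K]
    show K.mkQ (b i - ∑ j, B i j • z j) = 0
    have hyi : K.mkQ (b i) = ∑ j, B i j • y j := hy i
    rw [map_sub, map_sum, hyi, sub_eq_zero]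
    refine Finset.sum_congr rfl (fun j _ => ?_)
    rw [map_smul, hz]
  refine ⟨fun i => ⟨_, hw i⟩, ?_⟩
  simp only [smul_sub, Finset.sum_sub_distrib]
  rw [← hxsum]
  have h0 : ∑ i : ((b.repr x).support : Finset Λ), (b.repr x i) • ∑ j, B i j • z j = 0 := by
    simp only [Finset.smul_sum, smul_smul]
    rw [Finset.sum_comm]
    refine Finset.sum_eq_zero (fun j _ => ?_)
    have hBj : ∑ i : ((b.repr x).support : Finset Λ), (b.repr x i) * B i j = 0 := hB j
    rw [← Finset.sum_smul, hBj, zero_smul]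
  rw [h0, sub_zero]

open Module in
theorem coord_mem_pow {A : Type*} [CommRing A] {Λ : Type*} {F : Type*} [AddCommGroup F]
    [Module A F] (b : Basis Λ A F) (K : Submodule A F) [Module.Flat A (F ⧸ K)] (J : Ideal A)
    (h1 : ∀ x ∈ K, ∀ l, b.repr x l ∈ J) (n : ℕ) :
    ∀ x ∈ K, ∀ l, b.repr x l ∈ J ^ (n + 1) := by
  induction n with
  | zero => simpa using h1
  | succ n ih =>
    intro x hx l
    obtain ⟨w, hw⟩ := exists_eq_sum_coord_smul b K x hx
    have : b.repr x l = ∑ i : ((b.repr x).support : Finset Λ),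
        (b.repr x i) * b.repr (w i : F) l := by
      conv_lhs => rw [hw]
      simp only [map_sum, map_smul, Finsupp.coe_finsetSum, Finsupp.coe_smul, Finset.sum_apply,
        Pi.smul_apply, smul_eq_mul]
    rw [this, pow_succ]
    refine Ideal.sum_mem _ (fun i _ => ?_)
    exact Ideal.mul_mem_mul (ih x hx i) (h1 _ (w i).2 l)

open Module in
theorem eq_bot_of_flat {A : Type*} [CommRing A] {Λ : Type*} {F : Type*} [AddCommGroup F]
    [Module A F] (b : Basis Λ A F) (K : Submodule A F) [Module.Flat A (F ⧸ K)] (J : Ideal A)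
    (hJ : IsNilpotent J) (h1 : ∀ x ∈ K, ∀ l, b.repr x l ∈ J) : K = ⊥ := by
  obtain ⟨N, hN⟩ := hJ
  rw [eq_bot_iff]
  intro x hx
  rw [Submodule.mem_bot]
  apply b.repr.injective
  rw [map_zero]
  ext l
  have h2 := coord_mem_pow b K J h1 N x hx l
  have h3 : J ^ (N + 1) ≤ J ^ N := Ideal.pow_le_pow_right (Nat.le_succ N)
  have h4 := h3 h2
  rw [hN] at h4
  exact h4

end Groth.Agent.H11.FlatNil

namespace Groth.Agent.H11.FlatNil

theorem exists_one_tmul_eq {R : Type*} [CommRing R] (I : Ideal R) {M : Type*} [AddCommGroup M]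
    [Module R M] (z : (R ⧸ I) ⊗[R] M) : ∃ y : M, (1 : R ⧸ I) ⊗ₜ[R] y = z := by
  induction z using TensorProduct.induction_on with
  | zero => exact ⟨0, by rw [tmul_zero]⟩
  | tmul k s =>
    obtain ⟨r, rfl⟩ := Ideal.Quotient.mk_surjective k
    refine ⟨r • s, ?_⟩
    rw [tmul_smul, smul_tmul']
    congr 1
    rw [← Ideal.Quotient.algebraMap_eq, Algebra.smul_def, mul_one]
  | add z₁ z₂ h₁ h₂ =>
    obtain ⟨y₁, rfl⟩ := h₁
    obtain ⟨y₂, rfl⟩ := h₂
    exact ⟨y₁ + y₂, tmul_add _ _ _⟩

theorem one_tmul_eq_zero_iff {R : Type*} [CommRing R] (I : Ideal R) {M : Type*} [AddCommGroup M]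
    [Module R M] (x : M) :
    ((1 : R ⧸ I) ⊗ₜ[R] x = 0) ↔ x ∈ I • (⊤ : Submodule R M) := by
  rw [← quotTensorEquivQuotSMul_symm_mk I x, LinearEquiv.map_eq_zero_iff,
    Submodule.Quotient.mk_eq_zero]

/-- Nakayama for nilpotent ideals. -/
theorem eq_top_of_sup_smul_top {R : Type*} [CommRing R] (J : Ideal R) (hJ : IsNilpotent J)
    {M : Type*} [AddCommGroup M] [Module R M] (N : Submodule R M)
    (h : ⊤ ≤ N ⊔ J • (⊤ : Submodule R M)) : N = ⊤ := by
  obtain ⟨n, hn⟩ := hJ
  have key : ∀ k : ℕ, ⊤ ≤ N ⊔ (J ^ k) • (⊤ : Submodule R M) := by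
    intro k
    induction k with
    | zero => simp
    | succ k ih =>
      calc (⊤ : Submodule R M) ≤ N ⊔ (J ^ k) • (⊤ : Submodule R M) := ih
        _ ≤ N ⊔ (J ^ k) • (N ⊔ J • (⊤ : Submodule R M)) :=
          sup_le_sup_left (Submodule.smul_mono le_rfl h) _
        _ ≤ N ⊔ (J ^ (k + 1)) • (⊤ : Submodule R M) := by
          rw [Submodule.smul_sup, ← Submodule.mul_smul, ← pow_succ]
          refine sup_le le_sup_left (sup_le ?_ le_sup_right)
          exact le_trans Submodule.smul_le_right le_sup_left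
  have := key n
  rw [hn, Ideal.zero_eq_bot, Submodule.bot_smul, sup_bot_eq] at this
  exact top_le_iff.1 this

/-- A module free modulo a nilpotent ideal has a free presentation whose relations have
coordinates in the ideal. -/
theorem exists_presentation {A : Type u} [CommRing A] (M : Type u) [AddCommGroup M] [Module A M]
    (J : Ideal A) (hJ : IsNilpotent J) (hfree : Module.Free (A ⧸ J) ((A ⧸ J) ⊗[A] M)) :
    ∃ (Λ : Type u) (v : (Λ →₀ A) →ₗ[A] M), Function.Surjective v ∧
      ∀ x ∈ LinearMap.ker v, ∀ l, x l ∈ J := by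
  classical
  obtain ⟨β⟩ : Nonempty (Module.Basis (Module.Free.ChooseBasisIndex (A ⧸ J) ((A ⧸ J) ⊗[A] M))
      (A ⧸ J) ((A ⧸ J) ⊗[A] M)) := ⟨Module.Free.chooseBasis _ _⟩
  have he : ∀ l, ∃ m : M, (1 : A ⧸ J) ⊗ₜ[A] m = β l := fun l => exists_one_tmul_eq J (β l)
  choose e he using he
  refine ⟨_, Finsupp.linearCombination A e, ?_, ?_⟩
  all_goals
    have hrepr : ∀ (x : Module.Free.ChooseBasisIndex (A ⧸ J) ((A ⧸ J) ⊗[A] M) →₀ A) l,
        β.repr ((1 : A ⧸ J) ⊗ₜ[A] Finsupp.linearCombination A e x) l =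
          Ideal.Quotient.mk J (x l) := by
      intro x
      induction x using Finsupp.induction_linear with
      | zero => intro l; simp
      | add x y hx hy =>
        intro l
        rw [map_add, tmul_add, map_add, Finsupp.add_apply, hx, hy, Finsupp.add_apply, map_add]
      | single l' a =>
        intro l
        rw [Finsupp.linearCombination_single, tmul_smul, he]
        have : a • β l' = (Ideal.Quotient.mk J a) • β l' := by
          rw [← Ideal.Quotient.algebraMap_eq, algebraMap_smul]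
        rw [this, map_smul, Module.Basis.repr_self, Finsupp.smul_apply, Finsupp.single_apply,
          Finsupp.single_apply]
        split_ifs <;> simp
  · -- surjective
    have hrange : LinearMap.range (Finsupp.linearCombination A e) = ⊤ := by
      apply eq_top_of_sup_smul_top J hJ
      intro m _
      obtain ⟨x, hx⟩ := Finsupp.mapRange_surjective (Ideal.Quotient.mk J) (map_zero _)
        Ideal.Quotient.mk_surjective (β.repr ((1 : A ⧸ J) ⊗ₜ[A] m))
      have h1 : (1 : A ⧸ J) ⊗ₜ[A] (m - Finsupp.linearCombination A e x) = 0 := by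
        rw [tmul_sub, sub_eq_zero]
        apply β.repr.injective
        ext l
        rw [hrepr, ← hx, Finsupp.mapRange_apply]
      rw [one_tmul_eq_zero_iff] at h1
      have : m = Finsupp.linearCombination A e x + (m - Finsupp.linearCombination A e x) := by
        abel
      rw [this]
      exact Submodule.add_mem_sup ⟨x, rfl⟩ h1
    exact LinearMap.range_eq_top.1 hrange
  · intro x hx l
    rw [LinearMap.mem_ker] at hx
    have := hrepr x l
    rw [hx, tmul_zero, map_zero, Finsupp.zero_apply] at this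
    exact Ideal.Quotient.eq_zero_iff_mem.1 this.symm

end Groth.Agent.H11.FlatNil

namespace Groth.Agent.H11.FlatNil

open Module in
theorem exists_ideal_core {A : Type u} [CommRing A] (M : Type u) [AddCommGroup M] [Module A M]
    (J : Ideal A) (hJ : IsNilpotent J) {Λ : Type*} {F : Type u} [AddCommGroup F] [Module A F]
    (b : Basis Λ A F) (v : F →ₗ[A] M) (hv : Function.Surjective v)
    (hker : ∀ x ∈ LinearMap.ker v, ∀ l, b.repr x l ∈ J) :
    ∃ R₀ : Ideal A, ∀ (A' : Type u) [CommRing A'] [Algebra A A'],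
        (Module.Free A' (A' ⊗[A] M) ↔ Ideal.map (algebraMap A A') R₀ = ⊥) ∧
        (Module.Flat A' (A' ⊗[A] M) ↔ Ideal.map (algebraMap A A') R₀ = ⊥) := by
  classical
  obtain ⟨R₀, hR₀⟩ : ∃ R₀ : Ideal A,
      R₀ = Ideal.span {a | ∃ x ∈ LinearMap.ker v, ∃ l, b.repr x l = a} := ⟨_, rfl⟩
  have hR₀J : R₀ ≤ J := by
    rw [hR₀, Ideal.span_le]
    rintro _ ⟨x, hx, l, rfl⟩
    exact hker x hx l
  have hmemR₀ : ∀ x ∈ LinearMap.ker v, ∀ l, b.repr x l ∈ R₀ := by
    intro x hx l
    rw [hR₀]
    exact Ideal.subset_span ⟨x, hx, l, rfl⟩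
  refine ⟨R₀, ?_⟩
  intro A' _ _
  obtain ⟨v', hv'def⟩ : ∃ v' : A' ⊗[A] F →ₗ[A'] A' ⊗[A] M, v' = v.baseChange A' :=
    ⟨_, rfl⟩
  have hv'apply : ∀ t, v' t = v.lTensor A' t := fun t => by rw [hv'def]; rfl
  have hv'surj : Function.Surjective v' := by
    intro z
    obtain ⟨t, ht⟩ := LinearMap.lTensor_surjective A' hv z
    exact ⟨t, by rw [hv'apply, ht]⟩
  have hexact : Function.Exact ((LinearMap.ker v).subtype.lTensor A') (v.lTensor A') :=
    lTensor_exact A' (LinearMap.exact_subtype_ker_map v) hv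
  have hP1 : ∀ y ∈ LinearMap.ker v', ∀ l,
      (b.baseChange A').repr y l ∈ Ideal.map (algebraMap A A') R₀ := by
    intro y hy l
    rw [LinearMap.mem_ker, hv'apply] at hy
    obtain ⟨t, rfl⟩ := (hexact y).1 hy
    clear hy
    induction t using TensorProduct.induction_on with
    | zero => simp
    | tmul a' k =>
      rw [LinearMap.lTensor_tmul, Basis.baseChange_repr_tmul, Algebra.smul_def]
      exact Ideal.mul_mem_right _ _ (Ideal.mem_map_of_mem _ (hmemR₀ k.1 k.2 l))
    | add t₁ t₂ h₁ h₂ =>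
      rw [map_add, map_add, Finsupp.add_apply]
      exact Ideal.add_mem _ h₁ h₂
  have hnil : IsNilpotent (Ideal.map (algebraMap A A') J) := by
    obtain ⟨n, hn⟩ := hJ
    refine ⟨n, ?_⟩
    rw [← Ideal.map_pow, hn, Ideal.zero_eq_bot, Ideal.map_bot]
    rfl
  have hP2 : Module.Flat A' (A' ⊗[A] M) → Ideal.map (algebraMap A A') R₀ = ⊥ := by
    intro hflat
    haveI : Module.Flat A' ((A' ⊗[A] F) ⧸ LinearMap.ker v') :=
      Module.Flat.of_linearEquiv (LinearMap.quotKerEquivOfSurjective v' hv'surj)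
    have hK : LinearMap.ker v' = ⊥ :=
      eq_bot_of_flat (b.baseChange A') (LinearMap.ker v') (Ideal.map (algebraMap A A') J) hnil
        (fun y hy l => Ideal.map_mono hR₀J (hP1 y hy l))
    rw [hR₀, Ideal.map_span, Ideal.span_eq_bot]
    rintro _ ⟨_, ⟨x, hx, l, rfl⟩, rfl⟩
    have h1 : (1 : A') ⊗ₜ[A] x ∈ LinearMap.ker v' := by
      rw [LinearMap.mem_ker, hv'apply, LinearMap.lTensor_tmul, LinearMap.mem_ker.1 hx, tmul_zero]
    rw [hK, Submodule.mem_bot] at h1
    have h2 := congrArg (fun y => (b.baseChange A').repr y l) h1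
    simp only [Basis.baseChange_repr_tmul, map_zero, Finsupp.zero_apply] at h2
    rw [Algebra.smul_def, mul_one] at h2
    exact h2
  have hP3 : Ideal.map (algebraMap A A') R₀ = ⊥ → Module.Free A' (A' ⊗[A] M) := by
    intro h0
    have hK : LinearMap.ker v' = ⊥ := by
      rw [eq_bot_iff]
      intro y hy
      rw [Submodule.mem_bot]
      apply (b.baseChange A').repr.injective
      rw [map_zero]
      ext l
      have := hP1 y hy l
      rw [h0] at this
      exact this
    haveI : Module.Free A' (A' ⊗[A] F) := Module.Free.of_basis (b.baseChange A')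
    exact Module.Free.of_equiv
      (LinearEquiv.ofBijective v' ⟨LinearMap.ker_eq_bot.1 hK, hv'surj⟩)
  refine ⟨⟨fun h => hP2 inferInstance, hP3⟩, ⟨hP2, fun h => ?_⟩⟩
  haveI := hP3 h
  infer_instance

theorem exists_ideal {A : Type u} [CommRing A] (M : Type u) [AddCommGroup M] [Module A M]
    (J : Ideal A) (hJ : IsNilpotent J) (hfree : Module.Free (A ⧸ J) ((A ⧸ J) ⊗[A] M)) :
    ∃ R₀ : Ideal A, ∀ (A' : Type u) [CommRing A'] [Algebra A A'],
        (Module.Free A' (A' ⊗[A] M) ↔ Ideal.map (algebraMap A A') R₀ = ⊥) ∧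
        (Module.Flat A' (A' ⊗[A] M) ↔ Ideal.map (algebraMap A A') R₀ = ⊥) := by
  obtain ⟨Λ, v, hv, hker⟩ := exists_presentation M J hJ hfree
  exact exists_ideal_core M J hJ (Finsupp.basisSingleOne (R := A) (ι := Λ)) v hv
    (fun x hx l => hker x hx l)

end Groth.Agent.H11.FlatNil
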