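import Mathlib
import Groth.Agent.H11.FlatNil

open TensorProduct IsLocalRing

universe u

namespace Groth.Agent.H11.FlatNil

/-- In a semilocal ring, for a maximal ideal `P` there is `t ∉ P` with `t • P ⊆ rad`. -/
theorem exists_notMem_mul_mem_jacobson {A : Type*} [CommRing A] [Finite (MaximalSpectrum A)]
    (P : Ideal A) [P.IsMaximal] :
    ∃ t : A, t ∉ P ∧ ∀ x ∈ P, t * x ∈ Ring.jacobson A := by
  classical
  have hfin : {m : Ideal A | m.IsMaximal}.Finite := by
    have : {m : Ideal A | m.IsMaximal} = Set.range (MaximalSpectrum.asIdeal (R := A)) := by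
      ext m
      constructor
      · intro hm
        exact ⟨⟨m, hm⟩, rfl⟩
      · rintro ⟨x, rfl⟩
        exact x.2
    rw [this]
    exact Set.finite_range _
  obtain ⟨s, hs⟩ : ∃ s : Finset (Ideal A), s = hfin.toFinset.erase P := ⟨_, rfl⟩
  have hnle : ¬ (s.inf id ≤ P) := by
    rw [Ideal.IsPrime.inf_le' (Ideal.IsMaximal.isPrime ‹_›)]
    rintro ⟨m, hm, hmP⟩
    rw [hs, Finset.mem_erase, Set.Finite.mem_toFinset] at hm
    exact hm.1 (hm.2.eq_of_le (Ideal.IsMaximal.ne_top ‹_›) hmP)
  obtain ⟨t, ht, htP⟩ := SetLike.not_le_iff_exists.1 hnle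
  refine ⟨t, htP, fun x hx => ?_⟩
  rw [Ring.jacobson_eq_sInf_isMaximal, Submodule.mem_sInf]
  intro m hm
  by_cases hmP : m = P
  · rw [hmP]
    exact Ideal.mul_mem_left _ _ hx
  · have hms : m ∈ s := by
      rw [hs, Finset.mem_erase, Set.Finite.mem_toFinset]
      exact ⟨hmP, hm⟩
    have : s.inf id ≤ m := Finset.inf_le hms
    exact Ideal.mul_mem_right _ _ (this ht)

theorem isNilpotent_maximalIdeal_atPrime {A : Type*} [CommRing A] [Finite (MaximalSpectrum A)]
    (hnil : IsNilpotent (Ring.jacobson A)) (P : Ideal A) [P.IsMaximal] :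
    IsNilpotent (maximalIdeal (Localization.AtPrime P)) := by
  obtain ⟨N, hN⟩ := hnil
  obtain ⟨t, htP, ht⟩ := exists_notMem_mul_mem_jacobson P
  refine ⟨N, ?_⟩
  rw [← Localization.AtPrime.map_eq_maximalIdeal, ← Ideal.map_pow, Ideal.zero_eq_bot,
    Ideal.map_eq_bot_iff_le_ker]
  intro y hy
  rw [RingHom.mem_ker, IsLocalization.map_eq_zero_iff P.primeCompl]
  refine ⟨⟨t ^ N, Submonoid.pow_mem _ htP N⟩, ?_⟩
  show t ^ N * y = 0
  have hle : Ideal.span {t ^ N} * P ^ N ≤ (Ring.jacobson A) ^ N := by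
    rw [← Ideal.span_singleton_pow, ← mul_pow]
    apply Ideal.pow_right_mono
    rw [Ideal.mul_le]
    intro a ha x hx
    obtain ⟨c, rfl⟩ := Ideal.mem_span_singleton'.1 ha
    rw [mul_assoc]
    exact Ideal.mul_mem_left _ _ (ht x hx)
  have := hle (Ideal.mul_mem_mul (Ideal.mem_span_singleton_self _) hy)
  rw [hN] at this
  exact this

end Groth.Agent.H11.FlatNil

namespace Groth.Agent.H11.FlatNil

theorem exists_mul_mem_ker {A : Type*} [CommRing A] (P : Ideal A) [P.IsPrime] (B : Type*)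
    [CommRing B] [Algebra A B] (a : A)
    (h : algebraMap (Localization.AtPrime P) (Localization.AtPrime P ⊗[A] B)
      (algebraMap A (Localization.AtPrime P) a) = 0) :
    ∃ t : A, t ∉ P ∧ algebraMap A B (t * a) = 0 := by
  have h1 : (TensorProduct.mk A (Localization.AtPrime P) B 1) (algebraMap A B a) = 0 := by
    rw [← h, Algebra.TensorProduct.algebraMap_apply, Algebra.algebraMap_self, RingHom.id_apply,
      TensorProduct.mk_apply, Algebra.algebraMap_eq_smul_one a, Algebra.algebraMap_eq_smul_one a,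
      smul_tmul]
  obtain ⟨c, hc⟩ := (IsLocalizedModule.eq_zero_iff P.primeCompl
    (TensorProduct.mk A (Localization.AtPrime P) B 1)).1 h1
  refine ⟨c.1, c.2, ?_⟩
  rw [map_mul, ← Algebra.smul_def]
  exact hc

end Groth.Agent.H11.FlatNil

namespace Groth.Agent.H11.FlatNil

attribute [local instance] Algebra.TensorProduct.rightAlgebra in
theorem flat_tensor_tensor {A : Type u} [CommRing A] (L : Type u) [CommRing L] [Algebra A L]
    (B : Type u) [CommRing B] [Algebra A B] (M : Type u) [AddCommGroup M] [Module A M]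
    [Module.Flat B (B ⊗[A] M)] :
    Module.Flat (L ⊗[A] B) ((L ⊗[A] B) ⊗[L] (L ⊗[A] M)) := by
  have e₁ : (L ⊗[A] B) ⊗[L] (L ⊗[A] M) ≃ₗ[L ⊗[A] B] (L ⊗[A] B) ⊗[A] M :=
    AlgebraTensorModule.cancelBaseChange A L (L ⊗[A] B) (L ⊗[A] B) M
  have e₂ : (L ⊗[A] B) ⊗[B] (B ⊗[A] M) ≃ₗ[L ⊗[A] B] (L ⊗[A] B) ⊗[A] M :=
    AlgebraTensorModule.cancelBaseChange A B (L ⊗[A] B) (L ⊗[A] B) M
  haveI : Module.Flat (L ⊗[A] B) ((L ⊗[A] B) ⊗[B] (B ⊗[A] M)) := inferInstance
  haveI : Module.Flat (L ⊗[A] B) ((L ⊗[A] B) ⊗[A] M) := Module.Flat.of_linearEquiv e₂.symm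
  exact Module.Flat.of_linearEquiv e₁

end Groth.Agent.H11.FlatNil

namespace Groth.Agent.H11.FlatNil

theorem flat_localization_tensor {A : Type u} [CommRing A] [Finite (MaximalSpectrum A)]
    (hnil : IsNilpotent (Ring.jacobson A)) {ι : Type u} (B : ι → Type u) [∀ i, CommRing (B i)]
    [∀ i, Algebra A (B i)] (hB : ∀ a : A, (∀ i, algebraMap A (B i) a = 0) → a = 0)
    (M : Type u) [AddCommGroup M] [Module A M] (hflat : ∀ i, Module.Flat (B i) (B i ⊗[A] M))
    (P : Ideal A) [P.IsMaximal] :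
    Module.Flat (Localization.AtPrime P) (Localization.AtPrime P ⊗[A] M) := by
  have hnilP := isNilpotent_maximalIdeal_atPrime hnil P
  obtain ⟨N, hN⟩ := hnil
  obtain ⟨t₀, ht₀P, ht₀⟩ := exists_notMem_mul_mem_jacobson P
  have hfree : Module.Free (Localization.AtPrime P ⧸ maximalIdeal (Localization.AtPrime P))
      ((Localization.AtPrime P ⧸ maximalIdeal (Localization.AtPrime P))
        ⊗[Localization.AtPrime P] (Localization.AtPrime P ⊗[A] M)) := by
    letI : Field (Localization.AtPrime P ⧸ maximalIdeal (Localization.AtPrime P)) :=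
      Ideal.Quotient.field _
    exact Module.Free.of_divisionRing _ _
  obtain ⟨R₀, hR₀⟩ := exists_ideal (Localization.AtPrime P ⊗[A] M)
    (maximalIdeal (Localization.AtPrime P)) hnilP hfree
  have hbot : R₀ = ⊥ := by
    rw [eq_bot_iff]
    intro x hx
    rw [Ideal.mem_bot]
    obtain ⟨a, s, rfl⟩ := IsLocalization.exists_mk'_eq P.primeCompl x
    have ha : algebraMap A (Localization.AtPrime P) a ∈ R₀ := by
      rw [← IsLocalization.mk'_spec' (Localization.AtPrime P) a s]
      exact Ideal.mul_mem_left _ _ hx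
    have key : ∀ i, algebraMap A (B i) (t₀ ^ N * a) = 0 := by
      intro i
      haveI := hflat i
      have hfl := flat_tensor_tensor (A := A) (Localization.AtPrime P) (B i) M
      have hmap := ((hR₀ (Localization.AtPrime P ⊗[A] B i)).2).1 hfl
      have h0 : algebraMap (Localization.AtPrime P) (Localization.AtPrime P ⊗[A] B i)
          (algebraMap A (Localization.AtPrime P) a) = 0 := by
        have : algebraMap (Localization.AtPrime P) (Localization.AtPrime P ⊗[A] B i)
            (algebraMap A (Localization.AtPrime P) a) ∈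
            Ideal.map (algebraMap (Localization.AtPrime P) (Localization.AtPrime P ⊗[A] B i)) R₀ :=
          Ideal.mem_map_of_mem _ ha
        rw [hmap] at this
        exact this
      obtain ⟨t, htP, hta⟩ := exists_mul_mem_ker P (B i) a h0
      obtain ⟨c, p, hp, hcp⟩ := Ideal.IsMaximal.exists_inv ‹P.IsMaximal› htP
      have h1 : (t₀ * p) ^ N = 0 := by
        have : (t₀ * p) ^ N ∈ (Ring.jacobson A) ^ N := Ideal.pow_mem_pow (ht₀ p hp) N
        rwa [hN] at this
      obtain ⟨q, hq⟩ : ∃ q, (1 : A) = p ^ N + (c * t) * q := by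
        have hdvd := sub_dvd_pow_sub_pow (c * t + p) p N
        rw [add_sub_cancel_right, hcp, one_pow] at hdvd
        obtain ⟨q, hq⟩ := hdvd
        exact ⟨q, by rw [← hq]; ring⟩
      have h2 : t₀ ^ N * a = (t * a) * (t₀ ^ N * c * q) := by
        calc t₀ ^ N * a = t₀ ^ N * a * 1 := by ring
          _ = t₀ ^ N * a * (p ^ N + c * t * q) := by rw [← hq]
          _ = (t₀ * p) ^ N * a + (t * a) * (t₀ ^ N * c * q) := by ring
          _ = (t * a) * (t₀ ^ N * c * q) := by rw [h1]; ring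
      rw [h2, map_mul, hta, zero_mul]
    have hzero : t₀ ^ N * a = 0 := hB _ key
    rw [IsLocalization.mk'_eq_zero_iff]
    exact ⟨⟨t₀ ^ N, Submonoid.pow_mem _ ht₀P N⟩, hzero⟩
  have h2 := ((hR₀ (Localization.AtPrime P)).2).2 (by rw [hbot, Ideal.map_bot])
  exact Module.Flat.of_linearEquiv
    (TensorProduct.lid (Localization.AtPrime P) (Localization.AtPrime P ⊗[A] M)).symm

end Groth.Agent.H11.FlatNil
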