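import Mathlib
import Groth.Agent.H11.HCProps

open IsLocalRing

universe u

namespace Groth.Agent.H11.HC

/-- A faithfully flat algebra has at least the Krull dimension of the base. -/
theorem ringKrullDim_le_of_faithfullyFlat (R S : Type*) [CommRing R] [CommRing S] [Algebra R S]
    [Module.FaithfullyFlat R S] : ringKrullDim R ≤ ringKrullDim S := by
  unfold ringKrullDim
  show (⨆ (p : LTSeries (PrimeSpectrum R)), (p.length : WithBot ℕ∞)) ≤ _
  refine iSup_le fun l => ?_
  obtain ⟨P, hP⟩ := PrimeSpectrum.comap_surjective_of_faithfullyFlat (A := R) (B := S) l.last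
  haveI : P.asIdeal.LiesOver l.last.asIdeal := ⟨by rw [← hP]; rfl⟩
  obtain ⟨L, hL, -, -⟩ := Ideal.exists_ltSeries_of_hasGoingDown l P.asIdeal
  rw [← hL]
  exact Order.LTSeries.length_le_krullDim L

variable {R : Type u} [CommRing R] {K : Type u} [Field K] [Algebra R K]

theorem strictMono_comap_lim :
    StrictMono (PrimeSpectrum.comap (algebraMap R (Lim R K))) := by
  intro P P' hlt
  have hle : P ≤ P' := hlt.le
  have hmono : PrimeSpectrum.comap (algebraMap R (Lim R K)) P ≤
      PrimeSpectrum.comap (algebraMap R (Lim R K)) P' := by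
    rw [← PrimeSpectrum.asIdeal_le_asIdeal]
    exact Ideal.comap_mono hle
  refine lt_of_le_of_ne hmono ?_
  intro heq
  obtain ⟨x, hxP', hxP⟩ := Set.exists_of_ssubset
    (show (P.asIdeal : Set (Lim R K)) ⊂ P'.asIdeal from hlt)
  obtain ⟨i, a, rfl⟩ := exists_of x
  obtain ⟨Q, hQ⟩ : ∃ Q : Ideal i.L, Q = P.asIdeal.comap (of i) := ⟨_, rfl⟩
  obtain ⟨Q', hQ'⟩ : ∃ Q' : Ideal i.L, Q' = P'.asIdeal.comap (of i) := ⟨_, rfl⟩
  haveI : Q.IsPrime := hQ ▸ Ideal.comap_isPrime _ _
  haveI : Q'.IsPrime := hQ' ▸ Ideal.comap_isPrime _ _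
  have hQQ' : Q ≤ Q' := by
    rw [hQ, hQ']
    exact Ideal.comap_mono hle
  have hunder : ∀ P₀ : PrimeSpectrum (Lim R K), (P₀.asIdeal.comap (of i)).under R =
      (PrimeSpectrum.comap (algebraMap R (Lim R K)) P₀).asIdeal := by
    intro P₀
    ext r
    simp only [Ideal.under_def, Ideal.mem_comap, PrimeSpectrum.comap_asIdeal]
    rw [AlgHom.commutes]
  have h2 : Q.under R = Q'.under R := by
    rw [hQ, hQ', hunder, hunder, heq]
  have := Algebra.QuasiFinite.eq_of_le_of_under_eq (R := R) (S := i.L) Q Q' hQQ' h2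
  apply hxP
  have ha : a ∈ Q' := by
    rw [hQ']
    exact hxP'
  rw [← this, hQ] at ha
  exact ha

theorem ringKrullDim_lim_le : ringKrullDim (Lim R K) ≤ ringKrullDim R :=
  Order.krullDim_le_of_strictMono _ strictMono_comap_lim

theorem ringKrullDim_lim [IsLocalRing R] [IsLocalHom (algebraMap R K)] :
    ringKrullDim (Lim R K) = ringKrullDim R := by
  apply le_antisymm ringKrullDim_lim_le
  haveI : Module.Flat R (Lim R K) := flat_lim
  haveI : IsLocalHom (algebraMap R (Lim R K)) := isLocalHom_algebraMap_lim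
  haveI : Module.FaithfullyFlat R (Lim R K) := Module.FaithfullyFlat.of_flat_of_isLocalHom
  exact ringKrullDim_le_of_faithfullyFlat R (Lim R K)

end Groth.Agent.H11.HC
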