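import Mathlib
import Groth.Prelude.Def_CAlg
import Groth.Agent.H11.FlatUnramSk
import Groth.Agent.H29.Depth

open IsLocalRing

universe u

namespace Groth.Agent.H11.FUL

theorem mem_associatedPrimes_iff_depth (A : Type u) [CommRing A] [IsNoetherianRing A]
    (P : Ideal A) [P.IsPrime] :
    P ∈ associatedPrimes A A ↔
      LocCoh.depth (Localization.AtPrime P) (Localization.AtPrime P) = 0 := by
  rw [Groth.Agent.H29.depth_eq_zero_iff_mem_ass]
  have h := Module.associatedPrimes.preimage_comap_associatedPrimes_eq_associatedPrimes_of_isLocalizedModule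
    P.primeCompl (Localization.AtPrime P) (Algebra.linearMap A (Localization.AtPrime P))
  have h2 : maximalIdeal (Localization.AtPrime P) ∈
      (Ideal.comap (algebraMap A (Localization.AtPrime P))) ⁻¹' (associatedPrimes A A) ↔
      maximalIdeal (Localization.AtPrime P) ∈
        associatedPrimes (Localization.AtPrime P) (Localization.AtPrime P) := by
    rw [h]
  rw [← h2, Set.mem_preimage, ← Ideal.under_def, Localization.AtPrime.under_maximalIdeal]

variable {R S : Type u} [CommRing R] [CommRing S] [Algebra R S]

theorem mem_associatedPrimes_iff [IsNoetherianRing R] [IsNoetherianRing S] [Module.Flat R S]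
    (hU : IsLocallyGenerated R S) (P : Ideal S) [P.IsPrime] :
    P ∈ associatedPrimes S S ↔ P.comap (algebraMap R S) ∈ associatedPrimes R R := by
  haveI : P.LiesOver (P.under R) := ⟨rfl⟩
  rw [mem_associatedPrimes_iff_depth, ← Ideal.under_def, mem_associatedPrimes_iff_depth,
    depth_localization_eq (P.under R) P hU]

end Groth.Agent.H11.FUL
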