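import Mathlib

/-!
# Formal smoothness / unramifiedness of `A/K → B/KB` via test algebras over `A` killed by `K`
-/

set_option autoImplicit false
universe u

namespace Groth.Agent.H11.FT

variable {A : Type u} [CommRing A] (K : Ideal A) (B : Type u) [CommRing B] [Algebra A B]

/-- Lifting against nilpotent thickenings of `A`-algebras killed by `K`. -/
def LiftK : Prop :=
  ∀ (E C : Type u) [CommRing E] [CommRing C] [Algebra A E] [Algebra A C],
    K.map (algebraMap A E) = ⊥ → K.map (algebraMap A C) = ⊥ →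
    ∀ (p : E →ₐ[A] C), Function.Surjective p → IsNilpotent (RingHom.ker (p : E →+* C)) →
    ∀ u : B →ₐ[A] C, ∃ v : B →ₐ[A] E, p.comp v = u

/-- Uniqueness of lifts against nilpotent thickenings of `A`-algebras killed by `K`. -/
def UniqK : Prop :=
  ∀ (E C : Type u) [CommRing E] [CommRing C] [Algebra A E] [Algebra A C],
    K.map (algebraMap A E) = ⊥ → K.map (algebraMap A C) = ⊥ →
    ∀ (p : E →ₐ[A] C), Function.Surjective p → IsNilpotent (RingHom.ker (p : E →+* C)) →
    ∀ v₁ v₂ : B →ₐ[A] E, p.comp v₁ = p.comp v₂ → v₁ = v₂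

variable {K B}

section killed

variable {E : Type u} [CommRing E] [Algebra A E] (hE : K.map (algebraMap A E) = ⊥)
include hE

theorem algebraMap_eq_zero_of_mem {a : A} (ha : a ∈ K) : algebraMap A E a = 0 := by
  have : algebraMap A E a ∈ K.map (algebraMap A E) := Ideal.mem_map_of_mem _ ha
  rwa [hE, Ideal.mem_bot] at this

/-- The `A/K`-algebra structure on an `A`-algebra killed by `K`. -/
@[reducible] noncomputable def algK : Algebra (A ⧸ K) E :=
  (Ideal.Quotient.lift K (algebraMap A E) (fun _ ha => algebraMap_eq_zero_of_mem hE ha)).toAlgebra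

theorem isScalarTower_algK : @IsScalarTower A (A ⧸ K) E _ (algK hE).toSMul _ :=
  letI := algK hE
  IsScalarTower.of_algebraMap_eq (fun _ => rfl)

theorem algHom_kills (u : B →ₐ[A] E) : ∀ b ∈ K.map (algebraMap A B), u b = 0 := by
  intro b hb
  have h1 : (u : B →+* E) b ∈ (K.map (algebraMap A B)).map (u : B →+* E) :=
    Ideal.mem_map_of_mem _ hb
  rw [Ideal.map_map] at h1
  have h2 : (u : B →+* E).comp (algebraMap A B) = algebraMap A E := by
    ext a
    exact u.commutes a
  rw [h2, hE, Ideal.mem_bot] at h1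
  exact h1

end killed

theorem liftK_of_formallySmooth
    [Algebra.FormallySmooth (A ⧸ K) (B ⧸ K.map (algebraMap A B))] : LiftK K B := by
  intro E C _ _ _ _ hE hC p hp hnil u
  letI := algK hE
  letI := algK hC
  haveI := isScalarTower_algK hE
  haveI := isScalarTower_algK hC
  let p' : E →ₐ[A ⧸ K] C := AlgHom.extendScalarsOfSurjective Ideal.Quotient.mk_surjective p
  have hp' : ∀ x, p' x = p x := fun _ => rfl
  let u₀ : (B ⧸ K.map (algebraMap A B)) →ₐ[A] C :=
    Ideal.Quotient.liftₐ _ u (algHom_kills hC u)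
  let u' : (B ⧸ K.map (algebraMap A B)) →ₐ[A ⧸ K] C :=
    AlgHom.extendScalarsOfSurjective Ideal.Quotient.mk_surjective u₀
  have hu' : ∀ b, u' (Ideal.Quotient.mk _ b) = u b := fun _ => rfl
  have hnil' : IsNilpotent (RingHom.ker (p' : E →+* C)) := hnil
  let v' := Algebra.FormallySmooth.liftOfSurjective u' p' hp hnil'
  refine ⟨(v'.restrictScalars A).comp (Ideal.Quotient.mkₐ A _), ?_⟩
  ext b
  have := Algebra.FormallySmooth.liftOfSurjective_apply u' p' hp hnil' (Ideal.Quotient.mk _ b)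
  rw [hu', hp'] at this
  exact this

theorem uniqK_of_formallyUnramified
    [Algebra.FormallyUnramified (A ⧸ K) (B ⧸ K.map (algebraMap A B))] : UniqK K B := by
  intro E C _ _ _ _ hE hC p hp hnil v₁ v₂ h
  letI := algK hE
  letI := algK hC
  haveI := isScalarTower_algK hE
  haveI := isScalarTower_algK hC
  let p' : E →ₐ[A ⧸ K] C := AlgHom.extendScalarsOfSurjective Ideal.Quotient.mk_surjective p
  have hp' : ∀ x, p' x = p x := fun _ => rfl
  have hnil' : IsNilpotent (RingHom.ker (p' : E →+* C)) := hnil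
  let w : (B →ₐ[A] E) → ((B ⧸ K.map (algebraMap A B)) →ₐ[A ⧸ K] E) := fun v =>
    AlgHom.extendScalarsOfSurjective Ideal.Quotient.mk_surjective
      (Ideal.Quotient.liftₐ _ v (algHom_kills hE v))
  have hw : ∀ v b, w v (Ideal.Quotient.mk _ b) = v b := fun _ _ => rfl
  have key : w v₁ = w v₂ := by
    apply Algebra.FormallyUnramified.lift_unique' p' hnil'
    ext x
    obtain ⟨b, rfl⟩ := Ideal.Quotient.mk_surjective x
    show p' (w v₁ (Ideal.Quotient.mk _ b)) = p' (w v₂ (Ideal.Quotient.mk _ b))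
    rw [hw, hw, hp', hp']
    exact DFunLike.congr_fun h b
  ext b
  rw [← hw v₁ b, ← hw v₂ b, key]

section converse

variable {B' : Type u} [CommRing B'] [Algebra (A ⧸ K) B']

/-- The `A`-algebra structure on an `A/K`-algebra. -/
@[reducible] noncomputable def algA : Algebra A B' :=
  ((algebraMap (A ⧸ K) B').comp (Ideal.Quotient.mk K)).toAlgebra

theorem isScalarTower_algA : @IsScalarTower A (A ⧸ K) B' _ _ (algA (K := K) (B' := B')).toSMul :=
  letI := algA (K := K) (B' := B')
  IsScalarTower.of_algebraMap_eq (fun _ => rfl)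

theorem map_algA_eq_bot :
    letI := algA (K := K) (B' := B')
    K.map (algebraMap A B') = ⊥ := by
  letI := algA (K := K) (B' := B')
  rw [eq_bot_iff, Ideal.map_le_iff_le_comap]
  intro a ha
  rw [Ideal.mem_comap, Ideal.mem_bot]
  show algebraMap (A ⧸ K) B' (Ideal.Quotient.mk K a) = 0
  rw [Ideal.Quotient.eq_zero_iff_mem.2 ha, map_zero]

end converse

theorem map_quotient_eq_bot {E : Type u} [CommRing E] [Algebra A E]
    (hE : K.map (algebraMap A E) = ⊥) (N : Ideal E) : K.map (algebraMap A (E ⧸ N)) = ⊥ := by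
  rw [eq_bot_iff, Ideal.map_le_iff_le_comap]
  intro a ha
  rw [Ideal.mem_comap, Ideal.mem_bot, IsScalarTower.algebraMap_apply A E (E ⧸ N),
    algebraMap_eq_zero_of_mem hE ha, map_zero]

theorem formallySmooth_of_liftK (h : LiftK K B) :
    Algebra.FormallySmooth (A ⧸ K) (B ⧸ K.map (algebraMap A B)) := by
  apply Algebra.FormallySmooth.of_comp_surjective
  intro B' _ _ N hN f
  letI := algA (K := K) (B' := B')
  haveI := isScalarTower_algA (K := K) (B' := B')
  have hB' : K.map (algebraMap A B') = ⊥ := map_algA_eq_bot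
  have hQ : K.map (algebraMap A (B' ⧸ N)) = ⊥ := map_quotient_eq_bot hB' N
  let p : B' →ₐ[A] B' ⧸ N := Ideal.Quotient.mkₐ A N
  have hnil : IsNilpotent (RingHom.ker (p : B' →+* B' ⧸ N)) := by
    rw [Ideal.Quotient.mkₐ_ker]
    exact ⟨2, hN⟩
  let u : B →ₐ[A] B' ⧸ N := (f.restrictScalars A).comp (Ideal.Quotient.mkₐ A _)
  obtain ⟨v, hv⟩ := h B' (B' ⧸ N) hB' hQ p Ideal.Quotient.mk_surjective hnil u
  let v' : (B ⧸ K.map (algebraMap A B)) →ₐ[A ⧸ K] B' :=
    AlgHom.extendScalarsOfSurjective Ideal.Quotient.mk_surjective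
      (Ideal.Quotient.liftₐ _ v (algHom_kills hB' v))
  refine ⟨v', ?_⟩
  ext x
  obtain ⟨b, rfl⟩ := Ideal.Quotient.mk_surjective x
  exact DFunLike.congr_fun hv b

theorem formallyUnramified_of_uniqK (h : UniqK K B) :
    Algebra.FormallyUnramified (A ⧸ K) (B ⧸ K.map (algebraMap A B)) := by
  rw [Algebra.FormallyUnramified.iff_comp_injective]
  intro B' _ _ N hN f₁ f₂ hf
  letI := algA (K := K) (B' := B')
  haveI := isScalarTower_algA (K := K) (B' := B')
  have hB' : K.map (algebraMap A B') = ⊥ := map_algA_eq_bot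
  have hQ : K.map (algebraMap A (B' ⧸ N)) = ⊥ := map_quotient_eq_bot hB' N
  let p : B' →ₐ[A] B' ⧸ N := Ideal.Quotient.mkₐ A N
  have hnil : IsNilpotent (RingHom.ker (p : B' →+* B' ⧸ N)) := by
    rw [Ideal.Quotient.mkₐ_ker]
    exact ⟨2, hN⟩
  let w : ((B ⧸ K.map (algebraMap A B)) →ₐ[A ⧸ K] B') → (B →ₐ[A] B') := fun f =>
    (f.restrictScalars A).comp (Ideal.Quotient.mkₐ A _)
  have key : w f₁ = w f₂ := by
    apply h B' (B' ⧸ N) hB' hQ p Ideal.Quotient.mk_surjective hnil
    ext b
    exact DFunLike.congr_fun hf (Ideal.Quotient.mk _ b)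
  ext x
  obtain ⟨b, rfl⟩ := Ideal.Quotient.mk_surjective x
  exact DFunLike.congr_fun key b

theorem formallySmooth_iff_liftK :
    Algebra.FormallySmooth (A ⧸ K) (B ⧸ K.map (algebraMap A B)) ↔ LiftK K B :=
  ⟨fun _ => liftK_of_formallySmooth, formallySmooth_of_liftK⟩

theorem formallyUnramified_iff_uniqK :
    Algebra.FormallyUnramified (A ⧸ K) (B ⧸ K.map (algebraMap A B)) ↔ UniqK K B :=
  ⟨fun _ => uniqK_of_formallyUnramified, formallyUnramified_of_uniqK⟩

end Groth.Agent.H11.FT
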