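import Mathlib

/-!
# The Artin–Schreier–Lang system `A *ᵥ x^(p) - x = b`

For a ring `S` with `p = 0`, the algebra `E = S[x]/(∑ i, A j i x_i^p - x_j - b_j)` is étale, and its
points in an `S`-algebra `B` are the solutions of the system in `B`.
-/

set_option autoImplicit false
universe u

namespace Groth.Agent.H11.FrobSys

open MvPolynomial

variable {S : Type u} [CommRing S] (p n : ℕ) (A : Matrix (Fin n) (Fin n) S) (b : Fin n → S)

/-- the relations -/
noncomputable def rel (j : Fin n) : MvPolynomial (Fin n) S :=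
  ∑ i, C (A j i) * X i ^ p - X j - C (b j)

/-- the ideal of relations -/
noncomputable def J : Ideal (MvPolynomial (Fin n) S) := Ideal.span (Set.range (rel p n A b))

/-- the algebra -/
abbrev E : Type u := MvPolynomial (Fin n) S ⧸ J p n A b

section Sol

variable {B : Type u} [CommRing B] [Algebra S B]

/-- solutions in an algebra -/
def IsSol (x : Fin n → B) : Prop :=
  ∀ j, ∑ i, algebraMap S B (A j i) * x i ^ p - x j - algebraMap S B (b j) = 0

lemma aeval_rel (x : Fin n → B) (j : Fin n) :
    aeval x (rel p n A b j) =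
      ∑ i, algebraMap S B (A j i) * x i ^ p - x j - algebraMap S B (b j) := by
  simp [rel]

/-- the point attached to a solution -/
noncomputable def homOfSol (x : Fin n → B) (hx : IsSol p n A b x) : E p n A b →ₐ[S] B :=
  Ideal.Quotient.liftₐ _ (aeval x) (by
    intro a ha
    have h : J p n A b ≤ RingHom.ker (aeval x : MvPolynomial (Fin n) S →ₐ[S] B) := by
      rw [J, Ideal.span_le]
      rintro _ ⟨j, rfl⟩
      rw [SetLike.mem_coe, RingHom.mem_ker, aeval_rel]
      exact hx j
    exact RingHom.mem_ker.mp (h ha))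

lemma homOfSol_X (x : Fin n → B) (hx : IsSol p n A b x) (i : Fin n) :
    homOfSol p n A b x hx (Ideal.Quotient.mk _ (X i)) = x i := by
  simp only [homOfSol, Ideal.Quotient.liftₐ_apply]
  erw [Ideal.Quotient.lift_mk]
  simp

lemma isSol_of_hom (τ : E p n A b →ₐ[S] B) :
    IsSol p n A b (fun i => τ (Ideal.Quotient.mk _ (X i))) := by
  intro j
  have h1 : τ.comp (Ideal.Quotient.mkₐ S (J p n A b)) =
      aeval (fun i => τ (Ideal.Quotient.mk _ (X i))) := by
    apply MvPolynomial.algHom_ext
    intro i
    simp
  have h2 : τ (Ideal.Quotient.mk _ (rel p n A b j)) = 0 := by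
    have h3 : rel p n A b j ∈ J p n A b := Ideal.subset_span (Set.mem_range_self j)
    rw [Ideal.Quotient.eq_zero_iff_mem.mpr h3, map_zero]
  rw [← aeval_rel, ← h1]
  exact h2

lemma hom_ext' (τ₁ τ₂ : E p n A b →ₐ[S] B)
    (h : ∀ i, τ₁ (Ideal.Quotient.mk _ (X i)) = τ₂ (Ideal.Quotient.mk _ (X i))) : τ₁ = τ₂ := by
  apply Ideal.Quotient.algHom_ext
  apply MvPolynomial.algHom_ext
  intro i
  exact h i

end Sol

lemma add_pow_succ_of_sq_zero {B : Type*} [CommRing B] (x d : B) (hd : d * d = 0) (k : ℕ) :
    (x + d) ^ (k + 1) = x ^ (k + 1) + ((k + 1 : ℕ) : B) * x ^ k * d := by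
  induction k with
  | zero => simp
  | succ k ih =>
    rw [pow_succ, ih]
    push_cast
    linear_combination (((k : B) + 1) * x ^ k) * hd

instance finitePresentation : Algebra.FinitePresentation S (E p n A b) := by
  classical
  apply Algebra.FinitePresentation.quotient
  exact ⟨Finset.univ.image (rel p n A b), by simp [J]⟩

theorem formallyEtale (hp : (p : S) = 0) (hp1 : 1 ≤ p) :
    Algebra.FormallyEtale S (E p n A b) := by
  rw [Algebra.FormallyEtale.iff_comp_bijective]
  intro B _ _ I hI
  have hpB : (p : B) = 0 := by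
    have := congrArg (algebraMap S B) hp
    simpa using this
  have key : ∀ x d : B, d ∈ I → (x + d) ^ p = x ^ p := by
    intro x d hd
    have hdd : d * d = 0 := by
      have h1 : d * d ∈ I ^ 2 := by
        rw [pow_two]
        exact Ideal.mul_mem_mul hd hd
      rw [hI] at h1
      simpa using h1
    obtain ⟨k, rfl⟩ : ∃ k, p = k + 1 := ⟨p - 1, by omega⟩
    rw [add_pow_succ_of_sq_zero x d hdd k, hpB]
    ring
  constructor
  · intro τ₁ τ₂ h
    apply hom_ext'
    have hδ : ∀ i, τ₁ (Ideal.Quotient.mk _ (X i)) - τ₂ (Ideal.Quotient.mk _ (X i)) ∈ I := by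
      intro i
      have := AlgHom.congr_fun h (Ideal.Quotient.mk _ (X i))
      simp only [AlgHom.comp_apply, Ideal.Quotient.mkₐ_eq_mk] at this
      exact Ideal.Quotient.eq.mp this
    have hpow : ∀ i, τ₁ (Ideal.Quotient.mk _ (X i)) ^ p = τ₂ (Ideal.Quotient.mk _ (X i)) ^ p := by
      intro i
      have := key (τ₂ (Ideal.Quotient.mk _ (X i))) _ (hδ i)
      rw [add_sub_cancel] at this
      exact this
    intro j
    have h1 := isSol_of_hom p n A b τ₁ j
    have h2 := isSol_of_hom p n A b τ₂ j
    simp only [hpow] at h1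
    linear_combination h2 - h1
  · intro σ
    choose x0 hx0 using fun i => Ideal.Quotient.mk_surjective (I := I) (σ (Ideal.Quotient.mk _ (X i)))
    let x : Fin n → B := fun j => ∑ i, algebraMap S B (A j i) * x0 i ^ p - algebraMap S B (b j)
    have hσ := isSol_of_hom p n A b σ
    have hx_mem : ∀ j, x j - x0 j ∈ I := by
      intro j
      rw [← Ideal.Quotient.eq]
      have h3 := hσ j
      simp only [← hx0] at h3
      simp only [x, map_sub, map_sum, map_mul, map_pow]
      simp only [IsScalarTower.algebraMap_apply S B (B ⧸ I), Ideal.Quotient.algebraMap_eq] at h3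
      linear_combination h3
    have hxp : ∀ i, x i ^ p = x0 i ^ p := by
      intro i
      have := key (x0 i) _ (hx_mem i)
      rwa [add_sub_cancel] at this
    have hsol : IsSol p n A b x := by
      intro j
      simp only [hxp]
      simp [x]
    refine ⟨homOfSol p n A b x hsol, ?_⟩
    apply hom_ext'
    intro i
    simp only [AlgHom.comp_apply, Ideal.Quotient.mkₐ_eq_mk, homOfSol_X]
    rw [← hx0 i]
    exact Ideal.Quotient.eq.mpr (hx_mem i)

theorem etale (hp : (p : S) = 0) (hp1 : 1 ≤ p) : Algebra.Etale S (E p n A b) :=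
  { formallyEtale := formallyEtale p n A b hp hp1
    finitePresentation := finitePresentation p n A b }

end Groth.Agent.H11.FrobSys
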