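import Mathlib

/-!
# `K[x]/(x_i^p - ℓ_i)` with `deg ℓ_i ≤ 1 < p` is free of rank `p^n`

We build a `K`-linear automorphism `Θ` of `K[x]` with `Θ (x_i^p f) = g_i Θ f` that is unipotent for
the degree filtration.
-/

set_option autoImplicit false
universe u

namespace Groth.Agent.H11.FrobSysDim

open MvPolynomial

variable {K : Type u} [CommRing K] (p n : ℕ)

/-- degree filtration, shifted: `F 0 = 0`, `F (d+1) = {deg ≤ d}` -/
noncomputable def F : ℕ → Submodule K (MvPolynomial (Fin n) K)
  | 0 => ⊥
  | (d + 1) => restrictTotalDegree (Fin n) K d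

lemma mem_F_succ (d : ℕ) (f : MvPolynomial (Fin n) K) :
    f ∈ F (K := K) n (d + 1) ↔ f.totalDegree ≤ d :=
  mem_restrictTotalDegree _ _ _

lemma F_mono {d d' : ℕ} (h : d ≤ d') : F (K := K) n d ≤ F n d' := by
  rcases d with _ | d
  · exact bot_le
  · obtain ⟨e, rfl⟩ : ∃ e, d' = e + 1 := ⟨d' - 1, by omega⟩
    intro f hf
    rw [mem_F_succ] at hf ⊢
    omega

lemma mul_mem_F {d e : ℕ} (r h : MvPolynomial (Fin n) K) (hr : r ∈ F n d)
    (hh : h.totalDegree ≤ e) : h * r ∈ F n (d + e) := by
  rcases d with _ | d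
  · have : r = 0 := by simpa [F] using hr
    rw [this, mul_zero]
    exact zero_mem _
  · have h1 : d + 1 + e = (d + e) + 1 := by omega
    rw [h1, mem_F_succ]
    rw [mem_F_succ] at hr
    exact (totalDegree_mul _ _).trans (by omega)

lemma eq_zero_of_mem_F (f : MvPolynomial (Fin n) K) (hf : f ∈ F n f.totalDegree) : f = 0 := by
  rcases h : f.totalDegree with _ | d
  · rw [h] at hf
    simpa [F] using hf
  · rw [h, mem_F_succ] at hf
    omega

lemma mem_F_totalDegree_succ (f : MvPolynomial (Fin n) K) : f ∈ F n (f.totalDegree + 1) := by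
  rw [mem_F_succ]

variable (g ℓ : Fin n → MvPolynomial (Fin n) K)

/-- value of `Θ` on monomials -/
noncomputable def θ (m : Fin n →₀ ℕ) : MvPolynomial (Fin n) K :=
  (∏ i, g i ^ (m i / p)) * monomial (m.mapRange (· % p) (Nat.zero_mod p)) 1

/-- the unipotent map -/
noncomputable def Θ : MvPolynomial (Fin n) K →ₗ[K] MvPolynomial (Fin n) K :=
  (basisMonomials (Fin n) K).constr K (θ p n g)

lemma Θ_monomial (m : Fin n →₀ ℕ) : Θ p n g (monomial m 1) = θ p n g m := by
  have := (basisMonomials (Fin n) K).constr_basis K (θ p n g) m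
  rwa [coe_basisMonomials] at this

lemma θ_add (hp : 0 < p) (m : Fin n →₀ ℕ) (i : Fin n) :
    θ p n g (m + Finsupp.single i p) = g i * θ p n g m := by
  unfold θ
  have h1 : (m + Finsupp.single i p).mapRange (· % p) (Nat.zero_mod p) =
      m.mapRange (· % p) (Nat.zero_mod p) := by
    ext j
    simp only [Finsupp.mapRange_apply, Finsupp.add_apply]
    by_cases hj : i = j
    · subst hj
      simp
    · simp [Finsupp.single_apply, hj]
  have h2 : ∏ j, g j ^ ((m + Finsupp.single i p) j / p) = g i * ∏ j, g j ^ (m j / p) := by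
    have h3 : ∀ j, g j ^ ((m + Finsupp.single i p) j / p) =
        (if j = i then g i else 1) * g j ^ (m j / p) := by
      intro j
      by_cases hj : j = i
      · subst hj
        simp [Nat.add_div_right _ hp, pow_succ, mul_comm]
      · have hj' : i ≠ j := fun h => hj h.symm
        simp [Finsupp.single_apply, hj, hj']
    simp only [h3, Finset.prod_mul_distrib, Finset.prod_ite_eq', Finset.mem_univ, if_true]
  rw [h1, h2]
  ring

lemma monomial_add_single (m : Fin n →₀ ℕ) (i : Fin n) (a : K) :
    X i ^ p * monomial m a = monomial (m + Finsupp.single i p) a := by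
  rw [X_pow_eq_monomial, monomial_mul, one_mul, add_comm]

lemma totalDegree_X_pow_le (i : Fin n) : (X i ^ p : MvPolynomial (Fin n) K).totalDegree ≤ p := by
  rw [X_pow_eq_monomial]
  refine (totalDegree_monomial_le _ _).trans ?_
  simp [Finsupp.sum_single_index]

lemma Θ_mul (hp : 0 < p) (i : Fin n) (f : MvPolynomial (Fin n) K) :
    Θ p n g (X i ^ p * f) = g i * Θ p n g f := by
  induction f using MvPolynomial.induction_on' with
  | monomial m a =>
    have h1 : ∀ m' : Fin n →₀ ℕ, monomial m' a = a • (monomial m' (1 : K)) := by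
      intro m'
      rw [smul_monomial, smul_eq_mul, mul_one]
    rw [monomial_add_single, h1, map_smul, Θ_monomial, θ_add _ _ _ hp, h1 m, map_smul, Θ_monomial,
      mul_smul_comm]
  | add f1 f2 h1 h2 => rw [mul_add, map_add, h1, h2, map_add, mul_add]

section deg

variable (hg : ∀ i, g i = X i ^ p - ℓ i) (hℓ : ∀ i, (ℓ i).totalDegree ≤ 1) (hp : 2 ≤ p)

include hg hℓ hp

lemma θ_sub_mem : ∀ (d : ℕ) (m : Fin n →₀ ℕ), (m.sum fun _ e => e) = d →
    θ p n g m - monomial m 1 ∈ F n d := by
  intro d
  induction d using Nat.strong_induction_on with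
  | _ d ih =>
    intro m hm
    by_cases hred : ∀ i, m i < p
    · have h1 : m.mapRange (· % p) (Nat.zero_mod p) = m := by
        ext j
        simp [Nat.mod_eq_of_lt (hred j)]
      have h2 : ∏ i, g i ^ (m i / p) = 1 := by
        apply Finset.prod_eq_one
        intro i _
        rw [Nat.div_eq_of_lt (hred i), pow_zero]
      unfold θ
      rw [h1, h2, one_mul, sub_self]
      exact zero_mem _
    · push Not at hred
      obtain ⟨i, hi⟩ := hred
      obtain ⟨m', hmm⟩ : ∃ m' : Fin n →₀ ℕ, m = m' + Finsupp.single i p := by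
        refine ⟨m - Finsupp.single i p, ?_⟩
        ext j
        by_cases hj : i = j
        · subst hj
          simp [Nat.sub_add_cancel hi]
        · simp [Finsupp.single_apply, hj]
      have hdeg : (m'.sum fun _ e => e) + p = d := by
        rw [← hm, hmm, Finsupp.sum_add_index' (fun _ => rfl) (fun _ _ _ => rfl),
          Finsupp.sum_single_index rfl]
      have ih' := ih _ (by omega) m' rfl
      rw [hmm, θ_add _ _ _ (by omega), hg i, ← monomial_add_single]
      set r := θ p n g m' - monomial m' 1 with hr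
      have h3 : (X i ^ p - ℓ i) * θ p n g m' - X i ^ p * monomial m' 1 =
          X i ^ p * r - ℓ i * monomial m' 1 - ℓ i * r := by
        rw [hr]
        ring
      rw [h3]
      refine Submodule.sub_mem _ (Submodule.sub_mem _ ?_ ?_) ?_
      · have h4 := mul_mem_F n r (X i ^ p) (e := p) ih' (totalDegree_X_pow_le p n i)
        rwa [hdeg] at h4
      · apply F_mono n (show (m'.sum fun _ e => e) + 1 + 1 ≤ d by omega)
        rw [mem_F_succ]
        refine (totalDegree_mul _ _).trans ?_
        have h5 : (monomial m' (1 : K)).totalDegree ≤ m'.sum fun _ e => e :=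
          totalDegree_monomial_le m' (1 : K)
        have h6 := hℓ i
        omega
      · apply F_mono n (show (m'.sum fun _ e => e) + 1 ≤ d by omega)
        exact mul_mem_F n r (ℓ i) ih' (hℓ i)

lemma Θ_sub_mem (d : ℕ) (f : MvPolynomial (Fin n) K) (hf : f.totalDegree ≤ d) :
    Θ p n g f - f ∈ F n d := by
  set N : MvPolynomial (Fin n) K →ₗ[K] MvPolynomial (Fin n) K := Θ p n g - LinearMap.id with hN
  have h1 : Θ p n g f - f = N f := by simp [hN]
  have h2 : N f = ∑ v ∈ f.support, coeff v f • N (monomial v 1) := by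
    conv_lhs => rw [← f.support_sum_monomial_coeff]
    rw [map_sum]
    apply Finset.sum_congr rfl
    intro v _
    rw [← map_smul, smul_monomial, smul_eq_mul, mul_one]
  rw [h1, h2]
  apply Submodule.sum_mem
  intro v hv
  apply Submodule.smul_mem
  have h3 : N (monomial v 1) = θ p n g v - monomial v 1 := by simp [hN, Θ_monomial]
  rw [h3]
  exact F_mono n ((le_totalDegree hv).trans hf) (θ_sub_mem p n g ℓ hg hℓ hp _ v rfl)

lemma Θ_injective : Function.Injective (Θ p n g) := by
  rw [← LinearMap.ker_eq_bot, eq_bot_iff]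
  intro f hf
  rw [LinearMap.mem_ker] at hf
  have h1 := Θ_sub_mem p n g ℓ hg hℓ hp f.totalDegree f le_rfl
  rw [hf, zero_sub] at h1
  have h2 : f ∈ F n f.totalDegree := by
    have := Submodule.neg_mem _ h1
    rwa [neg_neg] at this
  rw [Submodule.mem_bot]
  exact eq_zero_of_mem_F n f h2

lemma Θ_surjective : Function.Surjective (Θ p n g) := by
  have key : ∀ d : ℕ, ∀ f ∈ F (K := K) n d, ∃ h, Θ p n g h = f := by
    intro d
    induction d with
    | zero =>
      intro f hf
      have : f = 0 := by simpa [F] using hf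
      exact ⟨0, by rw [this, map_zero]⟩
    | succ d ih =>
      intro f hf
      rw [mem_F_succ] at hf
      obtain ⟨h, hh⟩ := ih _ (Θ_sub_mem p n g ℓ hg hℓ hp d f hf)
      exact ⟨f - h, by rw [map_sub, hh]; ring⟩
  intro f
  exact key _ f (mem_F_totalDegree_succ n f)

end deg

/-- the monomial ideal `(x_i^p)` -/
noncomputable def I₀ : Ideal (MvPolynomial (Fin n) K) :=
  Ideal.span (Set.range fun i : Fin n => (X i ^ p : MvPolynomial (Fin n) K))

/-- reduced exponent attached to a function -/
noncomputable def emb (e : Fin n → Fin p) : Fin n →₀ ℕ :=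
  Finsupp.equivFunOnFinite.symm (fun i => (e i : ℕ))

lemma emb_apply (e : Fin n → Fin p) (i : Fin n) : emb p n e i = (e i : ℕ) := rfl

lemma emb_injective : Function.Injective (emb p n) := by
  intro e e' h
  ext i
  have := DFunLike.congr_fun h i
  simpa [emb_apply] using this

/-- coefficients at reduced monomials -/
noncomputable def ρ : MvPolynomial (Fin n) K →ₗ[K] ((Fin n → Fin p) → K) where
  toFun f e := coeff (emb p n e) f
  map_add' f f' := by ext e; simp
  map_smul' a f := by ext e; simp

lemma ρ_apply (f : MvPolynomial (Fin n) K) (e : Fin n → Fin p) :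
    ρ p n f e = coeff (emb p n e) f := rfl

lemma ρ_surjective : Function.Surjective (ρ (K := K) p n) := by
  classical
  intro t
  refine ⟨∑ e, monomial (emb p n e) (t e), ?_⟩
  ext e'
  rw [ρ_apply, coeff_sum]
  simp only [coeff_monomial]
  rw [Finset.sum_eq_single e']
  · simp
  · intro e _ hne
    rw [if_neg]
    intro h
    exact hne (emb_injective p n h)
  · simp

lemma mem_I₀_iff (f : MvPolynomial (Fin n) K) : f ∈ I₀ (K := K) p n ↔ ρ p n f = 0 := by
  classical
  have hI : I₀ (K := K) p n = Ideal.span ((fun s => monomial s (1 : K)) ''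
      (Set.range fun i : Fin n => Finsupp.single i p)) := by
    rw [I₀, ← Set.range_comp]
    congr 2
    funext i
    simp [X_pow_eq_monomial]
  rw [hI, mem_ideal_span_monomial_image]
  constructor
  · intro h
    ext e
    rw [ρ_apply]
    by_contra hne
    have hs : emb p n e ∈ f.support := mem_support_iff.mpr hne
    obtain ⟨_, ⟨i, rfl⟩, hle⟩ := h _ hs
    have h1 := hle i
    simp only [Finsupp.single_eq_same, emb_apply] at h1
    have := (e i).2
    omega
  · intro h m hm
    by_contra hcon
    push Not at hcon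
    have hlt : ∀ i, m i < p := by
      intro i
      by_contra hge
      push Not at hge
      apply hcon (Finsupp.single i p) ⟨i, rfl⟩
      intro j
      by_cases hj : i = j
      · subst hj
        simpa using hge
      · simp [Finsupp.single_apply, hj]
    let e : Fin n → Fin p := fun i => ⟨m i, hlt i⟩
    have hme : emb p n e = m := by
      ext i
      rfl
    have h2 := congrFun h e
    rw [ρ_apply, hme] at h2
    exact (mem_support_iff.mp hm) h2

section ideal

variable (hg : ∀ i, g i = X i ^ p - ℓ i) (hℓ : ∀ i, (ℓ i).totalDegree ≤ 1) (hp : 2 ≤ p)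

include hg hℓ hp

lemma mem_I₀_iff_Θ_mem (f : MvPolynomial (Fin n) K) :
    f ∈ I₀ (K := K) p n ↔ Θ p n g f ∈ Ideal.span (Set.range g) := by
  constructor
  · intro hf
    obtain ⟨c, rfl⟩ := Ideal.mem_span_range_iff_exists_fun.mp hf
    rw [map_sum]
    apply Ideal.sum_mem
    intro i _
    rw [mul_comm, Θ_mul _ _ _ (by omega)]
    exact Ideal.mul_mem_right _ _ (Ideal.subset_span (Set.mem_range_self i))
  · intro hf
    obtain ⟨c, hc⟩ := Ideal.mem_span_range_iff_exists_fun.mp hf
    choose c' hc' using fun i => Θ_surjective p n g ℓ hg hℓ hp (c i)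
    have h1 : Θ p n g (∑ i, X i ^ p * c' i) = Θ p n g f := by
      rw [map_sum, ← hc]
      apply Finset.sum_congr rfl
      intro i _
      rw [Θ_mul _ _ _ (by omega), hc', mul_comm]
    rw [← Θ_injective p n g ℓ hg hℓ hp h1]
    apply Ideal.sum_mem
    intro i _
    exact Ideal.mul_mem_right _ _ (Ideal.subset_span (Set.mem_range_self i))

theorem exists_linearEquiv :
    Nonempty ((MvPolynomial (Fin n) K ⧸ Ideal.span (Set.range g)) ≃ₗ[K]
      ((Fin n → Fin p) → K)) := by
  let Θe : MvPolynomial (Fin n) K ≃ₗ[K] MvPolynomial (Fin n) K :=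
    LinearEquiv.ofBijective (Θ p n g)
      ⟨Θ_injective p n g ℓ hg hℓ hp, Θ_surjective p n g ℓ hg hℓ hp⟩
  let Φ : MvPolynomial (Fin n) K →ₗ[K] ((Fin n → Fin p) → K) :=
    (ρ p n).comp Θe.symm.toLinearMap
  have hΦs : Function.Surjective Φ := (ρ_surjective p n).comp Θe.symm.surjective
  have hker : LinearMap.ker Φ = (Ideal.span (Set.range g)).restrictScalars K := by
    ext h
    rw [LinearMap.mem_ker, Submodule.restrictScalars_mem]
    show ρ p n (Θe.symm h) = 0 ↔ h ∈ Ideal.span (Set.range g)
    rw [← mem_I₀_iff, mem_I₀_iff_Θ_mem p n g ℓ hg hℓ hp]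
    have h1 : Θ p n g (Θe.symm h) = h := Θe.apply_symm_apply h
    rw [h1]
  exact ⟨(Submodule.Quotient.restrictScalarsEquiv K (Ideal.span (Set.range g))).symm ≪≫ₗ
    (Submodule.quotEquivOfEq _ _ hker.symm) ≪≫ₗ Φ.quotKerEquivOfSurjective hΦs⟩

end ideal

end Groth.Agent.H11.FrobSysDim
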