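import Mathlib

/-!
# Points of a finite étale algebra over a separably closed field
-/

set_option autoImplicit false
universe u

namespace Groth.Agent.H11.SepClosedCount

theorem card_algHom_pi (K : Type u) [Field K] (ι : Type u) [Finite ι] :
    Nat.card ((ι → K) →ₐ[K] K) = Nat.card ι := by
  classical
  haveI := Fintype.ofFinite ι
  symm
  apply Nat.card_eq_of_bijective (fun i => Pi.evalAlgHom K (fun _ => K) i)
  constructor
  · intro i j h
    by_contra hne
    have h1 := AlgHom.congr_fun h (Pi.single i 1)
    simp only [Pi.evalAlgHom_apply, Pi.single_eq_same] at h1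
    rw [Pi.single_eq_of_ne (fun h => hne h.symm)] at h1
    exact one_ne_zero h1
  · intro φ
    have hsum : ∑ i, φ (Pi.single i 1) = 1 := by
      rw [← map_sum]
      have h0 : (∑ i : ι, (Pi.single i 1 : ι → K)) = 1 := by
        have := Finset.univ_sum_single (1 : ι → K)
        simpa using this
      rw [h0, map_one]
    obtain ⟨i, hi⟩ : ∃ i, φ (Pi.single i 1) ≠ 0 := by
      by_contra hcon
      push Not at hcon
      rw [Finset.sum_eq_zero (fun i _ => hcon i)] at hsum
      exact zero_ne_one hsum
    refine ⟨i, ?_⟩
    apply AlgHom.ext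
    intro f
    have h1 : f * Pi.single i 1 = f i • (Pi.single i 1 : ι → K) := by
      ext j
      by_cases hj : j = i
      · subst hj
        simp
      · simp [Pi.single_eq_of_ne hj]
    have h2 := congrArg φ h1
    rw [map_mul, map_smul, smul_eq_mul] at h2
    have h3 := mul_right_cancel₀ hi h2
    simp only [Pi.evalAlgHom_apply]
    exact h3.symm

theorem card_algHom_of_etale (K : Type u) [Field K] [IsSepClosed K] (E : Type u) [CommRing E]
    [Algebra K E] [Algebra.Etale K E] [Module.Finite K E] :
    Nat.card (E →ₐ[K] K) = Module.finrank K E := by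
  haveI : IsArtinianRing E := IsArtinianRing.of_finite K E
  haveI : Finite (PrimeSpectrum E) := inferInstance
  let e : E ≃ₐ[K] (PrimeSpectrum E → K) := Algebra.FormallyEtale.equivPiOfIsSepClosed K E
  have h1 : Nat.card (E →ₐ[K] K) = Nat.card ((PrimeSpectrum E → K) →ₐ[K] K) :=
    Nat.card_congr (AlgEquiv.arrowCongr e AlgEquiv.refl)
  haveI := Fintype.ofFinite (PrimeSpectrum E)
  rw [h1, card_algHom_pi, e.toLinearEquiv.finrank_eq, Module.finrank_fintype_fun_eq_card,
    Nat.card_eq_fintype_card]

end Groth.Agent.H11.SepClosedCount
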