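import Mathlib
import Groth.Agent.H11.FrobSys
import Groth.Agent.H11.FrobSysDim
import Groth.Agent.H11.SepClosedCount
import Groth.Agent.S0523
import Groth.Agent.S0533

/-!
# Counting solutions of `A *ᵥ x^(p) - x = b` over a strictly Henselian local ring
-/

set_option autoImplicit false
universe u

namespace Groth.Agent.H11.FrobSysCount

open MvPolynomial Groth.Agent.H11.FrobSys

section general

variable {K : Type u} [CommRing K] (p n : ℕ) (A c : Matrix (Fin n) (Fin n) K) (b : Fin n → K)

/-- linear parts -/
noncomputable def ell (k : Fin n) : MvPolynomial (Fin n) K := ∑ j, C (c k j) * (X j + C (b j))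

/-- normalized generators -/
noncomputable def gen (k : Fin n) : MvPolynomial (Fin n) K := X k ^ p - ell n c b k

lemma gen_eq (hcA : c * A = 1) (k : Fin n) :
    gen p n c b k = ∑ j, C (c k j) * rel p n A b j := by
  classical
  have hcA' : ∀ i, ∑ j, c k j * A j i = if k = i then 1 else 0 := by
    intro i
    have := congrFun (congrFun hcA k) i
    simpa [Matrix.mul_apply, Matrix.one_apply] using this
  have h1 : ∀ j, C (c k j) * rel p n A b j =
      ∑ i, C (c k j * A j i) * X i ^ p - C (c k j) * (X j + C (b j)) := by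
    intro j
    rw [rel, sub_sub, mul_sub, Finset.mul_sum]
    congr 1
    apply Finset.sum_congr rfl
    intro i _
    rw [C_mul]
    ring
  simp only [h1]
  rw [Finset.sum_sub_distrib, Finset.sum_comm]
  have h2 : ∀ i, ∑ j, C (c k j * A j i) * X i ^ p =
      (if k = i then (1 : MvPolynomial (Fin n) K) else 0) * X i ^ p := by
    intro i
    rw [← Finset.sum_mul, ← map_sum, hcA']
    split_ifs <;> simp
  simp only [h2]
  simp [gen, ell]

lemma span_eq (hcA : c * A = 1) :
    J p n A b = Ideal.span (Set.range (gen p n c b)) := by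
  classical
  have hAc : A * c = 1 := mul_eq_one_comm.mp hcA
  have hAc' : ∀ j l, ∑ k, A j k * c k l = if j = l then 1 else 0 := by
    intro j l
    have := congrFun (congrFun hAc j) l
    simpa [Matrix.mul_apply, Matrix.one_apply] using this
  apply le_antisymm
  · rw [J, Ideal.span_le]
    rintro _ ⟨j, rfl⟩
    have h1 : rel p n A b j = ∑ k, C (A j k) * gen p n c b k := by
      simp only [gen_eq p n A c b hcA, Finset.mul_sum]
      rw [Finset.sum_comm]
      have h2 : ∀ l, ∑ k, C (A j k) * (C (c k l) * rel p n A b l) =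
          (if j = l then (1 : MvPolynomial (Fin n) K) else 0) * rel p n A b l := by
        intro l
        simp only [← mul_assoc, ← C_mul]
        rw [← Finset.sum_mul, ← map_sum, hAc']
        split_ifs <;> simp
      simp only [h2]
      simp
    rw [h1]
    exact Ideal.sum_mem _ (fun k _ => Ideal.mul_mem_left _ _ (Ideal.subset_span ⟨k, rfl⟩))
  · rw [Ideal.span_le]
    rintro _ ⟨k, rfl⟩
    rw [gen_eq p n A c b hcA]
    exact Ideal.sum_mem _ (fun j _ => Ideal.mul_mem_left _ _ (Ideal.subset_span ⟨j, rfl⟩))

end general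

theorem card_sol_field (K : Type u) [Field K] [IsSepClosed K] (p n : ℕ) (hp2 : 2 ≤ p)
    (hpK : (p : K) = 0) (A c : Matrix (Fin n) (Fin n) K) (hcA : c * A = 1) (b : Fin n → K) :
    Nat.card {x : Fin n → K // ∀ j, ∑ i, A j i * x i ^ p - x j = b j} = p ^ n := by
  haveI : Algebra.Etale K (E p n A b) := etale p n A b hpK (by omega)
  have hℓ : ∀ k, (ell n c b k).totalDegree ≤ 1 := by
    intro k
    apply totalDegree_finsetSum_le
    intro j _
    refine (totalDegree_mul _ _).trans ?_
    rw [totalDegree_C, zero_add]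
    refine (totalDegree_add _ _).trans ?_
    rw [totalDegree_X, totalDegree_C]
    simp
  obtain ⟨e0⟩ := FrobSysDim.exists_linearEquiv p n (gen p n c b) (ell n c b) (fun _ => rfl) hℓ hp2
  let e1 : E p n A b ≃ₗ[K] ((Fin n → Fin p) → K) :=
    (Ideal.quotientEquivAlgOfEq K (span_eq p n A c b hcA)).toLinearEquiv ≪≫ₗ e0
  haveI : Module.Finite K (E p n A b) := Module.Finite.equiv e1.symm
  have hrank : Module.finrank K (E p n A b) = p ^ n := by
    rw [e1.finrank_eq, Module.finrank_fintype_fun_eq_card]
    simp
  rw [← hrank, ← SepClosedCount.card_algHom_of_etale K (E p n A b)]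
  apply Nat.card_congr
  have hiff : ∀ x : Fin n → K, (∀ j, ∑ i, A j i * x i ^ p - x j = b j) ↔ IsSol p n A b x := by
    intro x
    apply forall_congr'
    intro j
    simp only [Algebra.algebraMap_self, RingHom.id_apply]
    exact sub_eq_zero.symm
  exact
    { toFun := fun x => homOfSol p n A b x.1 ((hiff x.1).mp x.2)
      invFun := fun τ => ⟨fun i => τ (Ideal.Quotient.mk _ (X i)), (hiff _).mpr (isSol_of_hom p n A b τ)⟩
      left_inv := fun x => Subtype.ext (funext fun i => homOfSol_X p n A b x.1 _ i)
      right_inv := fun τ => hom_ext' p n A b _ _ (fun i => homOfSol_X p n A b _ _ i) }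

theorem card_sol (R : Type u) [CommRing R] [IsLocalRing R]
    [HenselianRing R (IsLocalRing.maximalIdeal R)]
    [IsSepClosed (IsLocalRing.ResidueField R)] (p n : ℕ) (hp2 : 2 ≤ p) (hpR : (p : R) = 0)
    (A c : Matrix (Fin n) (Fin n) R) (hcA : c * A = 1) (b : Fin n → R) :
    Nat.card {x : Fin n → R // ∀ j, ∑ i, A j i * x i ^ p - x j = b j} = p ^ n := by
  set m := IsLocalRing.maximalIdeal R with hm
  let res : R →+* IsLocalRing.ResidueField R := IsLocalRing.residue R
  have hpκ : (p : IsLocalRing.ResidueField R) = 0 := by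
    have := congrArg res hpR
    simpa using this
  have hcA' : res.mapMatrix c * res.mapMatrix A = 1 := by
    rw [← map_mul, hcA, map_one]
  rw [← card_sol_field (IsLocalRing.ResidueField R) p n hp2 hpκ (res.mapMatrix A) (res.mapMatrix c)
    hcA' (fun j => res (b j))]
  haveI : Algebra.Etale R (E p n A b) := etale p n A b hpR (by omega)
  have hiff : ∀ x : Fin n → R, (∀ j, ∑ i, A j i * x i ^ p - x j = b j) ↔ IsSol p n A b x := by
    intro x
    apply forall_congr'
    intro j
    simp only [Algebra.algebraMap_self, RingHom.id_apply]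
    exact sub_eq_zero.symm
  have hiffκ : ∀ y : Fin n → IsLocalRing.ResidueField R,
      (∀ j, ∑ i, res.mapMatrix A j i * y i ^ p - y j = res (b j)) ↔
      IsSol (B := IsLocalRing.ResidueField R) p n A b y := by
    intro y
    apply forall_congr'
    intro j
    exact sub_eq_zero.symm
  apply Nat.card_eq_of_bijective
    (fun x : {x : Fin n → R // ∀ j, ∑ i, A j i * x i ^ p - x j = b j} =>
      (⟨fun i => res (x.1 i), by
        intro j
        have := congrArg res (x.2 j)
        simpa [map_sum, map_mul, map_pow, map_sub] using this⟩ :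
        {y : Fin n → IsLocalRing.ResidueField R //
          ∀ j, ∑ i, res.mapMatrix A j i * y i ^ p - y j = res (b j)}))
  constructor
  · rintro ⟨x, hx⟩ ⟨x', hx'⟩ h
    have hres : ∀ i, res (x i) = res (x' i) := fun i => congrFun (Subtype.ext_iff.mp h) i
    apply Subtype.ext
    funext i
    let τ := homOfSol p n A b x ((hiff x).mp hx)
    let τ' := homOfSol p n A b x' ((hiff x').mp hx')
    have hcomp : (Ideal.Quotient.mkₐ R m).comp τ = (Ideal.Quotient.mkₐ R m).comp τ' := by
      apply hom_ext'
      intro i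
      simp only [AlgHom.comp_apply, Ideal.Quotient.mkₐ_eq_mk, τ, τ', homOfSol_X]
      exact hres i
    have hI : m ≤ Ideal.jacobson ⊥ :=
      le_of_eq (IsLocalRing.jacobson_eq_maximalIdeal ⊥ bot_ne_top).symm
    have hττ' : τ = τ' := by
      apply Groth.Agent.S0533.inj_aux m hI (E p n A b) R τ τ'
      intro y
      rw [Algebra.algebraMap_self, Ideal.map_id]
      have := AlgHom.congr_fun hcomp y
      simp only [AlgHom.comp_apply, Ideal.Quotient.mkₐ_eq_mk] at this
      exact Ideal.Quotient.eq.mp this
    have h1 := homOfSol_X p n A b x ((hiff x).mp hx) i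
    have h2 := homOfSol_X p n A b x' ((hiff x').mp hx') i
    show x i = x' i
    rw [← h1, ← h2]
    exact AlgHom.congr_fun hττ' _
  · rintro ⟨y, hy⟩
    let σ0 : E p n A b →ₐ[R] IsLocalRing.ResidueField R :=
      homOfSol (B := IsLocalRing.ResidueField R) p n A b y ((hiffκ y).mp hy)
    let σ : E p n A b →ₐ[R] R ⧸ m := σ0
    obtain ⟨τ, hτ⟩ := (Groth.Agent.S0523.result R m).mp inferInstance (E p n A b) σ
    refine ⟨⟨fun i => τ (Ideal.Quotient.mk _ (X i)), (hiff _).mpr (isSol_of_hom p n A b τ)⟩, ?_⟩
    apply Subtype.ext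
    funext i
    have h1 := AlgHom.congr_fun hτ (Ideal.Quotient.mk _ (X i))
    have h2 : σ0 (Ideal.Quotient.mk _ (X i)) = y i := homOfSol_X p n A b y _ i
    simp only [AlgHom.comp_apply, Ideal.Quotient.mkₐ_eq_mk] at h1
    exact h1.trans h2

end Groth.Agent.H11.FrobSysCount
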