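import Mathlib
import Groth.Agent.H11.FrobSysCount

/-!
# Bijective Frobenius-semilinear maps on finite modules over a Noetherian local ring

Such a module is killed by the maximal ideal, and the count of fixed points reduces to the field case.
-/

set_option autoImplicit false
universe u v

namespace Groth.Agent.H11.FrobTorsion

open IsLocalRing TensorProduct

set_option backward.isDefEq.respectTransparency false in
lemma finrank_quot_eq {R : Type u} [CommRing R] [IsLocalRing R] {M : Type v} [AddCommGroup M]
    [Module R M] :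
    Module.finrank (ResidueField R) (ResidueField R ⊗[R] M) =
      Module.finrank (R ⧸ maximalIdeal R) (M ⧸ (maximalIdeal R) • (⊤ : Submodule R M)) := by
  let : Module (ResidueField R) (M ⧸ maximalIdeal R • (⊤ : Submodule R M)) :=
    inferInstanceAs (Module (R ⧸ maximalIdeal R) _)
  let : IsScalarTower R (ResidueField R) (M ⧸ maximalIdeal R • (⊤ : Submodule R M)) :=
    inferInstanceAs (IsScalarTower R (R ⧸ maximalIdeal R) _)
  let e : (ResidueField R) ⊗[R] M ≃ₗ[ResidueField R] M ⧸ (maximalIdeal R) • (⊤ : Submodule R M) :=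
    (quotTensorEquivQuotSMul M (maximalIdeal R)).extendScalarsOfSurjective residue_surjective
  exact e.finrank_eq

/-- `𝔪 M` -/
abbrev mM (R : Type u) [CommRing R] [IsLocalRing R] (M : Type v) [AddCommGroup M] [Module R M] :
    Submodule R M := maximalIdeal R • (⊤ : Submodule R M)

/-- residue field as a quotient -/
abbrev kk (R : Type u) [CommRing R] [IsLocalRing R] : Type u := R ⧸ maximalIdeal R

noncomputable instance (R : Type u) [CommRing R] [IsLocalRing R] : Field (kk R) :=
  Ideal.Quotient.field (maximalIdeal R)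

theorem main (p : ℕ) [Fact p.Prime] {R : Type u} [CommRing R] [IsLocalRing R] [IsNoetherianRing R]
    [IsSepClosed (kk R)] [CharP R p]
    {M : Type v} [AddCommGroup M] [Module R M] [Module.Finite R M]
    (T : M →+ M) (hT : ∀ (r : R) (m : M), T (r • m) = r ^ p • T m) (hbij : Function.Bijective T) :
    Function.Surjective (fun m => T m - m) ∧
      Nat.card {m : M // T m = m} =
        p ^ Module.finrank (kk R) (M ⧸ mM R M) := by
  classical
  have hp2 : 2 ≤ p := (Fact.out : p.Prime).two_le
  have hpκ : (p : kk R) = 0 := by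
    have h0 : (p : kk R) = algebraMap R (kk R) (p : R) := (map_natCast _ p).symm
    rw [h0, CharP.cast_eq_zero, map_zero]
  haveI : Module.Finite (kk R) (M ⧸ mM R M) :=
    Module.Finite.of_restrictScalars_finite R (kk R) (M ⧸ mM R M)
  let bV : Module.Basis (Fin (Module.finrank (kk R) (M ⧸ mM R M))) (kk R) (M ⧸ mM R M) :=
    Module.finBasis (kk R) (M ⧸ mM R M)
  let φ : M →ₗ[R] (Fin (Module.finrank (kk R) (M ⧸ mM R M)) → kk R) :=
    (bV.equivFun.restrictScalars R).toLinearMap ∘ₗ (mM R M).mkQ
  have φ_apply : ∀ y j, φ y j = bV.repr ((mM R M).mkQ y) j := fun y j => rfl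
  have φ_smul : ∀ (r : R) y, φ (r • y) = fun j => Ideal.Quotient.mk (maximalIdeal R) r * φ y j := by
    intro r y
    rw [map_smul]
    funext j
    rw [Pi.smul_apply, Algebra.smul_def]
    rfl
  have φ_zero_iff : ∀ y, φ y = 0 ↔ y ∈ (mM R M) := by
    intro y
    constructor
    · intro h
      have h1 : bV.equivFun ((mM R M).mkQ y) = 0 := h
      have h2 : (mM R M).mkQ y = 0 := by
        have := bV.equivFun.injective (h1.trans (map_zero bV.equivFun).symm)
        exact this
      exact (Submodule.Quotient.mk_eq_zero (mM R M)).mp h2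
    · intro h
      have h2 : (mM R M).mkQ y = 0 := (Submodule.Quotient.mk_eq_zero (mM R M)).mpr h
      show bV.equivFun ((mM R M).mkQ y) = 0
      rw [h2, map_zero]
  have φ_surj : Function.Surjective φ := by
    intro x
    obtain ⟨y, hy⟩ := Submodule.mkQ_surjective (mM R M) (bV.equivFun.symm x)
    refine ⟨y, ?_⟩
    show bV.equivFun ((mM R M).mkQ y) = x
    rw [hy, LinearEquiv.apply_symm_apply]
  choose mi hmi using fun i => Submodule.mkQ_surjective (mM R M) (bV i)
  have φ_mi : ∀ i, φ (mi i) = Pi.single i 1 := by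
    intro i
    show bV.equivFun ((mM R M).mkQ (mi i)) = _
    rw [hmi]
    funext j
    rw [Module.Basis.equivFun_self]
    simp [Pi.single_apply, eq_comm]
  have hdecomp : ∀ y, ∃ r : Fin (Module.finrank (kk R) (M ⧸ mM R M)) → R,
      (∀ i, Ideal.Quotient.mk (maximalIdeal R) (r i) = φ y i) ∧ y - ∑ i, r i • mi i ∈ (mM R M) := by
    intro y
    choose r hr using fun i => Ideal.Quotient.mk_surjective (φ y i)
    refine ⟨r, hr, ?_⟩
    rw [← φ_zero_iff, map_sub, map_sum, sub_eq_zero]
    funext j
    rw [Finset.sum_apply]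
    simp only [φ_smul, φ_mi]
    rw [Finset.sum_eq_single j]
    · simp [hr]
    · intro i _ hij
      simp [Pi.single_eq_of_ne (Ne.symm hij)]
    · simp
  have hTm : ∀ z ∈ (mM R M), T z ∈ maximalIdeal R • (mM R M) := by
    intro z hz
    refine Submodule.smul_induction_on hz ?_ ?_
    · intro r hr m _
      rw [hT]
      have h1 : r ^ p = r * r ^ (p - 1) := by
        rw [← pow_succ']
        congr 1
        omega
      rw [h1, mul_smul]
      exact Submodule.smul_mem_smul hr (Submodule.smul_mem_smul
        (Ideal.pow_mem_of_mem _ hr _ (by omega)) trivial)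
    · intro x y hx hy
      rw [map_add]
      exact add_mem hx hy
  have hTm' : ∀ z ∈ (mM R M), T z ∈ (mM R M) := fun z hz => Submodule.smul_le_right (hTm z hz)
  let A : Matrix (Fin (Module.finrank (kk R) (M ⧸ mM R M)))
      (Fin (Module.finrank (kk R) (M ⧸ mM R M))) (kk R) :=
    fun j i => φ (T (mi i)) j
  have hA : ∀ y j, φ (T y) j = ∑ i, A j i * (φ y i) ^ p := by
    intro y j
    obtain ⟨r, hr, hz⟩ := hdecomp y
    have h1 : y = ∑ i, r i • mi i + (y - ∑ i, r i • mi i) := by abel
    have h2 : φ (T (y - ∑ i, r i • mi i)) = 0 := (φ_zero_iff _).mpr (hTm' _ hz)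
    conv_lhs => rw [h1, map_add, map_add, h2, add_zero, map_sum, map_sum]
    rw [Finset.sum_apply]
    apply Finset.sum_congr rfl
    intro i _
    rw [hT, φ_smul, map_pow, hr, mul_comm]
  -- invertibility
  have hspan : ⊤ ≤ Submodule.span (kk R) (Set.range fun i => (mM R M).mkQ (T (mi i))) := by
    intro v _
    obtain ⟨y0, hy0⟩ := Submodule.mkQ_surjective (mM R M) v
    obtain ⟨y, hy⟩ := hbij.2 y0
    have h1 : v = ∑ i, (φ y i) ^ p • (mM R M).mkQ (T (mi i)) := by
      apply bV.repr.injective
      ext j
      rw [← hy0, ← hy, ← φ_apply, hA, map_sum, Finsupp.coe_finset_sum, Finset.sum_apply]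
      apply Finset.sum_congr rfl
      intro i _
      rw [map_smul, Finsupp.smul_apply, smul_eq_mul, mul_comm]
      rfl
    rw [h1]
    exact Submodule.sum_mem _ (fun i _ => Submodule.smul_mem _ _ (Submodule.subset_span ⟨i, rfl⟩))
  have hli := linearIndependent_of_top_le_span_of_card_eq_finrank hspan (by simp)
  let bw : Module.Basis (Fin (Module.finrank (kk R) (M ⧸ mM R M))) (kk R) (M ⧸ mM R M) :=
    Module.Basis.mk hli hspan
  have hbw : ∀ i, bw i = (mM R M).mkQ (T (mi i)) := fun i => by simp [bw]
  have hAeq : A = bV.toMatrix bw := by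
    ext j i
    rw [Module.Basis.toMatrix_apply, hbw]
    rfl
  have hcA : bw.toMatrix bV * A = 1 := by
    rw [hAeq]
    exact Module.Basis.toMatrix_mul_toMatrix_flip bw bV
  -- T reflects (mM R M)
  have hrefl : ∀ y, T y ∈ (mM R M) → y ∈ (mM R M) := by
    intro y hy
    rw [← φ_zero_iff] at hy ⊢
    have h1 : A.mulVec (fun i => (φ y i) ^ p) = 0 := by
      funext j
      have := hA y j
      rw [hy] at this
      simp only [Matrix.mulVec, dotProduct]
      exact this.symm
    have h2 : (fun i => (φ y i) ^ p) = 0 := by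
      have h3 : (bw.toMatrix bV * A).mulVec (fun i => (φ y i) ^ p) = fun i => (φ y i) ^ p := by
        rw [hcA, Matrix.one_mulVec]
      rw [← h3, ← Matrix.mulVec_mulVec, h1, Matrix.mulVec_zero]
    funext i
    have h4 := congrFun h2 i
    exact pow_eq_zero_iff (by omega) |>.mp h4
  -- Nakayama
  have hmM0 : (mM R M) = ⊥ := by
    apply Submodule.eq_bot_of_le_smul_of_le_jacobson_bot (maximalIdeal R) (mM R M)
    · haveI : IsNoetherian R M := isNoetherian_of_isNoetherianRing_of_finite R M
      exact IsNoetherian.noetherian _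
    · intro z hz
      obtain ⟨y, rfl⟩ := hbij.2 z
      exact hTm y (hrefl y hz)
    · exact le_of_eq (jacobson_eq_maximalIdeal ⊥ bot_ne_top).symm
  have φ_inj : Function.Injective φ := by
    rw [← LinearMap.ker_eq_bot, eq_bot_iff]
    intro y hy
    rw [LinearMap.mem_ker, φ_zero_iff, hmM0] at hy
    exact hy
  have hkey : ∀ m b : M, T m - m = b ↔ ∀ j, ∑ i, A j i * (φ m i) ^ p - φ m j = φ b j := by
    intro m b
    constructor
    · intro h j
      rw [← h, map_sub, Pi.sub_apply, hA]
    · intro h
      apply φ_inj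
      funext j
      rw [map_sub, Pi.sub_apply, hA]
      exact h j
  have hcount := fun b => Groth.Agent.H11.FrobSysCount.card_sol_field (kk R) p
    (Module.finrank (kk R) (M ⧸ mM R M)) hp2 hpκ A (bw.toMatrix bV) hcA b
  constructor
  · intro b
    have h1 := hcount (φ b)
    have h2 : 0 < Nat.card {x : Fin (Module.finrank (kk R) (M ⧸ mM R M)) → kk R //
        ∀ j, ∑ i, A j i * x i ^ p - x j = φ b j} := by
      rw [h1]
      exact pow_pos (by omega) _
    obtain ⟨⟨x, hx⟩⟩ := (Nat.card_pos_iff.mp h2).1
    obtain ⟨y, rfl⟩ := φ_surj x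
    exact ⟨y, (hkey y b).mpr hx⟩
  · rw [← hcount 0]
    apply Nat.card_congr
    refine Equiv.subtypeEquiv (Equiv.ofBijective φ ⟨φ_inj, φ_surj⟩) ?_
    intro m
    rw [← sub_eq_zero, hkey]
    simp only [map_zero, Pi.zero_apply]
    exact Iff.rfl
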