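import Mathlib
import Groth.Agent.H27.FieldSmooth

/-!
# Formally smooth field extensions are geometrically reduced; Kähler criterion
-/

set_option autoImplicit false

universe u

namespace Groth.Agent.H11.GeomRedSmooth

open TensorProduct

/-- An Artinian algebra which is formally smooth over a field is reduced. -/
theorem isReduced_of_formallySmooth_of_isArtinianRing (F C : Type u) [Field F] [CommRing C]
    [Algebra F C] [Algebra.FormallySmooth F C] [IsArtinianRing C] : IsReduced C := by
  apply isReduced_ofLocalizationMaximal
  intro m hm
  haveI : Algebra.FormallySmooth C (Localization.AtPrime m) :=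
    Algebra.FormallySmooth.of_isLocalization m.primeCompl
  haveI : Algebra.FormallySmooth F (Localization.AtPrime m) :=
    Algebra.FormallySmooth.comp F C _
  haveI : IsArtinianRing (Localization.AtPrime m) := inferInstance
  have hnil : IsNilpotent (IsLocalRing.maximalIdeal (Localization.AtPrime m)) := by
    have := IsArtinianRing.isNilpotent_jacobson_bot (R := Localization.AtPrime m)
    rwa [IsLocalRing.jacobson_eq_maximalIdeal ⊥ bot_ne_top] at this
  have h0 := Groth.Agent.H27.FieldSmooth.maximalIdeal_eq_bot_of_field (k := F) hnil
  have hf : IsField (Localization.AtPrime m) := IsLocalRing.isField_iff_maximalIdeal_eq.mpr h0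
  letI := hf.toField
  infer_instance

/-- A formally smooth field extension is geometrically reduced. -/
theorem isGeometricallyReduced_of_formallySmooth {k K : Type u} [Field k] [Field K] [Algebra k K]
    [Algebra.FormallySmooth k K] : Algebra.IsGeometricallyReduced k K := by
  rw [Algebra.isGeometricallyReduced_field_iff]
  have key : IsReduced (K ⊗[k] AlgebraicClosure k) := by
    apply IsReduced.tensorProduct_of_flat_of_forall_fg
    intro B hB
    have hBf : IsField B := Subalgebra.isField_of_algebraic B
    letI : Field B := hBf.toField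
    haveI : Algebra.FiniteType k B := (Subalgebra.fg_iff_finiteType B).mp hB
    haveI : Algebra.IsIntegral k B := Algebra.IsIntegral.of_injective B.val Subtype.val_injective
    haveI : Module.Finite k B := Algebra.IsIntegral.finite
    haveI : Module.Finite K (K ⊗[k] B) := inferInstance
    haveI : IsArtinianRing (K ⊗[k] B) := IsArtinianRing.of_finite K _
    haveI : IsArtinianRing (B ⊗[k] K) :=
      (Algebra.TensorProduct.comm k K B).toRingEquiv.isArtinianRing
    haveI : Algebra.FormallySmooth B (B ⊗[k] K) := inferInstance
    have hred : IsReduced (B ⊗[k] K) := isReduced_of_formallySmooth_of_isArtinianRing B _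
    exact isReduced_of_injective (Algebra.TensorProduct.comm k K B).toAlgHom
      (Algebra.TensorProduct.comm k K B).injective
  exact isReduced_of_injective (Algebra.TensorProduct.comm k (AlgebraicClosure k) K).toAlgHom
    (Algebra.TensorProduct.comm k (AlgebraicClosure k) K).injective

/-- If `H¹(L_{T/S}) = 0` then `T ⊗_S Ω_{S/R} → Ω_{T/R}` is injective. -/
theorem injective_mapBaseChange_of_subsingleton (R S T : Type*) [CommRing R] [CommRing S]
    [CommRing T] [Algebra R S] [Algebra R T] [Algebra S T] [IsScalarTower R S T]
    [Subsingleton (Algebra.H1Cotangent S T)] :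
    Function.Injective (KaehlerDifferential.mapBaseChange R S T) := by
  rw [injective_iff_map_eq_zero]
  intro x hx
  obtain ⟨y, rfl⟩ := (Algebra.H1Cotangent.exact_δ_mapBaseChange R S T x).mp hx
  rw [Subsingleton.elim y 0, map_zero]

/-- `Ω[K⁄ℤ] → Ω[K⁄ZMod p]` is injective. -/
theorem injective_map_zmod (p : ℕ) [Fact p.Prime] (K : Type u) [CommRing K] [Algebra (ZMod p) K] :
    Function.Injective (KaehlerDifferential.map ℤ (ZMod p) K K) := by
  rw [injective_iff_map_eq_zero]
  intro x hx
  obtain ⟨y, rfl⟩ := (KaehlerDifferential.exact_mapBaseChange_map ℤ (ZMod p) K x).mp hx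
  haveI : Subsingleton Ω[ZMod p⁄ℤ] :=
    KaehlerDifferential.subsingleton_of_surjective ℤ (ZMod p) (ZMod.intCast_surjective)
  rw [Subsingleton.elim y 0, map_zero]

/-- Injectivity of `K ⊗ Ω[k⁄ℤ] → Ω[K⁄ℤ]` implies that of `K ⊗ Ω[k⁄F_p] → Ω[K⁄F_p]`. -/
theorem injective_mapBaseChange_zmod (p : ℕ) [Fact p.Prime] (k K : Type u) [CommRing k] [CommRing K]
    [Algebra (ZMod p) k] [Algebra (ZMod p) K] [Algebra k K] [IsScalarTower (ZMod p) k K]
    (h : Function.Injective (KaehlerDifferential.mapBaseChange ℤ k K)) :
    Function.Injective (KaehlerDifferential.mapBaseChange (ZMod p) k K) := by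
  have hsq : ∀ y : K ⊗[k] Ω[k⁄ℤ],
      KaehlerDifferential.map ℤ (ZMod p) K K (KaehlerDifferential.mapBaseChange ℤ k K y) =
      KaehlerDifferential.mapBaseChange (ZMod p) k K
        ((KaehlerDifferential.map ℤ (ZMod p) k k).baseChange K y) := by
    intro y
    induction y with
    | zero => simp
    | add a b ha hb => simp only [map_add, ha, hb]
    | tmul x w =>
      simp only [KaehlerDifferential.mapBaseChange_tmul, LinearMap.baseChange_tmul, map_smul]
      congr 1
      have hw : w ∈ Submodule.span k (Set.range (KaehlerDifferential.D ℤ k)) := by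
        rw [KaehlerDifferential.span_range_derivation]; trivial
      induction hw using Submodule.span_induction with
      | mem w hw =>
        obtain ⟨a, rfl⟩ := hw
        simp
      | zero => simp
      | add a b _ _ ha hb => simp only [map_add, ha, hb]
      | smul c a _ ha =>
        simp only [map_smul]
        rw [← algebraMap_smul K c, map_smul, ha, algebraMap_smul]
  rw [injective_iff_map_eq_zero]
  intro x hx
  obtain ⟨y, rfl⟩ := LinearMap.baseChange_surjective (A := K)
    (g := KaehlerDifferential.map ℤ (ZMod p) k k)
    (KaehlerDifferential.map_surjective ℤ (ZMod p) k) x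
  rw [← hsq] at hx
  have h1 := (injective_iff_map_eq_zero _).mp (injective_map_zmod p K) _ hx
  have h2 := (injective_iff_map_eq_zero _).mp h _ h1
  rw [h2, map_zero]

/-- Main criterion. -/
theorem geomReduced_iff {k K : Type u} [Field k] [Field K] [Algebra k K] (p : ℕ)
    [Fact p.Prime] [CharP k p] :
    Algebra.IsGeometricallyReduced k K ↔
      Function.Injective (KaehlerDifferential.mapBaseChange ℤ k K) := by
  constructor
  · intro h
    haveI : Algebra.FormallySmooth k K :=
      Groth.Agent.H27.FieldSmooth.formallySmooth_of_geomReduced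
    exact injective_mapBaseChange_of_subsingleton ℤ k K
  · intro h
    letI : Algebra (ZMod p) k := ZMod.algebra k p
    letI : Algebra (ZMod p) K := ((algebraMap k K).comp (algebraMap (ZMod p) k)).toAlgebra
    haveI : IsScalarTower (ZMod p) k K := IsScalarTower.of_algebraMap_eq' rfl
    have hF := injective_mapBaseChange_zmod p k K h
    haveI : Algebra.FormallySmooth (ZMod p) K :=
      Groth.Agent.H27.FieldSmooth.formallySmooth_zmod p K
    haveI : Subsingleton (Algebra.H1Cotangent k K) := by
      refine ⟨fun a b => ?_⟩
      have hzero : ∀ x : Algebra.H1Cotangent k K, x = 0 := by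
        intro x
        have hδ : Algebra.H1Cotangent.δ (ZMod p) k K x = 0 := by
          apply hF
          rw [map_zero]
          exact (Algebra.H1Cotangent.exact_δ_mapBaseChange (ZMod p) k K _).mpr ⟨x, rfl⟩
        obtain ⟨y, rfl⟩ := (Algebra.H1Cotangent.exact_map_δ (ZMod p) k K x).mp hδ
        rw [Subsingleton.elim y 0, map_zero]
      rw [hzero a, hzero b]
    haveI : Algebra.FormallySmooth k K := ⟨inferInstance, inferInstance⟩
    exact isGeometricallyReduced_of_formallySmooth

end Groth.Agent.H11.GeomRedSmooth
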