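import Mathlib
import Groth.Agent.H11.GeomRedSmooth

/-!
# Separability via the imperfection module and extension of derivations (all characteristics)
-/

set_option autoImplicit false

universe u

namespace Groth.Agent.H11.GeomRedSmooth

open TensorProduct

/-- Characteristic-free version of `geomReduced_iff`. -/
theorem geomReduced_iff' {k K : Type u} [Field k] [Field K] [Algebra k K] :
    Algebra.IsGeometricallyReduced k K ↔
      Function.Injective (KaehlerDifferential.mapBaseChange ℤ k K) := by
  obtain ⟨p, hc⟩ := CharP.exists k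
  rcases CharP.char_is_prime_or_zero k p with hp | rfl
  · haveI : Fact p.Prime := ⟨hp⟩
    exact geomReduced_iff p
  · haveI := CharP.charP_to_charZero k
    haveI : Algebra.FormallySmooth k K := Groth.Agent.H27.FieldSmooth.formallySmooth_of_charZero k K
    exact ⟨fun _ => injective_mapBaseChange_of_subsingleton ℤ k K,
      fun _ => isGeometricallyReduced_of_formallySmooth⟩

/-- Injectivity of `K ⊗ Ω_k → Ω_K` is equivalent to extendability of derivations `k → K`. -/
theorem injective_iff_derivation_extends {k K : Type u} [Field k] [Field K] [Algebra k K] :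
    Function.Injective (KaehlerDifferential.mapBaseChange ℤ k K) ↔
      ∀ D : Derivation ℤ k K, ∃ D' : Derivation ℤ K K, ∀ a : k, D' (algebraMap k K a) = D a := by
  constructor
  · intro hinj D
    obtain ⟨g, hg⟩ := LinearMap.exists_leftInverse_of_injective
      (KaehlerDifferential.mapBaseChange ℤ k K) (LinearMap.ker_eq_bot.mpr hinj)
    let ℓ : K ⊗[k] Ω[k⁄ℤ] →ₗ[K] K := LinearMap.liftBaseChange K D.liftKaehlerDifferential
    refine ⟨(ℓ ∘ₗ g).compDer (KaehlerDifferential.D ℤ K), fun a => ?_⟩
    have h1 : KaehlerDifferential.D ℤ K (algebraMap k K a) =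
        KaehlerDifferential.mapBaseChange ℤ k K (1 ⊗ₜ KaehlerDifferential.D ℤ k a) := by
      simp
    have h2 : g (KaehlerDifferential.mapBaseChange ℤ k K (1 ⊗ₜ KaehlerDifferential.D ℤ k a)) =
        1 ⊗ₜ KaehlerDifferential.D ℤ k a := LinearMap.congr_fun hg _
    have h3 : ((ℓ ∘ₗ g).compDer (KaehlerDifferential.D ℤ K)) (algebraMap k K a) =
        ℓ (g (KaehlerDifferential.D ℤ K (algebraMap k K a))) := rfl
    rw [h3, h1, h2]
    simp [ℓ]
  · intro hext
    rw [injective_iff_map_eq_zero]
    intro x hx
    by_contra hx0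
    obtain ⟨ℓ, hℓ⟩ : ∃ ℓ : Module.Dual K (K ⊗[k] Ω[k⁄ℤ]), ℓ x ≠ 0 := by
      by_contra hcon
      push Not at hcon
      exact hx0 ((Module.forall_dual_apply_eq_zero_iff K x).mp hcon)
    let ℓ₀ : Ω[k⁄ℤ] →ₗ[k] K := (ℓ.restrictScalars k) ∘ₗ (TensorProduct.mk k K Ω[k⁄ℤ] 1)
    obtain ⟨D', hD'⟩ := hext (ℓ₀.compDer (KaehlerDifferential.D ℤ k))
    have hw : ∀ w : Ω[k⁄ℤ], D'.liftKaehlerDifferential (KaehlerDifferential.map ℤ ℤ k K w) =
        ℓ (1 ⊗ₜ w) := by
      intro w
      have hw : w ∈ Submodule.span k (Set.range (KaehlerDifferential.D ℤ k)) := by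
        rw [KaehlerDifferential.span_range_derivation]; trivial
      induction hw using Submodule.span_induction with
      | mem w hw =>
        obtain ⟨a, rfl⟩ := hw
        simp [hD', ℓ₀]
      | zero => simp
      | add a b _ _ ha hb => simp only [map_add, TensorProduct.tmul_add, ha, hb]
      | smul c a _ ha =>
        rw [map_smul, ← algebraMap_smul K c, map_smul, ha, TensorProduct.tmul_smul,
          ← algebraMap_smul K c (1 ⊗ₜ[k] a), map_smul]
    have hall : ∀ y : K ⊗[k] Ω[k⁄ℤ],
        D'.liftKaehlerDifferential (KaehlerDifferential.mapBaseChange ℤ k K y) = ℓ y := by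
      intro y
      induction y with
      | zero => simp
      | add a b ha hb => simp only [map_add, ha, hb]
      | tmul c w =>
        rw [KaehlerDifferential.mapBaseChange_tmul, map_smul, hw]
        rw [← map_smul, TensorProduct.smul_tmul', smul_eq_mul, mul_one]
    apply hℓ
    rw [← hall, hx, map_zero]

/-- If `H¹(L_{T/R}) = 0` and `T ⊗_S Ω_{S/R} → Ω_{T/R}` is injective then `H¹(L_{T/S}) = 0`. -/
theorem subsingleton_h1Cotangent_of_injective (R S T : Type u) [CommRing R] [CommRing S]
    [CommRing T] [Algebra R S] [Algebra R T] [Algebra S T] [IsScalarTower R S T]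
    [Subsingleton (Algebra.H1Cotangent R T)]
    (hF : Function.Injective (KaehlerDifferential.mapBaseChange R S T)) :
    Subsingleton (Algebra.H1Cotangent S T) := by
  refine ⟨fun a b => ?_⟩
  have hzero : ∀ x : Algebra.H1Cotangent S T, x = 0 := by
    intro x
    have hδ : Algebra.H1Cotangent.δ R S T x = 0 := by
      apply hF
      rw [map_zero]
      exact (Algebra.H1Cotangent.exact_δ_mapBaseChange R S T _).mpr ⟨x, rfl⟩
    obtain ⟨y, rfl⟩ := (Algebra.H1Cotangent.exact_map_δ R S T x).mp hδ
    rw [Subsingleton.elim y 0, map_zero]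
  rw [hzero a, hzero b]

/-- Tower of fields and the imperfection module. -/
theorem tower_fields {K E F : Type u} [Field K] [Field E] [Field F] [Algebra K E] [Algebra E F]
    [Algebra K F] [IsScalarTower K E F] :
    (Algebra.IsGeometricallyReduced E F →
      Function.Injective (KaehlerDifferential.mapBaseChange K E F)) ∧
    (Algebra.IsGeometricallyReduced K F →
      Function.Injective (KaehlerDifferential.mapBaseChange K E F) →
      Algebra.IsGeometricallyReduced E F) := by
  constructor
  · intro h
    haveI : Algebra.FormallySmooth E F :=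
      Groth.Agent.H27.FieldSmooth.formallySmooth_of_geomReduced
    exact injective_mapBaseChange_of_subsingleton K E F
  · intro h hinj
    haveI : Algebra.FormallySmooth K F :=
      Groth.Agent.H27.FieldSmooth.formallySmooth_of_geomReduced
    haveI : Subsingleton (Algebra.H1Cotangent E F) :=
      subsingleton_h1Cotangent_of_injective K E F hinj
    haveI : Algebra.FormallySmooth E F := ⟨inferInstance, inferInstance⟩
    exact isGeometricallyReduced_of_formallySmooth

end Groth.Agent.H11.GeomRedSmooth
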