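import Mathlib

/-!
# Goldman-domain style lemmas

Key fact: in a Noetherian domain with only finitely many height-one primes, every prime has
height at most one.
-/

namespace Groth.Agent.H11

section
variable {B : Type*} [CommRing B] [IsDomain B] [IsNoetherianRing B]

/-- A nonzero prime of a Noetherian domain contains a height one prime containing any
prescribed nonzero element of it. -/
theorem exists_height_one_le {q : Ideal B} [q.IsPrime] {x : B} (hx : x ∈ q) (hx0 : x ≠ 0) :
    ∃ p : Ideal B, p.IsPrime ∧ p.height = 1 ∧ x ∈ p ∧ p ≤ q := by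
  have hle : Ideal.span {x} ≤ q := (Ideal.span_singleton_le_iff_mem q).2 hx
  obtain ⟨p, hp, hpq⟩ := Ideal.exists_minimalPrimes_le hle
  have hpp : p.IsPrime := hp.1.1
  have hxp : x ∈ p := hp.1.2 (Ideal.mem_span_singleton_self x)
  have h1 : p.height ≤ 1 :=
    Ideal.height_le_one_of_isPrincipal_of_mem_minimalPrimes (Ideal.span {x}) p hp
  have h0 : p.height ≠ 0 := by
    intro h
    rw [Ideal.height_eq_zero_iff_eq_bot] at h
    rw [h] at hxp
    exact hx0 (by simpa using hxp)
  refine ⟨p, hpp, le_antisymm h1 (Order.one_le_iff_pos.2 (pos_iff_ne_zero.2 h0)), hxp, hpq⟩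

/-- In a Noetherian domain with finitely many height-one primes, every prime has height `≤ 1`. -/
theorem height_le_one_of_finite_height_one
    (h : {p : Ideal B | p.IsPrime ∧ p.height = 1}.Finite) (q : Ideal B) [q.IsPrime] :
    q.height ≤ 1 := by
  classical
  by_contra hq
  rw [not_le] at hq
  have hav : ¬ ((q : Set B) ⊆ ⋃ i ∈ (↑(insert ⊥ h.toFinset) : Set (Ideal B)),
      ((fun i : Ideal B => i) i : Set B)) := by
    intro hsub
    rw [Ideal.subset_union_prime (f := fun i : Ideal B => i) ⊥ ⊥] at hsub
    · obtain ⟨i, hi, hqi⟩ := hsub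
      rw [Finset.mem_insert] at hi
      rcases hi with rfl | hi
      · have : q = ⊥ := le_bot_iff.1 hqi
        rw [this, Ideal.height_bot] at hq
        exact absurd hq (by simp)
      · rw [Set.Finite.mem_toFinset] at hi
        have := Ideal.height_mono hqi
        rw [hi.2] at this
        exact absurd hq (not_lt.2 this)
    · intro i hi hne _
      rw [Finset.mem_insert] at hi
      rcases hi with rfl | hi
      · exact absurd rfl hne
      · rw [Set.Finite.mem_toFinset] at hi
        exact hi.1
  rw [Set.not_subset] at hav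
  obtain ⟨x, hxq, hx⟩ := hav
  have hx0 : x ≠ 0 := by
    rintro rfl
    apply hx
    simp only [Finset.coe_insert, Set.mem_insert_iff, Set.iUnion_iUnion_eq_or_left]
    left
    simp
  obtain ⟨p, hpp, hp1, hxp, -⟩ := exists_height_one_le hxq hx0
  apply hx
  refine Set.mem_biUnion (x := p) ?_ hxp
  simp only [Finset.coe_insert, Set.mem_insert_iff]
  right
  simpa using ⟨hpp, hp1⟩

omit [IsNoetherianRing B] in
/-- If `B_f` is a field for some `f ≠ 0` then every nonzero prime contains `f`. -/
theorem mem_of_isField_away {f : B} (hf : IsField (Localization.Away f)) {q : Ideal B} [q.IsPrime]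
    (hq : q ≠ ⊥) : f ∈ q := by
  by_contra hfq
  -- the prime `q` survives in `B_f`
  have hdisj : Disjoint (Submonoid.powers f : Set B) (q : Set B) := by
    rw [Set.disjoint_left]
    rintro _ ⟨n, rfl⟩ hn
    exact hfq (Ideal.IsPrime.mem_of_pow_mem inferInstance n hn)
  have hprime := IsLocalization.isPrime_of_isPrime_disjoint (Submonoid.powers f)
    (Localization.Away f) q inferInstance hdisj
  have hcomap := IsLocalization.under_map_of_isPrime_disjoint (Submonoid.powers f)
    (Localization.Away f) inferInstance hdisj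
  let _ := hf.toField
  have hbot : Ideal.map (algebraMap B (Localization.Away f)) q = ⊥ := by
    rcases Ideal.eq_bot_or_top (Ideal.map (algebraMap B (Localization.Away f)) q) with h | h
    · exact h
    · exact absurd h hprime.ne_top
  rw [hbot] at hcomap
  apply hq
  rw [← hcomap]
  rw [eq_bot_iff]
  intro x hx
  rw [Ideal.mem_comap, Ideal.mem_bot] at hx
  have hinj : Function.Injective (algebraMap B (Localization.Away f)) :=
    IsLocalization.injective (Localization.Away f) (M := Submonoid.powers f)
      (powers_le_nonZeroDivisors_of_noZeroDivisors (by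
        rintro rfl
        exact hfq (zero_mem q)))
  rw [Ideal.mem_bot]
  exact hinj (by rw [hx, map_zero])

end

end Groth.Agent.H11

namespace Groth.Agent.H11

section
variable {B : Type*} [CommRing B] [IsDomain B] [IsNoetherianRing B]

/-- If a nonzero element `f` of a Noetherian domain lies in every nonzero prime, then every prime
has height at most one. -/
theorem height_le_one_of_forall_mem {f : B} (hf0 : f ≠ 0)
    (hf : ∀ q : Ideal B, q.IsPrime → q ≠ ⊥ → f ∈ q) (q : Ideal B) [q.IsPrime] : q.height ≤ 1 := by
  have hmin : ∀ p : Ideal B, p.IsPrime → p.height = 1 → p ∈ (Ideal.span {f}).minimalPrimes := by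
    intro p hp hp1
    have hfp : f ∈ p := hf p hp (Ideal.ne_bot_of_height_eq_one hp1)
    refine Ideal.mem_minimalPrimes_of_height_le
      ((Ideal.span_singleton_le_iff_mem p).2 hfp) ?_
    rw [hp1]
    exact Ideal.one_le_height_span_singleton_of_mem_nonZeroDivisors
      (mem_nonZeroDivisors_of_ne_zero hf0)
  have hfin : {p : Ideal B | p.IsPrime ∧ p.height = 1}.Finite :=
    Set.Finite.subset (Ideal.finite_minimalPrimes_of_isNoetherianRing B (Ideal.span {f}))
      (fun p hp => hmin p hp.1 hp.2)
  exact height_le_one_of_finite_height_one hfin q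

end

/-- In the spectrum of a Noetherian ring, a point `p` with `{p}` locally closed admits no chain
of strict specializations `p < q < r`. -/
theorem not_isLocallyClosed_singleton_of_chain {A : Type*} [CommRing A] [IsNoetherianRing A]
    {p q r : PrimeSpectrum A} (hp : IsLocallyClosed ({p} : Set (PrimeSpectrum A)))
    (hpq : p < q) (hqr : q < r) : False := by
  obtain ⟨U, Z, hU, hZ, hUZ⟩ := hp
  have hpU : p ∈ U := (hUZ ▸ Set.mem_singleton p : p ∈ U ∩ Z).1
  have hpZ : p ∈ Z := (hUZ ▸ Set.mem_singleton p : p ∈ U ∩ Z).2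
  obtain ⟨_, ⟨g, rfl⟩, hpg, hgU⟩ :=
    PrimeSpectrum.isTopologicalBasis_basic_opens.exists_subset_of_mem_open hpU hU
  have key : ∀ P : PrimeSpectrum A, p ≤ P → P ≠ p → g ∈ P.asIdeal := by
    intro P hP hne
    by_contra hg
    have h1 : P ∈ U := hgU hg
    have h2 : P ∈ Z := by
      have : P ∈ closure ({p} : Set (PrimeSpectrum A)) := by
        rw [← specializes_iff_mem_closure, ← PrimeSpectrum.le_iff_specializes]
        exact hP
      exact (hZ.closure_subset_iff.2 (Set.singleton_subset_iff.2 hpZ)) this
    have : P ∈ ({p} : Set (PrimeSpectrum A)) := hUZ ▸ ⟨h1, h2⟩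
    exact hne this
  have hgp : g ∉ p.asIdeal := hpg
  -- pass to the quotient domain
  have hdom : IsDomain (A ⧸ p.asIdeal) := Ideal.Quotient.isDomain p.asIdeal
  have hsurj : Function.Surjective (Ideal.Quotient.mk p.asIdeal) := Ideal.Quotient.mk_surjective
  have hf0 : Ideal.Quotient.mk p.asIdeal g ≠ 0 := by
    rw [ne_eq, Ideal.Quotient.eq_zero_iff_mem]
    exact hgp
  have hmem : ∀ Q : Ideal (A ⧸ p.asIdeal), Q.IsPrime → Q ≠ ⊥ →
      Ideal.Quotient.mk p.asIdeal g ∈ Q := by
    intro Q hQ hQ0
    have hP : (Q.comap (Ideal.Quotient.mk p.asIdeal)).IsPrime := Ideal.comap_isPrime _ Q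
    have hle : p.asIdeal ≤ Q.comap (Ideal.Quotient.mk p.asIdeal) := by
      intro a ha
      rw [Ideal.mem_comap, Ideal.Quotient.eq_zero_iff_mem.2 ha]
      exact zero_mem Q
    have hne : (⟨_, hP⟩ : PrimeSpectrum A) ≠ p := by
      intro h
      apply hQ0
      have h' : Q.comap (Ideal.Quotient.mk p.asIdeal) = p.asIdeal := congrArg PrimeSpectrum.asIdeal h
      rw [← Ideal.map_comap_of_surjective _ hsurj Q, h', Ideal.map_quotient_self]
    exact key ⟨_, hP⟩ hle hne
  have hker : RingHom.ker (Ideal.Quotient.mk p.asIdeal) = p.asIdeal := Ideal.mk_ker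
  have hcm : ∀ I : Ideal A, p.asIdeal ≤ I →
      (I.map (Ideal.Quotient.mk p.asIdeal)).comap (Ideal.Quotient.mk p.asIdeal) = I := by
    intro I hI
    rw [Ideal.comap_map_of_surjective _ hsurj, ← RingHom.ker_eq_comap_bot, hker]
    exact sup_eq_left.2 hI
  have hq' : (q.asIdeal.map (Ideal.Quotient.mk p.asIdeal)).IsPrime :=
    Ideal.map_isPrime_of_surjective hsurj (by rw [hker]; exact hpq.le)
  have hr' : (r.asIdeal.map (Ideal.Quotient.mk p.asIdeal)).IsPrime :=
    Ideal.map_isPrime_of_surjective hsurj (by rw [hker]; exact (hpq.trans hqr).le)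
  have hlt : q.asIdeal.map (Ideal.Quotient.mk p.asIdeal) <
      r.asIdeal.map (Ideal.Quotient.mk p.asIdeal) := by
    refine lt_of_le_of_ne (Ideal.map_mono hqr.le) ?_
    intro h
    have := congrArg (Ideal.comap (Ideal.Quotient.mk p.asIdeal)) h
    rw [hcm _ hpq.le, hcm _ (hpq.trans hqr).le] at this
    exact hqr.ne (PrimeSpectrum.ext this)
  have hq0 : q.asIdeal.map (Ideal.Quotient.mk p.asIdeal) ≠ ⊥ := by
    intro h
    have := congrArg (Ideal.comap (Ideal.Quotient.mk p.asIdeal)) h
    rw [hcm _ hpq.le, ← RingHom.ker_eq_comap_bot, hker] at this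
    exact hpq.ne (PrimeSpectrum.ext this.symm)
  have h1 : 1 ≤ (q.asIdeal.map (Ideal.Quotient.mk p.asIdeal)).height := by
    rw [Order.one_le_iff_pos, pos_iff_ne_zero, ne_eq, Ideal.height_eq_zero_iff_eq_bot]
    exact hq0
  have h2 := Ideal.height_add_one_le_of_lt_of_isPrime hlt
  have h3 : (r.asIdeal.map (Ideal.Quotient.mk p.asIdeal)).height ≤ 1 :=
    height_le_one_of_forall_mem hf0 hmem _
  have h4 : (1 : ℕ∞) + 1 ≤ 1 := (add_le_add_left h1 1).trans (h2.trans h3)
  exact absurd h4 (by decide)

end Groth.Agent.H11

namespace Groth.Agent.H11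

/-- If a field `K` is a finitely generated algebra over a subdomain `B`, then `B_f` is a field for
some nonzero `f`. -/
theorem exists_away_isField_of_finiteType_field {B K : Type*} [CommRing B] [IsDomain B] [Field K]
    [Algebra B K] (hinj : Function.Injective (algebraMap B K)) [hft : Algebra.FiniteType B K] :
    ∃ f : B, f ≠ 0 ∧ IsField (Localization.Away f) := by
  classical
  -- `K` is an algebra over the fraction field
  let algL : Algebra (FractionRing B) K := (IsFractionRing.lift hinj).toAlgebra
  have tower : IsScalarTower B (FractionRing B) K :=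
    IsScalarTower.of_algebraMap_eq (fun x => (IsFractionRing.lift_algebraMap hinj x).symm)
  have hftL : Algebra.FiniteType (FractionRing B) K :=
    Algebra.FiniteType.of_restrictScalars_finiteType B (FractionRing B) K
  have hfin : Module.Finite (FractionRing B) K :=
    finite_of_finite_type_of_isJacobsonRing (FractionRing B) K
  have halgL : Algebra.IsAlgebraic (FractionRing B) K := Algebra.IsAlgebraic.of_finite _ _
  have halg : Algebra.IsAlgebraic B K :=
    (IsFractionRing.comap_isAlgebraic_iff (A := B) (K := FractionRing B) (C := K)).2 halgL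
  obtain ⟨s, hs⟩ := hft.out
  obtain ⟨f, hf0, hint⟩ := Algebra.IsAlgebraic.exists_integral_multiples B s
  refine ⟨f, hf0, ?_⟩
  have hfK : algebraMap B K f ≠ 0 := fun h => hf0 (hinj (by rw [h, map_zero]))
  have hunit : IsUnit (algebraMap B K f) := isUnit_iff_ne_zero.2 hfK
  let algF : Algebra (Localization.Away f) K := (IsLocalization.Away.lift f hunit).toAlgebra
  have towerF : IsScalarTower B (Localization.Away f) K :=
    IsScalarTower.of_algebraMap_eq (fun x => (IsLocalization.Away.lift_eq f hunit x).symm)
  have hinjB : Function.Injective (algebraMap B (Localization.Away f)) :=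
    IsLocalization.injective (Localization.Away f) (M := Submonoid.powers f)
      (powers_le_nonZeroDivisors_of_noZeroDivisors hf0)
  have hinjF : Function.Injective (algebraMap (Localization.Away f) K) := by
    show Function.Injective (IsLocalization.Away.lift f hunit)
    unfold IsLocalization.Away.lift
    rw [IsLocalization.lift_injective_iff]
    intro x y
    rw [hinjB.eq_iff, hinj.eq_iff]
  have hintF : ∀ z ∈ s, IsIntegral (Localization.Away f) z := by
    intro z hz
    have h1 : IsIntegral (Localization.Away f) (f • z) := (hint z hz).tower_top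
    have h2 : z = algebraMap (Localization.Away f) K (IsLocalization.Away.invSelf f) * (f • z) := by
      rw [Algebra.smul_def, IsScalarTower.algebraMap_apply B (Localization.Away f) K, ← mul_assoc,
        ← map_mul]
      have : IsLocalization.Away.invSelf f * algebraMap B (Localization.Away f) f = 1 := by
        rw [mul_comm]
        exact IsLocalization.Away.mul_invSelf f
      rw [this, map_one, one_mul]
    rw [h2]
    exact isIntegral_algebraMap.mul h1
  have hadj : Algebra.adjoin (Localization.Away f) (s : Set K) = ⊤ := by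
    rw [eq_top_iff]
    intro x _
    have hx : x ∈ Algebra.adjoin B (s : Set K) := by rw [hs]; exact Algebra.mem_top
    have hle : Algebra.adjoin B (s : Set K) ≤
        (Algebra.adjoin (Localization.Away f) (s : Set K)).restrictScalars B :=
      Algebra.adjoin_le (fun a ha => Algebra.subset_adjoin ha)
    exact hle hx
  have hInt : Algebra.IsIntegral (Localization.Away f) K := by
    have h := Algebra.IsIntegral.adjoin (R := Localization.Away f) (S := (s : Set K)) hintF
    rw [hadj] at h
    exact (Subalgebra.topEquiv (R := Localization.Away f) (A := K)).isIntegral_iff.1 h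
  exact isField_of_isIntegral_of_isField hinjF (Field.toIsField K)

end Groth.Agent.H11

namespace Groth.Agent.H11

section
variable {B : Type*} [CommRing B] [IsDomain B]

/-- If a nonzero `f` lies in every nonzero prime of a domain `B` then `B_f` is a field. -/
theorem isField_away_of_forall_mem {f : B} (hf0 : f ≠ 0)
    (hfmem : ∀ q : Ideal B, q.IsPrime → q ≠ ⊥ → f ∈ q) : IsField (Localization.Away f) := by
  have hle : Submonoid.powers f ≤ nonZeroDivisors B :=
    powers_le_nonZeroDivisors_of_noZeroDivisors hf0
  have hdom : IsDomain (Localization.Away f) :=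
    IsLocalization.isDomain_of_le_nonZeroDivisors (M := Submonoid.powers f) (Localization.Away f) hle
  by_contra hnf
  obtain ⟨P, hP0, hP⟩ := Ring.not_isField_iff_exists_prime.1 hnf
  have hPmap : Ideal.map (algebraMap B (Localization.Away f))
      (Ideal.comap (algebraMap B (Localization.Away f)) P) = P :=
    IsLocalization.map_under (Submonoid.powers f) (Localization.Away f) P
  have hcp : (Ideal.comap (algebraMap B (Localization.Away f)) P).IsPrime :=
    Ideal.comap_isPrime _ P
  have hne : Ideal.comap (algebraMap B (Localization.Away f)) P ≠ ⊥ := by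
    intro h
    rw [h, Ideal.map_bot] at hPmap
    exact hP0 hPmap.symm
  have hmem : f ∈ Ideal.comap (algebraMap B (Localization.Away f)) P :=
    hfmem _ hcp hne
  rw [Ideal.mem_comap] at hmem
  have hunit : IsUnit (algebraMap B (Localization.Away f) f) :=
    IsLocalization.Away.algebraMap_isUnit _
  exact hP.ne_top (Ideal.eq_top_of_isUnit_mem _ hmem hunit)

/-- If `B_f` is a field (with `f ≠ 0`) then the fraction field of `B` is a finitely generated
`B`-algebra. -/
theorem finiteType_fractionRing_of_isField_away {f : B} (hf0 : f ≠ 0)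
    (hf : IsField (Localization.Away f)) : Algebra.FiniteType B (FractionRing B) := by
  have hinjB : Function.Injective (algebraMap B (Localization.Away f)) :=
    IsLocalization.injective (Localization.Away f) (M := Submonoid.powers f)
      (powers_le_nonZeroDivisors_of_noZeroDivisors hf0)
  let _ := hf.toField
  have hfr : IsFractionRing B (Localization.Away f) :=
    IsLocalization.of_le (M := Submonoid.powers f) (nonZeroDivisors B)
      (powers_le_nonZeroDivisors_of_noZeroDivisors hf0) (fun r hr => by
        rw [isUnit_iff_ne_zero]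
        intro h
        exact (nonZeroDivisors.ne_zero hr) (hinjB (by rw [h, map_zero])))
  have hft : Algebra.FiniteType B (Localization.Away f) :=
    IsLocalization.finiteType_of_monoid_fg (Submonoid.powers f) (Localization.Away f)
  exact Algebra.FiniteType.equiv hft (FractionRing.algEquiv B (Localization.Away f)).symm

end

end Groth.Agent.H11

namespace Groth.Agent.H11

/-- A version of `Ideal.exists_le_prime_disjoint` remembering maximality. -/
theorem exists_le_prime_maximally_disjoint {A : Type*} [CommRing A] (I : Ideal A)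
    (S : Submonoid A) (disjoint : Disjoint (I : Set A) S) :
    ∃ p : Ideal A, p.IsPrime ∧ I ≤ p ∧ Disjoint (p : Set A) S ∧
      ∀ J : Ideal A, p < J → ¬ Disjoint (J : Set A) S := by
  have ⟨p, hIp, hp⟩ := zorn_le_nonempty₀ {p : Ideal A | Disjoint (p : Set A) S}
    (fun c hc hc' x hx ↦ ?_) I disjoint
  · exact ⟨p, Ideal.isPrime_of_maximally_disjoint _ _ hp.1 (fun _ ↦ hp.not_prop_of_gt), hIp, hp.1,
      fun _ ↦ hp.not_prop_of_gt⟩
  cases isEmpty_or_nonempty c
  · exact ⟨I, disjoint, fun J hJ ↦ isEmptyElim (⟨J, hJ⟩ : c)⟩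
  refine ⟨sSup c, Set.disjoint_left.mpr fun x hx ↦ ?_, fun _ ↦ le_sSup⟩
  have ⟨p, hp⟩ := (Submodule.mem_iSup_of_directed _ hc'.directed).mp (sSup_eq_iSup' c ▸ hx)
  exact Set.disjoint_left.mp (hc p.2) hp

/-- If for every non-maximal prime `p` and nonzero `f ∈ A/p` the ring `(A/p)_f` is not a field,
then `A` is a Jacobson ring. -/
theorem isJacobsonRing_of_forall_not_isField_away {A : Type*} [CommRing A]
    (h : ∀ (p : Ideal A) [p.IsPrime], ¬ p.IsMaximal → ∀ f : A ⧸ p, f ≠ 0 →
      ¬ IsField (Localization.Away f)) : IsJacobsonRing A := by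
  rw [isJacobsonRing_iff_prime_eq]
  intro P hP
  refine le_antisymm ?_ Ideal.le_jacobson
  intro x hx
  by_contra hxP
  have hdisj : Disjoint (P : Set A) (Submonoid.powers x) := by
    rw [Set.disjoint_right]
    rintro _ ⟨n, rfl⟩ hn
    exact hxP (hP.mem_of_pow_mem n hn)
  obtain ⟨q, hq, hPq, hqd, hqmax⟩ := exists_le_prime_maximally_disjoint P (Submonoid.powers x) hdisj
  have hxq : x ∉ q := fun hxq => Set.disjoint_left.1 hqd hxq (Submonoid.mem_powers x)
  have hqnm : ¬ q.IsMaximal := by
    intro hqm
    apply hxq
    rw [Ideal.jacobson, Submodule.mem_sInf] at hx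
    exact hx q ⟨hPq, hqm⟩
  have hdom : IsDomain (A ⧸ q) := Ideal.Quotient.isDomain q
  have hf0 : Ideal.Quotient.mk q x ≠ 0 := by
    rw [ne_eq, Ideal.Quotient.eq_zero_iff_mem]
    exact hxq
  refine h q hqnm (Ideal.Quotient.mk q x) hf0 (isField_away_of_forall_mem hf0 ?_)
  intro Q hQ hQ0
  have hsurj : Function.Surjective (Ideal.Quotient.mk q) := Ideal.Quotient.mk_surjective
  have hle : q ≤ Q.comap (Ideal.Quotient.mk q) := by
    intro a ha
    rw [Ideal.mem_comap, Ideal.Quotient.eq_zero_iff_mem.2 ha]
    exact zero_mem Q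
  have hne : q ≠ Q.comap (Ideal.Quotient.mk q) := by
    intro h'
    apply hQ0
    rw [← Ideal.map_comap_of_surjective _ hsurj Q, ← h', Ideal.map_quotient_self]
  have hnd := hqmax _ (lt_of_le_of_ne hle hne)
  rw [Set.not_disjoint_iff] at hnd
  obtain ⟨y, hyQ, ⟨n, rfl⟩⟩ := hnd
  have hcp : (Q.comap (Ideal.Quotient.mk q)).IsPrime := Ideal.comap_isPrime _ Q
  exact hcp.mem_of_pow_mem n hyQ

end Groth.Agent.H11
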