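import Mathlib
import Groth.Agent.H11.Goldman

/-!
# Scheme-level consequences of the Goldman lemma
-/

open AlgebraicGeometry CategoryTheory

namespace Groth.Agent.H11

universe u

/-- In a locally Noetherian scheme, a point `x` with `{x}` locally closed admits no chain of
strict specializations `x ⤳ y ⤳ z`. -/
theorem not_isLocallyClosed_singleton_of_chain_scheme {X : Scheme.{u}} [IsLocallyNoetherian X]
    {x y z : X} (hx : IsLocallyClosed ({x} : Set X)) (hxy : x ⤳ y) (hyz : y ⤳ z)
    (hne1 : x ≠ y) (hne2 : y ≠ z) : False := by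
  obtain ⟨_, ⟨V, hV : IsAffineOpen V, rfl⟩, hzV, -⟩ :=
    X.isBasis_affineOpens.exists_subset_of_mem_open (Set.mem_univ z) isOpen_univ
  have hyV : y ∈ V := hyz.mem_open V.2 hzV
  have hxV : x ∈ V := hxy.mem_open V.2 hyV
  have hN : IsNoetherianRing Γ(X, V) := IsLocallyNoetherian.component_noetherian ⟨V, hV⟩
  have hrange : Set.range hV.fromSpec = (V : Set X) := hV.range_fromSpec
  have hemb : Topology.IsOpenEmbedding hV.fromSpec := hV.fromSpec.isOpenEmbedding
  obtain ⟨p, rfl⟩ : x ∈ Set.range hV.fromSpec := by rw [hrange]; exact hxV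
  obtain ⟨q, rfl⟩ : y ∈ Set.range hV.fromSpec := by rw [hrange]; exact hyV
  obtain ⟨r, rfl⟩ : z ∈ Set.range hV.fromSpec := by rw [hrange]; exact hzV
  have hpq : p ⤳ q := hemb.isInducing.specializes_iff.1 hxy
  have hqr : q ⤳ r := hemb.isInducing.specializes_iff.1 hyz
  have hp : IsLocallyClosed ({p} : Set (PrimeSpectrum Γ(X, V))) := by
    have := hx.preimage hemb.continuous
    rwa [← Set.image_singleton, Set.preimage_image_eq _ hemb.injective] at this
  refine not_isLocallyClosed_singleton_of_chain (A := Γ(X, V)) (p := p) (q := q) (r := r) hp ?_ ?_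
  · exact lt_of_le_of_ne ((PrimeSpectrum.le_iff_specializes p q).2 hpq)
      (fun h => hne1 (by rw [h]))
  · exact lt_of_le_of_ne ((PrimeSpectrum.le_iff_specializes q r).2 hqr)
      (fun h => hne2 (by rw [h]))

/-- Let `X` be a locally Noetherian scheme and `Y` a closed subset meeting every nonempty closed
subset. A point `x ∉ Y` with `{x}` locally closed has all its proper specializations in `Y`. -/
theorem closure_singleton_subset_of_isLocallyClosed {X : Scheme.{u}} [IsLocallyNoetherian X]
    (Y : Set X) (hmeet : ∀ Z : Set X, IsClosed Z → Z.Nonempty → (Z ∩ Y).Nonempty)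
    {x : X} (hx : IsLocallyClosed ({x} : Set X)) :
    closure ({x} : Set X) ⊆ insert x Y := by
  intro y hy
  by_contra hy'
  rw [Set.mem_insert_iff, not_or] at hy'
  obtain ⟨z, hz, hzY⟩ := hmeet (closure {y}) isClosed_closure ⟨y, subset_closure rfl⟩
  have hxy : x ⤳ y := specializes_iff_mem_closure.2 hy
  have hyz : y ⤳ z := specializes_iff_mem_closure.2 hz
  refine not_isLocallyClosed_singleton_of_chain_scheme hx hxy hyz (fun h => hy'.1 h.symm) ?_
  rintro rfl
  exact hy'.2 hzY

/-- A nonempty compact locally closed subset of a T0 space contains a point `x` with `{x}` locally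
closed. -/
theorem exists_isLocallyClosed_singleton {α : Type*} [TopologicalSpace α] [T0Space α] {W : Set α}
    (hWlc : IsLocallyClosed W) (hWcomp : IsCompact W) (hWne : W.Nonempty) :
    ∃ x ∈ W, IsLocallyClosed ({x} : Set α) := by
  have hCS : CompactSpace W := isCompact_iff_compactSpace.1 hWcomp
  have hWne' : Nonempty W := hWne.to_subtype
  obtain ⟨w, -, hw⟩ := IsClosed.exists_closed_singleton (X := W) isClosed_univ
    Set.univ_nonempty
  obtain ⟨C, hC, hCw⟩ := isClosed_induced_iff.1 hw
  refine ⟨w.1, w.2, ?_⟩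
  have : ({w.1} : Set α) = W ∩ C := by
    ext a
    constructor
    · rintro rfl
      refine ⟨w.2, ?_⟩
      have : w ∈ Subtype.val ⁻¹' C := by rw [hCw]; rfl
      exact this
    · rintro ⟨haW, haC⟩
      have : (⟨a, haW⟩ : W) ∈ Subtype.val ⁻¹' C := haC
      rw [hCw] at this
      exact congrArg Subtype.val this
  rw [this]
  exact hWlc.inter hC.isLocallyClosed

/-- In a locally Noetherian scheme, the proper specializations of a point `x` with `{x}` locally
closed are closed points. -/
theorem isClosed_singleton_of_mem_closure_of_isLocallyClosed {X : Scheme.{u}}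
    [IsLocallyNoetherian X] {x y : X} (hx : IsLocallyClosed ({x} : Set X))
    (hy : y ∈ closure ({x} : Set X)) (hne : y ≠ x) : IsClosed ({y} : Set X) := by
  rw [← closure_eq_iff_isClosed]
  refine subset_antisymm ?_ subset_closure
  intro z hz
  by_contra hzy
  exact not_isLocallyClosed_singleton_of_chain_scheme hx (specializes_iff_mem_closure.2 hy)
    (specializes_iff_mem_closure.2 hz) (fun h => hne h.symm) (fun h => hzy h.symm)

/-- In a Noetherian scheme, if `{x}` is locally closed then `closure {x}` is finite. -/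
theorem finite_closure_of_isLocallyClosed_singleton {X : Scheme.{u}} [IsNoetherian X] {x : X}
    (hx : IsLocallyClosed ({x} : Set X)) : (closure ({x} : Set X)).Finite := by
  obtain ⟨U, C, hU, hC, hUC⟩ := id hx
  have hxU : x ∈ U := (hUC ▸ Set.mem_singleton x : x ∈ U ∩ C).1
  have hxC : x ∈ C := (hUC ▸ Set.mem_singleton x : x ∈ U ∩ C).2
  have hclC : closure ({x} : Set X) ⊆ C := hC.closure_subset_iff.2 (Set.singleton_subset_iff.2 hxC)
  have hS : closure ({x} : Set X) \ {x} = closure ({x} : Set X) ∩ Uᶜ := by
    ext y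
    constructor
    · rintro ⟨hy, hyx⟩
      refine ⟨hy, fun hyU => hyx ?_⟩
      have : y ∈ U ∩ C := ⟨hyU, hclC hy⟩
      rw [← hUC] at this
      exact this
    · rintro ⟨hy, hyU⟩
      refine ⟨hy, ?_⟩
      rintro rfl
      exact hyU hxU
  have hScl : IsClosed (closure ({x} : Set X) \ {x}) := by
    rw [hS]
    exact isClosed_closure.inter hU.isClosed_compl
  obtain ⟨𝒮, hfin, hcl, hirr, hunion⟩ :=
    TopologicalSpace.NoetherianSpace.exists_finite_set_isClosed_irreducible hScl
  have hSfin : (closure ({x} : Set X) \ {x}).Finite := by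
    rw [hunion]
    refine Set.Finite.sUnion hfin ?_
    intro t ht
    obtain ⟨g, hg⟩ := QuasiSober.sober (hirr t ht) (hcl t ht)
    have hgt : g ∈ t := hg.mem
    have hgS : g ∈ closure ({x} : Set X) \ {x} := by
      rw [hunion]
      exact ⟨t, ht, hgt⟩
    have hgcl : IsClosed ({g} : Set X) :=
      isClosed_singleton_of_mem_closure_of_isLocallyClosed hx hgS.1 hgS.2
    have : t = {g} := by
      rw [← hg.def, hgcl.closure_eq]
    rw [this]
    exact Set.finite_singleton g
  refine (hSfin.insert x).subset ?_
  intro y hy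
  by_cases hyx : y = x
  · exact Or.inl hyx
  · exact Or.inr ⟨hy, hyx⟩

end Groth.Agent.H11
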