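import Mathlib
import Groth.Agent.H11.HCRegular2

open IsLocalRing

namespace Groth.Agent.H11.HC

theorem dvr_iff_of_flat (R S : Type*) [CommRing R] [CommRing S] [IsLocalRing R] [IsLocalRing S]
    [IsNoetherianRing R] [IsNoetherianRing S] [Algebra R S] [Module.FaithfullyFlat R S]
    (hm : (maximalIdeal R).map (algebraMap R S) = maximalIdeal S)
    (hn : (IsDomain R ∧ IsIntegrallyClosed R) → (IsDomain S ∧ IsIntegrallyClosed S)) :
    (∃ _ : IsDomain R, IsDiscreteValuationRing R) ↔
      (∃ _ : IsDomain S, IsDiscreteValuationRing S) := by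
  have h1 : (maximalIdeal S).spanFinrank ≤ (maximalIdeal R).spanFinrank := by
    rw [← hm]
    exact Ideal.spanFinrank_map_le_of_fg _ (maximalIdeal R).fg_of_isNoetherianRing
  have h2 := spanFinrank_maximalIdeal_le_of_flat (R := R) (S := S) hm
  have h3 : (maximalIdeal S).spanFinrank = (maximalIdeal R).spanFinrank := le_antisymm h1 h2
  constructor
  · rintro ⟨hd, hdvr⟩
    obtain ⟨hdS, -⟩ := hn ⟨hd, inferInstance⟩
    refine ⟨hdS, ?_⟩
    rw [← IsLocalRing.finrank_CotangentSpace_eq_one_iff,
      ← IsLocalRing.spanFinrank_maximalIdeal_eq_finrank_cotangentSpace, h3,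
      IsLocalRing.spanFinrank_maximalIdeal_eq_finrank_cotangentSpace,
      IsLocalRing.finrank_CotangentSpace_eq_one_iff]
    exact hdvr
  · rintro ⟨hd, hdvr⟩
    have hdR : IsDomain R := (FaithfulSMul.algebraMap_injective R S).isDomain (algebraMap R S)
    refine ⟨hdR, ?_⟩
    rw [← IsLocalRing.finrank_CotangentSpace_eq_one_iff,
      ← IsLocalRing.spanFinrank_maximalIdeal_eq_finrank_cotangentSpace, ← h3,
      IsLocalRing.spanFinrank_maximalIdeal_eq_finrank_cotangentSpace,
      IsLocalRing.finrank_CotangentSpace_eq_one_iff]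
    exact hdvr

end Groth.Agent.H11.HC
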