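import Mathlib
import Groth.Agent.H11.HCMain
import Groth.Agent.S0543

open IsLocalRing

universe u

namespace Groth.Agent.H11.HC

/-- Noetherianity descends along faithfully flat ring maps. -/
theorem isNoetherianRing_of_faithfullyFlat (A B : Type*) [CommRing A] [CommRing B] [Algebra A B]
    [Module.FaithfullyFlat A B] [IsNoetherianRing B] : IsNoetherianRing A := by
  rw [isNoetherianRing_iff, isNoetherian_iff']
  have hmono : StrictMono (Ideal.map (algebraMap A B)) :=
    Monotone.strictMono_of_injective (fun _ _ h => Ideal.map_mono h)
      Ideal.map_injective_of_faithfullyFlat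
  haveI : WellFoundedGT (Ideal B) := (isNoetherian_iff' (R := B) (M := B)).1 inferInstance
  exact hmono.wellFoundedGT

/-- A local ring which is henselian along its maximal ideal is a henselian local ring. -/
theorem henselianLocalRing_of_henselianRing (T : Type*) [CommRing T] [IsLocalRing T]
    [h : HenselianRing T (maximalIdeal T)] : HenselianLocalRing T :=
  { is_henselian := fun f hf a₀ h₁ h₂ => h.is_henselian f hf a₀ h₁ (h₂.map _) }

variable {R : Type u} [CommRing R] {K : Type u} [Field K] [Algebra R K]

/-- Flatness over the limit can be checked at every finite stage. -/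
theorem flat_lim_of_stage (T : Type*) [CommRing T] [Algebra (Lim R K) T]
    (h : ∀ i : Nbhd R K,
      @Module.Flat i.L T _ _ (((algebraMap (Lim R K) T).comp (ofR i)).toAlgebra.toModule)) :
    Module.Flat (Lim R K) T := by
  apply Module.Flat.of_forall_isTrivialRelation
  intro l f x hfx
  obtain ⟨i, a, ha⟩ := exists_of_fin f
  letI : Algebra i.L T := ((algebraMap (Lim R K) T).comp (ofR i)).toAlgebra
  haveI : Module.Flat i.L T := h i
  have hsm : ∀ (b : i.L) (y : T), b • y = (of i b) • y := by
    intro b y
    rw [Algebra.smul_def, Algebra.smul_def]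
    rfl
  have h0 : ∑ m, a m • x m = 0 := by
    rw [← hfx]
    refine Finset.sum_congr rfl fun m _ => ?_
    rw [hsm, ha]
  obtain ⟨k, c, y, hxy, hc⟩ :=
    Module.Flat.isTrivialRelation_of_sum_smul_eq_zero (R := i.L) (M := T) h0
  refine ⟨k, fun m n => of i (c m n), y, fun m => ?_, fun n => ?_⟩
  · rw [hxy m]
    refine Finset.sum_congr rfl fun n _ => ?_
    rw [hsm]
  · have := congrArg (of i) (hc n)
    rw [map_sum, map_zero] at this
    rw [← this]
    refine Finset.sum_congr rfl fun m _ => ?_
    rw [map_mul, ha]


/-- The henselization of a Noetherian local ring is Noetherian. -/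
theorem isNoetherianRing_hens (R : Type u) [CommRing R] [IsLocalRing R] [IsNoetherianRing R] :
    IsNoetherianRing (Hens R) := by
  haveI : IsNoetherianRing (AdicCompletion (maximalIdeal R) R) :=
    Groth.Agent.S0543.result R (maximalIdeal R)
  haveI : HenselianLocalRing (AdicCompletion (maximalIdeal R) R) :=
    henselianLocalRing_of_henselianRing _
  obtain ⟨τ, hτ⟩ : ∃ τ : ResidueField R →ₐ[R] ResidueField (AdicCompletion (maximalIdeal R) R),
      ∀ r, τ (residue R r) = residue _ (algebraMap R (AdicCompletion (maximalIdeal R) R) r) :=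
    ⟨{ ResidueField.map (algebraMap R (AdicCompletion (maximalIdeal R) R)) with
        commutes' := fun r => rfl }, fun r => rfl⟩
  obtain ⟨g, hg, -⟩ := existsUnique_lift (R := R) (K := ResidueField R)
    (AdicCompletion (maximalIdeal R) R) τ
  letI : Algebra (Hens R) (AdicCompletion (maximalIdeal R) R) := g.toRingHom.toAlgebra
  haveI : Module.Flat (Hens R) (AdicCompletion (maximalIdeal R) R) := by
    refine flat_lim_of_stage (AdicCompletion (maximalIdeal R) R) (fun i => ?_)
    letI : Algebra i.L (AdicCompletion (maximalIdeal R) R) :=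
      ((algebraMap (Lim R (ResidueField R)) (AdicCompletion (maximalIdeal R) R)).comp
        (ofR i)).toAlgebra
    haveI : IsScalarTower R i.L (AdicCompletion (maximalIdeal R) R) := by
      refine IsScalarTower.of_algebraMap_eq (fun r => ?_)
      show _ = g (ofR i (algebraMap R i.L r))
      rw [← algebraMap_lim i r, AlgHom.commutes]
    exact Algebra.FormallyUnramified.flat_of_restrictScalars (R := R) (S := i.L)
      (AdicCompletion (maximalIdeal R) R)
  haveI : IsLocalHom (algebraMap (Hens R) (AdicCompletion (maximalIdeal R) R)) := by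
    constructor
    intro z hz
    rw [isUnit_iff_ψL_ne_zero]
    intro h0
    have h1 : residue _ (g z) = 0 := by rw [hg, h0, map_zero]
    rw [residue_eq_zero_iff] at h1
    exact h1 hz
  haveI : Module.FaithfullyFlat (Hens R) (AdicCompletion (maximalIdeal R) R) :=
    Module.FaithfullyFlat.of_flat_of_isLocalHom
  exact isNoetherianRing_of_faithfullyFlat (Hens R) (AdicCompletion (maximalIdeal R) R)

end Groth.Agent.H11.HC
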