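import Mathlib

open IsLocalRing

namespace Groth.Agent.H11.HC

section

variable {R S : Type*} [CommRing R] [CommRing S] [IsLocalRing R] [IsLocalRing S] [Algebra R S]

/-- Elements of `m S` are congruent to images of elements of `m` modulo `m_S²`, provided the
residue field extension is trivial. -/
theorem exists_sub_mem_sq (hm : (maximalIdeal R).map (algebraMap R S) = maximalIdeal S)
    (hk : ∀ s : S, ∃ r : R, s - algebraMap R S r ∈ maximalIdeal S) (y : S)
    (hy : y ∈ maximalIdeal S) :
    ∃ x ∈ maximalIdeal R, y - algebraMap R S x ∈ maximalIdeal S * maximalIdeal S := by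
  have hfm : ∀ x ∈ maximalIdeal R, algebraMap R S x ∈ maximalIdeal S := fun x hx => by
    rw [← hm]
    exact Ideal.mem_map_of_mem _ hx
  rw [← hm, Ideal.map] at hy
  induction hy using Submodule.span_induction with
  | mem y hy =>
    obtain ⟨a, ha, rfl⟩ := hy
    exact ⟨a, ha, by rw [sub_self]; exact Ideal.zero_mem _⟩
  | zero => exact ⟨0, Ideal.zero_mem _, by rw [map_zero, sub_self]; exact Ideal.zero_mem _⟩
  | add y₁ y₂ _ _ h₁ h₂ =>
    obtain ⟨x₁, hx₁, hd₁⟩ := h₁
    obtain ⟨x₂, hx₂, hd₂⟩ := h₂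
    refine ⟨x₁ + x₂, Ideal.add_mem _ hx₁ hx₂, ?_⟩
    have : y₁ + y₂ - algebraMap R S (x₁ + x₂) =
        (y₁ - algebraMap R S x₁) + (y₂ - algebraMap R S x₂) := by
      rw [map_add]; ring
    rw [this]
    exact Ideal.add_mem _ hd₁ hd₂
  | smul s y _ h =>
    obtain ⟨x, hx, hd⟩ := h
    obtain ⟨r, hr⟩ := hk s
    refine ⟨r * x, Ideal.mul_mem_left _ _ hx, ?_⟩
    have : s • y - algebraMap R S (r * x) =
        algebraMap R S r * (y - algebraMap R S x) + (s - algebraMap R S r) * algebraMap R S x +
          (s - algebraMap R S r) * (y - algebraMap R S x) := by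
      rw [map_mul, smul_eq_mul]; ring
    rw [this]
    refine Ideal.add_mem _ (Ideal.add_mem _ (Ideal.mul_mem_left _ _ hd) ?_) ?_
    · exact Ideal.mul_mem_mul hr (hfm x hx)
    · exact Ideal.mul_mem_left _ _ hd

theorem spanFinrank_maximalIdeal_le [IsNoetherianRing R] [IsNoetherianRing S]
    [Module.FaithfullyFlat R S]
    (hm : (maximalIdeal R).map (algebraMap R S) = maximalIdeal S)
    (hk : ∀ s : S, ∃ r : R, s - algebraMap R S r ∈ maximalIdeal S) :
    (maximalIdeal R).spanFinrank ≤ (maximalIdeal S).spanFinrank := by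
  classical
  have hfg : (maximalIdeal S).FG := (maximalIdeal S).fg_of_isNoetherianRing
  obtain ⟨t, htcard, htspan⟩ := Submodule.FG.exists_span_finset_card_eq_spanFinrank hfg
  have hex : ∀ y : S, ∃ x : R, y ∈ maximalIdeal S →
      (x ∈ maximalIdeal R ∧ y - algebraMap R S x ∈ maximalIdeal S * maximalIdeal S) := by
    intro y
    by_cases hy : y ∈ maximalIdeal S
    · obtain ⟨x, hx, hd⟩ := exists_sub_mem_sq hm hk y hy
      exact ⟨x, fun _ => ⟨hx, hd⟩⟩
    · exact ⟨0, fun h => (hy h).elim⟩
  choose x hx using hex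
  have htm : ∀ y ∈ t, y ∈ maximalIdeal S := by
    intro y hy
    rw [← htspan]
    exact Submodule.subset_span hy
  obtain ⟨I, hI⟩ : ∃ I : Ideal R, I = Ideal.span (x '' (t : Set S)) := ⟨_, rfl⟩
  have hIm : I ≤ maximalIdeal R := by
    rw [hI, Ideal.span_le]
    rintro _ ⟨y, hy, rfl⟩
    exact (hx y (htm y hy)).1
  have hle : maximalIdeal S ≤ I.map (algebraMap R S) ⊔ maximalIdeal S • maximalIdeal S := by
    rw [← htspan]
    refine Submodule.span_le.2 ?_
    intro y hy
    have h1 := (hx y (htm y hy)).2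
    have h2 : algebraMap R S (x y) ∈ I.map (algebraMap R S) := by
      apply Ideal.mem_map_of_mem
      rw [hI]
      exact Ideal.subset_span ⟨y, hy, rfl⟩
    have : y = algebraMap R S (x y) + (y - algebraMap R S (x y)) := by ring
    rw [this]
    refine Submodule.add_mem _ (Submodule.mem_sup_left h2) (Submodule.mem_sup_right ?_)
    rw [htspan]
    exact h1
  have hjac : maximalIdeal S ≤ Ideal.jacobson ⊥ := by
    rw [IsLocalRing.jacobson_eq_maximalIdeal ⊥ bot_ne_top]
  have hle2 : maximalIdeal S ≤ I.map (algebraMap R S) :=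
    Submodule.le_of_le_smul_of_le_jacobson_bot hfg hjac hle
  have heq : I.map (algebraMap R S) = (maximalIdeal R).map (algebraMap R S) :=
    le_antisymm (Ideal.map_mono hIm) (hm ▸ hle2)
  have hIeq : I = maximalIdeal R := Ideal.map_injective_of_faithfullyFlat (B := S) heq
  rw [← hIeq, hI, ← htcard]
  refine (Submodule.spanFinrank_span_le_ncard_of_finite ((t.finite_toSet).image x)).trans ?_
  refine (Set.ncard_image_le t.finite_toSet).trans ?_
  rw [Set.ncard_coe_finset]

end

end Groth.Agent.H11.HC
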