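import Mathlib

/-! Adic completions agree when all truncations agree (helper11). -/

namespace Groth.Agent.H11.HensAdic

open AdicCompletion

section

variable {R : Type*} [CommRing R] (I : Ideal R)

lemma factor_evalₐ {m n : ℕ} (hle : m ≤ n) (x : AdicCompletion I R) :
    Ideal.Quotient.factor (Ideal.pow_le_pow_right hle) (evalₐ I n x) = evalₐ I m x := by
  induction x using AdicCompletion.induction_on with
  | _ a =>
    rw [evalₐ_mk, evalₐ_mk, Ideal.Quotient.factor_mk, Ideal.Quotient.eq]
    have h := a.property hle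
    rw [SModEq.sub_mem] at h
    have h2 : a.val n - a.val m ∈ (I ^ m • ⊤ : Submodule R R) := by
      have := Submodule.neg_mem _ h
      rwa [neg_sub] at this
    simpa using h2

end

section

variable {A B D : Type*} [CommRing A] [CommRing B] [CommRing D] [Algebra A B] [Algebra A D]
  (JB : Ideal B) (JD : Ideal D)

/-- `evalₐ` as an `A`-algebra map. -/
noncomputable def evalA (n : ℕ) : AdicCompletion JB B →ₐ[A] B ⧸ JB ^ n :=
  { (evalₐ JB n).toRingHom with
    commutes' := by
      intro a
      show evalₐ JB n (algebraMap A (AdicCompletion JB B) a) = _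
      have h1 : algebraMap A (AdicCompletion JB B) a = AdicCompletion.of JB B (algebraMap A B a) := by
        ext k
        rfl
      rw [h1, evalₐ_of]
      rfl }

lemma evalA_apply (n : ℕ) (x : AdicCompletion JB B) : evalA (A := A) JB n x = evalₐ JB n x := rfl

theorem nonempty_algEquiv_of_levels (e : ∀ n : ℕ, (B ⧸ JB ^ n) ≃ₐ[A] (D ⧸ JD ^ n))
    (hcompat : ∀ {m n : ℕ} (hle : m ≤ n) (x : B ⧸ JB ^ n),
      Ideal.Quotient.factor (Ideal.pow_le_pow_right hle) (e n x) =
        e m (Ideal.Quotient.factor (Ideal.pow_le_pow_right hle) x)) :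
    Nonempty (AdicCompletion JB B ≃ₐ[A] AdicCompletion JD D) := by
  have hcompat' : ∀ {m n : ℕ} (hle : m ≤ n) (y : D ⧸ JD ^ n),
      Ideal.Quotient.factor (Ideal.pow_le_pow_right hle) ((e n).symm y) =
        (e m).symm (Ideal.Quotient.factor (Ideal.pow_le_pow_right hle) y) := by
    intro m n hle y
    apply (e m).injective
    rw [← hcompat hle, AlgEquiv.apply_symm_apply, AlgEquiv.apply_symm_apply]
  let F : AdicCompletion JB B →ₐ[A] AdicCompletion JD D :=
    liftAlgHom JD (fun n => ((e n : (B ⧸ JB ^ n) →ₐ[A] (D ⧸ JD ^ n))).comp (evalA JB n)) (by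
      intro m n hle
      ext x
      simp only [AlgHom.comp_apply]
      show Ideal.Quotient.factor (Ideal.pow_le_pow_right hle) (e n (evalₐ JB n x)) =
        e m (evalₐ JB m x)
      rw [hcompat hle, factor_evalₐ _ hle])
  let G : AdicCompletion JD D →ₐ[A] AdicCompletion JB B :=
    liftAlgHom JB (fun n => (((e n).symm : (D ⧸ JD ^ n) →ₐ[A] (B ⧸ JB ^ n))).comp (evalA JD n)) (by
      intro m n hle
      ext x
      simp only [AlgHom.comp_apply]
      show Ideal.Quotient.factor (Ideal.pow_le_pow_right hle) ((e n).symm (evalₐ JD n x)) =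
        (e m).symm (evalₐ JD m x)
      rw [hcompat' hle, factor_evalₐ _ hle])
  have hF : ∀ n x, evalₐ JD n (F x) = e n (evalₐ JB n x) := fun n x => evalₐ_liftAlgHom _ _ _ n x
  have hG : ∀ n y, evalₐ JB n (G y) = (e n).symm (evalₐ JD n y) :=
    fun n y => evalₐ_liftAlgHom _ _ _ n y
  refine ⟨AlgEquiv.ofAlgHom F G ?_ ?_⟩
  · refine AlgHom.ext fun y => ?_
    apply ext_evalₐ
    intro n
    simp only [AlgHom.comp_apply, AlgHom.id_apply]
    rw [hF, hG, AlgEquiv.apply_symm_apply]
  · refine AlgHom.ext fun x => ?_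
    apply ext_evalₐ
    intro n
    simp only [AlgHom.comp_apply, AlgHom.id_apply]
    rw [hG, hF, AlgEquiv.symm_apply_apply]

end

end Groth.Agent.H11.HensAdic
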