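import Mathlib
import Groth.Prelude.Def_Hens2
import Groth.Agent.H11.PairUP

/-!
# Finite subsets of a henselization come from an étale neighbourhood
-/

set_option autoImplicit false
universe u
open TensorProduct

namespace Groth.Agent.H11.PH

variable {A : Type u} [CommRing A] {I : Ideal A}

/-- Every element of a henselization comes from an étale neighbourhood. -/
theorem exists_nbhd_of_mem {B : Type u} [CommRing B] [Algebra A B]
    (hB : Hens2.IsPairHenselization A I B) (b : B) :
    ∃ (A' : Type u) (_ : CommRing A') (_ : Algebra A A') (_ : Algebra.Etale A A')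
      (_ : IsNbhd I A') (θ : A' →ₐ[A] B), b ∈ Set.range θ := by
  obtain ⟨e⟩ := nonempty_algEquiv_pHens B hB
  obtain ⟨j, x, hx⟩ := exists_rep (e b)
  refine ⟨j.Q, inferInstance, inferInstance, inferInstance, j.nbhd,
    (e.symm : PHens A I →ₐ[A] B).comp (ι j), x, ?_⟩
  show e.symm (ι j x) = b
  rw [hx, AlgEquiv.symm_apply_apply]

/-- Every finite subset of a henselization comes from an étale neighbourhood. -/
theorem exists_nbhd_of_finset {B : Type u} [CommRing B] [Algebra A B]
    (hB : Hens2.IsPairHenselization A I B) (F : Finset B) :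
    ∃ (A' : Type u) (_ : CommRing A') (_ : Algebra A A') (_ : Algebra.Etale A A')
      (_ : IsNbhd I A') (θ : A' →ₐ[A] B), ∀ b ∈ F, b ∈ Set.range θ := by
  classical
  induction F using Finset.induction_on with
  | empty =>
    exact ⟨A, inferInstance, inferInstance, inferInstance, IsNbhd.self I, Algebra.ofId A B,
      fun b hb => absurd hb (Finset.notMem_empty b)⟩
  | insert b F _ ih =>
    obtain ⟨A₁, _, _, _, h₁, θ₁, hθ₁⟩ := ih
    obtain ⟨A₂, _, _, _, h₂, θ₂, hθ₂⟩ := exists_nbhd_of_mem hB b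
    haveI : Algebra.Etale A (A₁ ⊗[A] A₂) := Algebra.Etale.comp A A₁ (A₁ ⊗[A] A₂)
    refine ⟨A₁ ⊗[A] A₂, inferInstance, inferInstance, inferInstance, h₁.tensor h₂,
      Algebra.TensorProduct.productMap θ₁ θ₂, ?_⟩
    intro c hc
    rw [Finset.mem_insert] at hc
    rcases hc with rfl | hc
    · obtain ⟨x, hx⟩ := hθ₂
      exact ⟨(1 : A₁) ⊗ₜ[A] x, by
        rw [Algebra.TensorProduct.productMap_apply_tmul, map_one, one_mul, hx]⟩
    · obtain ⟨x, hx⟩ := hθ₁ c hc
      exact ⟨x ⊗ₜ[A] (1 : A₂), by
        rw [Algebra.TensorProduct.productMap_apply_tmul, map_one, mul_one, hx]⟩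

/-- A finitely generated ideal of a henselization is extended from an étale neighbourhood. -/
theorem exists_nbhd_of_fg {B : Type u} [CommRing B] [Algebra A B]
    (hB : Hens2.IsPairHenselization A I B) (K : Ideal B) (hK : K.FG) :
    ∃ (A' : Type u) (_ : CommRing A') (_ : Algebra A A') (_ : Algebra.Etale A A')
      (_ : IsNbhd I A') (θ : A' →ₐ[A] B) (𝔟 : Ideal A'), 𝔟.FG ∧ 𝔟.map (θ : A' →+* B) = K := by
  classical
  obtain ⟨F, hF⟩ := hK
  obtain ⟨A', _, _, _, h, θ, hθ⟩ := exists_nbhd_of_finset hB F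
  refine ⟨A', inferInstance, inferInstance, inferInstance, h, θ, ?_⟩
  let pre : B → A' := fun p => if h : ∃ x, θ x = p then h.choose else 0
  have hpre : ∀ b ∈ F, θ (pre b) = b := by
    intro b hb
    have hex : ∃ x, θ x = b := hθ b hb
    simp only [pre, dif_pos hex]
    exact hex.choose_spec
  refine ⟨Ideal.span ((F.image pre : Finset A') : Set A'), ⟨F.image pre, rfl⟩, ?_⟩
  rw [Ideal.map_span, ← hF]
  congr 1
  ext b
  simp only [Finset.coe_image, Set.mem_image, Finset.mem_coe, exists_exists_and_eq_and]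
  constructor
  · rintro ⟨c, hc, rfl⟩
    show θ (pre c) ∈ F
    rw [hpre c hc]
    exact hc
  · intro hb
    exact ⟨b, hb, hpre b hb⟩

/-- A quotient of a henselization by a finitely generated ideal is the henselization of a
quotient of an étale neighbourhood by a finitely generated ideal. -/
theorem exists_model_of_surjective {B : Type u} [CommRing B] [Algebra A B]
    (hB : Hens2.IsPairHenselization A I B) {D : Type u} [CommRing D] (φ : B →+* D)
    (hφ : Function.Surjective φ) (hker : (RingHom.ker φ).FG) :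
    ∃ (A' : Type u) (_ : CommRing A') (_ : Algebra A A') (_ : Algebra.Etale A A')
      (_ : IsNbhd I A') (𝔟 : Ideal A') (_ : 𝔟.FG) (θ : A' →ₐ[A] B) (χ : A' ⧸ 𝔟 →+* D),
      (∀ x, χ (Ideal.Quotient.mk 𝔟 x) = φ (θ x)) ∧
      @Hens2.IsPairHenselization (A' ⧸ 𝔟) _
        ((I.map (algebraMap A A')).map (Ideal.Quotient.mk 𝔟)) D _ χ.toAlgebra := by
  obtain ⟨A', _, _, _, h, θ, 𝔟, h𝔟, hmap⟩ := exists_nbhd_of_fg hB (RingHom.ker φ) hker
  letI : Algebra A' B := (θ : A' →+* B).toAlgebra
  haveI : IsScalarTower A A' B := IsScalarTower.of_algebraMap_eq (fun s => (θ.commutes s).symm)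
  have hB' := isPairHenselization_of_isNbhd h hB
  have hQ := isPairHenselization_quotient hB' 𝔟
  have hk : 𝔟.map (algebraMap A' B) = RingHom.ker φ := hmap
  let ē : (B ⧸ 𝔟.map (algebraMap A' B)) ≃+* D :=
    (Ideal.quotEquivOfEq hk).trans (RingHom.quotientKerEquivOfSurjective hφ)
  let χ : A' ⧸ 𝔟 →+* D :=
    (ē : (B ⧸ 𝔟.map (algebraMap A' B)) →+* D).comp
      (algebraMap (A' ⧸ 𝔟) (B ⧸ 𝔟.map (algebraMap A' B)))
  refine ⟨A', inferInstance, inferInstance, inferInstance, h, 𝔟, h𝔟, θ, χ, fun x => ?_, ?_⟩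
  · show ē (algebraMap (A' ⧸ 𝔟) (B ⧸ 𝔟.map (algebraMap A' B)) (Ideal.Quotient.mk 𝔟 x)) = _
    rw [Ideal.Quotient.algebraMap_quotient_map_quotient]
    rfl
  · letI : Algebra (A' ⧸ 𝔟) D := χ.toAlgebra
    exact isPairHenselization_of_ringEquiv_target ē rfl hQ

/-- If `R = S/𝔞`, the henselization of `R` is the quotient of the henselization of `S`. -/
theorem surjective_and_ker_of_quotient {S R P B : Type u} [CommRing S] [CommRing R] [CommRing P]
    [CommRing B] (IS : Ideal S) [Algebra S P] (hP : Hens2.IsPairHenselization S IS P)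
    (π : S →+* R) (hπ : Function.Surjective π) [Algebra R B]
    (hB : Hens2.IsPairHenselization R (IS.map π) B) (g : P →+* B)
    (hg : g.comp (algebraMap S P) = (algebraMap R B).comp π) :
    Function.Surjective g ∧ RingHom.ker g = (RingHom.ker π).map (algebraMap S P) := by
  have hQ := isPairHenselization_quotient hP (RingHom.ker π)
  let e : S ⧸ RingHom.ker π ≃+* R := RingHom.quotientKerEquivOfSurjective hπ
  have he : ∀ s, e (Ideal.Quotient.mk _ s) = π s := fun s => rfl
  letI : Algebra R (P ⧸ (RingHom.ker π).map (algebraMap S P)) :=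
    ((algebraMap (S ⧸ RingHom.ker π) (P ⧸ (RingHom.ker π).map (algebraMap S P))).comp
      (e.symm : R →+* S ⧸ RingHom.ker π)).toAlgebra
  have halg : ∀ s, algebraMap R (P ⧸ (RingHom.ker π).map (algebraMap S P)) (π s) =
      Ideal.Quotient.mk _ (algebraMap S P s) := by
    intro s
    show algebraMap (S ⧸ RingHom.ker π) (P ⧸ (RingHom.ker π).map (algebraMap S P))
      (e.symm (π s)) = _
    rw [← he, RingEquiv.symm_apply_apply, Ideal.Quotient.algebraMap_quotient_map_quotient]
  have hQ' := isPairHenselization_of_ringEquiv e (by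
    ext s
    show algebraMap R (P ⧸ (RingHom.ker π).map (algebraMap S P)) (e (Ideal.Quotient.mk _ s)) = _
    rw [he, halg]
    exact (Ideal.Quotient.algebraMap_quotient_map_quotient _).symm) hQ
  have hideal : (IS.map (Ideal.Quotient.mk (RingHom.ker π))).map
      (e : S ⧸ RingHom.ker π →+* R) = IS.map π := by
    rw [Ideal.map_map]
    congr 1
  rw [hideal] at hQ'
  have hkill : ∀ b ∈ (RingHom.ker π).map (algebraMap S P), g b = 0 := by
    intro b hb
    have h1 : g b ∈ ((RingHom.ker π).map (algebraMap S P)).map g := Ideal.mem_map_of_mem _ hb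
    rw [Ideal.map_map, hg, ← Ideal.map_map] at h1
    have h2 : (RingHom.ker π).map π = ⊥ := by
      rw [eq_bot_iff, Ideal.map_le_iff_le_comap]
      intro x hx
      exact hx
    rw [h2, Ideal.map_bot, Ideal.mem_bot] at h1
    exact h1
  let ψ : (P ⧸ (RingHom.ker π).map (algebraMap S P)) →+* B := Ideal.Quotient.lift _ g hkill
  have hψ : Function.Bijective ψ := bijective_of_isPairHenselization hQ' hB ψ (by
    refine RingHom.ext fun r => ?_
    obtain ⟨s, rfl⟩ := hπ r
    show ψ (algebraMap R _ (π s)) = algebraMap R B (π s)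
    rw [halg]
    exact RingHom.congr_fun hg s)
  constructor
  · intro b
    obtain ⟨y, rfl⟩ := hψ.2 b
    obtain ⟨p, rfl⟩ := Ideal.Quotient.mk_surjective y
    exact ⟨p, rfl⟩
  · ext p
    rw [RingHom.mem_ker]
    have h1 : g p = ψ (Ideal.Quotient.mk _ p) := rfl
    rw [h1, ← map_zero ψ, hψ.1.eq_iff, Ideal.Quotient.eq_zero_iff_mem]

end Groth.Agent.H11.PH
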