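import Mathlib
import Groth.Prelude.Def_Hens2
import Groth.Agent.H11.PairFP
import Groth.Agent.H11.HCNoeth

/-!
# The henselization of a Noetherian pair
-/

set_option autoImplicit false
universe u
open TensorProduct

namespace Groth.Agent.H11.PH

section AdicMap

variable {R : Type*} [CommRing R] (I : Ideal R) {M N : Type*} [AddCommGroup M] [Module R M]
  [AddCommGroup N] [Module R N]

/-- If a linear map is bijective modulo every power of `I`, it is bijective on completions. -/
theorem adicCompletion_map_bijective (f : M →ₗ[R] N)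
    (h : ∀ n : ℕ, Function.Bijective (f.reduceModIdeal (I ^ n))) :
    Function.Bijective (AdicCompletion.map I f) := by
  constructor
  · rw [injective_iff_map_eq_zero]
    intro x hx
    ext n
    have h1 : (AdicCompletion.map I f x).val n = 0 := by rw [hx]; rfl
    rw [AdicCompletion.map_val_apply] at h1
    have h2 := (h n).1 (h1.trans (map_zero _).symm)
    rw [h2]
    rfl
  · intro y
    have hex : ∀ n, ∃ z, f.reduceModIdeal (I ^ n) z = y.val n := fun n => (h n).2 (y.val n)
    choose z hz using hex
    have hcompat : ∀ {m n : ℕ} (hmn : m ≤ n),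
        AdicCompletion.transitionMap I M hmn (z n) = z m := by
      intro m n hmn
      apply (h m).1
      have h1 := LinearMap.congr_fun
        (AdicCompletion.transitionMap_comp_reduceModIdeal I f hmn) (z n)
      simp only [LinearMap.coe_comp, Function.comp_apply] at h1
      rw [hz m]
      have h2 := y.2 hmn
      rw [← h2, ← hz n]
      exact h1.symm
    refine ⟨⟨z, hcompat⟩, ?_⟩
    ext n
    exact hz n

end AdicMap

variable {A : Type u} [CommRing A] {I : Ideal A}

/-- The completion map of a neighbourhood of `V(I^n)` for all `n` is bijective. -/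
theorem adicCompletion_map_bijective_of_isNbhd {B : Type u} [CommRing B] [Algebra A B]
    (h : ∀ n : ℕ, IsNbhd (I ^ n) B) :
    Function.Bijective (AdicCompletion.map I (Algebra.linearMap A B)) := by
  apply adicCompletion_map_bijective
  intro n
  obtain ⟨h1, h2⟩ := isNbhd_iff.1 (h n)
  have hmem : ∀ y : B, y ∈ (I ^ n • ⊤ : Submodule A B) ↔ y ∈ (I ^ n).map (algebraMap A B) := by
    intro y
    rw [Ideal.smul_top_eq_map, Submodule.restrictScalars_mem]
  have hmemA : ∀ a : A, a ∈ (I ^ n • ⊤ : Submodule A A) ↔ a ∈ I ^ n := by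
    intro a
    rw [smul_eq_mul, Ideal.mul_top]
  constructor
  · rw [injective_iff_map_eq_zero]
    intro x hx
    obtain ⟨a, rfl⟩ := Submodule.Quotient.mk_surjective _ x
    rw [LinearMap.reduceModIdeal_apply, Submodule.Quotient.mk_eq_zero, hmem] at hx
    rw [Submodule.Quotient.mk_eq_zero, hmemA]
    exact h2 a hx
  · intro y
    obtain ⟨b, rfl⟩ := Submodule.Quotient.mk_surjective _ y
    obtain ⟨a, ha⟩ := h1 b
    refine ⟨Submodule.Quotient.mk a, ?_⟩
    rw [LinearMap.reduceModIdeal_apply]
    symm
    rw [Submodule.Quotient.eq, hmem]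
    exact ha

/-- Flatness over a henselization can be checked on étale neighbourhoods. -/
theorem flat_of_stages {B : Type u} [CommRing B] [Algebra A B]
    (hB : Hens2.IsPairHenselization A I B) (T : Type u) [CommRing T] [Algebra B T]
    (h : ∀ (A' : Type u) [CommRing A'] [Algebra A A'] [Algebra.Etale A A'] (_ : IsNbhd I A')
      (θ : A' →ₐ[A] B),
      @Module.Flat A' T _ _ (((algebraMap B T).comp (θ : A' →+* B)).toAlgebra.toModule)) :
    Module.Flat B T := by
  classical
  apply Module.Flat.of_forall_isTrivialRelation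
  intro l f x hfx
  obtain ⟨A', _, _, _, hN, θ, hθ⟩ := exists_nbhd_of_finset hB (Finset.univ.image f)
  have hex : ∀ m, ∃ a : A', θ a = f m := fun m =>
    hθ _ (Finset.mem_image_of_mem f (Finset.mem_univ m))
  choose a ha using hex
  letI : Algebra A' T := ((algebraMap B T).comp (θ : A' →+* B)).toAlgebra
  haveI : Module.Flat A' T := h A' hN θ
  have hsm : ∀ (b : A') (y : T), b • y = (θ b) • y := by
    intro b y
    rw [Algebra.smul_def, Algebra.smul_def]
    rfl
  have h0 : ∑ m, a m • x m = 0 := by
    rw [← hfx]
    refine Finset.sum_congr rfl fun m _ => ?_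
    rw [hsm, ha]
  obtain ⟨k, c, y, hxy, hc⟩ :=
    Module.Flat.isTrivialRelation_of_sum_smul_eq_zero (R := A') (M := T) h0
  refine ⟨k, fun m n => θ (c m n), y, fun m => ?_, fun n => ?_⟩
  · rw [hxy m]
    refine Finset.sum_congr rfl fun n _ => ?_
    rw [hsm]
  · have := congrArg θ (hc n)
    rw [map_sum, map_zero] at this
    rw [← this]
    refine Finset.sum_congr rfl fun m _ => ?_
    rw [map_mul, ha]

/-- The henselization of a Noetherian pair is Noetherian. -/
theorem isNoetherianRing_of_isPairHenselization [IsNoetherianRing A] {B : Type u} [CommRing B]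
    [Algebra A B] (hB : Hens2.IsPairHenselization A I B) : IsNoetherianRing B := by
  haveI : IsNoetherianRing (AdicCompletion I A) := Groth.Agent.S0543.result A I
  have hfg : I.FG := I.fg_of_isNoetherianRing
  haveI : IsAdicComplete (I.map (algebraMap A (AdicCompletion I A))) (AdicCompletion I A) :=
    AdicCompletion.isAdicComplete_self I hfg
  have hHens : HenselianRing (AdicCompletion I A) (I.map (algebraMap A (AdicCompletion I A))) :=
    inferInstance
  obtain ⟨g, hg, -⟩ := hB.2 (AdicCompletion I A) (I.map (algebraMap A (AdicCompletion I A)))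
    (algebraMap A (AdicCompletion I A)) hHens le_rfl
  have hg' : ∀ a, g (algebraMap A B a) = algebraMap A (AdicCompletion I A) a :=
    fun a => RingHom.congr_fun hg a
  letI : Algebra B (AdicCompletion I A) := g.toAlgebra
  haveI : IsScalarTower A B (AdicCompletion I A) :=
    IsScalarTower.of_algebraMap_eq (fun a => (hg' a).symm)
  haveI : Module.Flat B (AdicCompletion I A) := by
    refine flat_of_stages hB (AdicCompletion I A) (fun A' _ _ _ hN θ => ?_)
    letI : Algebra A' (AdicCompletion I A) :=
      ((algebraMap B (AdicCompletion I A)).comp (θ : A' →+* B)).toAlgebra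
    haveI : IsScalarTower A A' (AdicCompletion I A) := by
      refine IsScalarTower.of_algebraMap_eq (fun a => ?_)
      show algebraMap A (AdicCompletion I A) a = g (θ (algebraMap A A' a))
      rw [θ.commutes, hg']
    exact Algebra.FormallyUnramified.flat_of_restrictScalars (R := A) (S := A')
      (AdicCompletion I A)
  have hN : IsNbhd I B := isNbhd_of_isPairHenselization hB
  let G : B →ₐ[A] AdicCompletion I A := { g with commutes' := hg' }
  let ρ : B →ₐ[A] A ⧸ I := (AdicCompletion.evalOneₐ I).comp G
  have hρ : ∀ (b : B) (s : AdicCompletion I A),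
      AdicCompletion.evalOneₐ I (b • s) = ρ b * AdicCompletion.evalOneₐ I s := by
    intro b s
    rw [Algebra.smul_def, map_mul]
    rfl
  haveI : Module.FaithfullyFlat B (AdicCompletion I A) := by
    refine ⟨fun 𝔪 h𝔪 htop => ?_⟩
    have key : ∀ t ∈ (𝔪 • ⊤ : Submodule B (AdicCompletion I A)),
        AdicCompletion.evalOneₐ I t ∈ 𝔪.map (ρ : B →+* A ⧸ I) := by
      intro t ht
      refine Submodule.smul_induction_on ht (fun m hm s _ => ?_) (fun x y hx hy => ?_)
      · rw [hρ]
        exact Ideal.mul_mem_right _ _ (Ideal.mem_map_of_mem _ hm)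
      · rw [map_add]
        exact Ideal.add_mem _ hx hy
    have h1 := key 1 (by rw [htop]; exact Submodule.mem_top)
    rw [map_one] at h1
    have hsurj : Function.Surjective (ρ : B →+* A ⧸ I) := by
      intro y
      obtain ⟨a, rfl⟩ := Ideal.Quotient.mk_surjective y
      exact ⟨algebraMap A B a, ρ.commutes a⟩
    rw [Ideal.mem_map_iff_of_surjective _ hsurj] at h1
    obtain ⟨m, hm, hm1⟩ := h1
    have h2 : ρ (m - 1) = 0 := by
      rw [map_sub, map_one, sub_eq_zero]
      exact hm1
    rw [hN.retr_eq_zero_iff ρ] at h2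
    have h3 : m - 1 ∈ 𝔪 := by
      have hj : Ideal.jacobson (⊥ : Ideal B) ≤ 𝔪 := sInf_le ⟨bot_le, h𝔪⟩
      exact hj (hB.1.jac h2)
    have h4 : (1 : B) ∈ 𝔪 := by
      have := 𝔪.sub_mem hm h3
      rwa [sub_sub_cancel] at this
    exact h𝔪.ne_top ((Ideal.eq_top_iff_one _).2 h4)
  exact Groth.Agent.H11.HC.isNoetherianRing_of_faithfullyFlat B (AdicCompletion I A)

end Groth.Agent.H11.PH
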