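import Mathlib
import Groth.Agent.H11.HensAdic
import Groth.Agent.H11.PairNoeth
import Groth.Agent.H11.PairFP

/-! The completion of a henselization of a pair is the completion of the pair (helper11). -/

namespace Groth.Agent.H11.PH

universe u

theorem nonempty_adicCompletion_algEquiv {A B D : Type u} [CommRing A] [CommRing B] [CommRing D]
    [Algebra A B] [Algebra A D] [Algebra B D] [IsScalarTower A B D]
    (I : Ideal A) (hD : Hens2.IsPairHenselization B (I.map (algebraMap A B)) D) :
    Nonempty (AdicCompletion (I.map (algebraMap A B)) B ≃ₐ[A]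
      AdicCompletion (I.map (algebraMap A D)) D) := by
  set JB := I.map (algebraMap A B) with hJB
  set JD := I.map (algebraMap A D) with hJD
  have hJ : JD = JB.map (algebraMap B D) := by
    rw [hJD, hJB, Ideal.map_map, ← IsScalarTower.algebraMap_eq]
  have hJn : ∀ n : ℕ, JD ^ n = (JB ^ n).map (algebraMap B D) := by
    intro n
    rw [hJ, Ideal.map_pow]
  obtain ⟨eq⟩ := nonempty_algEquiv_pHens D hD
  have hN : ∀ n : ℕ, IsNbhd (JB ^ n) D := fun n => (isNbhd_pow_pHens n).of_algEquiv eq.symm
  have hle : ∀ n : ℕ, JB ^ n ≤ (JD ^ n).comap (IsScalarTower.toAlgHom A B D) := by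
    intro n b hb
    rw [Ideal.mem_comap, hJn]
    exact Ideal.mem_map_of_mem _ hb
  have hbij : ∀ n : ℕ, Function.Bijective
      (Ideal.quotientMapₐ (JD ^ n) (IsScalarTower.toAlgHom A B D) (hle n)) := by
    intro n
    obtain ⟨h1, h2⟩ := isNbhd_iff.1 (hN n)
    constructor
    · rw [injective_iff_map_eq_zero]
      intro x hx
      obtain ⟨b, rfl⟩ := Ideal.Quotient.mk_surjective x
      rw [Ideal.quotientMapₐ, ] at hx
      have hx' : Ideal.Quotient.mk (JD ^ n) (algebraMap B D b) = 0 := hx
      rw [Ideal.Quotient.eq_zero_iff_mem, hJn] at hx'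
      rw [Ideal.Quotient.eq_zero_iff_mem]
      exact h2 b hx'
    · intro y
      obtain ⟨d, rfl⟩ := Ideal.Quotient.mk_surjective y
      obtain ⟨b, hb⟩ := h1 d
      refine ⟨Ideal.Quotient.mk _ b, ?_⟩
      show Ideal.Quotient.mk (JD ^ n) (algebraMap B D b) = _
      rw [eq_comm, Ideal.Quotient.eq, hJn]
      exact hb
  refine Groth.Agent.H11.HensAdic.nonempty_algEquiv_of_levels JB JD
    (fun n => AlgEquiv.ofBijective _ (hbij n)) ?_
  intro m n hmn x
  obtain ⟨b, rfl⟩ := Ideal.Quotient.mk_surjective x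
  rfl

end Groth.Agent.H11.PH
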