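import Mathlib
import Groth.Agent.H11.HensLift

open Polynomial IsLocalRing TensorProduct

universe u

namespace Groth.Agent.H11.HensEt

/-- If `f` is monic over a local ring with separable reduction, then `f'` is a unit modulo `f`. -/
theorem isUnit_mk_derivative {R : Type*} [CommRing R] [IsLocalRing R] (f : R[X]) (hf : f.Monic)
    (hsep : (f.map (residue R)).Separable) : IsUnit (AdjoinRoot.mk f (derivative f)) := by
  haveI : Module.Finite R (AdjoinRoot f) := hf.finite_adjoinRoot
  haveI : Algebra.IsIntegral R (AdjoinRoot f) := inferInstance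
  obtain ⟨a, b, hab⟩ := hsep
  obtain ⟨a', rfl⟩ := Polynomial.map_surjective (residue R) residue_surjective a
  obtain ⟨b', rfl⟩ := Polynomial.map_surjective (residue R) residue_surjective b
  rw [derivative_map, ← Polynomial.map_mul, ← Polynomial.map_mul, ← Polynomial.map_add] at hab
  have hker : a' * f + b' * derivative f - 1 ∈ RingHom.ker (Polynomial.mapRingHom (residue R)) := by
    rw [RingHom.mem_ker, Polynomial.coe_mapRingHom, Polynomial.map_sub, hab, Polynomial.map_one,
      sub_self]
  rw [Polynomial.ker_mapRingHom, IsLocalRing.ker_residue] at hker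
  have hmem : AdjoinRoot.mk f (a' * f + b' * derivative f - 1) ∈
      (maximalIdeal R).map (algebraMap R (AdjoinRoot f)) := by
    have h1 : algebraMap R (AdjoinRoot f) = (AdjoinRoot.mk f).comp C := rfl
    rw [h1, ← Ideal.map_map]
    exact Ideal.mem_map_of_mem _ hker
  have hjac := map_maximalIdeal_le_jacobson R (AdjoinRoot f) hmem
  have hu := (Ideal.mem_jacobson_bot.1 hjac) 1
  rw [mul_one, map_sub, map_one, sub_add_cancel, map_add, map_mul, map_mul, AdjoinRoot.mk_self,
    mul_zero, zero_add] at hu
  exact isUnit_of_mul_isUnit_right hu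

theorem etale_adjoinRoot {R : Type*} [CommRing R] [IsLocalRing R] (f : R[X]) (hf : f.Monic)
    (hsep : (f.map (residue R)).Separable) : Algebra.Etale R (AdjoinRoot f) := by
  have hu := isUnit_mk_derivative f hf hsep
  obtain ⟨P, hPf, hPg⟩ : ∃ P : StandardEtalePair R, P.f = f ∧ P.g = derivative f :=
    ⟨⟨f, hf, derivative f, ⟨1, 0, 1, by simp⟩⟩, rfl, rfl⟩
  have e₁ := P.equivAwayAdjoinRoot
  rw [hPf, hPg] at e₁
  have hle : Submonoid.powers (AdjoinRoot.mk f (derivative f)) ≤
      IsUnit.submonoid (AdjoinRoot f) := by
    rintro _ ⟨n, rfl⟩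
    exact hu.pow n
  have e₂ : AdjoinRoot f ≃ₐ[AdjoinRoot f] Localization.Away (AdjoinRoot.mk f (derivative f)) :=
    IsLocalization.atUnits (AdjoinRoot f) (Submonoid.powers (AdjoinRoot.mk f (derivative f))) hle
  exact Algebra.Etale.of_equiv (e₁.trans (e₂.restrictScalars R).symm)

end Groth.Agent.H11.HensEt

namespace Groth.Agent.H11.HensEt

open IntermediateField in
theorem exists_lift_field (R : Type u) [CommRing R] [IsLocalRing R] (K : Type u) [Field K]
    [Algebra (ResidueField R) K] [Module.Finite (ResidueField R) K]
    [Algebra.IsSeparable (ResidueField R) K] :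
    ∃ (S : Type u) (_ : CommRing S) (_ : Algebra R S), Module.Finite R S ∧ Algebra.Etale R S ∧
      Nonempty (ResidueField R ⊗[R] S ≃ₐ[ResidueField R] K) := by
  obtain ⟨α, hα⟩ := Field.exists_primitive_element (ResidueField R) K
  have hint : IsIntegral (ResidueField R) α := Algebra.IsIntegral.isIntegral α
  have hsep : (minpoly (ResidueField R) α).Separable := Algebra.IsSeparable.isSeparable _ α
  have hmonic := minpoly.monic hint
  obtain ⟨f, hfmap, -, hfmonic⟩ := Polynomial.lifts_and_natDegree_eq_and_monic
    (f := residue R) (p := minpoly (ResidueField R) α)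
    ((Polynomial.mem_lifts _).2 (Polynomial.map_surjective (residue R) residue_surjective _)) hmonic
  refine ⟨AdjoinRoot f, inferInstance, inferInstance, hfmonic.finite_adjoinRoot,
    etale_adjoinRoot f hfmonic (hfmap ▸ hsep), ⟨?_⟩⟩
  have e₁ := AdjoinRoot.tensorAlgEquiv (R := R) (S := R) (T := ResidueField R) f
    (f.map (Algebra.TensorProduct.includeRight (R := R) (A := ResidueField R) (B := R)).toRingHom)
    rfl
  have hassoc : Associated ((f.map (Algebra.TensorProduct.includeRight (R := R)
      (A := ResidueField R) (B := R)).toRingHom).map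
      (Algebra.TensorProduct.rid R (ResidueField R) (ResidueField R)))
      (minpoly (ResidueField R) α) := by
    rw [Polynomial.map_map, ← hfmap]
    have : (RingHomClass.toRingHom (Algebra.TensorProduct.rid R (ResidueField R)
        (ResidueField R))).comp (Algebra.TensorProduct.includeRight (R := R)
        (A := ResidueField R) (B := R)).toRingHom = residue R := by
      ext r
      simp [Algebra.smul_def]
    rw [this]
  have e₂ := AdjoinRoot.mapAlgEquiv (Algebra.TensorProduct.rid R (ResidueField R) (ResidueField R))
    _ _ hassoc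
  have e₃ := adjoinRootEquivAdjoin (ResidueField R) hint
  rw [hα] at e₃
  exact ((e₁.trans e₂).trans e₃).trans topEquiv

end Groth.Agent.H11.HensEt
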