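import Mathlib
import Groth.Prelude.Def_Hensel
import Groth.Agent.S0527

open Polynomial IsLocalRing

universe u

namespace Groth.Agent.H11.HensEt

theorem isLocalHom_of_nil_ker {A S : Type*} [CommRing A] [CommRing S] (π : A →+* S)
    (hπ : Function.Surjective π) (hnil : ∀ x ∈ RingHom.ker π, IsNilpotent x) : IsLocalHom π := by
  constructor
  intro x hx
  obtain ⟨y, hy⟩ := hπ (↑hx.unit⁻¹)
  have h1 : x * y - 1 ∈ RingHom.ker π := by
    rw [RingHom.mem_ker, map_sub, map_mul, hy, map_one, IsUnit.mul_val_inv, sub_self]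
  have h2 : IsUnit (x * y) := by
    have := (hnil _ h1).isUnit_add_one
    rwa [sub_add_cancel] at this
  exact isUnit_of_mul_isUnit_left h2

/-- A nil-extension of a henselian local ring is a henselian local ring. -/
theorem henselianLocalRing_of_nil_ker {A : Type u} [CommRing A] {S : Type*} [CommRing S]
    [HenselianLocalRing S] (π : A →+* S) (hπ : Function.Surjective π)
    (hnil : ∀ x ∈ RingHom.ker π, IsNilpotent x) : HenselianLocalRing A := by
  haveI := isLocalHom_of_nil_ker π hπ hnil
  haveI : IsLocalRing A := RingHom.domain_isLocalRing π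
  have hK : HenselianRing A (RingHom.ker π) := Groth.Agent.S0527.result A _ hnil
  have hmem : ∀ x : A, π x ∈ maximalIdeal S → x ∈ maximalIdeal A := by
    intro x hx
    rw [mem_maximalIdeal, mem_nonunits_iff] at hx ⊢
    exact fun hu => hx (hu.map π)
  have hmem' : ∀ x : A, x ∈ maximalIdeal A → π x ∈ maximalIdeal S := by
    intro x hx
    rw [mem_maximalIdeal, mem_nonunits_iff] at hx ⊢
    exact fun hu => hx (isUnit_of_map_unit π x hu)
  have hker : RingHom.ker π ≤ maximalIdeal A := by
    intro x hx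
    apply hmem
    rw [RingHom.mem_ker.1 hx]
    exact Ideal.zero_mem _
  refine { is_henselian := ?_ }
  intro f hf a₀ h₁ h₂
  obtain ⟨s, hs, hsa⟩ := HenselianLocalRing.is_henselian (f.map π) (hf.map π) (π a₀)
    (by rw [eval_map_apply]; exact hmem' _ h₁)
    (by rw [derivative_map, eval_map_apply]; exact h₂.map π)
  obtain ⟨a₁, rfl⟩ := hπ s
  have ha₁ : f.eval a₁ ∈ RingHom.ker π := by
    rw [RingHom.mem_ker, ← eval_map_apply]
    exact hs
  have ha₁₀ : a₁ - a₀ ∈ maximalIdeal A := by
    apply hmem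
    rw [map_sub]
    exact hsa
  have hunit : IsUnit (f.derivative.eval a₁) := by
    by_contra hcon
    have h3 : f.derivative.eval a₁ ∈ maximalIdeal A := hcon
    have h4 : f.derivative.eval a₁ - f.derivative.eval a₀ ∈ maximalIdeal A :=
      Ideal.mem_of_dvd _ (Polynomial.sub_dvd_eval_sub a₁ a₀ f.derivative) ha₁₀
    have h5 : f.derivative.eval a₀ ∈ maximalIdeal A := by
      have := Ideal.sub_mem _ h3 h4
      rwa [sub_sub_cancel] at this
    exact h5 h₂
  obtain ⟨a, ha, haa⟩ := hK.is_henselian f hf a₁ ha₁ (hunit.map _)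
  refine ⟨a, ha, ?_⟩
  have : a - a₀ = (a - a₁) + (a₁ - a₀) := by ring
  rw [this]
  exact Ideal.add_mem _ (hker haa) ha₁₀

end Groth.Agent.H11.HensEt

namespace Groth.Agent.H11.HensEt

section Fib

variable {R : Type u} [CommRing R] {B S : Type u} [CommRing B] [CommRing S] [Algebra R B]
  [Algebra R S] (I : Ideal B) (γ : S →ₐ[R] B ⧸ I)

/-- The fibre product `B ×_{B/I} S`. -/
def fib : Subalgebra R (B × S) :=
  AlgHom.equalizer ((Ideal.Quotient.mkₐ R I).comp (AlgHom.fst R B S)) (γ.comp (AlgHom.snd R B S))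

theorem mem_fib (x : B × S) : x ∈ fib I γ ↔ Ideal.Quotient.mk I x.1 = γ x.2 := Iff.rfl

/-- second projection -/
def fibSnd : fib I γ →ₐ[R] S := (AlgHom.snd R B S).comp (fib I γ).val

/-- first projection -/
def fibFst : fib I γ →ₐ[R] B := (AlgHom.fst R B S).comp (fib I γ).val

theorem fibSnd_apply (x : fib I γ) : fibSnd I γ x = x.1.2 := rfl

theorem fibFst_apply (x : fib I γ) : fibFst I γ x = x.1.1 := rfl

theorem mk_fibFst (x : fib I γ) : Ideal.Quotient.mk I (fibFst I γ x) = γ (fibSnd I γ x) := x.2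

theorem fibSnd_surjective : Function.Surjective (fibSnd I γ) := fun s => by
  obtain ⟨b, hb⟩ := Ideal.Quotient.mk_surjective (γ s)
  exact ⟨⟨(b, s), hb⟩, rfl⟩

theorem fibSnd_ker_nil (hI : I ^ 2 = ⊥) :
    ∀ x ∈ RingHom.ker (fibSnd I γ).toRingHom, IsNilpotent x := by
  intro x hx
  have h2 : x.1.2 = 0 := hx
  have h1 : x.1.1 ∈ I := by
    rw [← Ideal.Quotient.eq_zero_iff_mem]
    have := x.2
    rw [mem_fib, h2, map_zero] at this
    exact this
  refine ⟨2, ?_⟩
  apply Subtype.ext
  apply Prod.ext
  · show x.1.1 ^ 2 = 0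
    have : x.1.1 ^ 2 ∈ I ^ 2 := Ideal.pow_mem_pow h1 2
    rw [hI] at this
    exact this
  · show x.1.2 ^ 2 = 0
    rw [h2]
    exact zero_pow two_ne_zero

theorem henselianLocalRing_fib [HenselianLocalRing S] (hI : I ^ 2 = ⊥) :
    HenselianLocalRing (fib I γ) :=
  henselianLocalRing_of_nil_ker (fibSnd I γ).toRingHom (fibSnd_surjective I γ)
    (fibSnd_ker_nil I γ hI)

theorem isLocalHom_fibSnd (hI : I ^ 2 = ⊥) : IsLocalHom (fibSnd I γ).toRingHom :=
  isLocalHom_of_nil_ker (fibSnd I γ).toRingHom (fibSnd_surjective I γ) (fibSnd_ker_nil I γ hI)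

theorem isLocalHom_algebraMap_fib [IsLocalHom (algebraMap R S)] :
    IsLocalHom (algebraMap R (fib I γ)) := by
  constructor
  intro r hr
  have h1 : IsUnit (fibSnd I γ (algebraMap R (fib I γ) r)) := hr.map _
  rw [AlgHom.commutes] at h1
  exact isUnit_of_map_unit (algebraMap R S) r h1

/-- The map into the fibre product given by a lift. -/
def fibLift (h : S →ₐ[R] B) (hh : (Ideal.Quotient.mkₐ R I).comp h = γ) : S →ₐ[R] fib I γ :=
  AlgHom.codRestrict (AlgHom.prod h (AlgHom.id R S)) (fib I γ) (fun s => by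
    rw [mem_fib]
    exact AlgHom.congr_fun hh s)

theorem fibFst_fibLift (h : S →ₐ[R] B) (hh : (Ideal.Quotient.mkₐ R I).comp h = γ) (s : S) :
    fibFst I γ (fibLift I γ h hh s) = h s := rfl

theorem fibSnd_fibLift (h : S →ₐ[R] B) (hh : (Ideal.Quotient.mkₐ R I).comp h = γ) (s : S) :
    fibSnd I γ (fibLift I γ h hh s) = s := rfl

end Fib

theorem formallyEtale_of_isHenselization (R S : Type u) [CommRing R] [IsLocalRing R] [CommRing S]
    [IsLocalRing S] [Algebra R S] [IsLocalHom (algebraMap R S)] [Hensel.IsHenselization R S] :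
    Algebra.FormallyEtale R S := by
  rw [Algebra.FormallyEtale.iff_comp_bijective]
  intro B _ _ I hI
  have hS : HenselianLocalRing S := Hensel.IsHenselization.henselian (R := R)
  constructor
  · intro h₁ h₂ h12
    obtain ⟨γ, hγ⟩ : ∃ γ, γ = (Ideal.Quotient.mkₐ R I).comp h₁ := ⟨_, rfl⟩
    have h12' : (Ideal.Quotient.mkₐ R I).comp h₂ = γ := by rw [hγ]; exact h12.symm
    haveI : HenselianLocalRing (fib I γ) := henselianLocalRing_fib I γ hI
    have hloc : IsLocalHom (algebraMap R (fib I γ)) := isLocalHom_algebraMap_fib I γ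
    obtain ⟨g, -, huniq⟩ := Hensel.IsHenselization.universal (R := R) (S := S) (fib I γ)
      (algebraMap R (fib I γ)) hloc
    have e1 : (fibLift I γ h₁ hγ.symm).toRingHom = g := huniq _
      (RingHom.ext fun r => AlgHom.commutes (fibLift I γ h₁ hγ.symm) r)
    have e2 : (fibLift I γ h₂ h12').toRingHom = g := huniq _
      (RingHom.ext fun r => AlgHom.commutes (fibLift I γ h₂ h12') r)
    ext s
    have := RingHom.congr_fun (e1.trans e2.symm) s
    have h3 := congrArg (fibFst I γ) this
    exact h3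
  · intro γ
    haveI : HenselianLocalRing (fib I γ) := henselianLocalRing_fib I γ hI
    have hloc : IsLocalHom (algebraMap R (fib I γ)) := isLocalHom_algebraMap_fib I γ
    obtain ⟨g, hg, -⟩ := Hensel.IsHenselization.universal (R := R) (S := S) (fib I γ)
      (algebraMap R (fib I γ)) hloc
    obtain ⟨g', -, huniq'⟩ := Hensel.IsHenselization.universal (R := R) (S := S) S
      (algebraMap R S) inferInstance
    have e1 : ((fibSnd I γ).toRingHom.comp g) = g' := huniq' _ (by
      show ((fibSnd I γ).toRingHom.comp g).comp (algebraMap R S) = algebraMap R S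
      rw [RingHom.comp_assoc, hg]
      exact RingHom.ext fun r => AlgHom.commutes (fibSnd I γ) r)
    have e2 : RingHom.id S = g' := huniq' _ (RingHom.id_comp _)
    have hsnd : ∀ s, fibSnd I γ (g s) = s := fun s => RingHom.congr_fun (e1.trans e2.symm) s
    refine ⟨{ toRingHom := (fibFst I γ).toRingHom.comp g, commutes' := fun r => ?_ }, ?_⟩
    · have := RingHom.congr_fun hg r
      simp only [RingHom.comp_apply] at this
      show fibFst I γ (g (algebraMap R S r)) = _
      rw [this, AlgHom.commutes]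
    · ext s
      show Ideal.Quotient.mk I (fibFst I γ (g s)) = γ s
      rw [mk_fibFst, hsnd]

end Groth.Agent.H11.HensEt

namespace Groth.Agent.H11.HensEt

theorem exists_tau {R : Type u} [CommRing R] {B S : Type u} [CommRing B] [CommRing S]
    [Algebra R B] [Algebra R S] (I : Ideal B) (γ : S →ₐ[R] B ⧸ I) [HenselianLocalRing S]
    [HenselianLocalRing (fib I γ)] (hloc : IsLocalHom (fibSnd I γ).toRingHom) :
    ∃ τ : ResidueField S →+* ResidueField (fib I γ),
      ∀ x : fib I γ, τ (residue S (fibSnd I γ x)) = residue _ x := by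
  have hbij : Function.Bijective (ResidueField.map (fibSnd I γ).toRingHom) := by
    refine ⟨RingHom.injective _, ?_⟩
    intro y
    obtain ⟨s, rfl⟩ := residue_surjective y
    obtain ⟨x, rfl⟩ := fibSnd_surjective I γ s
    exact ⟨residue _ x, rfl⟩
  refine ⟨(RingEquiv.ofBijective _ hbij).symm.toRingHom, fun x => ?_⟩
  have : residue S (fibSnd I γ x) = RingEquiv.ofBijective _ hbij (residue _ x) := rfl
  rw [this]
  exact (RingEquiv.ofBijective _ hbij).symm_apply_apply _

theorem formallyEtale_of_isStrictHenselization (R S : Type u) [CommRing R] [IsLocalRing R]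
    [CommRing S] [IsLocalRing S] [Algebra R S] [IsLocalHom (algebraMap R S)]
    [Hensel.IsStrictHenselization R S] : Algebra.FormallyEtale R S := by
  rw [Algebra.FormallyEtale.iff_comp_bijective]
  intro B _ _ I hI
  have hS : HenselianLocalRing S := Hensel.IsStrictHenselization.henselian (R := R)
  have setup : ∀ γ : S →ₐ[R] B ⧸ I, ∃ (_ : HenselianLocalRing (fib I γ))
      (_ : IsLocalHom (algebraMap R (fib I γ)))
      (τ : ResidueField S →+* ResidueField (fib I γ)),
      (∀ x : fib I γ, τ (residue S (fibSnd I γ x)) = residue _ x) ∧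
      τ.comp (ResidueField.map (algebraMap R S)) = ResidueField.map (algebraMap R (fib I γ)) := by
    intro γ
    haveI hH : HenselianLocalRing (fib I γ) := henselianLocalRing_fib I γ hI
    haveI hloc : IsLocalHom (algebraMap R (fib I γ)) := isLocalHom_algebraMap_fib I γ
    obtain ⟨τ, hτ⟩ := exists_tau I γ (isLocalHom_fibSnd I γ hI)
    refine ⟨hH, hloc, τ, hτ, ?_⟩
    ext c
    obtain ⟨r, rfl⟩ := residue_surjective c
    rw [RingHom.comp_apply, ResidueField.map_residue, ResidueField.map_residue,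
      ← AlgHom.commutes (fibSnd I γ) r, hτ]
  constructor
  · intro h₁ h₂ h12
    obtain ⟨γ, hγ⟩ : ∃ γ, γ = (Ideal.Quotient.mkₐ R I).comp h₁ := ⟨_, rfl⟩
    have h12' : (Ideal.Quotient.mkₐ R I).comp h₂ = γ := by rw [hγ]; exact h12.symm
    obtain ⟨hH, hloc, τ, hτ, hcompat⟩ := setup γ
    obtain ⟨g, -, huniq⟩ := Hensel.IsStrictHenselization.universal (R := R) (S := S) (fib I γ)
      (algebraMap R (fib I γ)) τ hcompat
    have e1 : (fibLift I γ h₁ hγ.symm).toRingHom = g := huniq _
      ⟨RingHom.ext fun r => AlgHom.commutes (fibLift I γ h₁ hγ.symm) r,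
        fun x => (hτ (fibLift I γ h₁ hγ.symm x)).symm⟩
    have e2 : (fibLift I γ h₂ h12').toRingHom = g := huniq _
      ⟨RingHom.ext fun r => AlgHom.commutes (fibLift I γ h₂ h12') r,
        fun x => (hτ (fibLift I γ h₂ h12' x)).symm⟩
    ext s
    have := RingHom.congr_fun (e1.trans e2.symm) s
    have h3 := congrArg (fibFst I γ) this
    exact h3
  · intro γ
    obtain ⟨hH, hloc, τ, hτ, hcompat⟩ := setup γ
    obtain ⟨g, ⟨hg, hgres⟩, -⟩ := Hensel.IsStrictHenselization.universal (R := R) (S := S)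
      (fib I γ) (algebraMap R (fib I γ)) τ hcompat
    obtain ⟨g', -, huniq'⟩ := Hensel.IsStrictHenselization.universal (R := R) (S := S) S
      (algebraMap R S) (RingHom.id _) (RingHom.id_comp _)
    have e1 : ((fibSnd I γ).toRingHom.comp g) = g' := huniq' _ (by
      refine ⟨?_, fun x => ?_⟩
      · rw [RingHom.comp_assoc, hg]
        exact RingHom.ext fun r => AlgHom.commutes (fibSnd I γ) r
      · apply τ.injective
        have := hτ (g x)
        rw [hgres] at this
        exact this)
    have e2 : RingHom.id S = g' := huniq' _ ⟨RingHom.id_comp _, fun x => rfl⟩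
    have hsnd : ∀ s, fibSnd I γ (g s) = s := fun s => RingHom.congr_fun (e1.trans e2.symm) s
    refine ⟨{ toRingHom := (fibFst I γ).toRingHom.comp g, commutes' := fun r => ?_ }, ?_⟩
    · have := RingHom.congr_fun hg r
      simp only [RingHom.comp_apply] at this
      show fibFst I γ (g (algebraMap R S r)) = _
      rw [this, AlgHom.commutes]
    · ext s
      show Ideal.Quotient.mk I (fibFst I γ (g s)) = γ s
      rw [mk_fibFst, hsnd]

end Groth.Agent.H11.HensEt
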