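import Mathlib

/-! A Galois-theoretic criterion for a normal local domain to be henselian (helper11). -/

set_option autoImplicit false

namespace Groth.Agent.H11.HensGalois

open Polynomial IsLocalRing

section crit

variable (A : Type*) [CommRing A] [IsLocalRing A] [IsDomain A] [IsIntegrallyClosed A]
  (L : Type*) [Field L] [Algebra A L] [IsFractionRing A L]
  (E : Type*) [Field E] [Algebra L E] [Algebra A E] [IsScalarTower A L E] [IsGalois L E]
  [IsSepClosed E]

/-- the key case: `f` irreducible over the fraction field. -/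
theorem exists_root_of_irreducible (𝔐 : Set E)
    (h0 : (0 : E) ∈ 𝔐)
    (hadd : ∀ x y, x ∈ 𝔐 → y ∈ 𝔐 → x + y ∈ 𝔐)
    (hmul : ∀ x y, IsIntegral A x → y ∈ 𝔐 → x * y ∈ 𝔐)
    (hprime : ∀ x y, IsIntegral A x → IsIntegral A y → x * y ∈ 𝔐 → x ∈ 𝔐 ∨ y ∈ 𝔐)
    (hA : ∀ a : A, algebraMap A E a ∈ 𝔐 ↔ a ∈ maximalIdeal A)
    (hσ : ∀ (σ : E ≃ₐ[L] E) x, x ∈ 𝔐 → σ x ∈ 𝔐)
    (f : A[X]) (hf : f.Monic) (hirr : Irreducible (f.map (algebraMap A L)))
    (a₀ : A) (h1 : f.eval a₀ ∈ maximalIdeal A) (h2 : IsUnit (f.derivative.eval a₀)) :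
    ∃ a, f.IsRoot a ∧ a - a₀ ∈ maximalIdeal A := by
  classical
  have hinjL : Function.Injective (algebraMap A L) := IsFractionRing.injective A L
  have hinjE : Function.Injective (algebraMap A E) := by
    rw [IsScalarTower.algebraMap_eq A L E]
    exact (algebraMap L E).injective.comp hinjL
  -- separability
  have hsep : (f.map (algebraMap A L)).Separable := by
    rw [Polynomial.separable_iff_derivative_ne_zero hirr, derivative_map]
    intro h
    have h3 : derivative f = 0 := Polynomial.map_injective _ hinjL (by rw [h, Polynomial.map_zero])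
    rw [h3, eval_zero] at h2
    exact not_isUnit_zero h2
  set F : E[X] := f.map (algebraMap A E) with hF
  have hFL : F = (f.map (algebraMap A L)).map (algebraMap L E) := by
    rw [hF, Polynomial.map_map, ← IsScalarTower.algebraMap_eq]
  have hFsplit : F.Splits := by
    rw [hFL]; exact IsSepClosed.splits_codomain _ hsep
  have hFm : F.Monic := hf.map _
  set x₀ : E := algebraMap A E a₀ with hx₀
  have hx₀int : IsIntegral A x₀ := isIntegral_algebraMap
  have hrootint : ∀ α ∈ F.roots, IsIntegral A α := by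
    intro α hα
    refine ⟨f, hf, ?_⟩
    rw [← eval_map]
    exact (mem_roots hFm.ne_zero).1 hα
  have hsubint : ∀ α ∈ F.roots, IsIntegral A (x₀ - α) := fun α hα =>
    hx₀int.sub (hrootint α hα)
  have h1not : (1 : E) ∉ 𝔐 := by
    intro h
    have h3 : algebraMap A E 1 ∈ 𝔐 := by rwa [map_one]
    rw [hA] at h3
    exact (maximalIdeal.isMaximal A).ne_top ((Ideal.eq_top_iff_one _).2 h3)
  have hneg : ∀ y ∈ 𝔐, -y ∈ 𝔐 := by
    intro y hy
    have := hmul (-1) y (isIntegral_one.neg) hy
    rwa [neg_one_mul] at this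
  -- products
  have hprod : ∀ m : Multiset E, (∀ y ∈ m, IsIntegral A y) → m.prod ∈ 𝔐 → ∃ y ∈ m, y ∈ 𝔐 := by
    intro m
    induction m using Multiset.induction_on with
    | empty => intro _ h; rw [Multiset.prod_zero] at h; exact absurd h h1not
    | cons y m ih =>
      intro hint h
      rw [Multiset.prod_cons] at h
      have hy : IsIntegral A y := hint y (Multiset.mem_cons_self y m)
      have hm : IsIntegral A m.prod := by
        apply IsIntegral.multiset_prod
        intro z hz
        exact hint z (Multiset.mem_cons_of_mem hz)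
      rcases hprime y m.prod hy hm h with h | h
      · exact ⟨y, Multiset.mem_cons_self y m, h⟩
      · obtain ⟨z, hz, hz'⟩ := ih (fun z hz => hint z (Multiset.mem_cons_of_mem hz)) h
        exact ⟨z, Multiset.mem_cons_of_mem hz, hz'⟩
  have hprodmem : ∀ m : Multiset E, (∀ y ∈ m, IsIntegral A y) → (∃ y ∈ m, y ∈ 𝔐) →
      m.prod ∈ 𝔐 := by
    intro m hint ⟨y, hy, hy'⟩
    obtain ⟨m', rfl⟩ := Multiset.exists_cons_of_mem hy
    rw [Multiset.prod_cons, mul_comm]
    apply hmul _ _ _ hy'
    apply IsIntegral.multiset_prod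
    intro z hz
    exact hint z (Multiset.mem_cons_of_mem hz)
  have hsum : ∀ m : Multiset E, (∀ y ∈ m, y ∈ 𝔐) → m.sum ∈ 𝔐 := by
    intro m
    induction m using Multiset.induction_on with
    | empty => intro _; rw [Multiset.sum_zero]; exact h0
    | cons y m ih =>
      intro h
      rw [Multiset.sum_cons]
      exact hadd _ _ (h y (Multiset.mem_cons_self y m))
        (ih fun z hz => h z (Multiset.mem_cons_of_mem hz))
  -- a root congruent to `a₀`
  have hev : F.eval x₀ = algebraMap A E (f.eval a₀) := by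
    rw [hF, eval_map, hx₀, eval₂_at_apply]
  have hev' : F.derivative.eval x₀ = algebraMap A E (f.derivative.eval a₀) := by
    rw [hF, derivative_map, eval_map, hx₀, eval₂_at_apply]
  have h3 : (F.roots.map (x₀ - ·)).prod ∈ 𝔐 := by
    have := hFsplit.eval_eq_prod_roots x₀
    rw [hFm.leadingCoeff, one_mul] at this
    rw [← this, hev, hA]; exact h1
  obtain ⟨y, hy, hy𝔐⟩ := hprod _ (by
    intro y hy
    obtain ⟨α, hα, rfl⟩ := Multiset.mem_map.1 hy
    exact hsubint α hα) h3
  obtain ⟨α, hα, rfl⟩ := Multiset.mem_map.1 hy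
  -- uniqueness
  have huniq : ∀ β ∈ F.roots.erase α, x₀ - β ∉ 𝔐 := by
    intro β hβ hβ𝔐
    have h4 : F.derivative.eval x₀ ∈ 𝔐 := by
      rw [hFsplit.eval_derivative x₀, hFm.leadingCoeff, one_mul]
      apply hsum
      intro t ht
      obtain ⟨a, ha, rfl⟩ := Multiset.mem_map.1 ht
      apply hprodmem
      · intro z hz
        obtain ⟨b, hb, rfl⟩ := Multiset.mem_map.1 hz
        exact hsubint b (Multiset.mem_of_mem_erase hb)
      · by_cases haα : a = α
        · subst haα
          exact ⟨x₀ - β, Multiset.mem_map_of_mem _ hβ, hβ𝔐⟩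
        · exact ⟨x₀ - α, Multiset.mem_map_of_mem _
            ((Multiset.mem_erase_of_ne (Ne.symm haα)).2 hα), hy𝔐⟩
    rw [hev', hA] at h4
    exact (mem_nonunits_iff.1 ((mem_maximalIdeal _).1 h4)) h2
  -- Galois invariance
  have hfix : ∀ σ : E ≃ₐ[L] E, σ α = α := by
    intro σ
    by_contra hne
    have hσroot : σ α ∈ F.roots := by
      have hα0 : aeval α (f.map (algebraMap A L)) = 0 := by
        rw [aeval_def, ← eval_map, ← hFL]; exact (mem_roots hFm.ne_zero).1 hα
      rw [mem_roots hFm.ne_zero, IsRoot, hFL, eval_map, ← aeval_def]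
      have := aeval_algHom_apply (σ : E →ₐ[L] E) α (f.map (algebraMap A L))
      rw [hα0, map_zero] at this
      exact this
    have hσx₀ : σ x₀ = x₀ := by
      rw [hx₀, IsScalarTower.algebraMap_apply A L E, AlgEquiv.commutes]
    have h5 : x₀ - σ α ∈ 𝔐 := by
      have := hσ σ _ hy𝔐
      rwa [map_sub, hσx₀] at this
    exact huniq (σ α) ((Multiset.mem_erase_of_ne hne).2 hσroot) h5
  obtain ⟨l, hl⟩ := (InfiniteGalois.mem_range_algebraMap_iff_fixed α).2 hfix
  have hlint : IsIntegral A l := by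
    have := hrootint α hα
    rw [← hl] at this
    exact (isIntegral_algHom_iff (IsScalarTower.toAlgHom A L E) (algebraMap L E).injective).1 this
  obtain ⟨a, ha⟩ := IsIntegrallyClosed.isIntegral_iff.1 hlint
  have haα : algebraMap A E a = α := by
    rw [IsScalarTower.algebraMap_apply A L E, ha, hl]
  refine ⟨a, ?_, ?_⟩
  · apply hinjE
    rw [map_zero, ← eval₂_at_apply, ← eval_map, haα]
    exact (mem_roots hFm.ne_zero).1 hα
  · rw [← hA, map_sub, haα]
    have := hneg _ hy𝔐
    rwa [neg_sub] at this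


theorem henselian_of_galois_stable (𝔐 : Set E)
    (h0 : (0 : E) ∈ 𝔐)
    (hadd : ∀ x y, x ∈ 𝔐 → y ∈ 𝔐 → x + y ∈ 𝔐)
    (hmul : ∀ x y, IsIntegral A x → y ∈ 𝔐 → x * y ∈ 𝔐)
    (hprime : ∀ x y, IsIntegral A x → IsIntegral A y → x * y ∈ 𝔐 → x ∈ 𝔐 ∨ y ∈ 𝔐)
    (hA : ∀ a : A, algebraMap A E a ∈ 𝔐 ↔ a ∈ maximalIdeal A)
    (hσ : ∀ (σ : E ≃ₐ[L] E) x, x ∈ 𝔐 → σ x ∈ 𝔐) : HenselianLocalRing A := by
  constructor
  suffices H : ∀ n, ∀ f : A[X], f.natDegree = n → f.Monic → ∀ a₀ : A,
      f.eval a₀ ∈ maximalIdeal A → IsUnit (f.derivative.eval a₀) →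
      ∃ a, f.IsRoot a ∧ a - a₀ ∈ maximalIdeal A from
    fun f hf a₀ h1 h2 => H _ f rfl hf a₀ h1 h2
  intro n
  induction n using Nat.strong_induction_on with
  | _ n ih =>
  intro f hn hf a₀ h1 h2
  have hinjL : Function.Injective (algebraMap A L) := IsFractionRing.injective A L
  by_cases hirr : Irreducible (f.map (algebraMap A L))
  · exact exists_root_of_irreducible A L E 𝔐 h0 hadd hmul hprime hA hσ f hf hirr a₀ h1 h2
  · rw [(hf.map (algebraMap A L)).irreducible_iff_natDegree] at hirr
    push Not at hirr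
    by_cases hone : f.map (algebraMap A L) = 1
    · exfalso
      have h3 : f = 1 := Polynomial.map_injective _ hinjL (by rw [hone, Polynomial.map_one])
      rw [h3, eval_one] at h1
      exact (maximalIdeal.isMaximal A).ne_top ((Ideal.eq_top_iff_one _).2 h1)
    · obtain ⟨g, h, hg, hh, hgh, hg0, hh0⟩ := hirr hone
      obtain ⟨G, hG⟩ := IsIntegrallyClosed.eq_map_mul_C_of_dvd L hf (Dvd.intro _ hgh)
      obtain ⟨H, hH⟩ := IsIntegrallyClosed.eq_map_mul_C_of_dvd L hf (Dvd.intro_left _ hgh)
      rw [hg.leadingCoeff, C_1, mul_one] at hG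
      rw [hh.leadingCoeff, C_1, mul_one] at hH
      have hGm : G.Monic := monic_of_injective hinjL (by rw [hG]; exact hg)
      have hHm : H.Monic := monic_of_injective hinjL (by rw [hH]; exact hh)
      have hfGH : f = G * H := by
        apply Polynomial.map_injective _ hinjL
        rw [Polynomial.map_mul, hG, hH, hgh]
      have hGd : G.natDegree = g.natDegree := by rw [← hG, natDegree_map_eq_of_injective hinjL]
      have hHd : H.natDegree = h.natDegree := by rw [← hH, natDegree_map_eq_of_injective hinjL]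
      have hdeg : G.natDegree + H.natDegree = n := by
        rw [← hn, hfGH, hGm.natDegree_mul hHm]
      -- a general step
      have step : ∀ (P Q : A[X]), P.Monic → f = P * Q → P.natDegree < n →
          P.eval a₀ ∈ maximalIdeal A → ∃ a, f.IsRoot a ∧ a - a₀ ∈ maximalIdeal A := by
        intro P Q hP hPQ hdegP hPa
        have hder : IsUnit (P.derivative.eval a₀) := by
          by_contra hnu
          have h3 : P.derivative.eval a₀ ∈ maximalIdeal A := (mem_maximalIdeal _).2 hnu
          have h4 : f.derivative.eval a₀ ∈ maximalIdeal A := by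
            rw [hPQ, derivative_mul, eval_add, eval_mul, eval_mul]
            exact Ideal.add_mem _ (Ideal.mul_mem_right _ _ h3) (Ideal.mul_mem_right _ _ hPa)
          exact (mem_nonunits_iff.1 ((mem_maximalIdeal _).1 h4)) h2
        obtain ⟨a, ha, ha'⟩ := ih P.natDegree hdegP P rfl hP a₀ hPa hder
        refine ⟨a, ?_, ha'⟩
        rw [IsRoot, hPQ, eval_mul, ha, zero_mul]
      have hprod : G.eval a₀ * H.eval a₀ ∈ maximalIdeal A := by
        rw [← eval_mul, ← hfGH]; exact h1
      rcases (maximalIdeal.isMaximal A).isPrime.mem_or_mem hprod with hG0 | hH0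
      · exact step G H hGm hfGH (by omega) hG0
      · exact step H G hHm (by rw [hfGH, mul_comm]) (by omega) hH0

end crit

end Groth.Agent.H11.HensGalois
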