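import Mathlib
import Groth.Agent.H11.HensGalois

/-! Decomposition/inertia fields give henselian local rings (helper11). -/

set_option autoImplicit false
universe u

namespace Groth.Agent.H11.HensGalois2

open Polynomial IsLocalRing

section setup

variable (R : Type u) {K : Type u} (Ks : Type u) [CommRing R] [Field K] [Algebra R K]
  [Field Ks] [Algebra K Ks] [Algebra R Ks] [IsScalarTower R K Ks]
  (Ps : Ideal (integralClosure R Ks))

/-- image of `Ps` in `Ks` -/
def PsSet : Set Ks := {x | ∃ h : x ∈ integralClosure R Ks, (⟨x, h⟩ : integralClosure R Ks) ∈ Ps}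

variable {R Ks Ps}

lemma isIntegral_of_mem {x : Ks} (hx : x ∈ PsSet R Ks Ps) : IsIntegral R x := hx.1

lemma zero_mem : (0 : Ks) ∈ PsSet R Ks Ps := ⟨Subalgebra.zero_mem _, Ps.zero_mem⟩

lemma add_mem {x y : Ks} (hx : x ∈ PsSet R Ks Ps) (hy : y ∈ PsSet R Ks Ps) :
    x + y ∈ PsSet R Ks Ps := by
  obtain ⟨h1, h2⟩ := hx
  obtain ⟨h3, h4⟩ := hy
  exact ⟨Subalgebra.add_mem _ h1 h3, Ps.add_mem h2 h4⟩

lemma mul_mem {x y : Ks} (hx : IsIntegral R x) (hy : y ∈ PsSet R Ks Ps) :
    x * y ∈ PsSet R Ks Ps := by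
  obtain ⟨h3, h4⟩ := hy
  have hx' : x ∈ integralClosure R Ks := hx
  exact ⟨Subalgebra.mul_mem _ hx' h3, Ps.mul_mem_left ⟨x, hx'⟩ h4⟩

lemma one_notMem [Ps.IsPrime] : (1 : Ks) ∉ PsSet R Ks Ps := by
  rintro ⟨h1, h2⟩
  exact (inferInstance : Ps.IsPrime).ne_top ((Ideal.eq_top_iff_one _).2 h2)

lemma mem_or_mem [Ps.IsPrime] {x y : Ks} (hx : IsIntegral R x) (hy : IsIntegral R y)
    (hxy : x * y ∈ PsSet R Ks Ps) : x ∈ PsSet R Ks Ps ∨ y ∈ PsSet R Ks Ps := by
  obtain ⟨h1, h2⟩ := hxy
  have hx' : x ∈ integralClosure R Ks := hx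
  have hy' : y ∈ integralClosure R Ks := hy
  have h3 : (⟨x, hx'⟩ : integralClosure R Ks) * ⟨y, hy'⟩ ∈ Ps := h2
  rcases (inferInstance : Ps.IsPrime).mem_or_mem h3 with h | h
  · exact Or.inl ⟨hx', h⟩
  · exact Or.inr ⟨hy', h⟩

lemma exists_inv [Ps.IsMaximal] {x : Ks} (hx : IsIntegral R x) (hxn : x ∉ PsSet R Ks Ps) :
    ∃ z w : Ks, IsIntegral R z ∧ w ∈ PsSet R Ks Ps ∧ x * z + w = 1 := by
  have hx' : x ∈ integralClosure R Ks := hx
  have h1 : (⟨x, hx'⟩ : integralClosure R Ks) ∉ Ps := fun h => hxn ⟨hx', h⟩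
  obtain ⟨z, w, hw, hzw⟩ := Ideal.IsMaximal.exists_inv (inferInstance : Ps.IsMaximal) h1
  refine ⟨z.1, w.1, z.2, ⟨w.2, hw⟩, ?_⟩
  have := congrArg Subtype.val hzw
  simpa [mul_comm] using this

variable (R Ks Ps)

/-- the stabilizer of `Ps`. -/
def stab : Subgroup (Ks ≃ₐ[K] Ks) where
  carrier := {σ | ∀ x, σ x ∈ PsSet R Ks Ps ↔ x ∈ PsSet R Ks Ps}
  one_mem' := fun x => Iff.rfl
  mul_mem' := fun {a b} ha hb x => by rw [AlgEquiv.mul_apply, ha, hb]
  inv_mem' := fun {a} ha x => by
    have := ha (a⁻¹ x)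
    rw [← this]
    have h1 : a (a⁻¹ x) = x := a.apply_symm_apply x
    rw [h1]

variable {R Ks Ps}

lemma isIntegral_apply_iff (σ : Ks ≃ₐ[K] Ks) (x : Ks) : IsIntegral R (σ x) ↔ IsIntegral R x := by
  have h := isIntegral_algHom_iff ((σ : Ks →ₐ[K] Ks).restrictScalars R) (x := x)
    σ.injective
  exact h

lemma mem_stab_of_forall [Ps.IsMaximal] (σ : Ks ≃ₐ[K] Ks)
    (h : ∀ x ∈ PsSet R Ks Ps, σ x ∈ PsSet R Ks Ps) : σ ∈ stab R Ks Ps := by
  intro x
  refine ⟨fun hσx => ?_, h x⟩
  by_contra hx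
  have hxint : IsIntegral R x := (isIntegral_apply_iff σ x).1 (isIntegral_of_mem hσx)
  obtain ⟨z, w, hz, hw, hzw⟩ := exists_inv hxint hx
  have h1 := congrArg σ hzw
  rw [map_add, map_mul, map_one] at h1
  have h2 : σ x * σ z ∈ PsSet R Ks Ps := by
    rw [mul_comm]; exact mul_mem ((isIntegral_apply_iff σ z).2 hz) hσx
  have h3 := add_mem h2 (h w hw)
  rw [h1] at h3
  exact one_notMem h3

lemma isClosed_stab [Algebra.IsIntegral K Ks] :
    IsClosed ((stab R Ks Ps : Subgroup (Ks ≃ₐ[K] Ks)) : Set (Ks ≃ₐ[K] Ks)) := by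
  rw [← isOpen_compl_iff, isOpen_iff_forall_mem_open]
  intro σ₀ hσ₀
  have hσ₀' : ¬ ∀ x, σ₀ x ∈ PsSet R Ks Ps ↔ x ∈ PsSet R Ks Ps := hσ₀
  push Not at hσ₀'
  obtain ⟨x, hx⟩ := hσ₀'
  refine ⟨(fun τ => σ₀⁻¹ * τ) ⁻¹' (MulAction.stabilizer (Ks ≃ₐ[K] Ks) x : Set _), ?_,
    (continuous_const_mul σ₀⁻¹).isOpen_preimage _ (stabilizer_isOpen_of_isIntegral x), ?_⟩
  · intro τ hτ hτT
    have h1 : (σ₀⁻¹ * τ) • x = x := hτ
    have h2 : τ x = σ₀ x := by
      have := congrArg σ₀ h1
      rw [AlgEquiv.smul_def, AlgEquiv.mul_apply] at this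
      rw [← this]
      exact (σ₀.apply_symm_apply (τ x)).symm
    have h3 := hτT x
    rw [h2] at h3
    tauto
  · show (σ₀⁻¹ * σ₀) • x = x
    rw [inv_mul_cancel, one_smul]

end setup



section abstract

variable (B : Type*) [CommRing B] [IsDomain B] [IsIntegrallyClosed B]
  (L : Type*) [Field L] [Algebra B L] [IsFractionRing B L]
  (E : Type*) [Field E] [Algebra L E] [Algebra B E] [IsScalarTower B L E] [IsGalois L E]
  [IsSepClosed E]

theorem henselian_atPrime (P' : Set E)
    (h0 : (0 : E) ∈ P')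
    (hadd : ∀ x y, x ∈ P' → y ∈ P' → x + y ∈ P')
    (hmul : ∀ x y, IsIntegral B x → y ∈ P' → x * y ∈ P')
    (hprime : ∀ x y, IsIntegral B x → IsIntegral B y → x * y ∈ P' → x ∈ P' ∨ y ∈ P')
    (hσ : ∀ (σ : E ≃ₐ[L] E) x, x ∈ P' → σ x ∈ P')
    (Q : Ideal B) [Q.IsPrime] (hQ : ∀ y : B, y ∈ Q ↔ algebraMap B E y ∈ P') :
    HenselianLocalRing (Localization.AtPrime Q) := by
  have hQle : Q.primeCompl ≤ nonZeroDivisors B := Ideal.primeCompl_le_nonZeroDivisors Q
  haveI : IsDomain (Localization.AtPrime Q) := IsLocalization.isDomain_localization hQle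
  haveI : IsIntegrallyClosed (Localization.AtPrime Q) :=
    isIntegrallyClosed_of_isLocalization (Localization.AtPrime Q) Q.primeCompl hQle
  have hunits : ∀ y : Q.primeCompl, IsUnit (algebraMap B L y) := by
    intro y
    rw [isUnit_iff_ne_zero, Ne, map_eq_zero_iff _ (IsFractionRing.injective B L)]
    intro h
    exact y.2 (h ▸ Q.zero_mem)
  letI : Algebra (Localization.AtPrime Q) L :=
    (IsLocalization.lift (M := Q.primeCompl) (g := algebraMap B L) hunits).toAlgebra
  haveI : IsScalarTower B (Localization.AtPrime Q) L :=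
    IsScalarTower.of_algebraMap_eq (fun x => (IsLocalization.lift_eq hunits x).symm)
  haveI : IsFractionRing (Localization.AtPrime Q) L :=
    IsFractionRing.isFractionRing_of_isDomain_of_isLocalization Q.primeCompl
      (Localization.AtPrime Q) L
  letI : Algebra (Localization.AtPrime Q) E :=
    ((algebraMap L E).comp (algebraMap (Localization.AtPrime Q) L)).toAlgebra
  haveI : IsScalarTower (Localization.AtPrime Q) L E :=
    IsScalarTower.of_algebraMap_eq (fun _ => rfl)
  haveI : IsScalarTower B (Localization.AtPrime Q) E :=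
    IsScalarTower.of_algebraMap_eq (fun x => by
      rw [IsScalarTower.algebraMap_apply B L E, IsScalarTower.algebraMap_apply B
        (Localization.AtPrime Q) L]
      rfl)
  -- multiples of integral elements
  have hmult : ∀ x : E, IsIntegral (Localization.AtPrime Q) x →
      ∃ t : B, t ∉ Q ∧ IsIntegral B (algebraMap B E t * x) := by
    intro x hx
    obtain ⟨m, hm⟩ := IsIntegral.exists_multiple_integral_of_isLocalization Q.primeCompl x hx
    refine ⟨m.1, m.2, ?_⟩
    rw [← Algebra.smul_def]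
    exact hm
  have h1not : (1 : E) ∉ P' := by
    intro h
    have h3 : algebraMap B E 1 ∈ P' := by rwa [map_one]
    rw [← hQ] at h3
    exact (inferInstance : Q.IsPrime).ne_top ((Ideal.eq_top_iff_one _).2 h3)
  have hBint : ∀ b : B, IsIntegral B (algebraMap B E b) := fun b => isIntegral_algebraMap
  refine HensGalois.henselian_of_galois_stable (Localization.AtPrime Q) L E
    {x : E | ∃ s : B, s ∉ Q ∧ algebraMap B E s * x ∈ P'} ?_ ?_ ?_ ?_ ?_ ?_
  · exact ⟨1, fun h => (inferInstance : Q.IsPrime).ne_top ((Ideal.eq_top_iff_one _).2 h),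
      by rw [mul_zero]; exact h0⟩
  · rintro x y ⟨s, hs, hsx⟩ ⟨t, ht, hty⟩
    refine ⟨s * t, fun h => ((inferInstance : Q.IsPrime).mem_or_mem h).elim hs ht, ?_⟩
    have : algebraMap B E (s * t) * (x + y) =
        algebraMap B E t * (algebraMap B E s * x) + algebraMap B E s * (algebraMap B E t * y) := by
      rw [map_mul]; ring
    rw [this]
    exact hadd _ _ (hmul _ _ (hBint t) hsx) (hmul _ _ (hBint s) hty)
  · rintro x y hx ⟨s, hs, hsy⟩
    obtain ⟨t, ht, htx⟩ := hmult x hx
    refine ⟨t * s, fun h => ((inferInstance : Q.IsPrime).mem_or_mem h).elim ht hs, ?_⟩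
    have : algebraMap B E (t * s) * (x * y) =
        (algebraMap B E t * x) * (algebraMap B E s * y) := by
      rw [map_mul]; ring
    rw [this]
    exact hmul _ _ htx hsy
  · rintro x y hx hy ⟨s, hs, hsxy⟩
    obtain ⟨t, ht, htx⟩ := hmult x hx
    obtain ⟨t', ht', hty⟩ := hmult y hy
    have h3 : (algebraMap B E t * x) * ((algebraMap B E t' * y) * algebraMap B E s) ∈ P' := by
      have : (algebraMap B E t * x) * ((algebraMap B E t' * y) * algebraMap B E s) =
          (algebraMap B E t * algebraMap B E t') * (algebraMap B E s * (x * y)) := by ring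
      rw [this]
      exact hmul _ _ ((hBint t).mul (hBint t')) hsxy
    rcases hprime _ _ htx (hty.mul (hBint s)) h3 with h | h
    · exact Or.inl ⟨t, ht, h⟩
    · rcases hprime _ _ hty (hBint s) h with h | h
      · exact Or.inr ⟨t', ht', h⟩
      · exact absurd ((hQ s).2 h) hs
  · intro a
    obtain ⟨⟨r, t⟩, hrt⟩ := IsLocalization.surj Q.primeCompl a
    have hrt' : algebraMap B E t.1 * algebraMap (Localization.AtPrime Q) E a = algebraMap B E r := by
      have := congrArg (algebraMap (Localization.AtPrime Q) E) hrt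
      rw [map_mul, ← IsScalarTower.algebraMap_apply B (Localization.AtPrime Q) E,
        ← IsScalarTower.algebraMap_apply B (Localization.AtPrime Q) E] at this
      rw [mul_comm]; exact this
    have hmem : a ∈ maximalIdeal (Localization.AtPrime Q) ↔ r ∈ Q := by
      rw [← IsLocalization.AtPrime.to_map_mem_maximal_iff (Localization.AtPrime Q) Q r, ← hrt]
      constructor
      · intro h; exact Ideal.mul_mem_right _ _ h
      · intro h
        rcases (maximalIdeal.isMaximal _).isPrime.mem_or_mem h with h | h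
        · exact h
        · exact absurd ((IsLocalization.AtPrime.to_map_mem_maximal_iff _ Q t.1).1 h) t.2
    rw [hmem]
    constructor
    · rintro ⟨s, hs, hsa⟩
      have h3 : algebraMap B E (s * r) ∈ P' := by
        have : algebraMap B E (s * r) =
            algebraMap B E t.1 * (algebraMap B E s * algebraMap (Localization.AtPrime Q) E a) := by
          rw [map_mul, ← hrt']; ring
        rw [this]
        exact hmul _ _ (hBint _) hsa
      rw [← hQ] at h3
      exact ((inferInstance : Q.IsPrime).mem_or_mem h3).resolve_left hs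
    · intro hr
      exact ⟨t.1, t.2, by rw [hrt', ← hQ]; exact hr⟩
  · rintro σ x ⟨s, hs, hsx⟩
    refine ⟨s, hs, ?_⟩
    have := hσ σ _ hsx
    rw [map_mul, IsScalarTower.algebraMap_apply B L E, AlgEquiv.commutes,
      ← IsScalarTower.algebraMap_apply B L E] at this
    exact this

end abstract

section main

variable (R K Ks : Type u) [CommRing R] [IsDomain R] [Field K] [Algebra R K] [IsFractionRing R K]
  [Field Ks] [Algebra K Ks] [IsSepClosure K Ks] [Algebra R Ks] [IsScalarTower R K Ks]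
  (Ps : Ideal (integralClosure R Ks)) [Ps.IsMaximal]

theorem fixing_le_stab (S : Set (Ks ≃ₐ[K] Ks))
    (hS : ∀ σ ∈ S, ∀ x ∈ PsSet R Ks Ps, σ x ∈ PsSet R Ks Ps)
    (L : IntermediateField K Ks) (hL : L = IntermediateField.fixedField (Subgroup.closure S)) :
    L.fixingSubgroup ≤ stab R Ks Ps := by
  haveI : Algebra.IsSeparable K Ks := IsSepClosure.separable
  haveI : IsGalois K Ks := IsSepClosure.isGalois
  have h1 : Subgroup.closure S ≤ stab R Ks Ps :=
    (Subgroup.closure_le _).2 fun σ hσ => mem_stab_of_forall σ (hS σ hσ)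
  have h2 : IntermediateField.fixedField (stab R Ks Ps) ≤ L := by
    rw [hL]; exact IntermediateField.fixedField_antitone h1
  have h3 := IntermediateField.fixingSubgroup_antitone h2
  have h4 := InfiniteGalois.fixingSubgroup_fixedField (k := K) (K := Ks)
    ⟨stab R Ks Ps, isClosed_stab⟩
  exact h3.trans (le_of_eq h4)


theorem henselian_localization (S : Set (Ks ≃ₐ[K] Ks))
    (hS : ∀ σ ∈ S, ∀ x ∈ PsSet R Ks Ps, σ x ∈ PsSet R Ks Ps)
    (L : IntermediateField K Ks) (hL : L = IntermediateField.fixedField (Subgroup.closure S))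
    (Q : Ideal (integralClosure R L)) [Q.IsPrime]
    (hQ : ∀ y : integralClosure R L, y ∈ Q ↔ ((y : L) : Ks) ∈ PsSet R Ks Ps) :
    HenselianLocalRing (Localization.AtPrime Q) := by
  haveI : Algebra.IsSeparable K Ks := IsSepClosure.separable
  haveI : IsGalois K Ks := IsSepClosure.isGalois
  haveI : IsSepClosed Ks := IsSepClosure.sep_closed K
  have hstab := fixing_le_stab R K Ks Ps S hS L hL
  haveI : Algebra.IsAlgebraic K L := inferInstance
  haveI : Algebra.IsAlgebraic R L :=
    (IsFractionRing.comap_isAlgebraic_iff (A := R) (K := K) (C := L)).2 inferInstance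
  have hinjRL : Function.Injective (algebraMap R L) := by
    rw [IsScalarTower.algebraMap_eq R K L]
    exact (algebraMap K L).injective.comp (IsFractionRing.injective R K)
  haveI : IsFractionRing (integralClosure R L) L :=
    integralClosure.isFractionRing_of_algebraic (A := R) (L := L)
      (fun x hx => hinjRL (by rw [hx, map_zero]))
  haveI : IsIntegrallyClosed (integralClosure R L) :=
    (IsIntegrallyClosed.integralClosure_eq_bot_iff L).mp integralClosure_idem
  haveI : IsGalois L Ks := inferInstance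
  haveI : IsScalarTower (integralClosure R L) L Ks := IsScalarTower.of_algebraMap_eq (fun _ => rfl)
  haveI : IsScalarTower R L Ks := IsScalarTower.of_algebraMap_eq (fun r => by
    rw [IsScalarTower.algebraMap_apply R K Ks, IsScalarTower.algebraMap_apply R K L]; rfl)
  haveI : IsScalarTower R (integralClosure R L) Ks := IsScalarTower.of_algebraMap_eq (fun r => by
    rw [IsScalarTower.algebraMap_apply R L Ks]; rfl)
  have hint : ∀ x : Ks, IsIntegral (integralClosure R L) x → IsIntegral R x :=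
    fun x hx => isIntegral_trans x hx
  refine henselian_atPrime (integralClosure R L) L Ks (PsSet R Ks Ps) zero_mem
    (fun x y => add_mem) (fun x y hx hy => mul_mem (hint x hx) hy)
    (fun x y hx hy h => mem_or_mem (hint x hx) (hint y hy) h) ?_ Q hQ
  intro σ x hx
  have h1 : (σ.restrictScalars K) ∈ L.fixingSubgroup := by
    rw [IntermediateField.mem_fixingSubgroup_iff]
    intro y hy
    exact σ.commutes ⟨y, hy⟩
  exact (hstab h1 x).2 hx

end main

end Groth.Agent.H11.HensGalois2
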