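import Mathlib
import Groth.Agent.H11.HensDecomp

open Polynomial IsLocalRing TensorProduct

universe u

namespace Groth.Agent.H11.HensEt

theorem finite_algebra_pi_local (R : Type u) [CommRing R]
    [HenselianLocalRing R] (S : Type u) [CommRing S] [Algebra R S] [Module.Finite R S] :
    ∃ (ι : Type u) (_ : Fintype ι) (A : ι → Type u) (_ : ∀ i, CommRing (A i)),
      (∀ i, IsLocalRing (A i)) ∧ Nonempty (S ≃+* (∀ i, A i)) := by
  classical
  obtain ⟨n, q, ε, hqprime, hqlies, hε, hεq, hεuniq⟩ := exists_local_decomposition R S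
  obtain ⟨ε', hε'⟩ : ∃ ε' : ULift.{u} (Fin n) → S, ε' = ε ∘ Equiv.ulift := ⟨_, rfl⟩
  have hcoi : CompleteOrthogonalIdempotents ε' := by
    rw [hε']; exact (CompleteOrthogonalIdempotents.equiv Equiv.ulift).2 hε
  refine ⟨ULift.{u} (Fin n), inferInstance,
    fun i => S ⧸ Ideal.span ({1 - ε' i} : Set S), fun i => inferInstance, ?_, ?_⟩
  · intro i
    haveI : Algebra.IsIntegral R S := inferInstance
    haveI := hqprime i.down
    have hεi : ε' i = ε i.down := by rw [hε']; rfl
    exact (isLocalRing_quot_of_unique (R := R) (ε' i) (q i.down)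
      (hεi ▸ hεq _) (hεi ▸ hε.idem _) (hεi ▸ hεuniq _)).1
  · exact ⟨RingEquiv.ofBijective _ hcoi.bijective_pi⟩

end Groth.Agent.H11.HensEt
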