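import Mathlib
import Groth.Agent.H11.HensGabber

/-! Sums of Henselian ideals; products (helper11). -/

namespace Groth.Agent.H11

open Polynomial

variable {A : Type*} [CommRing A]

theorem hens_bot : HenselianRing A (⊥ : Ideal A) := by
  refine ⟨bot_le, ?_⟩
  intro f _ a₀ h₁ _
  refine ⟨a₀, ?_, by simp⟩
  rw [IsRoot.def]
  exact (Ideal.mem_bot).1 h₁

theorem hens_sup {I J : Ideal A} (hI : HenselianRing A I) (hJ : HenselianRing A J) :
    HenselianRing A (I ⊔ J) := by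
  apply hens_of_hens_quot (le_sup_left : I ≤ I ⊔ J) hI
  have : Ideal.map (Ideal.Quotient.mk I) (I ⊔ J) = Ideal.map (Ideal.Quotient.mk I) J := by
    rw [Ideal.map_sup, Ideal.map_quotient_self, bot_sup_eq]
  rw [this]
  exact hens_map_of_surjective _ Ideal.Quotient.mk_surjective J hJ

theorem hens_finset_sup (s : Finset (Ideal A)) (hs : ∀ J ∈ s, HenselianRing A J) :
    HenselianRing A (⨆ J ∈ s, J) := by
  classical
  induction s using Finset.induction_on with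
  | empty => simpa using (hens_bot : HenselianRing A (⊥ : Ideal A))
  | insert a s _ ih =>
    rw [Finset.iSup_insert]
    exact hens_sup (hs a (Finset.mem_insert_self a s))
      (ih fun J hJ => hs J (Finset.mem_insert_of_mem hJ))

theorem hens_sSup (S : Set (Ideal A)) (hS : ∀ J ∈ S, HenselianRing A J) :
    HenselianRing A (sSup S) := by
  classical
  have hfin : ∀ x ∈ sSup S, ∃ s : Finset (Ideal A), (↑s ⊆ S) ∧ x ∈ ⨆ J ∈ s, J := by
    intro x hx
    exact (Submodule.mem_sSup_iff_exists_finset).1 hx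
  have hle : ∀ s : Finset (Ideal A), (↑s ⊆ S) → (⨆ J ∈ s, J) ≤ sSup S := by
    intro s hs
    exact iSup₂_le fun J hJ => le_sSup (hs hJ)
  refine ⟨?_, ?_⟩
  · intro x hx
    obtain ⟨s, hs, hxs⟩ := hfin x hx
    exact (hens_finset_sup s fun J hJ => hS J (hs hJ)).jac hxs
  · intro f hf a₀ h₁ h₂
    rw [isUnit_mk_iff] at h₂
    obtain ⟨b, hb⟩ := h₂
    obtain ⟨s₁, hs₁, hx₁⟩ := hfin _ h₁
    obtain ⟨s₂, hs₂, hx₂⟩ := hfin _ hb
    have hs : (↑(s₁ ∪ s₂) : Set (Ideal A)) ⊆ S := by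
      intro J hJ
      rcases Finset.mem_union.1 (Finset.mem_coe.1 hJ) with h | h
      · exact hs₁ h
      · exact hs₂ h
    have hK := hens_finset_sup (s₁ ∪ s₂) fun J hJ => hS J (hs hJ)
    have hmono₁ : (⨆ J ∈ s₁, J) ≤ ⨆ J ∈ s₁ ∪ s₂, J :=
      iSup₂_le fun J hJ => le_iSup₂_of_le J (Finset.mem_union_left _ hJ) le_rfl
    have hmono₂ : (⨆ J ∈ s₂, J) ≤ ⨆ J ∈ s₁ ∪ s₂, J :=
      iSup₂_le fun J hJ => le_iSup₂_of_le J (Finset.mem_union_right _ hJ) le_rfl
    obtain ⟨a, ha, haa⟩ := hK.is_henselian f hf a₀ (hmono₁ hx₁)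
      ((isUnit_mk_iff _ _).2 ⟨b, hmono₂ hx₂⟩)
    exact ⟨a, ha, hle _ hs haa⟩

end Groth.Agent.H11
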