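import Mathlib
import Groth.Prelude.Def_Hensel
import Groth.Agent.H11.HensSup
import Groth.Agent.S0527
import Groth.Agent.S13598

/-! Henselization via universal property: quotients (helper11). -/

namespace Groth.Agent.H11

universe u

/-- The henselization of a henselian local ring is the ring itself. -/
theorem algebraMap_bijective_of_henselian (R S : Type u) [CommRing R] [HenselianLocalRing R]
    [CommRing S] [IsLocalRing S] [Algebra R S] [IsLocalHom (algebraMap R S)]
    [Hensel.IsHenselization R S] : Function.Bijective (algebraMap R S) := by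
  obtain ⟨g, hg, -⟩ := Hensel.IsHenselization.universal (R := R) (S := S) R (RingHom.id R)
    (isLocalHom_id R)
  have hS : HenselianLocalRing S := Hensel.IsHenselization.henselian (R := R)
  obtain ⟨g', -, huniq⟩ := Hensel.IsHenselization.universal (R := R) (S := S) S (algebraMap R S)
    inferInstance
  have h1 : (algebraMap R S).comp g = g' :=
    huniq _ (by show ((algebraMap R S).comp g).comp (algebraMap R S) = algebraMap R S
                rw [RingHom.comp_assoc, hg, RingHom.comp_id])
  have h2 : RingHom.id S = g' :=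
    huniq _ (by show (RingHom.id S).comp (algebraMap R S) = algebraMap R S
                rw [RingHom.id_comp])
  have h3 : (algebraMap R S).comp g = RingHom.id S := h1.trans h2.symm
  refine ⟨?_, ?_⟩
  · intro x y hxy
    have := congrArg g hxy
    have e : ∀ z, g (algebraMap R S z) = z := fun z => RingHom.congr_fun hg z
    rwa [e, e] at this
  · intro s
    exact ⟨g s, RingHom.congr_fun h3 s⟩

variable (R : Type u) [CommRing R] [IsLocalRing R] (S : Type u) [CommRing S] [IsLocalRing S]
  [Algebra R S] [IsLocalHom (algebraMap R S)]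

theorem map_le_maximalIdeal (I : Ideal R) (hI : I ≤ IsLocalRing.maximalIdeal R) :
    I.map (algebraMap R S) ≤ IsLocalRing.maximalIdeal S :=
  le_trans (Ideal.map_mono hI) (IsLocalRing.map_maximalIdeal_le (algebraMap R S))

theorem isLocalRing_quot (I : Ideal R) (hI : I ≤ IsLocalRing.maximalIdeal R) :
    IsLocalRing (R ⧸ I) := by
  have : Nontrivial (R ⧸ I) := by
    rw [Ideal.Quotient.nontrivial_iff]
    rintro rfl
    exact (IsLocalRing.maximalIdeal.isMaximal R).ne_top (top_le_iff.1 hI)
  exact IsLocalRing.of_surjective' (Ideal.Quotient.mk I) Ideal.Quotient.mk_surjective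

theorem isLocalHom_quot (I : Ideal R) (hI : I ≤ IsLocalRing.maximalIdeal R) :
    IsLocalHom (algebraMap (R ⧸ I) (S ⧸ I.map (algebraMap R S))) := by
  constructor
  intro x hx
  obtain ⟨x, rfl⟩ := Ideal.Quotient.mk_surjective x
  rw [Ideal.Quotient.algebraMap_quotient_map_quotient] at hx
  have hK : I.map (algebraMap R S) ≤ Ideal.jacobson ⊥ := by
    rw [IsLocalRing.jacobson_eq_maximalIdeal ⊥ bot_ne_top]
    exact map_le_maximalIdeal R S I hI
  have h1 : IsUnit (algebraMap R S x) := isUnit_of_isUnit_mk _ hK _ hx
  have h2 : IsUnit x := IsUnit.of_map (algebraMap R S) x h1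
  exact h2.map _

theorem henselianLocalRing_of_hens (T : Type u) [CommRing T] [IsLocalRing T]
    (h : HenselianRing T (IsLocalRing.maximalIdeal T)) : HenselianLocalRing T := by
  refine { is_henselian := ?_ }
  intro f hf a₀ h₁ h₂
  exact h.is_henselian f hf a₀ h₁ (h₂.map _)

/-- If `R/I` is already henselian then `R/I → S/IS` is bijective. -/
theorem quot_bijective [Hensel.IsHenselization R S] (I : Ideal R)
    (hI : I ≤ IsLocalRing.maximalIdeal R)
    (hH : ∀ [IsLocalRing (R ⧸ I)], HenselianRing (R ⧸ I) (IsLocalRing.maximalIdeal (R ⧸ I))) :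
    Function.Bijective (algebraMap (R ⧸ I) (S ⧸ I.map (algebraMap R S))) := by
  have i1 : IsLocalRing (R ⧸ I) := isLocalRing_quot R I hI
  have i2 : IsLocalRing (S ⧸ I.map (algebraMap R S)) :=
    isLocalRing_quot S _ (map_le_maximalIdeal R S I hI)
  have i3 := isLocalHom_quot R S I hI
  have i4 : Hensel.IsHenselization (R ⧸ I) (S ⧸ I.map (algebraMap R S)) :=
    Groth.Agent.S13598.result I hI
  have i5 : HenselianLocalRing (R ⧸ I) := henselianLocalRing_of_hens _ hH
  exact algebraMap_bijective_of_henselian (R ⧸ I) (S ⧸ I.map (algebraMap R S))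

theorem hens_quot_maximalIdeal_pow (n : ℕ) [IsLocalRing (R ⧸ IsLocalRing.maximalIdeal R ^ n)] :
    HenselianRing (R ⧸ IsLocalRing.maximalIdeal R ^ n)
      (IsLocalRing.maximalIdeal (R ⧸ IsLocalRing.maximalIdeal R ^ n)) := by
  apply Groth.Agent.S0527.result
  intro x hx
  obtain ⟨x, rfl⟩ := Ideal.Quotient.mk_surjective x
  have hx' : x ∈ IsLocalRing.maximalIdeal R := by
    rw [IsLocalRing.mem_maximalIdeal, mem_nonunits_iff] at hx ⊢
    intro hu
    exact hx (hu.map _)
  refine ⟨n, ?_⟩
  rw [← map_pow, Ideal.Quotient.eq_zero_iff_mem]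
  exact Ideal.pow_mem_pow hx' n

end Groth.Agent.H11
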