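import Mathlib
import Groth.Agent.H11.Henselization

/-! Henselization: maximal ideal and residue field (helper11). -/

namespace Groth.Agent.H11

universe u

variable (R : Type u) [CommRing R] [IsLocalRing R] (S : Type u) [CommRing S] [IsLocalRing S]
  [Algebra R S] [IsLocalHom (algebraMap R S)] [Hensel.IsHenselization R S]

theorem residue_quot_bijective :
    Function.Bijective (algebraMap (R ⧸ IsLocalRing.maximalIdeal R)
      (S ⧸ (IsLocalRing.maximalIdeal R).map (algebraMap R S))) := by
  apply quot_bijective R S _ le_rfl
  intro _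
  letI : Field (R ⧸ IsLocalRing.maximalIdeal R) := Ideal.Quotient.field _
  have : HenselianLocalRing (R ⧸ IsLocalRing.maximalIdeal R) := Field.henselian _
  infer_instance

theorem map_maximalIdeal_eq :
    Ideal.map (algebraMap R S) (IsLocalRing.maximalIdeal R) = IsLocalRing.maximalIdeal S := by
  have hb := residue_quot_bijective R S
  have hfield : IsField (S ⧸ (IsLocalRing.maximalIdeal R).map (algebraMap R S)) := by
    have e := RingEquiv.ofBijective _ hb
    letI : Field (R ⧸ IsLocalRing.maximalIdeal R) := Ideal.Quotient.field _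
    exact MulEquiv.isField (Field.toIsField (R ⧸ IsLocalRing.maximalIdeal R)) e.symm.toMulEquiv
  exact IsLocalRing.eq_maximalIdeal (Ideal.Quotient.maximal_of_isField _ hfield)

theorem residueField_map_bijective :
    Function.Bijective (IsLocalRing.ResidueField.map (algebraMap R S)) := by
  refine ⟨RingHom.injective _, ?_⟩
  intro y
  obtain ⟨s, rfl⟩ := IsLocalRing.residue_surjective y
  obtain ⟨x, hx⟩ := (residue_quot_bijective R S).2 (Ideal.Quotient.mk _ s)
  obtain ⟨r, rfl⟩ := Ideal.Quotient.mk_surjective x
  rw [Ideal.Quotient.algebraMap_quotient_map_quotient, Ideal.Quotient.eq,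
    map_maximalIdeal_eq R S] at hx
  refine ⟨IsLocalRing.residue R r, ?_⟩
  rw [IsLocalRing.ResidueField.map_residue]
  exact (Ideal.Quotient.eq).2 hx

end Groth.Agent.H11
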