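import Mathlib
import Groth.Agent.S5035
import Groth.Agent.H11.Henselization2
import Groth.Agent.H11.HensFinite

/-! Henselization of a quasi-finite local algebra (helper11). -/

namespace Groth.Agent.H11.HensQF

universe u

open TensorProduct IsLocalRing

/-- If the henselization map `A → Ah` factors as `A → B → Ah` with `B` henselian local and `A → B`
local, then `B → Ah` is surjective (it has a section). -/
theorem surjective_of_retract (A Ah : Type u) [CommRing A] [IsLocalRing A] [CommRing Ah]
    [IsLocalRing Ah] [Algebra A Ah] [IsLocalHom (algebraMap A Ah)] [Hensel.IsHenselization A Ah]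
    (B : Type u) [CommRing B] [HenselianLocalRing B] (γ : A →+* B) (hγ : IsLocalHom γ)
    (φ : B →+* Ah) (h : φ.comp γ = algebraMap A Ah) : Function.Surjective φ := by
  obtain ⟨ψ, hψ, -⟩ := Hensel.IsHenselization.universal (R := A) (S := Ah) B γ hγ
  haveI : HenselianLocalRing Ah := Hensel.IsHenselization.henselian (R := A)
  obtain ⟨g, -, hguniq⟩ := Hensel.IsHenselization.universal (R := A) (S := Ah) Ah
    (algebraMap A Ah) inferInstance
  have h1 : φ.comp ψ = g := hguniq _ (by
    show (φ.comp ψ).comp (algebraMap A Ah) = algebraMap A Ah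
    rw [RingHom.comp_assoc, hψ, h])
  have h2 : RingHom.id Ah = g := hguniq _ (by
    show (RingHom.id Ah).comp (algebraMap A Ah) = algebraMap A Ah
    rw [RingHom.id_comp])
  intro y
  refine ⟨ψ y, ?_⟩
  have := congrArg (fun f => f y) (h1.trans h2.symm)
  simpa using this

/-- Base change of a quasi-finite-at-`q` algebra to a henselian local ring: the local ring at a
prime over the closed point and over `q` is finite. -/
theorem finite_localization (R S : Type u) [CommRing R] [CommRing S] [Algebra R S]
    [Algebra.FiniteType R S] (q : Ideal S) [q.IsPrime] [Algebra.QuasiFiniteAt R q]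
    (Rh : Type u) [CommRing Rh] [HenselianLocalRing Rh] [Algebra R Rh]
    (Q : Ideal (Rh ⊗[R] S)) [Q.IsPrime] (hQm : Q.LiesOver (maximalIdeal Rh))
    (hQ : q = Q.comap Algebra.TensorProduct.includeRight.toRingHom) :
    Module.Finite Rh (Localization.AtPrime Q) := by
  haveI : Algebra.QuasiFiniteAt Rh Q := Algebra.QuasiFiniteAt.baseChange q Q hQ
  exact (Groth.Agent.S5035.result Rh).1 inferInstance (Rh ⊗[R] S) Q hQm inferInstance


section Main

variable (R : Type u) [CommRing R] (S : Type u) [CommRing S] [Algebra R S]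
  (p : Ideal R) [p.IsPrime] (q : Ideal S) [q.IsPrime] [q.LiesOver p]
  (Rh : Type u) [CommRing Rh] [IsLocalRing Rh] [Algebra R Rh]
  (Sh : Type u) [CommRing Sh] [IsLocalRing Sh] [Algebra (Localization.AtPrime q) Sh]
  [IsLocalHom (algebraMap (Localization.AtPrime q) Sh)]
  [Algebra S Sh] [IsScalarTower S (Localization.AtPrime q) Sh] [Algebra R Sh] [IsScalarTower R S Sh]
  [Algebra Rh Sh] [IsScalarTower R Rh Sh]

/-- the canonical map `Rh ⊗[R] S → Sh`. -/
noncomputable def phi : Rh ⊗[R] S →ₐ[Rh] Sh :=
  Algebra.TensorProduct.lift (Algebra.ofId Rh Sh)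
    (IsScalarTower.toAlgHom R S Sh) (fun _ _ => Commute.all _ _)

lemma phi_right (s : S) : phi R S Rh Sh (1 ⊗ₜ s) = algebraMap S Sh s := by
  simp [phi]

lemma phi_left (r : Rh) : phi R S Rh Sh (r ⊗ₜ 1) = algebraMap Rh Sh r := by
  simp [phi, Algebra.ofId_apply]

/-- the prime `Q` of `Rh ⊗[R] S`. -/
noncomputable def QQ : Ideal (Rh ⊗[R] S) := (maximalIdeal Sh).comap (phi R S Rh Sh).toRingHom

instance : (QQ R S Rh Sh).IsPrime := Ideal.comap_isPrime _ _

include q in
omit [q.LiesOver p] in
lemma mem_q_iff (s : S) : algebraMap S Sh s ∈ maximalIdeal Sh ↔ s ∈ q := by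
  rw [IsScalarTower.algebraMap_apply S (Localization.AtPrime q) Sh]
  have h1 : algebraMap (Localization.AtPrime q) Sh (algebraMap S _ s) ∈ maximalIdeal Sh ↔
      algebraMap S (Localization.AtPrime q) s ∈ maximalIdeal (Localization.AtPrime q) := by
    rw [mem_maximalIdeal, mem_maximalIdeal, mem_nonunits_iff,
      mem_nonunits_iff, isUnit_map_iff]
  rw [h1]
  exact IsLocalization.AtPrime.to_map_mem_maximal_iff _ q s

omit [q.LiesOver p] in
lemma QQ_comap : q = (QQ R S Rh Sh).comap Algebra.TensorProduct.includeRight.toRingHom := by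
  ext s
  rw [Ideal.mem_comap]
  unfold QQ
  rw [Ideal.mem_comap]
  show _ ↔ phi R S Rh Sh ((1 : Rh) ⊗ₜ[R] s) ∈ _
  rw [phi_right, mem_q_iff S q]

lemma QQ_liesOver (h : (maximalIdeal Sh).comap (algebraMap Rh Sh) = maximalIdeal Rh) :
    (QQ R S Rh Sh).LiesOver (maximalIdeal Rh) := by
  constructor
  ext r
  rw [← h, Ideal.mem_comap, Ideal.under, Ideal.mem_comap]
  unfold QQ
  rw [Ideal.mem_comap]
  show _ ↔ phi R S Rh Sh (algebraMap Rh (Rh ⊗[R] S) r) ∈ _
  rw [Algebra.TensorProduct.algebraMap_apply, Algebra.algebraMap_self_apply, phi_left]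

lemma phi_isUnit (y : (QQ R S Rh Sh).primeCompl) : IsUnit ((phi R S Rh Sh).toRingHom y) := by
  have hy : (y : Rh ⊗[R] S) ∉ QQ R S Rh Sh := y.2
  unfold QQ at hy
  rw [Ideal.mem_comap] at hy
  by_contra hnu
  exact hy ((mem_maximalIdeal _).2 hnu)

/-- the map `(Rh ⊗ S)_Q → Sh`. -/
noncomputable def phiQ : Localization.AtPrime (QQ R S Rh Sh) →+* Sh :=
  IsLocalization.lift (M := (QQ R S Rh Sh).primeCompl) (phi_isUnit R S Rh Sh)

lemma phiQ_algebraMap (x : Rh ⊗[R] S) :
    phiQ R S Rh Sh (algebraMap _ _ x) = phi R S Rh Sh x :=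
  IsLocalization.lift_eq (phi_isUnit R S Rh Sh) x

/-- the local map `S_q → (Rh ⊗ S)_Q`. -/
noncomputable def gam : Localization.AtPrime q →+* Localization.AtPrime (QQ R S Rh Sh) :=
  Localization.localRingHom q (QQ R S Rh Sh) Algebra.TensorProduct.includeRight.toRingHom
    (QQ_comap R S q Rh Sh)

instance : IsLocalHom (gam R S q Rh Sh) :=
  Localization.isLocalHom_localRingHom _ _ _ (QQ_comap R S q Rh Sh)

lemma phiQ_comp_gam : (phiQ R S Rh Sh).comp (gam R S q Rh Sh) =
    algebraMap (Localization.AtPrime q) Sh := by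
  refine IsLocalization.ringHom_ext q.primeCompl ?_
  refine RingHom.ext fun s => ?_
  simp only [RingHom.comp_apply, gam, Localization.localRingHom_to_map]
  rw [phiQ_algebraMap]
  show phi R S Rh Sh ((1 : Rh) ⊗ₜ[R] s) = _
  rw [phi_right, IsScalarTower.algebraMap_apply S (Localization.AtPrime q) Sh]

/-- `phiQ` as an `Rh`-linear map -/
noncomputable def phiQl : Localization.AtPrime (QQ R S Rh Sh) →ₗ[Rh] Sh :=
  { toFun := phiQ R S Rh Sh
    map_add' := map_add _
    map_smul' := by
      intro r x
      rw [Algebra.smul_def, map_mul, RingHom.id_apply, Algebra.smul_def]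
      congr 1
      rw [IsScalarTower.algebraMap_apply Rh (Rh ⊗[R] S) (Localization.AtPrime (QQ R S Rh Sh)),
        phiQ_algebraMap,
        Algebra.TensorProduct.algebraMap_apply, Algebra.algebraMap_self_apply, phi_left] }

/-- Main finiteness: if `Rh` is henselian, `Rh → Sh` is local, `Sh` is the henselization
of `S_q`, and `S` is quasi-finite at `q`, then `Sh` is finite over `Rh`. -/
theorem finite_henselization [Algebra.FiniteType R S] [Algebra.QuasiFiniteAt R q]
    [HenselianLocalRing Rh] [Hensel.IsHenselization (Localization.AtPrime q) Sh]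
    (h : (maximalIdeal Sh).comap (algebraMap Rh Sh) = maximalIdeal Rh) :
    Module.Finite Rh Sh := by
  have hQm := QQ_liesOver R S Rh Sh h
  haveI hfin : Module.Finite Rh (Localization.AtPrime (QQ R S Rh Sh)) :=
    finite_localization R S q Rh _ hQm (QQ_comap R S q Rh Sh)
  haveI hhens : HenselianLocalRing (Localization.AtPrime (QQ R S Rh Sh)) :=
    Groth.Agent.H11.HensEt.henselian_of_finite Rh _
  have hsurj : Function.Surjective (phiQ R S Rh Sh) :=
    surjective_of_retract (Localization.AtPrime q) Sh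
      (Localization.AtPrime (QQ R S Rh Sh)) (gam R S q Rh Sh) inferInstance _
      (phiQ_comp_gam R S q Rh Sh)
  exact Module.Finite.of_surjective (phiQl R S Rh Sh) hsurj


lemma phiQ_isLocalHom : IsLocalHom (phiQ R S Rh Sh) := by
  constructor
  intro x hx
  obtain ⟨b, s, rfl⟩ := IsLocalization.exists_mk'_eq (QQ R S Rh Sh).primeCompl x
  rw [IsLocalization.AtPrime.isUnit_mk'_iff _ (QQ R S Rh Sh)]
  intro hb
  have h1 : IsLocalization.mk' (Localization.AtPrime (QQ R S Rh Sh)) b s *
      algebraMap _ _ (s : Rh ⊗[R] S) = algebraMap _ _ b := IsLocalization.mk'_spec _ _ _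
  have h2 := congrArg (phiQ R S Rh Sh) h1
  rw [map_mul, phiQ_algebraMap, phiQ_algebraMap] at h2
  have h3 : IsUnit (phi R S Rh Sh b) := by
    rw [← h2]
    exact hx.mul (phi_isUnit R S Rh Sh s)
  have hb' : b ∈ (maximalIdeal Sh).comap (phi R S Rh Sh).toRingHom := hb
  exact ((mem_maximalIdeal _).1 (Ideal.mem_comap.1 hb')) h3

lemma isLocalHom_algebraMap_loc (hQm : (QQ R S Rh Sh).LiesOver (maximalIdeal Rh)) :
    IsLocalHom (algebraMap Rh (Localization.AtPrime (QQ R S Rh Sh))) := by
  refine ((local_hom_TFAE _).out 0 4).2 ?_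
  rw [IsScalarTower.algebraMap_eq Rh (Rh ⊗[R] S) (Localization.AtPrime (QQ R S Rh Sh)),
    ← Ideal.comap_comap]
  have h1 : (maximalIdeal (Localization.AtPrime (QQ R S Rh Sh))).comap
      (algebraMap (Rh ⊗[R] S) (Localization.AtPrime (QQ R S Rh Sh))) = QQ R S Rh Sh :=
    IsLocalization.AtPrime.under_maximalIdeal _ _
  rw [h1]
  exact (hQm.over).symm

/-- Strict version: if `Rh` is strictly henselian, `Rh → Sh` is local, `Sh` is a strict
henselization of `S_q`, and `S` is quasi-finite at `q`, then `Sh` is finite over `Rh`. -/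
theorem finite_strictHenselization [Algebra.FiniteType R S] [Algebra.QuasiFiniteAt R q]
    [HenselianLocalRing Rh] [IsSepClosed (ResidueField Rh)]
    [Hensel.IsStrictHenselization (Localization.AtPrime q) Sh]
    (h : (maximalIdeal Sh).comap (algebraMap Rh Sh) = maximalIdeal Rh) :
    Module.Finite Rh Sh := by
  have hQm := QQ_liesOver R S Rh Sh h
  haveI hfin : Module.Finite Rh (Localization.AtPrime (QQ R S Rh Sh)) :=
    finite_localization R S q Rh _ hQm (QQ_comap R S q Rh Sh)
  haveI hhens : HenselianLocalRing (Localization.AtPrime (QQ R S Rh Sh)) :=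
    Groth.Agent.H11.HensEt.henselian_of_finite Rh _
  haveI hSh : HenselianLocalRing Sh :=
    Hensel.IsStrictHenselization.henselian (R := Localization.AtPrime q)
  haveI hloc1 := isLocalHom_algebraMap_loc R S Rh Sh hQm
  haveI hloc2 := phiQ_isLocalHom R S Rh Sh
  have hsc : IsSepClosure (ResidueField (Localization.AtPrime q)) (ResidueField Sh) :=
    Hensel.IsStrictHenselization.isSepClosure
  haveI := hsc.separable
  -- the residue field of `(Rh ⊗ S)_Q` is separably closed
  haveI : IsSepClosed (ResidueField (Localization.AtPrime (QQ R S Rh Sh))) :=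
    Algebra.IsAlgebraic.isSepClosed (F := ResidueField Rh)
  -- residue fields tower
  letI a1 : Algebra (ResidueField (Localization.AtPrime q))
      (ResidueField (Localization.AtPrime (QQ R S Rh Sh))) :=
    (ResidueField.map (gam R S q Rh Sh)).toAlgebra
  letI a2 : Algebra (ResidueField (Localization.AtPrime (QQ R S Rh Sh))) (ResidueField Sh) :=
    (ResidueField.map (phiQ R S Rh Sh)).toAlgebra
  have hmapcomp : (ResidueField.map (phiQ R S Rh Sh)).comp (ResidueField.map (gam R S q Rh Sh)) =
      ResidueField.map (algebraMap (Localization.AtPrime q) Sh) := by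
    rw [← ResidueField.map_comp]
    congr 1
    exact phiQ_comp_gam R S q Rh Sh
  haveI : IsScalarTower (ResidueField (Localization.AtPrime q))
      (ResidueField (Localization.AtPrime (QQ R S Rh Sh))) (ResidueField Sh) :=
    IsScalarTower.of_algebraMap_eq (fun x => (congrArg (fun f => f x) hmapcomp).symm)
  haveI : Algebra.IsSeparable (ResidueField (Localization.AtPrime (QQ R S Rh Sh)))
      (ResidueField Sh) :=
    Algebra.isSeparable_tower_top_of_isSeparable (ResidueField (Localization.AtPrime q)) _ _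
  have hbij : Function.Bijective (ResidueField.map (phiQ R S Rh Sh)) :=
    IsSepClosed.algebraMap_bijective (k := ResidueField (Localization.AtPrime (QQ R S Rh Sh)))
      (K := ResidueField Sh)
  let eτ := RingEquiv.ofBijective (ResidueField.map (phiQ R S Rh Sh)) hbij
  have heτ : ∀ y, ResidueField.map (phiQ R S Rh Sh) (eτ.symm y) = y := fun y =>
    eτ.apply_symm_apply y
  have hτ : (eτ.symm : ResidueField Sh →+* _).comp
      (ResidueField.map (algebraMap (Localization.AtPrime q) Sh)) =
      ResidueField.map (gam R S q Rh Sh) := by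
    refine RingHom.ext fun x => ?_
    apply hbij.1
    simp only [RingHom.comp_apply, RingHom.coe_coe]
    rw [heτ]
    exact (congrArg (fun f => f x) hmapcomp).symm
  obtain ⟨ψ, ⟨hψ1, hψ2⟩, -⟩ := Hensel.IsStrictHenselization.universal
    (R := Localization.AtPrime q) (S := Sh) (Localization.AtPrime (QQ R S Rh Sh))
    (gam R S q Rh Sh) (eτ.symm : ResidueField Sh →+* _) hτ
  obtain ⟨g, -, hguniq⟩ := Hensel.IsStrictHenselization.universal
    (R := Localization.AtPrime q) (S := Sh) Sh
    (algebraMap (Localization.AtPrime q) Sh) (RingHom.id _) (by rw [RingHom.id_comp])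
  have h1 : (phiQ R S Rh Sh).comp ψ = g := hguniq _ (by
    refine ⟨?_, ?_⟩
    · rw [RingHom.comp_assoc, hψ1, phiQ_comp_gam]
    · intro x
      simp only [RingHom.comp_apply, RingHom.id_apply]
      rw [← ResidueField.map_residue (phiQ R S Rh Sh), hψ2]
      exact heτ _)
  have h2 : RingHom.id Sh = g := hguniq _ (by
    refine ⟨?_, ?_⟩
    · rw [RingHom.id_comp]
    · intro x
      simp)
  have hsurj : Function.Surjective (phiQ R S Rh Sh) := by
    intro y
    refine ⟨ψ y, ?_⟩
    have := congrArg (fun f => f y) (h1.trans h2.symm)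
    simpa using this
  exact Module.Finite.of_surjective (phiQl R S Rh Sh) hsurj

end Main

end Groth.Agent.H11.HensQF
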