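import Mathlib
import Groth.Agent.H11.Henselization2

/-! `S_q^h` is the henselization of `(R_p^h ⊗_R S)_Q` (helper11). -/

namespace Groth.Agent.H11.HensQF2

universe u

open TensorProduct IsLocalRing

section Main

variable (R : Type u) [CommRing R] (S : Type u) [CommRing S] [Algebra R S]
  (p : Ideal R) [p.IsPrime] (q : Ideal S) [q.IsPrime] [q.LiesOver p]
  (Rh : Type u) [CommRing Rh] [IsLocalRing Rh] [Algebra (Localization.AtPrime p) Rh]
  [IsLocalHom (algebraMap (Localization.AtPrime p) Rh)]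
  [Hensel.IsHenselization (Localization.AtPrime p) Rh] [Algebra R Rh]
  [IsScalarTower R (Localization.AtPrime p) Rh]
  (Sh : Type u) [CommRing Sh] [IsLocalRing Sh] [Algebra (Localization.AtPrime q) Sh]
  [IsLocalHom (algebraMap (Localization.AtPrime q) Sh)]
  [Hensel.IsHenselization (Localization.AtPrime q) Sh] [Algebra S Sh]
  [IsScalarTower S (Localization.AtPrime q) Sh] [Algebra R Sh] [IsScalarTower R S Sh]
  [Algebra Rh Sh] [IsScalarTower R Rh Sh]

/-- the canonical map `Rh ⊗[R] S → Sh`. -/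
noncomputable abbrev Phi : Rh ⊗[R] S →ₐ[R] Sh :=
  Algebra.TensorProduct.lift (IsScalarTower.toAlgHom R Rh Sh) (IsScalarTower.toAlgHom R S Sh)
    (fun _ _ => Commute.all _ _)

omit [IsLocalRing Rh] [IsLocalRing Sh] in
lemma Phi_right (s : S) : Phi R S Rh Sh (1 ⊗ₜ s) = algebraMap S Sh s := by
  simp [Phi]

omit [IsLocalRing Rh] [IsLocalRing Sh] in
lemma Phi_left (r : Rh) : Phi R S Rh Sh (r ⊗ₜ 1) = algebraMap Rh Sh r := by
  simp [Phi]

/-- the prime `Q` of `Rh ⊗[R] S`. -/
noncomputable abbrev QQ : Ideal (Rh ⊗[R] S) := Ideal.comap (Phi R S Rh Sh) (maximalIdeal Sh)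

include q in
omit [q.LiesOver p] [Hensel.IsHenselization (Localization.AtPrime q) Sh] in
lemma mem_q_iff (s : S) : algebraMap S Sh s ∈ maximalIdeal Sh ↔ s ∈ q := by
  rw [IsScalarTower.algebraMap_apply S (Localization.AtPrime q) Sh]
  have h1 : algebraMap (Localization.AtPrime q) Sh (algebraMap S _ s) ∈ maximalIdeal Sh ↔
      algebraMap S (Localization.AtPrime q) s ∈ maximalIdeal (Localization.AtPrime q) := by
    rw [mem_maximalIdeal, mem_maximalIdeal, mem_nonunits_iff,
      mem_nonunits_iff, isUnit_map_iff]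
  rw [h1]
  exact IsLocalization.AtPrime.to_map_mem_maximal_iff _ q s

omit [q.LiesOver p] [Hensel.IsHenselization (Localization.AtPrime q) Sh] [IsLocalRing Rh] in
lemma QQ_comap : q = (QQ R S Rh Sh).comap Algebra.TensorProduct.includeRight.toRingHom := by
  ext s
  rw [Ideal.mem_comap, Ideal.mem_comap]
  show _ ↔ Phi R S Rh Sh ((1 : Rh) ⊗ₜ[R] s) ∈ _
  rw [Phi_right, mem_q_iff S q]

omit [IsLocalRing Rh] in
lemma Phi_isUnit (y : (QQ R S Rh Sh).primeCompl) : IsUnit ((Phi R S Rh Sh).toRingHom y) := by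
  have hy : (y : Rh ⊗[R] S) ∉ QQ R S Rh Sh := y.2
  rw [Ideal.mem_comap] at hy
  by_contra hnu
  exact hy ((mem_maximalIdeal _).2 hnu)

/-- the map `(Rh ⊗ S)_Q → Sh`. -/
noncomputable def PhiQ : Localization.AtPrime (QQ R S Rh Sh) →+* Sh :=
  IsLocalization.lift (M := (QQ R S Rh Sh).primeCompl) (Phi_isUnit R S Rh Sh)

omit [IsLocalRing Rh] in
lemma PhiQ_algebraMap (x : Rh ⊗[R] S) :
    PhiQ R S Rh Sh (algebraMap _ _ x) = Phi R S Rh Sh x :=
  IsLocalization.lift_eq (Phi_isUnit R S Rh Sh) x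

omit [IsLocalRing Rh] in
lemma PhiQ_isLocalHom : IsLocalHom (PhiQ R S Rh Sh) := by
  constructor
  intro x hx
  obtain ⟨b, s, rfl⟩ := IsLocalization.exists_mk'_eq (QQ R S Rh Sh).primeCompl x
  rw [IsLocalization.AtPrime.isUnit_mk'_iff _ (QQ R S Rh Sh)]
  intro hb
  have h1 : IsLocalization.mk' (Localization.AtPrime (QQ R S Rh Sh)) b s * algebraMap _ _ (s : Rh ⊗[R] S) =
      algebraMap _ _ b := IsLocalization.mk'_spec _ _ _
  have h2 := congrArg (PhiQ R S Rh Sh) h1
  rw [map_mul, PhiQ_algebraMap, PhiQ_algebraMap] at h2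
  have h3 : IsUnit (Phi R S Rh Sh b) := by
    rw [← h2]
    exact hx.mul (Phi_isUnit R S Rh Sh s)
  exact ((mem_maximalIdeal _).1 (Ideal.mem_comap.1 hb)) h3

/-- the local map `S_q → (Rh ⊗ S)_Q`. -/
noncomputable def gam : Localization.AtPrime q →+* Localization.AtPrime (QQ R S Rh Sh) :=
  Localization.localRingHom q (QQ R S Rh Sh) Algebra.TensorProduct.includeRight.toRingHom
    (QQ_comap R S q Rh Sh)

omit [q.LiesOver p] [Hensel.IsHenselization (Localization.AtPrime q) Sh] [IsLocalRing Rh] in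
lemma gam_isLocalHom : IsLocalHom (gam R S q Rh Sh) :=
  Localization.isLocalHom_localRingHom _ _ _ (QQ_comap R S q Rh Sh)

omit [q.LiesOver p] [Hensel.IsHenselization (Localization.AtPrime q) Sh] [IsLocalRing Rh] in
lemma gam_algebraMap (s : S) : gam R S q Rh Sh (algebraMap S _ s) =
    algebraMap (Rh ⊗[R] S) _ ((1 : Rh) ⊗ₜ[R] s) := by
  simp only [gam, Localization.localRingHom_to_map]
  rfl

omit [q.LiesOver p] [Hensel.IsHenselization (Localization.AtPrime q) Sh] [IsLocalRing Rh] in
lemma PhiQ_comp_gam : (PhiQ R S Rh Sh).comp (gam R S q Rh Sh) =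
    algebraMap (Localization.AtPrime q) Sh := by
  refine IsLocalization.ringHom_ext q.primeCompl ?_
  refine RingHom.ext fun s => ?_
  simp only [RingHom.comp_apply]
  rw [gam_algebraMap, PhiQ_algebraMap, Phi_right,
    IsScalarTower.algebraMap_apply S (Localization.AtPrime q) Sh]

omit [IsLocalRing Rh] [IsLocalRing Sh] in
lemma tmul_algebraMap (x : R) : (algebraMap R Rh x) ⊗ₜ[R] (1 : S) = (1 : Rh) ⊗ₜ[R] (algebraMap R S x) := by
  rw [Algebra.algebraMap_eq_smul_one, Algebra.algebraMap_eq_smul_one, TensorProduct.smul_tmul]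

include p q in
/-- The universal property of `Sh` over `(Rh ⊗ S)_Q`. -/
theorem universal (T : Type u) [CommRing T] [HenselianLocalRing T]
    (f : Localization.AtPrime (QQ R S Rh Sh) →+* T) (hf : IsLocalHom f) :
    ∃! g : Sh →+* T, g.comp (PhiQ R S Rh Sh) = f := by
  haveI := hf
  haveI := gam_isLocalHom R S q Rh Sh
  have hfγ : IsLocalHom (f.comp (gam R S q Rh Sh)) := RingHom.isLocalHom_comp _ _
  obtain ⟨g, hg, hguniq⟩ := Hensel.IsHenselization.universal (R := Localization.AtPrime q)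
    (S := Sh) T (f.comp (gam R S q Rh Sh)) hfγ
  have hgS : ∀ s : S, g (algebraMap S Sh s) = f (algebraMap (Rh ⊗[R] S) _ ((1 : Rh) ⊗ₜ[R] s)) := by
    intro s
    rw [IsScalarTower.algebraMap_apply S (Localization.AtPrime q) Sh]
    have := congrArg (fun h => h (algebraMap S (Localization.AtPrime q) s)) hg
    simp only [RingHom.comp_apply] at this
    rw [this, gam_algebraMap]
  -- the two maps `Rh → T`
  let u1 : Rh →+* T := g.comp (algebraMap Rh Sh)
  let u2 : Rh →+* T := (f.comp (algebraMap (Rh ⊗[R] S) _)).comp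
    Algebra.TensorProduct.includeLeftRingHom
  have hu12R : ∀ x : R, u1 (algebraMap R Rh x) = u2 (algebraMap R Rh x) := by
    intro x
    show g (algebraMap Rh Sh (algebraMap R Rh x)) =
      f (algebraMap (Rh ⊗[R] S) _ ((algebraMap R Rh x) ⊗ₜ[R] (1 : S)))
    rw [← IsScalarTower.algebraMap_apply R Rh Sh, IsScalarTower.algebraMap_apply R S Sh, hgS,
      tmul_algebraMap]
  have hu12 : u1.comp (algebraMap (Localization.AtPrime p) Rh) =
      u2.comp (algebraMap (Localization.AtPrime p) Rh) := by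
    refine IsLocalization.ringHom_ext p.primeCompl ?_
    refine RingHom.ext fun x => ?_
    simp only [RingHom.comp_apply]
    rw [← IsScalarTower.algebraMap_apply R (Localization.AtPrime p) Rh]
    exact hu12R x
  have hu2loc : IsLocalHom (u2.comp (algebraMap (Localization.AtPrime p) Rh)) := by
    refine ((local_hom_TFAE _).out 0 2).2 ?_
    rw [← Localization.AtPrime.map_eq_maximalIdeal, Ideal.map_map, Ideal.map_le_iff_le_comap]
    intro x hx
    rw [Ideal.mem_comap]
    simp only [RingHom.comp_apply]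
    rw [← IsScalarTower.algebraMap_apply R (Localization.AtPrime p) Rh]
    show f (algebraMap (Rh ⊗[R] S) _ ((algebraMap R Rh x) ⊗ₜ[R] (1 : S))) ∈ _
    rw [tmul_algebraMap, ← gam_algebraMap R S q Rh Sh]
    have hxq : algebraMap R S x ∈ q := by
      have : x ∈ q.under R := by rw [← Ideal.LiesOver.over (p := p) (P := q)]; exact hx
      exact this
    have h1 : algebraMap S (Localization.AtPrime q) (algebraMap R S x) ∈
        maximalIdeal (Localization.AtPrime q) :=
      (IsLocalization.AtPrime.to_map_mem_maximal_iff _ q _).2 hxq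
    have h2 := ((local_hom_TFAE _).out 0 3).1 hfγ
    exact h2 h1
  obtain ⟨v, -, hvuniq⟩ := Hensel.IsHenselization.universal (R := Localization.AtPrime p)
    (S := Rh) T (u2.comp (algebraMap (Localization.AtPrime p) Rh)) hu2loc
  have hu : u1 = u2 := (hvuniq u1 hu12).trans (hvuniq u2 rfl).symm
  refine ⟨g, ?_, ?_⟩
  · show g.comp (PhiQ R S Rh Sh) = f
    refine IsLocalization.ringHom_ext (QQ R S Rh Sh).primeCompl ?_
    refine Algebra.TensorProduct.ringHom_ext ?_ ?_
    · refine RingHom.ext fun r => ?_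
      simp only [RingHom.comp_apply]
      show g (PhiQ R S Rh Sh (algebraMap _ _ (r ⊗ₜ[R] (1 : S)))) = u2 r
      rw [PhiQ_algebraMap, Phi_left, ← hu]
      rfl
    · refine RingHom.ext fun s => ?_
      simp only [RingHom.comp_apply]
      show g (PhiQ R S Rh Sh (algebraMap _ _ ((1 : Rh) ⊗ₜ[R] s))) = _
      rw [PhiQ_algebraMap, Phi_right, hgS]
      rfl
  · intro g' hg'
    apply hguniq
    show g'.comp (algebraMap (Localization.AtPrime q) Sh) = f.comp (gam R S q Rh Sh)
    rw [← PhiQ_comp_gam R S q Rh Sh, ← RingHom.comp_assoc, hg']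

include p q in
/-- Any henselization `E` of `(Rh ⊗ S)_Q` is isomorphic to `Sh`. -/
theorem exists_equiv (E : Type u) [CommRing E] [IsLocalRing E]
    [Algebra (Localization.AtPrime (QQ R S Rh Sh)) E]
    [IsLocalHom (algebraMap (Localization.AtPrime (QQ R S Rh Sh)) E)]
    [Hensel.IsHenselization (Localization.AtPrime (QQ R S Rh Sh)) E] :
    ∃ e : E ≃+* Sh, ∀ d : Rh ⊗[R] S,
      e (algebraMap (Localization.AtPrime (QQ R S Rh Sh)) E (algebraMap (Rh ⊗[R] S) _ d)) =
        Phi R S Rh Sh d := by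
  haveI hSh : HenselianLocalRing Sh :=
    Hensel.IsHenselization.henselian (R := Localization.AtPrime q)
  haveI hE : HenselianLocalRing E :=
    Hensel.IsHenselization.henselian (R := Localization.AtPrime (QQ R S Rh Sh))
  have hloc := PhiQ_isLocalHom R S Rh Sh
  obtain ⟨e, he, -⟩ := Hensel.IsHenselization.universal
    (R := Localization.AtPrime (QQ R S Rh Sh)) (S := E) Sh (PhiQ R S Rh Sh) hloc
  obtain ⟨e', he', -⟩ := universal R S p q Rh Sh E
    (algebraMap (Localization.AtPrime (QQ R S Rh Sh)) E) inferInstance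
  obtain ⟨w, -, hwuniq⟩ := universal R S p q Rh Sh Sh (PhiQ R S Rh Sh) hloc
  obtain ⟨w', -, hw'uniq⟩ := Hensel.IsHenselization.universal
    (R := Localization.AtPrime (QQ R S Rh Sh)) (S := E) E
    (algebraMap (Localization.AtPrime (QQ R S Rh Sh)) E) inferInstance
  have h1 : e.comp e' = RingHom.id Sh := by
    refine (hwuniq (e.comp e') ?_).trans (hwuniq (RingHom.id Sh) ?_).symm
    · show (e.comp e').comp (PhiQ R S Rh Sh) = PhiQ R S Rh Sh
      rw [RingHom.comp_assoc, he', he]
    · show (RingHom.id Sh).comp (PhiQ R S Rh Sh) = PhiQ R S Rh Sh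
      rw [RingHom.id_comp]
  have h2 : e'.comp e = RingHom.id E := by
    refine (hw'uniq (e'.comp e) ?_).trans (hw'uniq (RingHom.id E) ?_).symm
    · show (e'.comp e).comp (algebraMap _ E) = algebraMap _ E
      rw [RingHom.comp_assoc, he, he']
    · show (RingHom.id E).comp (algebraMap _ E) = algebraMap _ E
      rw [RingHom.id_comp]
  refine ⟨RingEquiv.ofRingHom e e' h1 h2, ?_⟩
  intro d
  show e (algebraMap _ E (algebraMap _ _ d)) = _
  have := congrArg (fun h => h (algebraMap (Rh ⊗[R] S) _ d)) he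
  simp only [RingHom.comp_apply] at this
  rw [this, PhiQ_algebraMap]

end Main

end Groth.Agent.H11.HensQF2
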