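import Mathlib
import Groth.Agent.H11.HensQF2
import Groth.Agent.H11.HensStrict

/-! `S_q^{sh}` is the strict henselization of `(R_p^{sh} ⊗_R S)_Q` (helper11). -/

namespace Groth.Agent.H11.HensQF3

universe u

open TensorProduct IsLocalRing Groth.Agent.H11.HensQF2

lemma algebraMap_residueField_eq (A B : Type*) [CommRing A] [IsLocalRing A] [CommRing B]
    [IsLocalRing B] [Algebra A B] [IsLocalHom (algebraMap A B)] :
    algebraMap (ResidueField A) (ResidueField B) = ResidueField.map (algebraMap A B) :=
  Ideal.Quotient.ringHom_ext <| RingHom.ext fun _ => rfl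

section Main

variable (R : Type u) [CommRing R] (S : Type u) [CommRing S] [Algebra R S]
  (p : Ideal R) [p.IsPrime] (q : Ideal S) [q.IsPrime] [q.LiesOver p]
  (Rh : Type u) [CommRing Rh] [IsLocalRing Rh] [Algebra (Localization.AtPrime p) Rh]
  [IsLocalHom (algebraMap (Localization.AtPrime p) Rh)]
  [Hensel.IsStrictHenselization (Localization.AtPrime p) Rh] [Algebra R Rh]
  [IsScalarTower R (Localization.AtPrime p) Rh]
  (Sh : Type u) [CommRing Sh] [IsLocalRing Sh] [Algebra (Localization.AtPrime q) Sh]
  [IsLocalHom (algebraMap (Localization.AtPrime q) Sh)]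
  [Hensel.IsStrictHenselization (Localization.AtPrime q) Sh] [Algebra S Sh]
  [IsScalarTower S (Localization.AtPrime q) Sh] [Algebra R Sh] [IsScalarTower R S Sh]
  [Algebra Rh Sh] [IsScalarTower R Rh Sh]

include p q in
/-- Any strict henselization `E` of `(Rh ⊗ S)_Q` is isomorphic to `Sh`. -/
theorem exists_equiv (E : Type u) [CommRing E] [IsLocalRing E]
    [Algebra (Localization.AtPrime (QQ R S Rh Sh)) E]
    [IsLocalHom (algebraMap (Localization.AtPrime (QQ R S Rh Sh)) E)]
    [Hensel.IsStrictHenselization (Localization.AtPrime (QQ R S Rh Sh)) E] :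
    ∃ e : E ≃+* Sh, ∀ d : Rh ⊗[R] S,
      e (algebraMap (Localization.AtPrime (QQ R S Rh Sh)) E (algebraMap (Rh ⊗[R] S) _ d)) =
        Phi R S Rh Sh d := by
  haveI hSh : HenselianLocalRing Sh :=
    Hensel.IsStrictHenselization.henselian (R := Localization.AtPrime q)
  haveI hE : HenselianLocalRing E :=
    Hensel.IsStrictHenselization.henselian (R := Localization.AtPrime (QQ R S Rh Sh))
  haveI hlocP := PhiQ_isLocalHom R S Rh Sh
  haveI hlocG := gam_isLocalHom R S q Rh Sh
  have hscS : IsSepClosure (ResidueField (Localization.AtPrime q)) (ResidueField Sh) :=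
    Hensel.IsStrictHenselization.isSepClosure
  have hscE : IsSepClosure (ResidueField (Localization.AtPrime (QQ R S Rh Sh))) (ResidueField E) :=
    Hensel.IsStrictHenselization.isSepClosure
  haveI := hscS.separable
  haveI := hscE.separable
  haveI := hscS.sep_closed
  haveI := hscE.sep_closed
  -- (1) the residue map `τ`
  letI aBS : Algebra (ResidueField (Localization.AtPrime (QQ R S Rh Sh))) (ResidueField Sh) :=
    (ResidueField.map (PhiQ R S Rh Sh)).toAlgebra
  let τa : ResidueField E →ₐ[ResidueField (Localization.AtPrime (QQ R S Rh Sh))] ResidueField Sh :=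
    IsSepClosed.lift
  let τ : ResidueField E →+* ResidueField Sh := τa.toRingHom
  have hτ : τ.comp (ResidueField.map (algebraMap (Localization.AtPrime (QQ R S Rh Sh)) E)) =
      ResidueField.map (PhiQ R S Rh Sh) := by
    refine RingHom.ext fun x => ?_
    have := τa.commutes x
    rw [algebraMap_residueField_eq] at this
    exact this
  have hPG : (ResidueField.map (PhiQ R S Rh Sh)).comp (ResidueField.map (gam R S q Rh Sh)) =
      ResidueField.map (algebraMap (Localization.AtPrime q) Sh) := by
    rw [← ResidueField.map_comp]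
    congr 1
    exact PhiQ_comp_gam R S q Rh Sh
  -- (2) `τ` is bijective
  letI aSE : Algebra (ResidueField (Localization.AtPrime q)) (ResidueField E) :=
    ((ResidueField.map (algebraMap (Localization.AtPrime (QQ R S Rh Sh)) E)).comp
      (ResidueField.map (gam R S q Rh Sh))).toAlgebra
  letI aES : Algebra (ResidueField E) (ResidueField Sh) := τ.toAlgebra
  haveI : IsScalarTower (ResidueField (Localization.AtPrime q)) (ResidueField E)
      (ResidueField Sh) := by
    refine IsScalarTower.of_algebraMap_eq (fun x => ?_)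
    show algebraMap _ (ResidueField Sh) x = τ ((ResidueField.map (algebraMap _ E))
      ((ResidueField.map (gam R S q Rh Sh)) x))
    have h1 := congrArg (fun f => f (ResidueField.map (gam R S q Rh Sh) x)) hτ
    simp only [RingHom.comp_apply] at h1
    rw [h1, algebraMap_residueField_eq]
    exact (congrArg (fun f => f x) hPG).symm
  haveI : Algebra.IsSeparable (ResidueField E) (ResidueField Sh) :=
    Algebra.isSeparable_tower_top_of_isSeparable (ResidueField (Localization.AtPrime q)) _ _
  have hbij : Function.Bijective τ :=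
    IsSepClosed.algebraMap_bijective (k := ResidueField E) (K := ResidueField Sh)
  let eτ := RingEquiv.ofBijective τ hbij
  have heτ : ∀ y, τ (eτ.symm y) = y := fun y => eτ.apply_symm_apply y
  have heτ' : ∀ y, eτ.symm (τ y) = y := fun y => eτ.symm_apply_apply y
  -- (3) `e : E → Sh`
  obtain ⟨e, ⟨he1, he2⟩, -⟩ := Hensel.IsStrictHenselization.universal
    (R := Localization.AtPrime (QQ R S Rh Sh)) (S := E) Sh (PhiQ R S Rh Sh) τ hτ
  -- (4) `e' : Sh → E`
  haveI hlocAG : IsLocalHom ((algebraMap (Localization.AtPrime (QQ R S Rh Sh)) E).comp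
      (gam R S q Rh Sh)) := RingHom.isLocalHom_comp _ _
  have hτ' : (eτ.symm : ResidueField Sh →+* ResidueField E).comp
      (ResidueField.map (algebraMap (Localization.AtPrime q) Sh)) =
      ResidueField.map ((algebraMap (Localization.AtPrime (QQ R S Rh Sh)) E).comp
        (gam R S q Rh Sh)) := by
    refine RingHom.ext fun x => ?_
    apply hbij.1
    simp only [RingHom.comp_apply, RingHom.coe_coe]
    rw [heτ, ResidueField.map_comp]
    simp only [RingHom.comp_apply]
    have h1 := congrArg (fun f => f (ResidueField.map (gam R S q Rh Sh) x)) hτ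
    simp only [RingHom.comp_apply] at h1
    rw [h1]
    exact (congrArg (fun f => f x) hPG).symm
  obtain ⟨e', ⟨he'1, he'2⟩, -⟩ := Hensel.IsStrictHenselization.universal
    (R := Localization.AtPrime q) (S := Sh) E
    ((algebraMap (Localization.AtPrime (QQ R S Rh Sh)) E).comp (gam R S q Rh Sh))
    (eτ.symm : ResidueField Sh →+* ResidueField E) hτ'
  -- (5) `e ∘ e' = id`
  obtain ⟨w, -, hwuniq⟩ := Hensel.IsStrictHenselization.universal
    (R := Localization.AtPrime q) (S := Sh) Sh
    (algebraMap (Localization.AtPrime q) Sh) (RingHom.id _) (by rw [RingHom.id_comp])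
  have h1 : e.comp e' = RingHom.id Sh := by
    refine (hwuniq (e.comp e') ⟨?_, ?_⟩).trans (hwuniq (RingHom.id Sh) ⟨?_, ?_⟩).symm
    · rw [RingHom.comp_assoc, he'1, ← RingHom.comp_assoc, he1, PhiQ_comp_gam]
    · intro x
      simp only [RingHom.comp_apply, RingHom.id_apply]
      rw [he2, he'2]
      exact heτ _
    · rw [RingHom.id_comp]
    · intro x
      simp
  -- (6) `e' ∘ e = id`
  have hgS : ∀ s : S, e' (algebraMap S Sh s) =
      algebraMap (Localization.AtPrime (QQ R S Rh Sh)) E
        (algebraMap (Rh ⊗[R] S) _ ((1 : Rh) ⊗ₜ[R] s)) := by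
    intro s
    rw [IsScalarTower.algebraMap_apply S (Localization.AtPrime q) Sh]
    have := congrArg (fun h => h (algebraMap S (Localization.AtPrime q) s)) he'1
    simp only [RingHom.comp_apply] at this
    rw [this, gam_algebraMap]
  let u1 : Rh →+* E := e'.comp (algebraMap Rh Sh)
  let u2 : Rh →+* E := ((algebraMap (Localization.AtPrime (QQ R S Rh Sh)) E).comp
    (algebraMap (Rh ⊗[R] S) _)).comp Algebra.TensorProduct.includeLeftRingHom
  have hu2R : ∀ x : R, u2 (algebraMap R Rh x) = algebraMap (Localization.AtPrime (QQ R S Rh Sh)) E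
      (gam R S q Rh Sh (algebraMap S _ (algebraMap R S x))) := by
    intro x
    show algebraMap _ E (algebraMap (Rh ⊗[R] S) _ ((algebraMap R Rh x) ⊗ₜ[R] (1 : S))) = _
    rw [tmul_algebraMap, ← gam_algebraMap R S q Rh Sh]
  have hu12R : ∀ x : R, u1 (algebraMap R Rh x) = u2 (algebraMap R Rh x) := by
    intro x
    rw [hu2R]
    show e' (algebraMap Rh Sh (algebraMap R Rh x)) = _
    rw [← IsScalarTower.algebraMap_apply R Rh Sh, IsScalarTower.algebraMap_apply R S Sh, hgS,
      gam_algebraMap]
  have hu12 : u1.comp (algebraMap (Localization.AtPrime p) Rh) =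
      u2.comp (algebraMap (Localization.AtPrime p) Rh) := by
    refine IsLocalization.ringHom_ext p.primeCompl ?_
    refine RingHom.ext fun x => ?_
    simp only [RingHom.comp_apply]
    rw [← IsScalarTower.algebraMap_apply R (Localization.AtPrime p) Rh]
    exact hu12R x
  haveI hu2loc : IsLocalHom u2 := by
    refine ((local_hom_TFAE _).out 0 2).2 ?_
    rw [← Groth.Agent.H11.HensEt.strict_map_maximalIdeal (Localization.AtPrime p) Rh,
      ← Localization.AtPrime.map_eq_maximalIdeal, Ideal.map_map, Ideal.map_map,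
      Ideal.map_le_iff_le_comap]
    intro x hx
    rw [Ideal.mem_comap]
    simp only [RingHom.comp_apply]
    rw [← IsScalarTower.algebraMap_apply R (Localization.AtPrime p) Rh]
    rw [hu2R x]
    have hxq : algebraMap R S x ∈ q := by
      have : x ∈ q.under R := by rw [← Ideal.LiesOver.over (p := p) (P := q)]; exact hx
      exact this
    have h1 : algebraMap S (Localization.AtPrime q) (algebraMap R S x) ∈
        maximalIdeal (Localization.AtPrime q) :=
      (IsLocalization.AtPrime.to_map_mem_maximal_iff _ q _).2 hxq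
    have h2 := ((local_hom_TFAE _).out 0 3).1 hlocAG
    exact h2 h1
  haveI hu2loc' : IsLocalHom (u2.comp (algebraMap (Localization.AtPrime p) Rh)) :=
    RingHom.isLocalHom_comp _ _
  obtain ⟨v, -, hvuniq⟩ := Hensel.IsStrictHenselization.universal
    (R := Localization.AtPrime p) (S := Rh) E (u2.comp (algebraMap (Localization.AtPrime p) Rh))
    (ResidueField.map u2) (ResidueField.map_comp _ _).symm
  have hu : u1 = u2 := by
    refine (hvuniq u1 ⟨hu12, ?_⟩).trans (hvuniq u2 ⟨rfl, fun x => rfl⟩).symm
    intro x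
    rw [ResidueField.map_residue]
    show residue E (e' (algebraMap Rh Sh x)) = _
    rw [he'2]
    apply hbij.1
    rw [RingHom.coe_coe, heτ]
    show _ = τ (ResidueField.map (algebraMap _ E) (residue _
      (algebraMap (Rh ⊗[R] S) _ (x ⊗ₜ[R] (1 : S)))))
    have h1 := congrArg (fun f => f (residue _ (algebraMap (Rh ⊗[R] S) _ (x ⊗ₜ[R] (1 : S))))) hτ
    simp only [RingHom.comp_apply] at h1
    rw [h1, ResidueField.map_residue, PhiQ_algebraMap, Phi_left]
  have hePhi : e'.comp (PhiQ R S Rh Sh) = algebraMap (Localization.AtPrime (QQ R S Rh Sh)) E := by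
    refine IsLocalization.ringHom_ext (QQ R S Rh Sh).primeCompl ?_
    refine Algebra.TensorProduct.ringHom_ext ?_ ?_
    · refine RingHom.ext fun r => ?_
      simp only [RingHom.comp_apply]
      show e' (PhiQ R S Rh Sh (algebraMap _ _ (r ⊗ₜ[R] (1 : S)))) = u2 r
      rw [PhiQ_algebraMap, Phi_left, ← hu]
      rfl
    · refine RingHom.ext fun s => ?_
      simp only [RingHom.comp_apply]
      show e' (PhiQ R S Rh Sh (algebraMap _ _ ((1 : Rh) ⊗ₜ[R] s))) = _
      rw [PhiQ_algebraMap, Phi_right, hgS]
      rfl
  obtain ⟨w', -, hw'uniq⟩ := Hensel.IsStrictHenselization.universal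
    (R := Localization.AtPrime (QQ R S Rh Sh)) (S := E) E
    (algebraMap (Localization.AtPrime (QQ R S Rh Sh)) E) (RingHom.id _) (by rw [RingHom.id_comp])
  have h2 : e'.comp e = RingHom.id E := by
    refine (hw'uniq (e'.comp e) ⟨?_, ?_⟩).trans (hw'uniq (RingHom.id E) ⟨?_, ?_⟩).symm
    · rw [RingHom.comp_assoc, he1, hePhi]
    · intro x
      simp only [RingHom.comp_apply, RingHom.id_apply]
      rw [he'2, he2]
      exact heτ' _
    · rw [RingHom.id_comp]
    · intro x
      simp
  refine ⟨RingEquiv.ofRingHom e e' h1 h2, ?_⟩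
  intro d
  show e (algebraMap _ E (algebraMap _ _ d)) = _
  have := congrArg (fun h => h (algebraMap (Rh ⊗[R] S) _ d)) he1
  simp only [RingHom.comp_apply] at this
  rw [this, PhiQ_algebraMap]

end Main

end Groth.Agent.H11.HensQF3
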