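import Mathlib
import Groth.Agent.H11.HensQF
import Groth.Agent.H11.HensQF3
import Groth.Agent.H11.HensStrict

/-! Strict henselization of a finite local algebra (helper11). -/

namespace Groth.Agent.H11.HensQF4

universe u

open TensorProduct IsLocalRing Groth.Agent.H11.HensQF

theorem isLocalHom_of_finite (A B : Type*) [CommRing A] [IsLocalRing A] [CommRing B] [IsLocalRing B]
    [Algebra A B] [Module.Finite A B] : IsLocalHom (algebraMap A B) := by
  refine ((local_hom_TFAE (algebraMap A B)).out 0 4).2 ?_
  haveI : Algebra.IsIntegral A B := Algebra.IsIntegral.of_finite A B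
  have h1 : ((maximalIdeal B).comap (algebraMap A B)).IsMaximal :=
    Ideal.isMaximal_comap_of_isIntegral_of_isMaximal (R := A) (maximalIdeal B)
  exact IsLocalRing.eq_maximalIdeal h1

/-- `T` (a strict henselization of the finite local `A`-algebra `B`) is the local ring of
`S ⊗[A] B` at a maximal ideal, `S` a strict henselization of `A`. -/
theorem exists_equiv_local (A B S T : Type u) [CommRing A] [IsLocalRing A]
    [CommRing B] [IsLocalRing B] [Algebra A B] [Module.Finite A B]
    [CommRing S] [IsLocalRing S] [Algebra A S] [IsLocalHom (algebraMap A S)]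
    [Hensel.IsStrictHenselization A S]
    [CommRing T] [IsLocalRing T] [Algebra B T] [IsLocalHom (algebraMap B T)]
    [Hensel.IsStrictHenselization B T] :
    ∃ (Q : Ideal (S ⊗[A] B)) (_ : Q.IsMaximal) (e : Localization.AtPrime Q ≃+* T),
      ∀ b : B, e (algebraMap (S ⊗[A] B) _ ((1 : S) ⊗ₜ[A] b)) = algebraMap B T b := by
  haveI hS : HenselianLocalRing S := Hensel.IsStrictHenselization.henselian (R := A)
  haveI hT : HenselianLocalRing T := Hensel.IsStrictHenselization.henselian (R := B)
  have hscS : IsSepClosure (ResidueField A) (ResidueField S) :=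
    Hensel.IsStrictHenselization.isSepClosure
  have hscT : IsSepClosure (ResidueField B) (ResidueField T) :=
    Hensel.IsStrictHenselization.isSepClosure
  haveI := hscS.separable
  haveI := hscT.separable
  haveI := hscS.sep_closed
  haveI := hscT.sep_closed
  haveI hAB : IsLocalHom (algebraMap A B) := isLocalHom_of_finite A B
  letI aAT : Algebra A T := ((algebraMap B T).comp (algebraMap A B)).toAlgebra
  haveI tABT : IsScalarTower A B T := IsScalarTower.of_algebraMap_eq (fun _ => rfl)
  haveI hAT : IsLocalHom (algebraMap A T) := by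
    show IsLocalHom ((algebraMap B T).comp (algebraMap A B))
    exact RingHom.isLocalHom_comp _ _
  -- the map `S → T`
  let τ0a : ResidueField S →ₐ[ResidueField A] ResidueField T := IsSepClosed.lift
  have hτ0 : (τ0a.toRingHom).comp (ResidueField.map (algebraMap A S)) =
      ResidueField.map (algebraMap A T) := by
    refine RingHom.ext fun x => ?_
    have := τ0a.commutes x
    rw [Groth.Agent.H11.HensQF3.algebraMap_residueField_eq,
      Groth.Agent.H11.HensQF3.algebraMap_residueField_eq] at this
    exact this
  obtain ⟨g, ⟨hg1, hg2⟩, -⟩ := Hensel.IsStrictHenselization.universal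
    (R := A) (S := S) T (algebraMap A T) τ0a.toRingHom hτ0
  letI aST : Algebra S T := g.toAlgebra
  haveI tAST : IsScalarTower A S T := IsScalarTower.of_algebraMap_eq (fun x => by
    have := congrArg (fun f => f x) hg1
    simp only [RingHom.comp_apply] at this
    exact this.symm)
  haveI hST : IsLocalHom (algebraMap S T) := by
    constructor
    intro x hx
    by_contra hnu
    have h1 : residue S x = 0 := (residue_eq_zero_iff x).2 ((mem_maximalIdeal x).2 hnu)
    have h2 : residue T (g x) = 0 := by rw [hg2, h1, map_zero]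
    exact ((mem_maximalIdeal _).1 ((residue_eq_zero_iff _).1 h2)) hx
  have hmeq : (maximalIdeal T).comap (algebraMap S T) = maximalIdeal S :=
    ((local_hom_TFAE (algebraMap S T)).out 0 4).1 hST
  have hQm := QQ_liesOver A B S T hmeq
  have hmemB : ∀ b : B, algebraMap B T b ∈ maximalIdeal T ↔ b ∈ maximalIdeal B := by
    intro b
    rw [mem_maximalIdeal, mem_maximalIdeal, mem_nonunits_iff, mem_nonunits_iff, isUnit_map_iff]
  have hQq : maximalIdeal B = (QQ A B S T).comap Algebra.TensorProduct.includeRight.toRingHom := by
    ext b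
    rw [Ideal.mem_comap]
    unfold QQ
    rw [Ideal.mem_comap]
    show _ ↔ phi A B S T ((1 : S) ⊗ₜ[A] b) ∈ _
    rw [phi_right, hmemB]
  haveI hfin : Module.Finite S (Localization.AtPrime (QQ A B S T)) :=
    finite_localization A B (maximalIdeal B) S _ hQm hQq
  haveI hhens : HenselianLocalRing (Localization.AtPrime (QQ A B S T)) :=
    Groth.Agent.H11.HensEt.henselian_of_finite S _
  haveI hloc1 := isLocalHom_algebraMap_loc A B S T hQm
  haveI hloc2 := phiQ_isLocalHom A B S T
  haveI : IsSepClosed (ResidueField (Localization.AtPrime (QQ A B S T))) :=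
    Algebra.IsAlgebraic.isSepClosed (F := ResidueField S)
  -- `Q` is maximal
  have hQmax : (QQ A B S T).IsMaximal := by
    haveI : Algebra.IsIntegral S (S ⊗[A] B) := Algebra.IsIntegral.of_finite S _
    apply Ideal.isMaximal_of_isIntegral_of_isMaximal_comap (R := S)
    have : (QQ A B S T).comap (algebraMap S (S ⊗[A] B)) = maximalIdeal S := (hQm.over).symm
    rw [this]
    infer_instance
  -- the local map `γ : B → C`
  let γ : B →+* Localization.AtPrime (QQ A B S T) :=
    (algebraMap (S ⊗[A] B) _).comp Algebra.TensorProduct.includeRight.toRingHom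
  have hγ : ∀ b, γ b = algebraMap (S ⊗[A] B) _ ((1 : S) ⊗ₜ[A] b) := fun b => rfl
  haveI hγloc : IsLocalHom γ := by
    refine ((local_hom_TFAE γ).out 0 4).2 ?_
    rw [← Ideal.comap_comap]
    have h1 : (maximalIdeal (Localization.AtPrime (QQ A B S T))).comap
        (algebraMap (S ⊗[A] B) (Localization.AtPrime (QQ A B S T))) = QQ A B S T :=
      IsLocalization.AtPrime.under_maximalIdeal _ _
    rw [h1]
    exact hQq.symm
  have hcomp : (phiQ A B S T).comp γ = algebraMap B T := by
    refine RingHom.ext fun b => ?_
    simp only [RingHom.comp_apply]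
    rw [hγ, phiQ_algebraMap, phi_right]
  -- residue fields
  letI a1 : Algebra (ResidueField B) (ResidueField (Localization.AtPrime (QQ A B S T))) :=
    (ResidueField.map γ).toAlgebra
  letI a2 : Algebra (ResidueField (Localization.AtPrime (QQ A B S T))) (ResidueField T) :=
    (ResidueField.map (phiQ A B S T)).toAlgebra
  have hmapcomp : (ResidueField.map (phiQ A B S T)).comp (ResidueField.map γ) =
      ResidueField.map (algebraMap B T) := by
    rw [← ResidueField.map_comp]
    congr 1
  haveI : IsScalarTower (ResidueField B) (ResidueField (Localization.AtPrime (QQ A B S T)))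
      (ResidueField T) :=
    IsScalarTower.of_algebraMap_eq (fun x => by
      rw [Groth.Agent.H11.HensQF3.algebraMap_residueField_eq]
      exact (congrArg (fun f => f x) hmapcomp).symm)
  haveI : Algebra.IsSeparable (ResidueField (Localization.AtPrime (QQ A B S T)))
      (ResidueField T) :=
    Algebra.isSeparable_tower_top_of_isSeparable (ResidueField B) _ _
  have hbij : Function.Bijective (ResidueField.map (phiQ A B S T)) :=
    IsSepClosed.algebraMap_bijective (k := ResidueField (Localization.AtPrime (QQ A B S T)))
      (K := ResidueField T)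
  let eτ := RingEquiv.ofBijective (ResidueField.map (phiQ A B S T)) hbij
  have heτ : ∀ y, ResidueField.map (phiQ A B S T) (eτ.symm y) = y := fun y =>
    eτ.apply_symm_apply y
  have heτ' : ∀ y, eτ.symm (ResidueField.map (phiQ A B S T) y) = y := fun y =>
    eτ.symm_apply_apply y
  have hτ : (eτ.symm : ResidueField T →+* _).comp (ResidueField.map (algebraMap B T)) =
      ResidueField.map γ := by
    refine RingHom.ext fun x => ?_
    apply hbij.1
    simp only [RingHom.comp_apply, RingHom.coe_coe]
    rw [heτ]
    exact (congrArg (fun f => f x) hmapcomp).symm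
  obtain ⟨ψ, ⟨hψ1, hψ2⟩, -⟩ := Hensel.IsStrictHenselization.universal
    (R := B) (S := T) (Localization.AtPrime (QQ A B S T)) γ (eτ.symm : ResidueField T →+* _) hτ
  obtain ⟨w, -, hwuniq⟩ := Hensel.IsStrictHenselization.universal
    (R := B) (S := T) T (algebraMap B T) (RingHom.id _) (by rw [RingHom.id_comp])
  have h1 : (phiQ A B S T).comp ψ = RingHom.id T := by
    refine (hwuniq _ ⟨?_, ?_⟩).trans (hwuniq (RingHom.id T) ⟨?_, ?_⟩).symm
    · rw [RingHom.comp_assoc, hψ1, hcomp]
    · intro x
      simp only [RingHom.comp_apply, RingHom.id_apply]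
      rw [← ResidueField.map_residue (phiQ A B S T), hψ2, RingHom.coe_coe]
      exact heτ _
    · rw [RingHom.id_comp]
    · intro x
      simp
  -- `ψ ∘ phiQ = id`
  let u1 : S →+* Localization.AtPrime (QQ A B S T) := ψ.comp (algebraMap S T)
  let u2 : S →+* Localization.AtPrime (QQ A B S T) :=
    algebraMap S (Localization.AtPrime (QQ A B S T))
  have hu2 : ∀ s : S, u2 s = algebraMap (S ⊗[A] B) _ (s ⊗ₜ[A] (1 : B)) := by
    intro s
    show algebraMap S (Localization.AtPrime (QQ A B S T)) s = _
    rw [IsScalarTower.algebraMap_apply S (S ⊗[A] B) (Localization.AtPrime (QQ A B S T)),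
      Algebra.TensorProduct.algebraMap_apply, Algebra.algebraMap_self_apply]
  have hu12 : u1.comp (algebraMap A S) = u2.comp (algebraMap A S) := by
    refine RingHom.ext fun a => ?_
    simp only [RingHom.comp_apply]
    rw [hu2]
    show ψ (algebraMap S T (algebraMap A S a)) = _
    rw [← IsScalarTower.algebraMap_apply A S T, IsScalarTower.algebraMap_apply A B T]
    have := congrArg (fun f => f (algebraMap A B a)) hψ1
    simp only [RingHom.comp_apply] at this
    rw [this, hγ, Groth.Agent.H11.HensQF2.tmul_algebraMap]
  haveI hu2loc : IsLocalHom u2 := hloc1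
  haveI hu2loc' : IsLocalHom (u2.comp (algebraMap A S)) := RingHom.isLocalHom_comp _ _
  obtain ⟨v, -, hvuniq⟩ := Hensel.IsStrictHenselization.universal
    (R := A) (S := S) (Localization.AtPrime (QQ A B S T)) (u2.comp (algebraMap A S))
    (ResidueField.map u2) (ResidueField.map_comp _ _).symm
  have hu : u1 = u2 := by
    refine (hvuniq u1 ⟨hu12, ?_⟩).trans (hvuniq u2 ⟨rfl, fun x => rfl⟩).symm
    intro x
    rw [ResidueField.map_residue]
    show residue _ (ψ (algebraMap S T x)) = _
    rw [hψ2, RingHom.coe_coe]
    apply hbij.1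
    rw [heτ, ResidueField.map_residue, hu2, phiQ_algebraMap, phi_left]
  have h2 : ψ.comp (phiQ A B S T) = RingHom.id _ := by
    refine IsLocalization.ringHom_ext (QQ A B S T).primeCompl ?_
    refine Algebra.TensorProduct.ringHom_ext ?_ ?_
    · refine RingHom.ext fun r => ?_
      simp only [RingHom.comp_apply, RingHom.id_apply]
      show ψ (phiQ A B S T (algebraMap _ _ (r ⊗ₜ[A] (1 : B)))) =
        algebraMap _ _ (r ⊗ₜ[A] (1 : B))
      rw [phiQ_algebraMap, phi_left, ← hu2, ← hu]
      rfl
    · refine RingHom.ext fun b => ?_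
      simp only [RingHom.comp_apply, RingHom.id_apply]
      show ψ (phiQ A B S T (algebraMap _ _ ((1 : S) ⊗ₜ[A] b))) =
        algebraMap _ _ ((1 : S) ⊗ₜ[A] b)
      rw [phiQ_algebraMap, phi_right]
      have := congrArg (fun f => f b) hψ1
      simp only [RingHom.comp_apply] at this
      rw [this, hγ]
  refine ⟨QQ A B S T, hQmax, RingEquiv.ofRingHom (phiQ A B S T) ψ h1 h2, ?_⟩
  intro b
  show phiQ A B S T (algebraMap _ _ ((1 : S) ⊗ₜ[A] b)) = _
  rw [phiQ_algebraMap, phi_right]

end Groth.Agent.H11.HensQF4
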