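import Mathlib
import Groth.Agent.S0523
import Groth.Agent.H11.SymRetract

/-! Sections of smooth algebras lift along Henselian pairs. -/

namespace Groth.Agent.H11.HensSmoothLift

open TensorProduct MvPolynomial

universe u

/-- The standard smooth case. -/
theorem lift_of_isStandardSmooth (R : Type u) [CommRing R] (B : Type u) [CommRing B]
    [Algebra R B] [Algebra.IsStandardSmooth R B] (A : Type u) [CommRing A] [Algebra R A]
    (I : Ideal A) [HenselianRing A I] (σ : B →ₐ[R] A ⧸ I) :
    ∃ τ : B →ₐ[R] A, (Ideal.Quotient.mkₐ R I).comp τ = σ := by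
  classical
  obtain ⟨n, g, hgC, hg⟩ := RingHom.IsStandardSmooth.exists_etale_mvPolynomial
    (RingHom.isStandardSmooth_algebraMap.mpr (inferInstance : Algebra.IsStandardSmooth R B))
  -- lifts of the images of the variables
  choose a ha using fun i : Fin n => Ideal.Quotient.mk_surjective (σ (g (X i)))
  let ψ : MvPolynomial (Fin n) R →ₐ[R] A := aeval a
  have hψ : ∀ p, Ideal.Quotient.mk I (ψ p) = σ (g p) := by
    intro p
    induction p using MvPolynomial.induction_on with
    | C r =>
      have h1 : g (C r) = algebraMap R B r := by rw [← hgC]; rfl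
      rw [h1, AlgHom.commutes]
      simp [ψ]
    | add p q hp hq => simp only [map_add, hp, hq]
    | mul_X p i hp =>
      simp only [map_mul, hp]
      congr 1
      simp [ψ, ha]
  letI algPB : Algebra (MvPolynomial (Fin n) R) B := g.toAlgebra
  letI algPA : Algebra (MvPolynomial (Fin n) R) A := ψ.toRingHom.toAlgebra
  haveI : Algebra.Etale (MvPolynomial (Fin n) R) B := hg
  -- the étale A-algebra
  let A' := A ⊗[MvPolynomial (Fin n) R] B
  -- section to A/I
  let σP : B →ₐ[MvPolynomial (Fin n) R] A ⧸ I :=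
    { σ.toRingHom with
      commutes' := fun p => by
        change σ (g p) = Ideal.Quotient.mk I (ψ p)
        exact (hψ p).symm }
  let s : A' →ₐ[A] A ⧸ I :=
    Algebra.TensorProduct.lift (Ideal.Quotient.mkₐ A I) σP (fun _ _ => Commute.all _ _)
  obtain ⟨τ', hτ'⟩ := (Groth.Agent.S0523.result A I).mp inferInstance A' s
  have hτ'' : ∀ z, Ideal.Quotient.mk I (τ' z) = s z := fun z => congrArg (fun f => f z) hτ'
  let inc : B →+* A' := (Algebra.TensorProduct.includeRight :
    B →ₐ[MvPolynomial (Fin n) R] A').toRingHom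
  refine ⟨{ (τ'.toRingHom.comp inc) with
    commutes' := fun r => ?_ }, ?_⟩
  · change τ' ((1 : A) ⊗ₜ[MvPolynomial (Fin n) R] (algebraMap R B r)) = algebraMap R A r
    have h1 : algebraMap R B r = algebraMap (MvPolynomial (Fin n) R) B (C r) := by
      change _ = g (C r)
      rw [← hgC]; rfl
    have h2 : (1 : A) ⊗ₜ[MvPolynomial (Fin n) R] (algebraMap (MvPolynomial (Fin n) R) B (C r)) =
        algebraMap A A' (algebraMap R A r) := by
      have e1 : algebraMap (MvPolynomial (Fin n) R) B (C r) =
          (C r : MvPolynomial (Fin n) R) • (1 : B) := Algebra.algebraMap_eq_smul_one _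
      have e2 : (C r : MvPolynomial (Fin n) R) • (1 : A) = algebraMap R A r := by
        rw [Algebra.smul_def, mul_one]
        change ψ (C r) = _
        simp [ψ]
      rw [e1, ← TensorProduct.smul_tmul, e2, Algebra.TensorProduct.algebraMap_apply]
      rfl
    rw [h1, h2, AlgHom.commutes]
    rfl
  · ext b
    change Ideal.Quotient.mk I (τ' ((1 : A) ⊗ₜ[MvPolynomial (Fin n) R] b)) = σ b
    rw [hτ'']
    change s ((1 : A) ⊗ₜ[MvPolynomial (Fin n) R] b) = σ b
    have hs : s ((1 : A) ⊗ₜ[MvPolynomial (Fin n) R] b) =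
        (Ideal.Quotient.mkₐ A I) 1 * σP b := Algebra.TensorProduct.lift_tmul _ _ _ _ _
    rw [hs, map_one, one_mul]
    rfl

/-- The general smooth case. -/
theorem main (R : Type u) [CommRing R] (S : Type u) [CommRing S]
    [Algebra R S] [Algebra.Smooth R S] (A : Type u) [CommRing A] [Algebra R A] (I : Ideal A)
    [HenselianRing A I] (σ : S →ₐ[R] A ⧸ I) :
    ∃ τ : S →ₐ[R] A, (Ideal.Quotient.mkₐ R I).comp τ = σ := by
  obtain ⟨B, _, _, _, _, _, ⟨ρ⟩, _⟩ := Groth.Agent.H11.SymRetract.main R S
  obtain ⟨τB, hτB⟩ := lift_of_isStandardSmooth R B A I (σ.comp (ρ.restrictScalars R))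
  refine ⟨τB.comp (IsScalarTower.toAlgHom R S B), ?_⟩
  ext x
  have := congrArg (fun f => f (algebraMap S B x)) hτB
  simp only [AlgHom.comp_apply, AlgHom.restrictScalars_apply, AlgHom.commutes] at this
  simpa using this

end Groth.Agent.H11.HensSmoothLift
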