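import Mathlib
import Groth.Agent.H11.HensLift

open IsLocalRing TensorProduct

universe u

namespace Groth.Agent.H11.HensEt

/-- A map from an étale algebra over a separably closed field `k` to a field extension of `k` has
image in `k`. -/
theorem range_le_of_isSepClosed (k : Type*) [Field k] [IsSepClosed k] (E : Type*) [CommRing E]
    [Algebra k E] [Algebra.Etale k E] (K : Type*) [Field K] [Algebra k K] (ψ : E →ₐ[k] K)
    (x : E) : ψ x ∈ (algebraMap k K).range := by
  classical
  haveI := Algebra.FormallyUnramified.finite_of_free k E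
  haveI : IsArtinianRing E := isArtinian_of_tower k inferInstance
  haveI : Fintype (PrimeSpectrum E) := Fintype.ofFinite _
  obtain ⟨e, -⟩ : ∃ e : E ≃ₐ[k] (PrimeSpectrum E → k), True :=
    ⟨Algebra.FormallyEtale.equivPiOfIsSepClosed k E, trivial⟩
  obtain ⟨ψ', hψ'⟩ : ∃ ψ' : (PrimeSpectrum E → k) →ₐ[k] K, ψ' = ψ.comp e.symm.toAlgHom :=
    ⟨_, rfl⟩
  have hx : ψ x = ψ' (e x) := by rw [hψ']; simp
  rw [hx, pi_eq_sum_univ' (e x), map_sum]
  apply Subring.sum_mem
  intro i _
  rw [map_smul]
  have hid : IsIdempotentElem (ψ' (Pi.single i 1)) := by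
    have : IsIdempotentElem (Pi.single i (1 : k) : PrimeSpectrum E → k) := by
      unfold IsIdempotentElem
      rw [← Pi.single_mul, mul_one]
    exact this.map ψ'
  rcases IsIdempotentElem.iff_eq_zero_or_one.1 hid with h | h
  · rw [h, smul_zero]
    exact Subring.zero_mem _
  · rw [h, Algebra.smul_def, mul_one]
    exact ⟨_, rfl⟩

/-- Sections of an étale algebra over a henselian local ring with separably closed residue field
are the same as maps to any henselian local extension. -/
theorem algHom_comp_bijective (R : Type u) [CommRing R] [HenselianLocalRing R]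
    [IsSepClosed (ResidueField R)] (S : Type u) [CommRing S] [IsLocalRing S] [Algebra R S]
    [IsLocalHom (algebraMap R S)] (A : Type u) [CommRing A] [Algebra R A] [Algebra.Etale R A] :
    Function.Bijective (fun ρ : A →ₐ[R] R => (Algebra.ofId R S).comp ρ) := by
  have hι : Function.Injective (algebraMap (ResidueField R) (ResidueField S)) :=
    (algebraMap (ResidueField R) (ResidueField S)).injective
  have hjacR : Ideal.jacobson (⊥ : Ideal R) = maximalIdeal R :=
    IsLocalRing.jacobson_eq_maximalIdeal ⊥ bot_ne_top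
  have hjacS : Ideal.jacobson (⊥ : Ideal S) = maximalIdeal S :=
    IsLocalRing.jacobson_eq_maximalIdeal ⊥ bot_ne_top
  constructor
  · intro ρ₁ ρ₂ h
    apply algHom_eq_of_sub_mem_jacobson
    intro a
    rw [hjacR, ← Ideal.Quotient.eq]
    apply hι
    have := AlgHom.congr_fun h a
    simp only [AlgHom.comp_apply, Algebra.ofId_apply] at this
    show algebraMap (ResidueField R) (ResidueField S) (residue R (ρ₁ a)) =
      algebraMap (ResidueField R) (ResidueField S) (residue R (ρ₂ a))
    rw [ResidueField.algebraMap_residue, ResidueField.algebraMap_residue, this]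
  · intro σ
    obtain ⟨θ, hθ⟩ : ∃ θ : A →ₐ[R] ResidueField S,
        θ = (IsScalarTower.toAlgHom R S (ResidueField S)).comp σ := ⟨_, rfl⟩
    obtain ⟨ψ, hψ⟩ : ∃ ψ : ResidueField R ⊗[R] A →ₐ[ResidueField R] ResidueField S,
        ∀ a, ψ (1 ⊗ₜ a) = θ a :=
      ⟨Algebra.TensorProduct.lift (Algebra.ofId _ _) θ (fun _ _ => Commute.all _ _), fun a => by
        rw [Algebra.TensorProduct.lift_tmul, map_one, one_mul]⟩
    obtain ⟨ι, hιdef⟩ : ∃ ι : ResidueField R →ₐ[R] ResidueField S,
        ι = IsScalarTower.toAlgHom R (ResidueField R) (ResidueField S) := ⟨_, rfl⟩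
    have hιinj : Function.Injective ι := by rw [hιdef]; exact hι
    have hrange : ∀ a, θ a ∈ ι.range := by
      intro a
      obtain ⟨c, hc⟩ := range_le_of_isSepClosed (ResidueField R) _ (ResidueField S) ψ (1 ⊗ₜ a)
      rw [hψ] at hc
      exact ⟨c, by rw [hιdef]; exact hc⟩
    obtain ⟨θ₀, hθ₀⟩ : ∃ θ₀ : A →ₐ[R] ResidueField R, ∀ a, ι (θ₀ a) = θ a := by
      refine ⟨(AlgEquiv.ofInjective ι hιinj).symm.toAlgHom.comp (θ.codRestrict ι.range hrange),
        fun a => ?_⟩
      have := (AlgEquiv.ofInjective ι hιinj).apply_symm_apply (θ.codRestrict ι.range hrange a)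
      exact congrArg Subtype.val this
    obtain ⟨ρ, hρ⟩ := exists_algHom_lift_residue R R A θ₀
    refine ⟨ρ, ?_⟩
    apply algHom_eq_of_sub_mem_jacobson
    intro a
    rw [hjacS, ← Ideal.Quotient.eq]
    show residue S (algebraMap R S (ρ a)) = residue S (σ a)
    rw [← ResidueField.algebraMap_residue, hρ]
    have := hθ₀ a
    rw [hιdef, hθ] at this
    exact this

end Groth.Agent.H11.HensEt
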