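import Mathlib
import Groth.Agent.H11.HensSup

/-! Henselian pairs from complete towers of nil-thickenings (helper11). -/

namespace Groth.Agent.H11

open Polynomial

variable {A : Type*} [CommRing A]

theorem isUnit_mk_of_le_radical {J K : Ideal A} (hKJ : K ≤ J.radical) {x : A}
    (h : IsUnit (Ideal.Quotient.mk K x)) : IsUnit (Ideal.Quotient.mk J x) := by
  rw [isUnit_mk_iff] at h
  obtain ⟨b, hb⟩ := h
  obtain ⟨k, hk⟩ := hKJ hb
  have hnil : IsNilpotent (Ideal.Quotient.mk J (x * b - 1)) := by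
    refine ⟨k, ?_⟩
    rw [← map_pow, Ideal.Quotient.eq_zero_iff_mem]; exact hk
  have h2 : IsUnit (Ideal.Quotient.mk J x * Ideal.Quotient.mk J b) := by
    have := hnil.isUnit_add_one
    simpa using this
  exact isUnit_of_mul_isUnit_left h2

theorem isNilpotent_mk_of_mem_radical {J : Ideal A} {x : A} (hx : x ∈ J.radical) :
    IsNilpotent (Ideal.Quotient.mk J x) := by
  obtain ⟨k, hk⟩ := hx
  refine ⟨k, ?_⟩
  rw [← map_pow, Ideal.Quotient.eq_zero_iff_mem]; exact hk

/-- nil-lifting of approximate roots (no monic hypothesis) -/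
theorem exists_root_mod (J K : Ideal A) (hJK : J ≤ K) (hKJ : K ≤ J.radical) (f : A[X]) (a₀ : A)
    (h₁ : f.eval a₀ ∈ K) (h₂ : IsUnit (Ideal.Quotient.mk K (f.derivative.eval a₀))) :
    ∃ a, f.eval a ∈ J ∧ a - a₀ ∈ K := by
  have hn : IsNilpotent (aeval (Ideal.Quotient.mk J a₀) f) := by
    have : aeval (Ideal.Quotient.mk J a₀) f = Ideal.Quotient.mk J (f.eval a₀) :=
      aeval_algebraMap_apply_eq_algebraMap_eval a₀ f
    rw [this]
    exact isNilpotent_mk_of_mem_radical (hKJ h₁)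
  have hu' : IsUnit (aeval (Ideal.Quotient.mk J a₀) (derivative f)) := by
    have : aeval (Ideal.Quotient.mk J a₀) (derivative f)
        = Ideal.Quotient.mk J (f.derivative.eval a₀) :=
      aeval_algebraMap_apply_eq_algebraMap_eval a₀ _
    rw [this]; exact isUnit_mk_of_le_radical hKJ h₂
  obtain ⟨r', ⟨hr1, hr2⟩, -⟩ := existsUnique_nilpotent_sub_and_aeval_eq_zero hn hu'
  obtain ⟨a, rfl⟩ := Ideal.Quotient.mk_surjective r'
  have h10 : a - a₀ ∈ J.radical := by
    obtain ⟨k, hk⟩ := hr1.neg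
    refine ⟨k, ?_⟩
    rw [← Ideal.Quotient.eq_zero_iff_mem, map_pow, map_sub]
    simpa using hk
  have hfa : f.eval a ∈ J := by
    have : aeval (Ideal.Quotient.mk J a) f = Ideal.Quotient.mk J (f.eval a) :=
      aeval_algebraMap_apply_eq_algebraMap_eval a f
    rw [this] at hr2
    exact Ideal.Quotient.eq_zero_iff_mem.1 hr2
  refine ⟨a, hfa, ?_⟩
  apply root_sub_mem K f a a₀ (hJK hfa) h₁
  intro c
  have hnil : IsNilpotent (Ideal.Quotient.mk K (c * (a - a₀))) := by
    obtain ⟨k, hk⟩ := h10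
    refine ⟨k, ?_⟩
    rw [← map_pow, Ideal.Quotient.eq_zero_iff_mem, mul_pow]
    exact K.mul_mem_left _ (hJK hk)
  rw [map_add]
  exact hnil.isUnit_add_left_of_commute h₂ (Commute.all _ _)

theorem exists_seq {α : Type*} (P : ℕ → α → Prop) (Q : ℕ → α → α → Prop) (x0 : α) (h0 : P 0 x0)
    (step : ∀ d a, P d a → ∃ a', P (d + 1) a' ∧ Q d a a') :
    ∃ s : ℕ → α, s 0 = x0 ∧ (∀ d, P d (s d)) ∧ ∀ d, Q d (s d) (s (d + 1)) := by
  classical
  let t : ∀ d, {a // P d a} := fun d => Nat.rec ⟨x0, h0⟩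
    (fun d p => ⟨Classical.choose (step d p.1 p.2), (Classical.choose_spec (step d p.1 p.2)).1⟩) d
  exact ⟨fun d => (t d).1, rfl, fun d => (t d).2,
    fun d => (Classical.choose_spec (step d (t d).1 (t d).2)).2⟩

/-- root lifting along a complete separated tower of nil-thickenings (no monic hypothesis) -/
theorem root_of_tower (I : ℕ → Ideal A) (hanti : ∀ j, I (j + 1) ≤ I j)
    (hrad : ∀ j, I j ≤ (I (j + 1)).radical) (hsep : ∀ x, (∀ j, x ∈ I j) → x = 0)
    (hcompl : ∀ a : ℕ → A, (∀ j, a (j + 1) - a j ∈ I j) → ∃ L, ∀ j, L - a j ∈ I j)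
    (f : A[X]) (a₀ : A) (h₁ : f.eval a₀ ∈ I 0)
    (h₂ : IsUnit (Ideal.Quotient.mk (I 0) (f.derivative.eval a₀))) :
    ∃ a, f.IsRoot a ∧ a - a₀ ∈ I 0 := by
  have hrad0 : ∀ d, I 0 ≤ (I d).radical := by
    intro d
    induction d with
    | zero => exact Ideal.le_radical
    | succ d ih =>
      refine le_trans ih ?_
      have := Ideal.radical_mono (hrad d)
      rwa [Ideal.radical_idem] at this
  have hanti0 : ∀ d, I d ≤ I 0 := by
    intro d
    induction d with
    | zero => exact le_rfl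
    | succ d ih => exact le_trans (hanti d) ih
  obtain ⟨s, hs0, hsP, hsQ⟩ := exists_seq
    (fun d a => f.eval a ∈ I d ∧ a - a₀ ∈ I 0) (fun d a a' => a' - a ∈ I d) a₀
    ⟨h₁, by simp⟩ (by
      rintro d a ⟨ha1, ha2⟩
      have hu : IsUnit (Ideal.Quotient.mk (I 0) (f.derivative.eval a)) :=
        isUnit_mk_eval_of_sub_mem (I 0) f.derivative a a₀ ha2 h₂
      obtain ⟨a', ha'1, ha'2⟩ := exists_root_mod (I (d + 1)) (I 0) (hanti0 (d + 1))
        (hrad0 (d + 1)) f a (hanti0 d ha1) hu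
      refine ⟨a', ⟨ha'1, ?_⟩, ?_⟩
      · have : a' - a₀ = (a' - a) + (a - a₀) := by ring
        rw [this]; exact (I 0).add_mem ha'2 ha2
      · apply root_sub_mem (I d) f a' a (hanti d ha'1) ha1
        intro c
        apply isUnit_mk_of_le_radical (hrad0 d)
        exact isUnit_mk_add_of_mem (I 0) hu ((I 0).mul_mem_left _ ha'2))
  obtain ⟨L, hL⟩ := hcompl s hsQ
  refine ⟨L, ?_, ?_⟩
  · rw [IsRoot.def]
    apply hsep
    intro j
    have h3 := derivative_eval_sub_mem (I j) f L (s j) (hL j)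
    have : f.eval L = (f.eval L - f.eval (s j)) + f.eval (s j) := by ring
    rw [this]
    exact (I j).add_mem h3 (hsP j).1
  · have := hL 0
    rwa [hs0] at this

theorem hens_of_tower (I : ℕ → Ideal A) (hanti : ∀ j, I (j + 1) ≤ I j)
    (hrad : ∀ j, I j ≤ (I (j + 1)).radical) (hsep : ∀ x, (∀ j, x ∈ I j) → x = 0)
    (hcompl : ∀ a : ℕ → A, (∀ j, a (j + 1) - a j ∈ I j) → ∃ L, ∀ j, L - a j ∈ I j) :
    HenselianRing A (I 0) := by
  refine ⟨?_, ?_⟩
  · intro x hx
    rw [Ideal.mem_jacobson_bot]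
    intro y
    have h1 : (C (x * y + 1) * X - 1 : A[X]).eval 1 ∈ I 0 := by
      have : (C (x * y + 1) * X - 1 : A[X]).eval 1 = x * y := by simp
      rw [this]; exact (I 0).mul_mem_right _ hx
    have h2 : IsUnit (Ideal.Quotient.mk (I 0) ((C (x * y + 1) * X - 1 : A[X]).derivative.eval 1)) := by
      have : (C (x * y + 1) * X - 1 : A[X]).derivative.eval 1 = x * y + 1 := by simp
      rw [this, map_add, Ideal.Quotient.eq_zero_iff_mem.2 ((I 0).mul_mem_right _ hx), zero_add,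
        map_one]
      exact isUnit_one
    obtain ⟨b, hb, -⟩ := root_of_tower I hanti hrad hsep hcompl _ 1 h1 h2
    rw [IsRoot.def] at hb
    have : (x * y + 1) * b = 1 := by
      have h3 : (C (x * y + 1) * X - 1 : A[X]).eval b = (x * y + 1) * b - 1 := by simp
      rw [h3, sub_eq_zero] at hb
      exact hb
    exact IsUnit.of_mul_eq_one _ this
  · intro f _ a₀ h₁ h₂
    exact root_of_tower I hanti hrad hsep hcompl f a₀ h₁ h₂

end Groth.Agent.H11
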