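import Mathlib
import Groth.Agent.H11.HensDecomp

open Polynomial IsLocalRing TensorProduct

universe u

namespace Groth.Agent.H11.HensEt

theorem surjective_of_unramified_local (S S₁ : Type*) [CommRing S] [IsLocalRing S] [CommRing S₁]
    [IsLocalRing S₁] [Algebra S S₁] [IsLocalHom (algebraMap S S₁)]
    [Algebra.FormallyUnramified S S₁]
    [Module.Finite S S₁] (h : Function.Surjective (algebraMap S (ResidueField S₁))) :
    Function.Surjective (algebraMap S S₁) := by
  have hmax : (maximalIdeal S).map (algebraMap S S₁) = maximalIdeal S₁ :=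
    Algebra.FormallyUnramified.map_maximalIdeal
  have htop : (⊤ : Submodule S S₁) ≤ LinearMap.range (Algebra.linearMap S S₁) := by
    apply Submodule.le_of_le_smul_of_le_jacobson_bot (I := maximalIdeal S)
      Module.Finite.fg_top (IsLocalRing.maximalIdeal_le_jacobson _)
    intro x _
    obtain ⟨r, hr⟩ := h (residue S₁ x)
    have hx : x - algebraMap S S₁ r ∈ maximalIdeal S₁ := by
      rw [← Ideal.Quotient.eq_zero_iff_mem]
      show residue S₁ (x - algebraMap S S₁ r) = 0
      rw [map_sub, sub_eq_zero, ← hr]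
      rfl
    rw [← hmax] at hx
    have hx' : x - algebraMap S S₁ r ∈ (maximalIdeal S) • (⊤ : Submodule S S₁) := by
      rw [Ideal.smul_top_eq_map]
      exact hx
    have : x = algebraMap S S₁ r + (x - algebraMap S S₁ r) := by ring
    rw [this]
    exact Submodule.add_mem_sup ⟨r, rfl⟩ hx'
  intro x
  obtain ⟨r, hr⟩ := htop (Submodule.mem_top (x := x))
  exact ⟨r, hr⟩

theorem unramified_split (R : Type u) [CommRing R]
    [HenselianLocalRing R] [IsSepClosed (IsLocalRing.ResidueField R)] (S : Type u) [CommRing S]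
    [Algebra R S] [Algebra.Unramified R S] :
    ∃ (ι : Type u) (_ : Fintype ι) (A : ι → Type u) (_ : ∀ i, CommRing (A i))
      (_ : ∀ i, Algebra R (A i)) (B : Type u) (_ : CommRing B) (_ : Algebra R B),
      (∀ i, Function.Surjective (algebraMap R (A i))) ∧
      Ideal.map (algebraMap R B) (IsLocalRing.maximalIdeal R) = ⊤ ∧
      Nonempty (S ≃ₐ[R] ((∀ i, A i) × B)) := by
  classical
  obtain ⟨e, he, hfin, htop⟩ := quasiFinite_split R S
  obtain ⟨n, q, ε, hqprime, hqlies, hε, hεq, hεuniq⟩ :=
    exists_local_decomposition R (S ⧸ Ideal.span ({1 - e} : Set S))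
  obtain ⟨ε', hε'⟩ : ∃ ε' : ULift.{u} (Fin n) → S ⧸ Ideal.span ({1 - e} : Set S),
      ε' = ε ∘ Equiv.ulift := ⟨_, rfl⟩
  have hcoi : CompleteOrthogonalIdempotents ε' := by
    rw [hε']; exact (CompleteOrthogonalIdempotents.equiv Equiv.ulift).2 hε
  refine ⟨ULift.{u} (Fin n), inferInstance,
    fun i => (S ⧸ Ideal.span ({1 - e} : Set S)) ⧸ Ideal.span ({1 - ε' i} : Set _),
    fun i => inferInstance, fun i => inferInstance, S ⧸ Ideal.span ({e} : Set S), inferInstance,
    inferInstance, ?_, htop, ?_⟩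
  · intro i
    haveI : Algebra.IsIntegral R (S ⧸ Ideal.span ({1 - e} : Set S)) := inferInstance
    haveI := hqprime i.down
    have hεi : ε' i = ε i.down := by rw [hε']; rfl
    obtain ⟨hloc, hmaxeq⟩ := isLocalRing_quot_of_unique (R := R) (ε' i) (q i.down)
      (hεi ▸ hεq _) (hεi ▸ hε.idem _) (hεi ▸ hεuniq _)
    haveI := hloc
    haveI : Algebra.FormallyUnramified R
        ((S ⧸ Ideal.span ({1 - e} : Set S)) ⧸ Ideal.span ({1 - ε' i} : Set _)) :=
      Algebra.FormallyUnramified.of_surjective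
        ((Ideal.Quotient.mkₐ R (Ideal.span ({1 - ε' i} : Set _))).comp
          (Ideal.Quotient.mkₐ R (Ideal.span ({1 - e} : Set S))))
        ((Ideal.Quotient.mkₐ_surjective R _).comp (Ideal.Quotient.mkₐ_surjective R _))
    haveI : Module.Finite R
        ((S ⧸ Ideal.span ({1 - e} : Set S)) ⧸ Ideal.span ({1 - ε' i} : Set _)) := inferInstance
    haveI : IsLocalHom (algebraMap R
        ((S ⧸ Ideal.span ({1 - e} : Set S)) ⧸ Ideal.span ({1 - ε' i} : Set _))) := by
      apply ((IsLocalRing.local_hom_TFAE _).out 0 4).2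
      haveI : ((maximalIdeal ((S ⧸ Ideal.span ({1 - e} : Set S)) ⧸
          Ideal.span ({1 - ε' i} : Set _))).comap (algebraMap R _)).IsMaximal :=
        Ideal.isMaximal_comap_of_isIntegral_of_isMaximal _
      exact IsLocalRing.eq_maximalIdeal this
    apply surjective_of_unramified_local
    have h1 := IsSepClosed.algebraMap_surjective (ResidueField R)
      (ResidueField ((S ⧸ Ideal.span ({1 - e} : Set S)) ⧸ Ideal.span ({1 - ε' i} : Set _)))
    intro y
    obtain ⟨x, rfl⟩ := h1 y
    obtain ⟨r, rfl⟩ := IsLocalRing.residue_surjective x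
    exact ⟨r, rfl⟩
  · refine ⟨(AlgEquiv.prodQuotientOfIsIdempotentElem R he.one_sub he (by ring)
      (by rw [sub_mul, one_mul, he.eq, sub_self])).trans (AlgEquiv.prodCongr ?_ AlgEquiv.refl)⟩
    exact AlgEquiv.ofBijective (AlgHom.pi fun i => Ideal.Quotient.mkₐ R _) hcoi.bijective_pi

end Groth.Agent.H11.HensEt
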