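import Mathlib
import Groth.Prelude.Def_Hens2
import Groth.Agent.H11.DLHens
import Groth.Agent.H11.PairFP

/-!
# Algebras whose `Hom` functor commutes with directed colimits of henselian pairs
-/

set_option autoImplicit false
universe u
open MvPolynomial

namespace Groth.Agent.H11.DL

section lift

variable {κ : Type u} [Preorder κ] [IsDirectedOrder κ] [Nonempty κ]
  (Ra : κ → Type u) [∀ a, CommRing (Ra a)] (t : ∀ a b : κ, a ≤ b → (Ra a →+* Ra b))
  [DirectedSystem Ra (fun a b h => t a b h)]
  {B : Type u} [CommRing B] (v : ∀ a, Ra a →+* B)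
  (hv : ∀ a b (h : a ≤ b) x, v b (t a b h x) = v a x)

theorem lift_bijective (hs : ∀ b : B, ∃ a x, v a x = b)
    (hk : ∀ a x, v a x = 0 → ∃ (b : κ) (h : a ≤ b), t a b h x = 0) :
    Function.Bijective (DirectLimit.Ring.lift Ra t B v hv) := by
  constructor
  · rw [injective_iff_map_eq_zero]
    intro x hx
    obtain ⟨a, y, rfl⟩ := of_surj Ra t x
    rw [DirectLimit.Ring.lift_of] at hx
    obtain ⟨b, h, hb⟩ := hk a y hx
    rw [of_eq_zero_iff]
    exact ⟨b, h, hb⟩
  · intro b
    obtain ⟨a, x, rfl⟩ := hs b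
    exact ⟨DirectLimit.Ring.of Ra t a x, DirectLimit.Ring.lift_of ..⟩

end lift

/-- The factorisation half of "`Hom_A(B, -)` commutes with directed colimits of henselian pairs". -/
def HomColim (A : Type u) [CommRing A] (I : Ideal A) (B : Type u) [CommRing B] [Algebra A B] :
    Prop :=
  ∀ (κ : Type u) [Preorder κ] [IsDirectedOrder κ] [Nonempty κ]
    (Ra : κ → Type u) [∀ a, CommRing (Ra a)] [∀ a, Algebra A (Ra a)]
    [∀ a, HenselianRing (Ra a) (I.map (algebraMap A (Ra a)))]
    (t : ∀ a b : κ, a ≤ b → (Ra a →+* Ra b)) [DirectedSystem Ra (fun a b hab => t a b hab)],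
    (∀ (a b : κ) (hab : a ≤ b), (t a b hab).comp (algebraMap A (Ra a)) = algebraMap A (Ra b)) →
    ∀ [Algebra A (DirectLimit Ra t)],
    (∀ (a : κ) (x : A), algebraMap A (DirectLimit Ra t) x =
      DirectLimit.Ring.of Ra t a (algebraMap A (Ra a) x)) →
    ∀ χ : B →ₐ[A] DirectLimit Ra t, ∃ (a : κ) (φ : B →ₐ[A] Ra a),
        ∀ x : B, DirectLimit.Ring.of Ra t a (φ x) = χ x

variable {A : Type u} [CommRing A] {I : Ideal A} {B : Type u} [CommRing B] [Algebra A B]

/-- If `B` is the colimit of a directed system of henselian pairs over `A`, then the identity of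
`B` factors through a stage. -/
theorem exists_section_of_homColim (h : HomColim A I B)
    {κ : Type u} [Preorder κ] [IsDirectedOrder κ] [Nonempty κ]
    (Ra : κ → Type u) [∀ a, CommRing (Ra a)] [∀ a, Algebra A (Ra a)]
    [∀ a, HenselianRing (Ra a) (I.map (algebraMap A (Ra a)))]
    (t : ∀ a b : κ, a ≤ b → (Ra a →+* Ra b)) [DirectedSystem Ra (fun a b hab => t a b hab)]
    (ht : ∀ (a b : κ) (hab : a ≤ b), (t a b hab).comp (algebraMap A (Ra a)) = algebraMap A (Ra b))
    (v : ∀ a, Ra a →ₐ[A] B) (hv : ∀ a b (h : a ≤ b) x, v b (t a b h x) = v a x)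
    (hs : ∀ b : B, ∃ a x, v a x = b)
    (hk : ∀ a x, v a x = 0 → ∃ (b : κ) (h : a ≤ b), t a b h x = 0) :
    ∃ (a : κ) (φ : B →ₐ[A] Ra a), ∀ x, v a (φ x) = x := by
  classical
  let a₀ : κ := Classical.arbitrary κ
  letI : Algebra A (DirectLimit Ra t) :=
    ((DirectLimit.Ring.of Ra t a₀).comp (algebraMap A (Ra a₀))).toAlgebra
  have halg : ∀ (a : κ) (x : A), algebraMap A (DirectLimit Ra t) x =
      DirectLimit.Ring.of Ra t a (algebraMap A (Ra a) x) := by
    intro a x
    obtain ⟨c, h1, h2⟩ := exists_ge_ge a₀ a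
    show DirectLimit.Ring.of Ra t a₀ (algebraMap A (Ra a₀) x) = _
    rw [← of_f' Ra t h1, ← of_f' Ra t h2]
    have e1 := RingHom.congr_fun (ht a₀ c h1) x
    have e2 := RingHom.congr_fun (ht a c h2) x
    simp only [RingHom.comp_apply] at e1 e2
    rw [e1, e2]
  let Λ := DirectLimit.Ring.lift Ra t B (fun a => (v a : Ra a →+* B)) hv
  have hΛ : Function.Bijective Λ := lift_bijective Ra t (fun a => (v a : Ra a →+* B)) hv hs hk
  let e := RingEquiv.ofBijective Λ hΛ
  let χ : B →ₐ[A] DirectLimit Ra t :=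
    { (e.symm : B →+* DirectLimit Ra t) with
      commutes' := fun x => by
        show e.symm (algebraMap A B x) = algebraMap A (DirectLimit Ra t) x
        rw [RingEquiv.symm_apply_eq, halg a₀]
        exact ((v a₀).commutes x).symm }
  obtain ⟨a, φ, hφ⟩ := h κ Ra t ht halg χ
  refine ⟨a, φ, fun x => ?_⟩
  have h1 : Λ (DirectLimit.Ring.of Ra t a (φ x)) = Λ (χ x) := by rw [hφ]
  have h2 : Λ (DirectLimit.Ring.of Ra t a (φ x)) = v a (φ x) := rfl
  rw [← h2, h1]
  show e (e.symm x) = x
  exact e.apply_symm_apply x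

/-! ### The henselization of an `A`-algebra along `I`, as an `A`-algebra -/

section HOver

variable (A : Type u) [CommRing A] (I : Ideal A) (P : Type u) [CommRing P] [Algebra A P]

/-- The henselization of `(P, IP)`. -/
def HOver : Type u := PH.PHens P (I.map (algebraMap A P))

noncomputable instance : CommRing (HOver A I P) :=
  inferInstanceAs (CommRing (PH.PHens P (I.map (algebraMap A P))))

noncomputable instance : Algebra P (HOver A I P) :=
  inferInstanceAs (Algebra P (PH.PHens P (I.map (algebraMap A P))))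

noncomputable instance : Algebra A (HOver A I P) :=
  ((algebraMap P (HOver A I P)).comp (algebraMap A P)).toAlgebra

instance : IsScalarTower A P (HOver A I P) := IsScalarTower.of_algebraMap_eq (fun _ => rfl)

theorem isPairHenselization_hOver :
    Hens2.IsPairHenselization P (I.map (algebraMap A P)) (HOver A I P) :=
  PH.isPairHenselization_pHens P (I.map (algebraMap A P))

theorem map_map_hOver : (I.map (algebraMap A P)).map (algebraMap P (HOver A I P)) =
    I.map (algebraMap A (HOver A I P)) := by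
  rw [Ideal.map_map, ← IsScalarTower.algebraMap_eq]

instance : HenselianRing (HOver A I P) (I.map (algebraMap A (HOver A I P))) := by
  rw [← map_map_hOver]
  exact (isPairHenselization_hOver A I P).1

variable {A I P}
variable {C : Type u} [CommRing C] [Algebra A C]

theorem exists_lift_hOver (hC : HenselianRing C (I.map (algebraMap A C))) (g : P →ₐ[A] C) :
    ∃ G : HOver A I P →ₐ[A] C, ∀ p, G (algebraMap P (HOver A I P) p) = g p := by
  have hle : (I.map (algebraMap A P)).map (g : P →+* C) ≤ I.map (algebraMap A C) := by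
    rw [Ideal.map_map]
    have : (g : P →+* C).comp (algebraMap A P) = algebraMap A C := by
      ext x
      exact g.commutes x
    rw [this]
  obtain ⟨G, hG, -⟩ := (isPairHenselization_hOver A I P).2 C (I.map (algebraMap A C))
    (g : P →+* C) hC hle
  have hG' : ∀ p, G (algebraMap P (HOver A I P) p) = g p := fun p => RingHom.congr_fun hG p
  refine ⟨{ G with
    commutes' := fun a => ?_ }, hG'⟩
  show G (algebraMap A (HOver A I P) a) = _
  rw [IsScalarTower.algebraMap_apply A P (HOver A I P), hG', g.commutes]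

theorem algHom_ext_hOver (hC : HenselianRing C (I.map (algebraMap A C)))
    (G₁ G₂ : HOver A I P →ₐ[A] C)
    (h : ∀ p, G₁ (algebraMap P (HOver A I P) p) = G₂ (algebraMap P (HOver A I P) p)) :
    G₁ = G₂ := by
  have key : (G₁ : HOver A I P →+* C) = (G₂ : HOver A I P →+* C) := by
    apply PH.ringHom_ext_of_isPairHenselization (isPairHenselization_hOver A I P) _ hC
    · rw [← Ideal.map_map, map_map_hOver, Ideal.map_map]
      have : (G₁ : HOver A I P →+* C).comp (algebraMap A (HOver A I P)) = algebraMap A C := by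
        ext x
        exact G₁.commutes x
      rw [this]
    · ext p
      exact h p
  ext x
  exact RingHom.congr_fun key x

/-- The chosen lift. -/
noncomputable def liftHOver (hC : HenselianRing C (I.map (algebraMap A C))) (g : P →ₐ[A] C) :
    HOver A I P →ₐ[A] C := (exists_lift_hOver hC g).choose

theorem liftHOver_algebraMap (hC : HenselianRing C (I.map (algebraMap A C))) (g : P →ₐ[A] C)
    (p : P) : liftHOver hC g (algebraMap P (HOver A I P) p) = g p :=
  (exists_lift_hOver hC g).choose_spec p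

/-- Functoriality of the range of the lift. -/
theorem range_liftHOver_le (hC : HenselianRing C (I.map (algebraMap A C)))
    {P' : Type u} [CommRing P'] [Algebra A P'] (r : P →ₐ[A] P') (g : P →ₐ[A] C) (g' : P' →ₐ[A] C)
    (hr : g'.comp r = g) : (liftHOver hC g).range ≤ (liftHOver hC g').range := by
  let Θ : HOver A I P →ₐ[A] HOver A I P' :=
    liftHOver (inferInstance : HenselianRing (HOver A I P') (I.map (algebraMap A (HOver A I P'))))
      ((IsScalarTower.toAlgHom A P' (HOver A I P')).comp r)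
  have hΘ : (liftHOver hC g').comp Θ = liftHOver hC g := by
    apply algHom_ext_hOver hC
    intro p
    rw [AlgHom.comp_apply, liftHOver_algebraMap, liftHOver_algebraMap]
    show liftHOver hC g' (algebraMap P' (HOver A I P') (r p)) = g p
    rw [liftHOver_algebraMap, ← hr]
    rfl
  rw [← hΘ]
  rintro _ ⟨x, rfl⟩
  exact ⟨Θ x, rfl⟩

end HOver

/-! ### First system: henselian closures of finitely generated subalgebras -/

section sys1

variable (A : Type u) [CommRing A] (I : Ideal A) (B : Type u) [CommRing B] [Algebra A B]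
  (hB : HenselianRing B (I.map (algebraMap A B)))

/-- The evaluation map of the polynomial ring on a finite subset of `B`. -/
noncomputable def γ (S : Finset B) : MvPolynomial S A →ₐ[A] B := aeval (fun s : S => (s : B))

/-- The henselian closure of `A[S]` in `B`. -/
noncomputable def W (S : Finset B) : Subalgebra A B := (liftHOver hB (γ A B S)).range

theorem W_mono {S S' : Finset B} (h : S ≤ S') : W A I B hB S ≤ W A I B hB S' := by
  refine range_liftHOver_le hB (rename fun s : S => (⟨s.1, h s.2⟩ : S')) _ _ ?_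
  apply MvPolynomial.algHom_ext
  intro s
  simp [γ]

theorem mem_W (b : B) : b ∈ W A I B hB {b} := by
  refine ⟨algebraMap (MvPolynomial ({b} : Finset B) A) _ (X ⟨b, Finset.mem_singleton_self b⟩), ?_⟩
  show liftHOver hB (γ A B {b}) _ = b
  rw [liftHOver_algebraMap]
  simp [γ]

theorem henselian_W (S : Finset B) :
    HenselianRing (W A I B hB S) (I.map (algebraMap A (W A I B hB S))) := by
  let ρ : HOver A I (MvPolynomial S A) →ₐ[A] W A I B hB S := (liftHOver hB (γ A B S)).rangeRestrict
  have h1 := hens_map_of_surjective (ρ : HOver A I (MvPolynomial S A) →+* W A I B hB S)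
    (liftHOver hB (γ A B S)).rangeRestrict_surjective
    (I.map (algebraMap A (HOver A I (MvPolynomial S A)))) inferInstance
  rw [Ideal.map_map] at h1
  have h2 : (ρ : HOver A I (MvPolynomial S A) →+* W A I B hB S).comp
      (algebraMap A (HOver A I (MvPolynomial S A))) = algebraMap A (W A I B hB S) := by
    ext x
    exact congrArg Subtype.val (ρ.commutes x)
  rw [h2] at h1
  exact h1

theorem exists_finset_surjective (h : HomColim A I B) :
    ∃ S : Finset B, Function.Surjective (liftHOver hB (γ A B S)) := by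
  classical
  haveI : ∀ S : Finset B, HenselianRing (W A I B hB S) (I.map (algebraMap A (W A I B hB S))) :=
    henselian_W A I B hB
  let t : ∀ S S' : Finset B, S ≤ S' → (W A I B hB S →+* W A I B hB S') := fun S S' hSS' =>
    (Subalgebra.inclusion (W_mono A I B hB hSS') : W A I B hB S →ₐ[A] W A I B hB S')
  haveI : DirectedSystem (fun S : Finset B => W A I B hB S) (fun a b hab => t a b hab) :=
    { map_self := fun _ _ => Subtype.ext rfl
      map_map := fun _ _ _ _ _ _ => Subtype.ext rfl }
  obtain ⟨S, φ, hφ⟩ := exists_section_of_homColim h (fun S : Finset B => W A I B hB S) t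
    (fun a b hab => by
      ext x
      rfl)
    (fun S => (W A I B hB S).val) (fun _ _ _ _ => rfl)
    (fun b => ⟨{b}, ⟨b, mem_W A I B hB b⟩, rfl⟩)
    (fun a x hx => ⟨a, le_refl a, by
      have : x = 0 := Subtype.ext hx
      rw [this, map_zero]⟩)
  refine ⟨S, fun b => ?_⟩
  have h1 : ((φ b : W A I B hB S) : B) = b := hφ b
  obtain ⟨y, hy⟩ := (φ b).2
  exact ⟨y, hy.trans h1⟩

end sys1

/-! ### Second system: quotients by finitely generated subideals of the kernel -/

section sys2

variable {A : Type u} [CommRing A] {I : Ideal A}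

theorem henselian_of_surjective_algHom {B₀ C : Type u} [CommRing B₀] [CommRing C] [Algebra A B₀]
    [Algebra A C] (f : B₀ →ₐ[A] C) (hf : Function.Surjective f)
    (h : HenselianRing B₀ (I.map (algebraMap A B₀))) :
    HenselianRing C (I.map (algebraMap A C)) := by
  have h1 := hens_map_of_surjective (f : B₀ →+* C) hf (I.map (algebraMap A B₀)) h
  rw [Ideal.map_map] at h1
  have h2 : (f : B₀ →+* C).comp (algebraMap A B₀) = algebraMap A C := by
    ext x
    exact f.commutes x
  rw [h2] at h1
  exact h1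

variable {B : Type u} [CommRing B] [Algebra A B]

theorem ker_fg_of_homColim (h : HomColim A I B) (P : Type u) [CommRing P] [Algebra A P]
    [Algebra.FiniteType A P] (hB : HenselianRing B (I.map (algebraMap A B)))
    (π : HOver A I P →ₐ[A] B) (hπ : Function.Surjective π) :
    (RingHom.ker (π : HOver A I P →+* B)).FG := by
  classical
  set B₀ := HOver A I P with hB₀
  set Kt : Ideal B₀ := RingHom.ker (π : B₀ →+* B) with hKt
  let κ := {K : Ideal B₀ // K.FG ∧ K ≤ Kt}
  haveI : Nonempty κ := ⟨⟨⊥, Submodule.fg_bot, bot_le⟩⟩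
  haveI : IsDirectedOrder κ :=
    ⟨fun a b => ⟨⟨a.1 ⊔ b.1, Submodule.FG.sup a.2.1 b.2.1, sup_le a.2.2 b.2.2⟩,
      (le_sup_left : a.1 ≤ a.1 ⊔ b.1), (le_sup_right : b.1 ≤ a.1 ⊔ b.1)⟩⟩
  haveI : ∀ K : κ, HenselianRing (B₀ ⧸ K.1) (I.map (algebraMap A (B₀ ⧸ K.1))) := fun K =>
    henselian_of_surjective_algHom (Ideal.Quotient.mkₐ A K.1) (Ideal.Quotient.mkₐ_surjective A K.1)
      inferInstance
  let t : ∀ K K' : κ, K ≤ K' → ((B₀ ⧸ K.1) →+* (B₀ ⧸ K'.1)) := fun K K' hKK' =>
    Ideal.Quotient.factor hKK'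
  haveI : DirectedSystem (fun K : κ => B₀ ⧸ K.1) (fun a b hab => t a b hab) :=
    { map_self := fun K x => by
        obtain ⟨y, rfl⟩ := Ideal.Quotient.mk_surjective x
        exact Ideal.Quotient.factor_mk _ _
      map_map := fun K₁ K₂ K₃ h12 h23 x => by
        obtain ⟨y, rfl⟩ := Ideal.Quotient.mk_surjective x
        show Ideal.Quotient.factor _ (Ideal.Quotient.factor _ _) = Ideal.Quotient.factor _ _
        rw [Ideal.Quotient.factor_mk, Ideal.Quotient.factor_mk, Ideal.Quotient.factor_mk] }
  let v : ∀ K : κ, (B₀ ⧸ K.1) →ₐ[A] B := fun K =>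
    Ideal.Quotient.liftₐ K.1 π (fun a ha => K.2.2 ha)
  have hvmk : ∀ (K : κ) (y : B₀), v K (Ideal.Quotient.mk K.1 y) = π y := fun K y => rfl
  obtain ⟨K', φ, hφ⟩ := exists_section_of_homColim h (fun K : κ => B₀ ⧸ K.1) t
    (fun a b hab => by
      ext x
      rfl)
    v
    (fun a b hab x => by
      obtain ⟨y, rfl⟩ := Ideal.Quotient.mk_surjective x
      show v b (Ideal.Quotient.factor _ _) = _
      rw [Ideal.Quotient.factor_mk, hvmk, hvmk])
    (fun b => by
      obtain ⟨y, rfl⟩ := hπ b
      exact ⟨⟨⊥, Submodule.fg_bot, bot_le⟩, Ideal.Quotient.mk _ y, rfl⟩)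
    (fun K x hx => by
      obtain ⟨y, rfl⟩ := Ideal.Quotient.mk_surjective x
      rw [hvmk] at hx
      have hy : y ∈ Kt := hx
      refine ⟨⟨K.1 ⊔ Ideal.span {y}, Submodule.FG.sup K.2.1 (Submodule.fg_span_singleton y),
        sup_le K.2.2 ((Ideal.span_singleton_le_iff_mem _).2 hy)⟩,
        (le_sup_left : K.1 ≤ K.1 ⊔ Ideal.span {y}), ?_⟩
      show Ideal.Quotient.factor _ _ = 0
      rw [Ideal.Quotient.factor_mk, Ideal.Quotient.eq_zero_iff_mem]
      exact (le_sup_right : Ideal.span {y} ≤ K.1 ⊔ Ideal.span {y}) (Ideal.mem_span_singleton_self y))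
  -- the idempotent endomorphism
  set u : (B₀ ⧸ K'.1) →ₐ[A] B := v K' with hu
  let e : (B₀ ⧸ K'.1) →ₐ[A] (B₀ ⧸ K'.1) := φ.comp u
  have hue : ∀ x, u (e x) = u x := fun x => hφ (u x)
  obtain ⟨G, hG⟩ := (Algebra.FiniteType.out : (⊤ : Subalgebra A P).FG)
  let xb : P → B₀ ⧸ K'.1 := fun g => Ideal.Quotient.mk K'.1 (algebraMap P B₀ g)
  set K'' : Ideal (B₀ ⧸ K'.1) := Ideal.span ((fun g => xb g - e (xb g)) '' (G : Set P)) with hK''
  have hK''fg : K''.FG := ⟨G.image fun g => xb g - e (xb g), by rw [Finset.coe_image]⟩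
  let q : (B₀ ⧸ K'.1) →ₐ[A] (B₀ ⧸ K'.1) ⧸ K'' := Ideal.Quotient.mkₐ A K''
  have hC : HenselianRing ((B₀ ⧸ K'.1) ⧸ K'') (I.map (algebraMap A ((B₀ ⧸ K'.1) ⧸ K''))) :=
    henselian_of_surjective_algHom q (Ideal.Quotient.mkₐ_surjective A K'') inferInstance
  have hψ : (q.comp (Ideal.Quotient.mkₐ A K'.1) : B₀ →ₐ[A] _) =
      (q.comp e).comp (Ideal.Quotient.mkₐ A K'.1) := by
    apply algHom_ext_hOver hC
    have hP : ((q.comp (Ideal.Quotient.mkₐ A K'.1)).comp (IsScalarTower.toAlgHom A P B₀)) =
        (((q.comp e).comp (Ideal.Quotient.mkₐ A K'.1)).comp (IsScalarTower.toAlgHom A P B₀)) := by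
      apply AlgHom.ext_of_adjoin_eq_top hG
      intro g hg
      show Ideal.Quotient.mk K'' (xb g) = Ideal.Quotient.mk K'' (e (xb g))
      rw [Ideal.Quotient.eq]
      exact Ideal.subset_span ⟨g, hg, rfl⟩
    intro p
    exact DFunLike.congr_fun hP p
  have hqe : ∀ x, q x = q (e x) := by
    intro x
    obtain ⟨y, rfl⟩ := Ideal.Quotient.mk_surjective x
    exact DFunLike.congr_fun hψ y
  have hker : RingHom.ker (u : (B₀ ⧸ K'.1) →+* B) = K'' := by
    apply le_antisymm
    · intro x hx
      have hx' : u x = 0 := hx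
      have h1 : e x = 0 := by
        show φ (u x) = 0
        rw [hx', map_zero]
      have h2 := hqe x
      rw [h1, map_zero] at h2
      exact Ideal.Quotient.eq_zero_iff_mem.1 h2
    · rw [hK'', Ideal.span_le]
      rintro _ ⟨g, -, rfl⟩
      show u (xb g - e (xb g)) = 0
      rw [map_sub, hue, sub_self]
  have hcomp : (π : B₀ →+* B) = (u : (B₀ ⧸ K'.1) →+* B).comp (Ideal.Quotient.mk K'.1) := by
    refine RingHom.ext fun y => ?_
    rfl
  rw [hKt, hcomp]
  refine Ideal.fg_ker_comp _ _ ?_ ?_ Ideal.Quotient.mk_surjective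
  · rw [Ideal.mk_ker]
    exact K'.2.1
  · rw [hker]
    exact hK''fg

end sys2

end Groth.Agent.H11.DL
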