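import Mathlib
import Groth.Prelude.Def_Hens2
import Groth.Agent.H11.PairEt
import Groth.Agent.H11.HfpColim
import Groth.Agent.H11.FormalTrunc
import Groth.Agent.S9436

/-!
# Henselian finitely presented algebras with étale truncations
-/

set_option autoImplicit false
universe u
open TensorProduct

namespace Groth.Agent.H11.HfpEt

variable {A : Type u} [CommRing A] {I : Ideal A}

theorem exists_one_tmul {K : Ideal A} {R : Type u} [CommRing R] [Algebra A R]
    (z : (A ⧸ K) ⊗[A] R) : ∃ r : R, z = (1 : A ⧸ K) ⊗ₜ[A] r := by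
  induction z using TensorProduct.induction_on with
  | zero => exact ⟨0, (TensorProduct.tmul_zero _ _).symm⟩
  | tmul x r =>
    obtain ⟨a, rfl⟩ := Ideal.Quotient.mk_surjective x
    refine ⟨a • r, ?_⟩
    rw [TensorProduct.tmul_smul, TensorProduct.smul_tmul', Algebra.smul_def, mul_one]
    rfl
  | add x y hx hy =>
    obtain ⟨r, rfl⟩ := hx
    obtain ⟨s, rfl⟩ := hy
    exact ⟨r + s, (TensorProduct.tmul_add _ _ _).symm⟩

theorem one_tmul_eq_zero_iff {K : Ideal A} {R : Type u} [CommRing R] [Algebra A R] (r : R) :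
    (1 : A ⧸ K) ⊗ₜ[A] r = 0 ↔ r ∈ K.map (algebraMap A R) := by
  have h1 : (1 : A ⧸ K) ⊗ₜ[A] r = 0 ↔ r ⊗ₜ[A] (1 : A ⧸ K) = 0 := by
    constructor
    · intro h
      have := congrArg (Algebra.TensorProduct.comm A (A ⧸ K) R) h
      simpa using this
    · intro h
      have := congrArg (Algebra.TensorProduct.comm A R (A ⧸ K)) h
      simpa using this
  rw [h1, ← Algebra.TensorProduct.quotIdealMapEquivTensorQuot_mk R K r,
    EmbeddingLike.map_eq_zero_iff, Ideal.Quotient.eq_zero_iff_mem]

/-- An étale model of a henselian pair whose first truncation is étale. -/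
theorem exists_etale_model (B : Type u) [CommRing B] [Algebra A B]
    (hB : HenselianRing B (I.map (algebraMap A B)))
    [het : Algebra.Etale (A ⧸ I ^ 1) (B ⧸ (I ^ 1).map (algebraMap A B))] :
    ∃ (R : Type u) (_ : CommRing R) (_ : Algebra A R) (_ : Algebra.Etale A R) (ρ : R →ₐ[A] B),
      (∀ b : B, ∃ r : R, b - ρ r ∈ I.map (algebraMap A B)) ∧
      ∀ r : R, ρ r ∈ I.map (algebraMap A B) → r ∈ I.map (algebraMap A R) := by
  obtain ⟨R, _, _, hR, ⟨e⟩⟩ := Groth.Agent.S9436.result A (I ^ 1)
    (B ⧸ (I ^ 1).map (algebraMap A B))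
  haveI := hR
  have hI1 : (I ^ 1).map (algebraMap A B) = I.map (algebraMap A B) := by rw [pow_one]
  have hI1R : (I ^ 1).map (algebraMap A R) = I.map (algebraMap A R) := by rw [pow_one]
  let ρb : R →ₐ[A] B ⧸ (I ^ 1).map (algebraMap A B) :=
    { toFun := fun r => e ((1 : A ⧸ I ^ 1) ⊗ₜ[A] r)
      map_one' := by
        show e 1 = 1
        exact map_one e
      map_mul' := fun r s => by
        rw [← map_mul, Algebra.TensorProduct.tmul_mul_tmul, mul_one]
      map_zero' := by rw [TensorProduct.tmul_zero, map_zero]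
      map_add' := fun r s => by rw [TensorProduct.tmul_add, map_add]
      commutes' := fun a => by
        show e ((1 : A ⧸ I ^ 1) ⊗ₜ[A] (algebraMap A R a)) = _
        have h1 : (1 : A ⧸ I ^ 1) ⊗ₜ[A] (algebraMap A R a) =
            algebraMap (A ⧸ I ^ 1) ((A ⧸ I ^ 1) ⊗[A] R) (Ideal.Quotient.mk _ a) := by
          rw [Algebra.TensorProduct.algebraMap_apply, Algebra.algebraMap_self, RingHom.id_apply,
            Algebra.algebraMap_eq_smul_one, TensorProduct.tmul_smul, TensorProduct.smul_tmul',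
            Algebra.smul_def, mul_one]
          rfl
        rw [h1, e.commutes]
        rfl }
  have hρb : ∀ r, ρb r = e ((1 : A ⧸ I ^ 1) ⊗ₜ[A] r) := fun r => rfl
  obtain ⟨τ, hτ⟩ := PH.exists_algHom_lift_of_etale ((I ^ 1).map (algebraMap A B)) (hI1 ▸ hB) ρb
  have hτ' : ∀ r, Ideal.Quotient.mk _ (τ r) = ρb r := fun r => DFunLike.congr_fun hτ r
  refine ⟨R, inferInstance, inferInstance, hR, τ, fun b => ?_, fun r hr => ?_⟩
  · obtain ⟨z, hz⟩ := e.surjective (Ideal.Quotient.mk _ b)
    obtain ⟨r, rfl⟩ := exists_one_tmul z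
    refine ⟨r, ?_⟩
    rw [← hI1, ← Ideal.Quotient.eq, hτ', hρb, hz]
  · rw [← hI1, ← Ideal.Quotient.eq_zero_iff_mem, hτ', hρb, EmbeddingLike.map_eq_zero_iff,
      one_tmul_eq_zero_iff, hI1R] at hr
    exact hr

/-- The henselization of an `A`-algebra, with the map to a henselian `A`-algebra, as opaque data. -/
theorem exists_hens_model {R : Type u} [CommRing R] [Algebra A R] {B : Type u} [CommRing B]
    [Algebra A B] (hB : HenselianRing B (I.map (algebraMap A B))) (ρ : R →ₐ[A] B) :
    ∃ (H : Type u) (_ : CommRing H) (_ : Algebra R H) (_ : Algebra A H) (_ : IsScalarTower A R H)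
      (_ : HenselianRing H (I.map (algebraMap A H))),
      Hens2.IsPairHenselization R (I.map (algebraMap A R)) H ∧
      ∃ φ : H →ₐ[A] B, ∀ r, φ (algebraMap R H r) = ρ r :=
  ⟨DL.HOver A I R, inferInstance, inferInstance, inferInstance, inferInstance, inferInstance,
    DL.isPairHenselization_hOver A I R, DL.liftHOver hB ρ, DL.liftHOver_algebraMap hB ρ⟩

end Groth.Agent.H11.HfpEt
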