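import Mathlib
import Groth.Agent.H11.JacPrime
import Groth.Agent.H11.NakPrime

/-!
Smoothness of a hypersurface in a smooth algebra at a prime, in terms of the fibre dimension of
the module of differentials.
-/

namespace Groth.Agent.H11.HypSmooth

open TensorProduct Algebra

universe u

variable {A B R : Type u} [CommRing A] [CommRing B] [CommRing R] [Algebra A B] [Algebra B R]
  [Algebra A R] [IsScalarTower A B R] [Algebra.Smooth A B]

set_option maxHeartbeats 1600000 in
theorem main (n : ℕ) (hn : ∀ q : PrimeSpectrum B, Module.rankAtStalk (Ω[B⁄A]) q = n) (g : B)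
    (hg : IsSMulRegular B g) (hsurj : Function.Surjective (algebraMap B R))
    (hker : RingHom.ker (algebraMap B R) = Ideal.span {g}) (p : Ideal R) [p.IsPrime] :
    ¬ Algebra.FormallySmooth A (Localization.AtPrime p) ↔
      n ≤ Module.finrank p.ResidueField (p.ResidueField ⊗[R] Ω[R⁄A]) := by
  classical
  let P : Extension.{u} A R :=
    { Ring := B, σ := Function.surjInv hsurj, algebraMap_σ := Function.surjInv_eq hsurj }
  haveI : Algebra.FormallySmooth A P.Ring := (inferInstance : Algebra.FormallySmooth A B)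
  have hPker : P.ker = Ideal.span {g} := hker
  have hgmem : g ∈ P.ker := hPker ▸ Ideal.mem_span_singleton_self g
  let γ : P.Cotangent := Extension.Cotangent.mk ⟨g, hgmem⟩
  have hγspan : Submodule.span R (Set.range fun _ : Unit => γ) = ⊤ :=
    Extension.Cotangent.span_eq_top_of_span_eq_ker (P := P) (fun _ : Unit => g) (by
      rw [hPker, Set.range_const])
  haveI : Module.Finite R P.Cotangent :=
    Module.finite_def.2 (Submodule.fg_def.2 ⟨_, Set.finite_range _, hγspan⟩)
  have htf : Algebra.FormallySmooth A (Localization.AtPrime p) ↔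
      Function.Injective (P.cotangentComplex.lTensor p.ResidueField) :=
    (Groth.Agent.H11.JacPrime.tfae_extension P p).out 0 1
  rw [htf]
  -- the functional `P.Cotangent → R` with `γ ↦ 1`
  let e₁ : B →ₗ[B] P.ker := LinearMap.toSpanSingleton B P.ker ⟨g, hgmem⟩
  have he₁ : Function.Bijective e₁ := by
    constructor
    · intro a b hab
      have h1 : a * g = b * g := congrArg Subtype.val hab
      apply hg
      change g * a = g * b
      rw [mul_comm g a, mul_comm g b, h1]
    · rintro ⟨x, hx⟩
      rw [hPker, Ideal.mem_span_singleton'] at hx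
      obtain ⟨a, rfl⟩ := hx
      exact ⟨a, rfl⟩
  let e := LinearEquiv.ofBijective e₁ he₁
  let lam₀ : P.ker →ₗ[B] R := (Algebra.linearMap B R).comp e.symm.toLinearMap
  have hlam₀ : lam₀ ⟨g, hgmem⟩ = 1 := by
    have h1 : e (1 : B) = ⟨g, hgmem⟩ := by
      change (1 : B) • (⟨g, hgmem⟩ : P.ker) = _
      rw [one_smul]
    change algebraMap B R (e.symm ⟨g, hgmem⟩) = 1
    rw [← h1, LinearEquiv.symm_apply_apply, map_one]
  have hlamker : (P.ker • ⊤ : Submodule B P.ker) ≤ LinearMap.ker lam₀ := by
    intro x hx
    refine Submodule.smul_induction_on hx (fun a ha y _ => ?_) (fun x y hx hy => add_mem hx hy)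
    rw [LinearMap.mem_ker, map_smul, Algebra.smul_def]
    have : algebraMap B R a = 0 := ha
    rw [this, zero_mul]
  let l1 : P.ker.Cotangent →ₗ[B] R := Submodule.liftQ (P.ker • ⊤ : Submodule B P.ker) lam₀ hlamker
  let lamB : P.Cotangent →ₗ[B] R := l1.comp P.cotangentEquivCotangentKer.toLinearMap
  have hlamB : lamB γ = 1 := hlam₀
  let lam : P.Cotangent →ₗ[R] R := lamB.extendScalarsOfSurjective hsurj
  have hlam : lam γ = 1 := hlamB
  -- fibres
  let κ := p.ResidueField
  let v : κ ⊗[R] P.Cotangent := (1 : κ) ⊗ₜ[R] γ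
  have hv : v ≠ 0 := by
    intro h0
    have h1 := congrArg (fun z => TensorProduct.rid R κ (lam.lTensor κ z)) h0
    simp only [v, LinearMap.lTensor_tmul, hlam, map_zero, TensorProduct.rid_tmul, one_smul] at h1
    exact one_ne_zero h1
  have hvspan : Submodule.span κ (Set.range fun _ : Unit => (1 : κ) ⊗ₜ[R] γ) = ⊤ :=
    Groth.Agent.H11.NakPrime.span_one_tmul_eq_top p (fun _ : Unit => γ) hγspan
  let ακ : κ ⊗[R] P.Cotangent →ₗ[κ] κ ⊗[R] P.CotangentSpace :=
    TensorProduct.AlgebraTensorModule.lTensor κ κ P.cotangentComplex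
  let βκ : κ ⊗[R] P.CotangentSpace →ₗ[κ] κ ⊗[R] Ω[R⁄A] :=
    TensorProduct.AlgebraTensorModule.lTensor κ κ P.toKaehler
  have hα : ∀ z, ακ z = P.cotangentComplex.lTensor κ z := fun z => rfl
  have hβ : ∀ z, βκ z = P.toKaehler.lTensor κ z := fun z => rfl
  have hexact : Function.Exact ακ βκ :=
    lTensor_exact κ P.exact_cotangentComplex_toKaehler P.toKaehler_surjective
  have hβsurj : Function.Surjective βκ := LinearMap.lTensor_surjective κ P.toKaehler_surjective
  -- dimension of the middle term
  haveI : Module.Finite B (Ω[B⁄A]) := inferInstance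
  haveI : Module.Flat B (Ω[B⁄A]) := inferInstance
  have hV₂ : Module.finrank κ (κ ⊗[R] P.CotangentSpace) = n := by
    have h1 := Module.rankAtStalk_eq (M := R ⊗[B] Ω[B⁄A]) (⟨p, inferInstance⟩ : PrimeSpectrum R)
    have h2 := Module.rankAtStalk_baseChange (R := B) (M := Ω[B⁄A]) (S := R)
      (⟨p, inferInstance⟩ : PrimeSpectrum R)
    rw [hn] at h2
    rw [h2] at h1
    exact h1.symm
  have hdim : Module.finrank κ (κ ⊗[R] Ω[R⁄A]) + Module.finrank κ (LinearMap.ker βκ) = n := by
    have h1 := LinearMap.finrank_range_add_finrank_ker βκ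
    rw [LinearMap.range_eq_top.2 hβsurj, finrank_top, hV₂] at h1
    exact h1
  have hkerrange : LinearMap.ker βκ = LinearMap.range ακ := (LinearMap.exact_iff.1 hexact)
  constructor
  · intro hninj
    -- `ακ` is not injective, hence zero
    have hninj' : ¬ Function.Injective ακ := hninj
    rw [← LinearMap.ker_eq_bot, Submodule.eq_bot_iff] at hninj'
    push Not at hninj'
    obtain ⟨w, hwker, hw0⟩ := hninj'
    have hwspan : w ∈ Submodule.span κ (Set.range fun _ : Unit => (1 : κ) ⊗ₜ[R] γ) := by
      rw [hvspan]; exact Submodule.mem_top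
    rw [Set.range_const, Submodule.mem_span_singleton] at hwspan
    obtain ⟨c, rfl⟩ := hwspan
    have hc : c ≠ 0 := by
      rintro rfl
      exact hw0 (zero_smul _ _)
    have hαv : ακ v = 0 := by
      have h1 : ακ (c • v) = 0 := hwker
      rw [map_smul, smul_eq_zero] at h1
      exact h1.resolve_left hc
    have hαzero : LinearMap.range ακ = ⊥ := by
      rw [LinearMap.range_eq_map, ← hvspan, Submodule.map_span, Set.range_const,
        Set.image_singleton, hαv, Submodule.span_singleton_eq_bot]
    rw [hkerrange, hαzero, finrank_bot, add_zero] at hdim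
    exact hdim.ge
  · intro hle hinj
    have hinj' : Function.Injective ακ := hinj
    have hαv : ακ v ≠ 0 := fun h0 => hv (hinj' (h0.trans (map_zero _).symm))
    have hmem : ακ v ∈ LinearMap.ker βκ := by
      rw [hkerrange]; exact LinearMap.mem_range_self _ _
    have hpos : 0 < Module.finrank κ (LinearMap.ker βκ) := by
      rw [Nat.pos_iff_ne_zero]
      intro h0
      rw [Submodule.finrank_eq_zero] at h0
      rw [h0, Submodule.mem_bot] at hmem
      exact hαv hmem
    change n ≤ Module.finrank κ (κ ⊗[R] Ω[R⁄A]) at hle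
    omega

end Groth.Agent.H11.HypSmooth
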