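import Mathlib
import Groth.Agent.H11.IndEtaleElim
import Groth.Agent.H11.FibreField

/-!
# Fibres of ind-étale algebras
-/

set_option autoImplicit false
universe u
open TensorProduct

namespace Groth.Agent.H11.IndEt

variable {A B : Type u} [CommRing A] [CommRing B] [Algebra A B]

/-- Fibre rings of an ind-étale algebra are ind-étale over the field. -/
theorem isIndEtaleOverField_tensor (hB : EtPBC.IsIndEtale A B) (κ : Type u) [Field κ]
    [Algebra A κ] : FibF.IsIndEtaleOverField κ (κ ⊗[A] B) := by
  have H := (factor_of_isIndEtale hB).approx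
  intro z
  induction z using TensorProduct.induction_on with
  | zero =>
    exact ⟨κ, inferInstance, inferInstance, inferInstance, Algebra.ofId κ _, 0, map_zero _⟩
  | tmul c s =>
    obtain ⟨j, b, rfl⟩ := H.rep s
    refine ⟨κ ⊗[A] j.Q, inferInstance, inferInstance, inferInstance,
      Algebra.TensorProduct.map (AlgHom.id κ κ) j.φ, c ⊗ₜ b, ?_⟩
    rw [Algebra.TensorProduct.map_tmul]
    rfl
  | add z₁ z₂ h₁ h₂ =>
    obtain ⟨E₁, _, _, _, φ₁, w₁, rfl⟩ := h₁
    obtain ⟨E₂, _, _, _, φ₂, w₂, rfl⟩ := h₂
    haveI : Algebra.Etale κ (E₁ ⊗[κ] E₂) := Algebra.Etale.comp κ E₁ (E₁ ⊗[κ] E₂)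
    refine ⟨E₁ ⊗[κ] E₂, inferInstance, inferInstance, inferInstance,
      Algebra.TensorProduct.productMap φ₁ φ₂, w₁ ⊗ₜ 1 + 1 ⊗ₜ w₂, ?_⟩
    rw [map_add, Algebra.TensorProduct.productMap_apply_tmul,
      Algebra.TensorProduct.productMap_apply_tmul, map_one, map_one, mul_one, one_mul]

/-- A field `L` over a field `κ` that receives a `κ`-algebra map from an "ind-étale" `κ`-algebra
`F` whose image generates `L` as a field (here: contains a subring with fraction field `L`) is
separable over `κ`. -/
theorem isSeparable_of_isIndEtaleOverField {κ F L D : Type u} [Field κ] [CommRing F]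
    [Algebra κ F] [Field L] [Algebra κ L] [CommRing D] [Algebra D L] [IsFractionRing D L]
    (h : FibF.IsIndEtaleOverField κ F) (f : F →ₐ[κ] L)
    (hD : ∀ d : D, algebraMap D L d ∈ f.range) : Algebra.IsSeparable κ L := by
  haveI := FibF.isIntegral h
  have hsurj : Function.Surjective f := by
    intro y
    obtain ⟨a, b, hb, rfl⟩ := IsFractionRing.div_surjective (A := D) y
    have ha' : algebraMap D L a ∈ f.range := hD a
    have hb' : algebraMap D L b ∈ f.range := hD b
    have hb'' : (algebraMap D L b)⁻¹ ∈ f.range := by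
      have hint : IsIntegral κ (algebraMap D L b) := by
        obtain ⟨z, hz⟩ := hb'
        rw [← hz]
        exact (Algebra.IsIntegral.isIntegral (R := κ) z).map f
      exact Subalgebra.inv_mem_of_algebraic (A := f.range) (x := ⟨_, hb'⟩) hint.isAlgebraic
    have : algebraMap D L a / algebraMap D L b ∈ f.range := by
      rw [div_eq_mul_inv]
      exact f.range.mul_mem ha' hb''
    exact this
  haveI : (RingHom.ker f.toRingHom).IsMaximal := RingHom.ker_isMaximal_of_surjective f.toRingHom hsurj
  haveI hs := FibF.isSeparable_quotient h (RingHom.ker f.toRingHom)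
  exact @AlgEquiv.Algebra.isSeparable κ _ _ _ _ _ _ _ (Ideal.quotientKerAlgEquivOfSurjective hsurj) hs

end Groth.Agent.H11.IndEt
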