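import Mathlib
import Groth.Agent.H11.IndEtaleElim
import Groth.Agent.H11.HensLift

/-!
# Maps from ind-étale algebras to henselian local rings
-/

set_option autoImplicit false
universe u
open CategoryTheory CategoryTheory.Limits IsLocalRing

namespace Groth.Agent.H11.IndEt

variable {R : Type u} [CommRing R]

/-- Unique lifting of a `K`-point of an étale algebra to a henselian local ring with residue
field `K`. -/
theorem existsUnique_lift_of_etale (T : Type u) [CommRing T] [HenselianLocalRing T] [Algebra R T]
    (K : Type u) [Field K] [Algebra R K] (v : T →ₐ[R] K) (hv : Function.Surjective v)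
    (hk : RingHom.ker v.toRingHom = maximalIdeal T)
    (E : Type u) [CommRing E] [Algebra R E] [Algebra.Etale R E] (θ : E →ₐ[R] K) :
    ∃! f : E →ₐ[R] T, v.comp f = θ := by
  have hv0 : ∀ a ∈ maximalIdeal T, v a = 0 := fun a ha => by
    rw [← hk] at ha
    exact ha
  let κ₀ : ResidueField T →ₐ[R] K := Ideal.Quotient.liftₐ (maximalIdeal T) v hv0
  have hκ₀ : ∀ t, κ₀ (residue T t) = v t := fun t => rfl
  have hbij : Function.Bijective κ₀ := by
    refine ⟨(κ₀ : ResidueField T →+* K).injective, fun y => ?_⟩
    obtain ⟨t, rfl⟩ := hv y
    exact ⟨residue T t, hκ₀ t⟩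
  let κ : ResidueField T ≃ₐ[R] K := AlgEquiv.ofBijective κ₀ hbij
  obtain ⟨f, hf⟩ := HensEt.exists_algHom_lift_residue R T E ((κ.symm : K →ₐ[R] ResidueField T).comp θ)
  refine ⟨f, ?_, ?_⟩
  · ext a
    show v (f a) = θ a
    rw [← hκ₀, hf a]
    show κ (κ.symm (θ a)) = θ a
    rw [AlgEquiv.apply_symm_apply]
  · intro f' hf'
    apply HensEt.algHom_eq_of_sub_mem_jacobson (R := R) (A := E) (S := T)
    intro a
    rw [IsLocalRing.jacobson_eq_maximalIdeal ⊥ bot_ne_top, ← hk]
    show v (f' a - f a) = 0
    rw [map_sub, sub_eq_zero]
    have h1 : v (f' a) = θ a := DFunLike.congr_fun hf' a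
    have h2 : v (f a) = θ a := by
      rw [← hκ₀, hf a]
      show κ (κ.symm (θ a)) = θ a
      rw [AlgEquiv.apply_symm_apply]
    rw [h1, h2]

/-- Uniqueness of maps from an ind-étale algebra to a local ring, with prescribed residue. -/
theorem algHom_ext_of_isIndEtale {S : Type u} [CommRing S] [Algebra R S]
    (hS : EtPBC.IsIndEtale R S)
    (T : Type u) [CommRing T] [IsLocalRing T] [Algebra R T]
    (K : Type u) [Field K] [Algebra R K] (v : T →ₐ[R] K)
    (hk : RingHom.ker v.toRingHom = maximalIdeal T)
    (G₁ G₂ : S →ₐ[R] T) (h : v.comp G₁ = v.comp G₂) : G₁ = G₂ := by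
  have H := (factor_of_isIndEtale hS).approx
  ext x
  obtain ⟨j, y, rfl⟩ := H.rep x
  have : G₁.comp j.φ = G₂.comp j.φ := by
    apply HensEt.algHom_eq_of_sub_mem_jacobson (R := R) (A := j.Q) (S := T)
    intro a
    rw [IsLocalRing.jacobson_eq_maximalIdeal ⊥ bot_ne_top, ← hk]
    show v (G₁ (j.φ a) - G₂ (j.φ a)) = 0
    rw [map_sub, sub_eq_zero]
    exact DFunLike.congr_fun h (j.φ a)
  exact DFunLike.congr_fun this y

/-- Existence of maps from an ind-étale algebra to a henselian local ring, with prescribed
residue. -/
theorem exists_algHom_of_isIndEtale {S : Type u} [CommRing S] [Algebra R S]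
    (hS : EtPBC.IsIndEtale R S)
    (T : Type u) [CommRing T] [HenselianLocalRing T] [Algebra R T]
    (K : Type u) [Field K] [Algebra R K] (v : T →ₐ[R] K) (hv : Function.Surjective v)
    (hk : RingHom.ker v.toRingHom = maximalIdeal T) (w : S →ₐ[R] K) :
    ∃ G : S →ₐ[R] T, v.comp G = w := by
  obtain ⟨J, hJ, hF, D, c, hc, het, ⟨e⟩⟩ := hS
  letI alg : ∀ j, Algebra R (D.obj j).right := fun j => (D.obj j).hom.hom.toAlgebra
  -- the stage maps
  have key : ∀ j : J,
      ∃ (cj : (D.obj j).right →ₐ[R] S) (fj : (D.obj j).right →ₐ[R] T),
        (∀ x, cj x = e.hom.right.hom ((c.ι.app j).right.hom x)) ∧ v.comp fj = w.comp cj := by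
    intro j
    haveI : Algebra.Etale R (D.obj j).right := het j
    let cj : (D.obj j).right →ₐ[R] S :=
      { (e.hom.right.hom.comp (c.ι.app j).right.hom) with
        commutes' := fun r => by
          have h1 : (D.obj j).hom ≫ (c.ι.app j).right = c.pt.hom := Under.w (c.ι.app j)
          have h2 : c.pt.hom ≫ e.hom.right =
              (Under.mk (CommRingCat.ofHom (algebraMap R S))).hom := Under.w e.hom
          exact congrArg (fun h => h.hom r) (h1 ▸ h2) }
    obtain ⟨fj, hfj, -⟩ := existsUnique_lift_of_etale T K v hv hk (D.obj j).right (w.comp cj)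
    exact ⟨cj, fj, fun x => rfl, hfj⟩
  choose cj fj hcj hfj using key
  -- the cocone
  let s : Cocone D :=
    { pt := Under.mk (CommRingCat.ofHom (algebraMap R T))
      ι :=
        { app := fun j => Under.homMk (CommRingCat.ofHom (fj j).toRingHom) (by
            ext r
            exact (fj j).commutes r)
          naturality := fun j k g => by
            haveI : Algebra.Etale R (D.obj j).right := het j
            ext x
            show (fj k) ((D.map g).right.hom x) = (fj j) x
            -- both are lifts of the same point
            let gA : (D.obj j).right →ₐ[R] (D.obj k).right :=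
              { (D.map g).right.hom with
                commutes' := fun r => by
                  have := Under.w (D.map g)
                  exact congrArg (fun h => h.hom r) this }
            have h1 : v.comp ((fj k).comp gA) = w.comp (cj j) := by
              rw [← AlgHom.comp_assoc, hfj k]
              ext y
              show w (cj k ((D.map g).right.hom y)) = w (cj j y)
              rw [hcj, hcj]
              have := c.w g
              have h3 : (c.ι.app k).right.hom ((D.map g).right.hom y) = (c.ι.app j).right.hom y := by
                rw [← this]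
                rfl
              rw [h3]
            obtain ⟨f0, -, huniq⟩ := existsUnique_lift_of_etale T K v hv hk (D.obj j).right
              (w.comp (cj j))
            have e1 := huniq _ h1
            have e2 := huniq _ (hfj j)
            exact DFunLike.congr_fun (e1.trans e2.symm) x } }
  let G₀ : Under.mk (CommRingCat.ofHom (algebraMap R S)) ⟶
      Under.mk (CommRingCat.ofHom (algebraMap R T)) := e.inv ≫ hc.desc s
  let G : S →ₐ[R] T :=
    { G₀.right.hom with
      commutes' := fun r => by
        have := Under.w G₀
        exact congrArg (fun h => h.hom r) this }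
  refine ⟨G, ?_⟩
  -- compare after composing with the colimit
  let vU : Under.mk (CommRingCat.ofHom (algebraMap R T)) ⟶
      Under.mk (CommRingCat.ofHom (algebraMap R K)) :=
    Under.homMk (CommRingCat.ofHom v.toRingHom) (by ext r; exact v.commutes r)
  let wU : Under.mk (CommRingCat.ofHom (algebraMap R S)) ⟶
      Under.mk (CommRingCat.ofHom (algebraMap R K)) :=
    Under.homMk (CommRingCat.ofHom w.toRingHom) (by ext r; exact w.commutes r)
  have hm : hc.desc s ≫ vU = e.hom ≫ wU := by
    apply hc.hom_ext
    intro j
    rw [← Category.assoc, hc.fac]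
    ext x
    simp only [Under.comp_right, CommRingCat.hom_comp, RingHom.comp_apply]
    show v (fj j x) = w (e.hom.right.hom ((c.ι.app j).right.hom x))
    rw [← hcj]
    exact DFunLike.congr_fun (hfj j) x
  have hm' : G₀ ≫ vU = wU := by
    show (e.inv ≫ hc.desc s) ≫ vU = wU
    rw [Category.assoc, hm, ← Category.assoc, e.inv_hom_id, Category.id_comp]
  ext x
  have := congrArg (fun h => h.right.hom x) hm'
  exact this

end Groth.Agent.H11.IndEt
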