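import Mathlib

/-!
# Kernel of a base-changed presentation in coordinates
-/

set_option autoImplicit false

universe u

namespace Groth.Agent.H11.KerRows

open TensorProduct Matrix

variable {A S : Type u} [CommRing A] [CommRing S] [Algebra A S]
  {Cot CS Om : Type u} [AddCommGroup Cot] [Module A Cot] [AddCommGroup CS] [Module A CS]
  [AddCommGroup Om] [Module A Om] {n m c : ℕ}

theorem ker_lTensor_iff (hcm : c ≤ m)
    (β : Module.Basis (Fin n) A CS) (d : Cot →ₗ[A] CS) (toK : CS →ₗ[A] Om)
    (hex : Function.Exact d toK) (hsurj : Function.Surjective toK)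
    (F : Fin m → Cot) (hF : Submodule.span A (Set.range F) = ⊤)
    (a : A) (ha : IsUnit (algebraMap A S a))
    (hkill : ∀ j : Fin m, c ≤ (j : ℕ) →
      a • F j ∈ Submodule.span A (Set.range fun l : Fin c => F (Fin.castLE hcm l)))
    (x : Fin n → S) :
    (toK.lTensor S) ((β.baseChange S).equivFun.symm x) = 0 ↔
      ∃ t : Fin c → S, t ᵥ* (Matrix.of fun (l : Fin c) (k : Fin n) =>
        algebraMap A S (β.repr (d (F (Fin.castLE hcm l))) k)) = x := by
  classical
  let W : Submodule S (S ⊗[A] CS) :=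
    Submodule.span S (Set.range fun l : Fin c => (1 : S) ⊗ₜ[A] d (F (Fin.castLE hcm l)))
  -- the A-submodule of Cot of elements whose image lies in W
  let T : Submodule A Cot :=
    (W.restrictScalars A).comap ((TensorProduct.mk A S CS 1) ∘ₗ d)
  have hTmem : ∀ y, y ∈ T ↔ (1 : S) ⊗ₜ[A] d y ∈ W := fun y => Iff.rfl
  have hlead : ∀ l : Fin c, F (Fin.castLE hcm l) ∈ T := fun l =>
    (hTmem _).2 (Submodule.subset_span ⟨l, rfl⟩)
  have hTtop : T = ⊤ := by
    rw [eq_top_iff, ← hF, Submodule.span_le]
    rintro _ ⟨j, rfl⟩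
    by_cases hj : c ≤ (j : ℕ)
    · have h1 : a • F j ∈ T := by
        have hle : Submodule.span A (Set.range fun l : Fin c => F (Fin.castLE hcm l)) ≤ T := by
          rw [Submodule.span_le]
          rintro _ ⟨l, rfl⟩
          exact hlead l
        exact hle (hkill j hj)
      rw [SetLike.mem_coe, hTmem]
      rw [hTmem, map_smul, TensorProduct.tmul_smul, ← algebraMap_smul S a] at h1
      have h2 := W.smul_mem (↑ha.unit⁻¹ : S) h1
      rwa [smul_smul, IsUnit.val_inv_mul, one_smul] at h2
    · have : j = Fin.castLE hcm ⟨j, not_le.1 hj⟩ := Fin.ext rfl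
      rw [this]
      exact hlead _
  have hrange : ∀ z : S ⊗[A] Cot, (d.lTensor S) z ∈ W := by
    intro z
    induction z using TensorProduct.induction_on with
    | zero => rw [map_zero]; exact W.zero_mem
    | add z w hz hw => rw [map_add]; exact W.add_mem hz hw
    | tmul s y =>
      rw [LinearMap.lTensor_tmul]
      have hy : y ∈ T := by rw [hTtop]; trivial
      have h1 := W.smul_mem s ((hTmem y).1 hy)
      rwa [TensorProduct.smul_tmul', smul_eq_mul, mul_one] at h1
  have hexS := lTensor_exact S hex hsurj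
  set bS := β.baseChange S with hbS
  have hcoord : ∀ (t : Fin c → S), bS.equivFun (∑ l, t l • ((1 : S) ⊗ₜ[A] d (F (Fin.castLE hcm l)))) =
      t ᵥ* (Matrix.of fun (l : Fin c) (k : Fin n) =>
        algebraMap A S (β.repr (d (F (Fin.castLE hcm l))) k)) := by
    intro t
    funext k
    rw [map_sum, Finset.sum_apply]
    simp only [Matrix.vecMul, dotProduct, Matrix.of_apply, map_smul, Pi.smul_apply, smul_eq_mul]
    refine Finset.sum_congr rfl fun l _ => ?_
    rw [Module.Basis.equivFun_apply, hbS, Module.Basis.baseChange_repr_tmul, Algebra.smul_def,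
      mul_one]
  constructor
  · intro h0
    obtain ⟨z, hz⟩ := (hexS _).1 h0
    have hmem : bS.equivFun.symm x ∈ W := hz ▸ hrange z
    obtain ⟨t, ht⟩ := (Submodule.mem_span_range_iff_exists_fun S).1 hmem
    refine ⟨t, ?_⟩
    rw [← hcoord t, ht, LinearEquiv.apply_symm_apply]
  · rintro ⟨t, rfl⟩
    rw [← hcoord t, LinearEquiv.symm_apply_apply]
    apply (hexS _).2
    refine ⟨∑ l, t l • ((1 : S) ⊗ₜ[A] F (Fin.castLE hcm l)), ?_⟩
    rw [map_sum]
    refine Finset.sum_congr rfl fun l _ => ?_
    have : (d.lTensor S) (t l • ((1 : S) ⊗ₜ[A] F (Fin.castLE hcm l))) =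
        t l • (d.lTensor S) ((1 : S) ⊗ₜ[A] F (Fin.castLE hcm l)) := by
      rw [TensorProduct.smul_tmul', LinearMap.lTensor_tmul, LinearMap.lTensor_tmul,
        TensorProduct.smul_tmul']
    rw [this, LinearMap.lTensor_tmul]

end Groth.Agent.H11.KerRows
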