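import Groth.Agent.S2023

set_option autoImplicit false
universe u

namespace H11.LiftOnceNil

open MvPolynomial Groth.Agent.S2023

theorem main {R Λ A : Type u} [CommRing R] [CommRing Λ] [Algebra R Λ] (I : Ideal R)
    (hI : IsNilpotent I) (h : Smoothing.IndSmooth (R ⧸ I) (Λ ⧸ I.map (algebraMap R Λ)))
    [CommRing A] [Algebra R A] [Algebra.FinitePresentation R A] (φ : A →ₐ[R] Λ) :
    ∃ (B : Type u) (_ : CommRing B) (_ : Algebra R B), Algebra.Smooth R B ∧
      ∃ J : Ideal B, J ≤ I.map (algebraMap R B) ∧ J.FG ∧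
        ∃ (g : A →ₐ[R] B ⧸ J) (k : (B ⧸ J) →ₐ[R] Λ), k.comp g = φ := by
  classical
  obtain ⟨m, ψ, hψ, hfg⟩ := Algebra.FinitePresentation.out (R := R) (A := A)
  let red : MvPolynomial (Fin m) R →+* MvPolynomial (Fin m) (R ⧸ I) :=
    MvPolynomial.map (Ideal.Quotient.mk I)
  let Kb : Ideal (MvPolynomial (Fin m) (R ⧸ I)) := (RingHom.ker ψ.toRingHom).map red
  have hKb : Kb.FG := hfg.map red
  haveI : Algebra.FinitePresentation (R ⧸ I) (MvPolynomial (Fin m) (R ⧸ I) ⧸ Kb) :=
    Algebra.FinitePresentation.quotient hKb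
  let lam : Fin m → Λ := fun i => φ (ψ (X i))
  let mkΛ : Λ →+* (Λ ⧸ I.map (algebraMap R Λ)) := Ideal.Quotient.mk _
  let F0 : MvPolynomial (Fin m) (R ⧸ I) →ₐ[R ⧸ I] (Λ ⧸ I.map (algebraMap R Λ)) :=
    aeval (fun i => mkΛ (lam i))
  have hF0 : ∀ p : MvPolynomial (Fin m) R, F0 (red p) = mkΛ (φ (ψ p)) := by
    intro p
    have : (F0.toRingHom.comp red) = (mkΛ.comp (φ.toRingHom.comp ψ.toRingHom)) := by
      apply MvPolynomial.ringHom_ext
      · intro r
        change F0 (MvPolynomial.map (Ideal.Quotient.mk I) (C r)) = mkΛ (φ (ψ (C r)))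
        rw [MvPolynomial.map_C]
        change aeval _ (C _) = _
        rw [MvPolynomial.aeval_C]
        have : (C r : MvPolynomial (Fin m) R) = algebraMap R _ r := rfl
        rw [this, AlgHom.commutes, AlgHom.commutes]
        rfl
      · intro i
        change F0 (MvPolynomial.map (Ideal.Quotient.mk I) (X i)) = mkΛ (φ (ψ (X i)))
        rw [MvPolynomial.map_X]
        change aeval _ (X i) = _
        rw [MvPolynomial.aeval_X]
    exact RingHom.congr_fun this p
  have hF0K : ∀ x ∈ Kb, F0 x = 0 := by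
    intro x hx
    have : Kb ≤ RingHom.ker F0.toRingHom := by
      rw [Ideal.map_le_iff_le_comap]
      intro p hp
      rw [Ideal.mem_comap, RingHom.mem_ker]
      change F0 (red p) = 0
      have hp' : ψ p = 0 := hp
      rw [hF0, hp', map_zero, map_zero]
    exact this hx
  let F : (MvPolynomial (Fin m) (R ⧸ I) ⧸ Kb) →ₐ[R ⧸ I] (Λ ⧸ I.map (algebraMap R Λ)) :=
    Ideal.Quotient.liftₐ Kb F0 hF0K
  obtain ⟨Cb, _, _, hCsm, gb, kb, hgk⟩ :=
    h (MvPolynomial (Fin m) (R ⧸ I) ⧸ Kb) inferInstance F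
  haveI := hCsm
  obtain ⟨C', _, _, _, _, hsmC, ⟨ρ⟩, hstd⟩ := Groth.Agent.S2025.result (R := R ⧸ I) (A := Cb)
  haveI := hstd
  obtain ⟨B₀, _, _, hB₀, π, hπalg, hπsurj, hπker⟩ := H11.StdSmoothLift.main I C'
  haveI := hB₀
  let c : Fin m → C' := fun i => algebraMap Cb C' (gb (Ideal.Quotient.mk Kb (X i)))
  have hc : ∀ p : MvPolynomial (Fin m) R, ψ p = 0 → aeval (R := R ⧸ I) c (red p) = 0 := by
    intro p hp
    have hcomp : (aeval (R := R ⧸ I) c : MvPolynomial (Fin m) (R ⧸ I) →ₐ[R ⧸ I] C') =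
        ((IsScalarTower.toAlgHom (R ⧸ I) Cb C').comp gb).comp (Ideal.Quotient.mkₐ (R ⧸ I) Kb) := by
      apply MvPolynomial.algHom_ext
      intro i
      rw [MvPolynomial.aeval_X]
      rfl
    rw [hcomp]
    change algebraMap Cb C' (gb (Ideal.Quotient.mk Kb (red p))) = 0
    have : Ideal.Quotient.mk Kb (red p) = 0 :=
      Ideal.Quotient.eq_zero_iff_mem.mpr (Ideal.mem_map_of_mem red hp)
    rw [this, map_zero, map_zero]
  let kb' : C' →+* (Λ ⧸ I.map (algebraMap R Λ)) := kb.toRingHom.comp ρ.toRingHom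
  have hkc : ∀ i, kb' (c i) = mkΛ (lam i) := by
    intro i
    change kb (ρ (algebraMap Cb C' (gb (Ideal.Quotient.mk Kb (X i))))) = _
    rw [ρ.commutes]
    change (kb.comp gb) (Ideal.Quotient.mk Kb (X i)) = _
    rw [hgk]
    change F0 (X i) = _
    change aeval _ (X i) = _
    rw [MvPolynomial.aeval_X]
  let G : B₀ →ₐ[R] (Λ ⧸ I.map (algebraMap R Λ)) :=
    { toRingHom := kb'.comp π
      commutes' := fun r => by
        change kb (ρ (π (algebraMap R B₀ r))) = _
        rw [hπalg, IsScalarTower.algebraMap_apply (R ⧸ I) Cb C', ρ.commutes]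
        change kb (algebraMap (R ⧸ I) Cb _) = _
        rw [kb.commutes]
        rfl }
  let q : Λ →ₐ[R] (Λ ⧸ I.map (algebraMap R Λ)) := Ideal.Quotient.mkₐ R (I.map (algebraMap R Λ))
  have hnil : IsNilpotent (RingHom.ker (q : Λ →+* (Λ ⧸ I.map (algebraMap R Λ)))) := by
    obtain ⟨n, hn⟩ := hI
    refine ⟨n, ?_⟩
    have : RingHom.ker (q : Λ →+* (Λ ⧸ I.map (algebraMap R Λ))) =
        I.map (algebraMap R Λ) := Ideal.mk_ker
    rw [this, ← Ideal.map_pow, hn, Ideal.zero_eq_bot, Ideal.map_bot]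
    first | rfl | simp
  let k₀ : B₀ →ₐ[R] Λ := Algebra.FormallySmooth.liftOfSurjective G
    q (Ideal.Quotient.mkₐ_surjective _ _) hnil
  have hk₀ : ∀ x, mkΛ (k₀ x) = G x := fun x =>
    Algebra.FormallySmooth.liftOfSurjective_apply G q (Ideal.Quotient.mkₐ_surjective _ _) hnil x
  choose b hb using fun i => hπsurj (c i)
  have hd : ∀ i, lam i - k₀ (b i) ∈ I.map (algebraMap R Λ) := by
    intro i
    rw [← Ideal.Quotient.eq]
    change mkΛ (lam i) = mkΛ (k₀ (b i))
    rw [hk₀]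
    change _ = kb' (π (b i))
    rw [hb, hkc]
  choose κ hκ ε μ hε hsum using fun i => exists_sum_of_mem_map I _ (hd i)
  let Idx := Σ i : Fin m, κ i
  let B := MvPolynomial Idx B₀
  haveI : Finite Idx := inferInstanceAs (Finite (Σ i : Fin m, κ i))
  haveI : Algebra.Smooth B₀ B := ⟨inferInstance, inferInstance⟩
  have hBsm : Algebra.Smooth R B := Algebra.Smooth.comp R B₀ B
  obtain ⟨k₁r, hk₁C, hk₁X⟩ : ∃ k : B →+* Λ, (∀ x : B₀, k (C x) = k₀ x) ∧
      (∀ j : Idx, k (X j) = μ j.1 j.2) :=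
    ⟨MvPolynomial.eval₂Hom k₀.toRingHom (fun x : Idx => μ x.1 x.2),
      fun x => MvPolynomial.eval₂Hom_C _ _ x, fun j => MvPolynomial.eval₂Hom_X' _ _ j⟩
  have hk₁alg : ∀ r : R, k₁r (algebraMap R B r) = algebraMap R Λ r := by
    intro r
    rw [IsScalarTower.algebraMap_apply R B₀ B, MvPolynomial.algebraMap_eq, hk₁C]
    exact k₀.commutes r
  let k₁ : B →ₐ[R] Λ := { toRingHom := k₁r, commutes' := hk₁alg }
  have hk₁ : ∀ x, k₁ x = k₁r x := fun _ => rfl
  obtain ⟨b', hb'⟩ : ∃ b' : Fin m → B, ∀ i, b' i =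
      C (b i) + ∑ l : κ i, C (algebraMap R B₀ (ε i l)) * X (⟨i, l⟩ : Idx) := ⟨_, fun _ => rfl⟩
  have hk₁b' : ∀ i, k₁ (b' i) = lam i := by
    intro i
    rw [hk₁, hb', map_add, map_sum, hk₁C]
    have : ∀ l : κ i, k₁r (C (algebraMap R B₀ (ε i l)) * X (⟨i, l⟩ : Idx)) =
        algebraMap R Λ (ε i l) * μ i l := by
      intro l
      rw [map_mul, hk₁C, hk₁X, k₀.commutes]
    rw [Finset.sum_congr rfl (fun l _ => this l), ← hsum i]; ring
  let Ψ : MvPolynomial (Fin m) R →ₐ[R] B := aeval b'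
  have hkΨ : k₁.comp Ψ = φ.comp ψ := by
    apply MvPolynomial.algHom_ext
    intro i
    change k₁ (aeval b' (X i)) = φ (ψ (X i))
    rw [MvPolynomial.aeval_X]; exact hk₁b' i
  let J : Ideal B := (RingHom.ker ψ.toRingHom).map Ψ.toRingHom
  have hJfg : J.FG := hfg.map _
  have hJk : ∀ x ∈ J, k₁ x = 0 := by
    intro x hx
    have : J ≤ RingHom.ker k₁.toRingHom := by
      rw [Ideal.map_le_iff_le_comap]
      intro p hp
      rw [Ideal.mem_comap, RingHom.mem_ker]
      change (k₁.comp Ψ) p = 0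
      have hp' : ψ p = 0 := hp
      rw [hkΨ, AlgHom.comp_apply, hp', map_zero]
    exact this hx
  have hJI : J ≤ I.map (algebraMap R B) := by
    rw [Ideal.map_le_iff_le_comap]
    intro p hp
    have hp' : ψ p = 0 := hp
    rw [Ideal.mem_comap]
    change Ψ p ∈ I.map (algebraMap R B)
    have h1 : (Ideal.Quotient.mkₐ R (I.map (algebraMap R B))).comp Ψ =
        (Ideal.Quotient.mkₐ R (I.map (algebraMap R B))).comp (aeval (fun i => (C (b i) : B))) := by
      apply MvPolynomial.algHom_ext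
      intro i
      change Ideal.Quotient.mk (I.map (algebraMap R B)) (aeval b' (X i)) =
        Ideal.Quotient.mk (I.map (algebraMap R B)) (aeval (fun i => (C (b i) : B)) (X i))
      rw [MvPolynomial.aeval_X, MvPolynomial.aeval_X, Ideal.Quotient.eq]
      rw [hb', add_sub_cancel_left]
      refine Ideal.sum_mem _ fun l _ => Ideal.mul_mem_right _ _ ?_
      have hCe : (C (algebraMap R B₀ (ε i l)) : B) = algebraMap R B (ε i l) := by
        rw [IsScalarTower.algebraMap_apply R B₀ B, MvPolynomial.algebraMap_eq]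
      rw [hCe]
      exact Ideal.mem_map_of_mem (algebraMap R B) (hε i l)
    have h2 : aeval (fun i => (C (b i) : B)) p = C (aeval b p) := by
      have : (aeval (fun i => (C (b i) : B)) : MvPolynomial (Fin m) R →ₐ[R] B) =
          (IsScalarTower.toAlgHom R B₀ B).comp (aeval b) := by
        apply MvPolynomial.algHom_ext
        intro i
        rw [AlgHom.comp_apply, MvPolynomial.aeval_X, MvPolynomial.aeval_X]
        rfl
      rw [this]; rfl
    have h3 : aeval b p ∈ I.map (algebraMap R B₀) := by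
      apply hπker
      rw [RingHom.mem_ker]
      have : π.comp (aeval b : MvPolynomial (Fin m) R →ₐ[R] B₀).toRingHom =
          (aeval (R := R ⧸ I) c).toRingHom.comp red := by
        apply MvPolynomial.ringHom_ext
        · intro r
          change π (aeval b (C r)) = aeval (R := R ⧸ I) c (MvPolynomial.map (Ideal.Quotient.mk I) (C r))
          rw [MvPolynomial.map_C, MvPolynomial.aeval_C, MvPolynomial.aeval_C, hπalg]
        · intro i
          change π (aeval b (X i)) = aeval (R := R ⧸ I) c (MvPolynomial.map (Ideal.Quotient.mk I) (X i))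
          rw [MvPolynomial.map_X, MvPolynomial.aeval_X, MvPolynomial.aeval_X, hb]
      have h := RingHom.congr_fun this p
      change π (aeval b p) = aeval (R := R ⧸ I) c (red p) at h
      rw [h]; exact hc p hp'
    have h4 : (C (aeval b p) : B) ∈ I.map (algebraMap R B) := by
      have : I.map (algebraMap R B) = (I.map (algebraMap R B₀)).map (C : B₀ →+* B) := by
        rw [Ideal.map_map]; rfl
      rw [this]; exact Ideal.mem_map_of_mem _ h3
    have h5 := AlgHom.congr_fun h1 p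
    rw [AlgHom.comp_apply, AlgHom.comp_apply, h2] at h5
    have h6 : Ideal.Quotient.mk (I.map (algebraMap R B)) (Ψ p) = 0 := by
      refine Eq.trans h5 ?_
      exact Ideal.Quotient.eq_zero_iff_mem.mpr h4
    exact Ideal.Quotient.eq_zero_iff_mem.mp h6
  refine ⟨B, inferInstance, inferInstance, hBsm, J, hJI, hJfg, ?_⟩
  let k : (B ⧸ J) →ₐ[R] Λ := Ideal.Quotient.liftₐ J k₁ hJk
  let g0 : MvPolynomial (Fin m) R →ₐ[R] B ⧸ J := (Ideal.Quotient.mkₐ R J).comp Ψ
  have hg0 : ∀ p ∈ RingHom.ker ψ, g0 p = 0 := fun p hp =>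
    Ideal.Quotient.eq_zero_iff_mem.mpr (Ideal.mem_map_of_mem Ψ.toRingHom hp)
  let e := Ideal.quotientKerAlgEquivOfSurjective hψ
  let g : A →ₐ[R] B ⧸ J := (Ideal.Quotient.liftₐ (RingHom.ker ψ) g0 hg0).comp e.symm.toAlgHom
  refine ⟨g, k, ?_⟩
  apply AlgHom.ext
  intro x
  obtain ⟨p, rfl⟩ := hψ x
  have he : e.symm (ψ p) = Ideal.Quotient.mk _ p := by
    rw [AlgEquiv.symm_apply_eq]; rfl
  change k (Ideal.Quotient.liftₐ (RingHom.ker ψ) g0 hg0 (e.symm (ψ p))) = φ (ψ p)
  rw [he]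
  change k₁ (Ψ p) = φ (ψ p)
  exact AlgHom.congr_fun hkΨ p


end H11.LiftOnceNil
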