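import Mathlib

/-!
# A local basis of differentials chosen from a generating family
-/

set_option autoImplicit false
universe v w

namespace Groth.Agent.H11.LocalBasisJ

open KaehlerDifferential TensorProduct

set_option backward.isDefEq.respectTransparency.types false in
theorem exists_basis_away {R : Type v} {S : Type w} [CommRing R] [CommRing S] [Algebra R S]
    [Algebra.Smooth R S] (J : Ideal S)
    (hspan : Submodule.span S (Set.range fun g : J => D R S g.1) = ⊤)
    (p : Ideal S) [p.IsPrime] :
    ∃ (κ : Type w) (_ : Finite κ) (a : κ → J) (g : S), g ∉ p ∧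
      ∃ b : Module.Basis κ (Localization.Away g) Ω[Localization.Away g⁄R],
        ∀ i, b i = D R (Localization.Away g) (algebraMap S (Localization.Away g) (a i).1) := by
  have hv : Submodule.span (Localization.AtPrime p)
      (Set.range fun g : J => map R R S (Localization.AtPrime p) (D R S g.1)) = ⊤ := by
    have := span_eq_top_of_isLocalizedModule (Localization.AtPrime p) p.primeCompl
      (map R R S (Localization.AtPrime p)) hspan
    rwa [← Set.range_comp] at this
  obtain ⟨κ, a, b, hb⟩ := Module.exists_basis_of_span_of_flat _ hv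
  let e : (κ →₀ S) →ₗ[S] Ω[S⁄R] :=
    Finsupp.linearCombination S fun i : κ ↦ D R S (a i).1
  let l₁ : (κ →₀ S) →ₗ[S] (κ →₀ Localization.AtPrime p) :=
    Finsupp.mapRange.linearMap (Algebra.linearMap S (Localization.AtPrime p))
  let l₂ : Ω[S⁄R] →ₗ[S] Ω[Localization.AtPrime p⁄R] := map R R S (Localization.AtPrime p)
  let eₚ : (κ →₀ Localization.AtPrime p) →ₗ[Localization.AtPrime p] Ω[Localization.AtPrime p⁄R] :=
    IsLocalizedModule.mapExtendScalars p.primeCompl l₁ l₂ (Localization.AtPrime p) e
  have : eₚ = b.repr.symm := by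
    ext i
    trans IsLocalizedModule.map p.primeCompl l₁ l₂ e <| l₁ <| Finsupp.single i 1
    · simp [eₚ, -IsLocalizedModule.map_apply, l₁]
    · simp [l₂, e, hb]
  have heₚ : Function.Bijective eₚ := this ▸ b.repr.symm.bijective
  have : Finite κ := Module.Finite.finite_basis b
  obtain ⟨g, hg, h⟩ := Module.FinitePresentation.exists_notMem_bijective e p l₁ l₂ heₚ
  let l₁ₜ : (κ →₀ S) →ₗ[S] (κ →₀ Localization.Away g) :=
    Finsupp.mapRange.linearMap (Algebra.linearMap S _)
  let l₂ₜ : Ω[S⁄R] →ₗ[S] Ω[Localization.Away g⁄R] :=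
    map R R S (Localization.Away g)
  rw [← IsLocalizedModule.map_bijective_iff_localizedModuleMap_bijective l₁ₜ l₂ₜ] at h
  let eₜ' : (κ →₀ Localization.Away g) →ₗ[Localization.Away g] Ω[Localization.Away g⁄R] :=
    IsLocalizedModule.mapExtendScalars (Submonoid.powers g) l₁ₜ l₂ₜ (Localization.Away g) e
  refine ⟨κ, inferInstance, a, g, hg, .ofRepr (LinearEquiv.ofBijective eₜ' h).symm, ?_⟩
  intro i
  simp +zetaDelta [IsLocalizedModule.map_linearCombination]

end Groth.Agent.H11.LocalBasisJ
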