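import Mathlib
import Groth.Prelude.Def_W4c5qllcourbesmultMultCrv

/-!
# Helper lemmas for modules over `R[X]/(X^n)`
-/

namespace Groth.Agent.H11.MC

open MultCrv Polynomial

variable (R : Type*) [CommRing R] (n : ℕ)

theorem z_pow_n : z R n ^ n = 0 := by
  rw [z, ← map_pow, Ideal.Quotient.eq_zero_iff_mem]
  exact Ideal.mem_span_singleton_self _

instance finite_Rn [Nontrivial R] : Module.Finite R (Rn R n) :=
  (Polynomial.monic_X_pow (R := R) n).finite_adjoinRoot

variable {R n}
variable {M : Type*} [AddCommGroup M] [Module (Rn R n) M]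

theorem mem_filt2_iff (i : ℕ) (u : M) : u ∈ filt2 R n M i ↔ z R n ^ i • u = 0 :=
  Submodule.mem_torsionBy_iff _ _

theorem mem_filt_iff (i : ℕ) (u : M) : u ∈ filt R n M i ↔ ∃ w : M, z R n ^ i • w = u := by
  rw [filt, LinearMap.mem_range]
  rfl

/-- For a nonzero `u`, some `z^k u` is a nonzero element killed by `z`. -/
theorem exists_pow_smul_ne_zero {u : M} (hu : u ≠ 0) :
    ∃ k : ℕ, z R n ^ k • u ≠ 0 ∧ z R n • (z R n ^ k • u) = 0 := by
  classical
  have hex : ∃ k : ℕ, z R n ^ k • u = 0 := ⟨n, by rw [z_pow_n]; exact zero_smul (Rn R n) u⟩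
  obtain ⟨k, hk⟩ : ∃ k, Nat.find hex = k := ⟨_, rfl⟩
  have hk0 : k ≠ 0 := by
    rintro rfl
    have := Nat.find_spec hex
    rw [hk, pow_zero, one_smul] at this
    exact hu this
  obtain ⟨j, rfl⟩ := Nat.exists_eq_succ_of_ne_zero hk0
  refine ⟨j, ?_, ?_⟩
  · intro h
    have := Nat.find_min' hex h
    omega
  · have := Nat.find_spec hex
    rw [hk] at this
    rw [smul_smul, ← pow_succ']
    exact this

end Groth.Agent.H11.MC

namespace Groth.Agent.H11.MC

open MultCrv Polynomial Module

variable {R : Type*} [CommRing R] [IsDomain R] {n : ℕ}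
variable {M : Type*} [AddCommGroup M] [Module (Rn R n) M] [Module R M] [IsScalarTower R (Rn R n) M]

/-- rank additivity for a submodule over the bigger ring -/
theorem finrank_quot_add {P : Type*} [AddCommGroup P] [Module (Rn R n) P] [Module R P]
    [IsScalarTower R (Rn R n) P] [Module.Finite R P] (N : Submodule (Rn R n) P) :
    finrank R (P ⧸ N) + finrank R N = finrank R P :=
  (N.restrictScalars R).finrank_quotient_add_finrank

theorem finrank_filt_add_filt2 [Module.Finite R M] (j : ℕ) :
    finrank R (filt R n M j) + finrank R (filt2 R n M j) = finrank R M := by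
  obtain ⟨f, hf⟩ : ∃ f : M →ₗ[R] M, f = (LinearMap.lsmul (Rn R n) M (z R n ^ j)).restrictScalars R :=
    ⟨_, rfl⟩
  have hker : LinearMap.ker f = (filt2 R n M j).restrictScalars R := by
    ext u
    rw [LinearMap.mem_ker, Submodule.restrictScalars_mem, mem_filt2_iff, hf]
    rfl
  have hrange : LinearMap.range f = (filt R n M j).restrictScalars R := by
    ext u
    rw [LinearMap.mem_range, Submodule.restrictScalars_mem, mem_filt_iff, hf]
    rfl
  have h1 := (LinearMap.ker f).finrank_quotient_add_finrank
  rw [f.quotKerEquivRange.finrank_eq, hker, hrange] at h1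
  exact h1

omit [IsDomain R] [Module R M] [IsScalarTower R (Rn R n) M] in
theorem filt2_mono {i j : ℕ} (h : i ≤ j) : filt2 R n M i ≤ filt2 R n M j := by
  intro u hu
  rw [mem_filt2_iff] at hu ⊢
  obtain ⟨k, rfl⟩ := Nat.exists_eq_add_of_le h
  rw [pow_add, mul_comm, mul_smul, hu, smul_zero]

omit [IsDomain R] [Module R M] [IsScalarTower R (Rn R n) M] in
theorem filt_anti {i j : ℕ} (h : i ≤ j) : filt R n M j ≤ filt R n M i := by
  intro u hu
  rw [mem_filt_iff] at hu ⊢
  obtain ⟨w, rfl⟩ := hu
  obtain ⟨k, rfl⟩ := Nat.exists_eq_add_of_le h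
  exact ⟨z R n ^ k • w, by rw [smul_smul, ← pow_add]⟩

theorem finrank_G2_add [IsNoetherianRing R] [Module.Finite R M] (i : ℕ) :
    finrank R (G2 R n M (i + 1)) + finrank R (filt2 R n M i) = finrank R (filt2 R n M (i + 1)) := by
  have hfin : Module.Finite R ↥(filt2 R n M (i + 1)) := by
    have h1 : Module.Finite R ↥((filt2 R n M (i + 1)).restrictScalars R) := inferInstance
    exact h1
  have h := finrank_quot_add (R := R) (n := n) (P := ↥(filt2 R n M (i + 1)))
    (Submodule.comap (filt2 R n M (i + 1)).subtype (filt2 R n M i))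
  have e := ((Submodule.comapSubtypeEquivOfLe (filt2_mono (R := R) (n := n) (M := M)
    (Nat.le_succ i))).restrictScalars R).finrank_eq
  rw [e] at h
  exact h

theorem finrank_G1_add [IsNoetherianRing R] [Module.Finite R M] (i : ℕ) :
    finrank R (G1 R n M i) + finrank R (filt R n M (i + 1)) = finrank R (filt R n M i) := by
  have hfin : Module.Finite R ↥(filt R n M i) := by
    have h1 : Module.Finite R ↥((filt R n M i).restrictScalars R) := inferInstance
    exact h1
  have h := finrank_quot_add (R := R) (n := n) (P := ↥(filt R n M i))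
    (Submodule.comap (filt R n M i).subtype (filt R n M (i + 1)))
  have e := ((Submodule.comapSubtypeEquivOfLe (filt_anti (R := R) (n := n) (M := M)
    (Nat.le_succ i))).restrictScalars R).finrank_eq
  rw [e] at h
  exact h

theorem finrank_G2_eq_G1 [IsNoetherianRing R] [Module.Finite R M] (i : ℕ) :
    finrank R (G2 R n M (i + 1)) = finrank R (G1 R n M i) := by
  have h1 := finrank_G2_add (R := R) (n := n) (M := M) i
  have h2 := finrank_G1_add (R := R) (n := n) (M := M) i
  have h3 := finrank_filt_add_filt2 (R := R) (n := n) (M := M) i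
  have h4 := finrank_filt_add_filt2 (R := R) (n := n) (M := M) (i + 1)
  omega

end Groth.Agent.H11.MC
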