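import Mathlib
import Groth.Agent.H11.MultCrvLib

/-!
# Frobenius duality for `A = R[X]/(X^n)`: `Hom_A(M, A) ≅ Hom_R(M, R)`
-/

namespace Groth.Agent.H11.MC

open MultCrv Polynomial Module

variable {R : Type*} [CommRing R] {n : ℕ}

/-- The `j`-th coefficient functional on `R[X]/(X^n)` (meaningful for `j < n`). -/
noncomputable def coeffQ (j : ℕ) (hj : j < n) : Rn R n →ₗ[R] R :=
  (Submodule.liftQ ((Ideal.span {(X : R[X]) ^ n}).restrictScalars R) (lcoeff R j) (by
    intro p hp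
    rw [Submodule.restrictScalars_mem, Ideal.mem_span_singleton] at hp
    rw [LinearMap.mem_ker, lcoeff_apply]
    exact (X_pow_dvd_iff.1 hp) j hj)).comp
    (Submodule.Quotient.restrictScalarsEquiv R (Ideal.span {(X : R[X]) ^ n})).symm.toLinearMap

theorem coeffQ_mk (j : ℕ) (hj : j < n) (p : R[X]) :
    coeffQ (R := R) j hj (Ideal.Quotient.mk (Ideal.span {(X : R[X]) ^ n}) p) = p.coeff j := by
  unfold coeffQ
  rw [LinearMap.comp_apply]
  have : (Submodule.Quotient.restrictScalarsEquiv R (Ideal.span {(X : R[X]) ^ n})).symm.toLinearMap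
      (Ideal.Quotient.mk (Ideal.span {(X : R[X]) ^ n}) p) = Submodule.Quotient.mk p :=
    Submodule.Quotient.restrictScalarsEquiv_symm_mk R _ p
  rw [this, Submodule.liftQ_apply, lcoeff_apply]

theorem eq_zero_of_coeffQ (a : Rn R n) (h : ∀ j (hj : j < n), coeffQ (R := R) j hj a = 0) : a = 0 := by
  obtain ⟨p, rfl⟩ := Ideal.Quotient.mk_surjective a
  rw [Ideal.Quotient.eq_zero_iff_mem, Ideal.mem_span_singleton, X_pow_dvd_iff]
  intro d hd
  rw [← coeffQ_mk d hd]
  exact h d hd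

theorem coeffQ_z_pow_mul (k j : ℕ) (hj : j < n) (hkj : k ≤ j) (a : Rn R n) :
    coeffQ (R := R) j hj (z R n ^ k * a) = coeffQ (R := R) (j - k) (by omega) a := by
  obtain ⟨p, rfl⟩ := Ideal.Quotient.mk_surjective a
  rw [z, ← map_pow, ← map_mul, coeffQ_mk, coeffQ_mk]
  obtain ⟨i, rfl⟩ := Nat.exists_eq_add_of_le hkj
  rw [Nat.add_sub_cancel_left, add_comm, coeff_X_pow_mul]

/-- Nondegeneracy of the pairing `(a, b) ↦ coeff_{n-1}(a b)`. -/
theorem eq_zero_of_forall_coeffQ_mul (hn : 1 ≤ n) (x : Rn R n)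
    (h : ∀ a : Rn R n, coeffQ (R := R) (n - 1) (by omega) (a * x) = 0) : x = 0 := by
  apply eq_zero_of_coeffQ
  intro j hj
  have := h (z R n ^ (n - 1 - j))
  rw [coeffQ_z_pow_mul (n - 1 - j) (n - 1) (by omega) (by omega)] at this
  have e : n - 1 - (n - 1 - j) = j := by omega
  simp only [e] at this
  exact this

end Groth.Agent.H11.MC
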