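import Mathlib
import Groth.Agent.H11.MultCrvLib
import Groth.Agent.H11.MCFrob1

/-!
# Frobenius duality for `A = R[X]/(X^n)`, part 2: lifting `R`-functionals to `A`-functionals
-/


namespace Groth.Agent.H11.MC

open MultCrv Polynomial Module

variable {R : Type*} [CommRing R] {n : ℕ}
variable {M : Type*} [AddCommGroup M] [Module (Rn R n) M] [Module R M] [IsScalarTower R (Rn R n) M]

/-- The `R`-linear map `m ↦ Σ_j g(z^(n-1-j) m) z^j`. -/
noncomputable def liftR (g : M →ₗ[R] R) : M →ₗ[R] Rn R n :=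
  ∑ j ∈ Finset.range n,
    LinearMap.smulRight (g.comp ((LinearMap.lsmul (Rn R n) M (z R n ^ (n - 1 - j))).restrictScalars R))
      (z R n ^ j)

theorem liftR_apply (g : M →ₗ[R] R) (m : M) :
    liftR (n := n) g m = ∑ j ∈ Finset.range n, g (z R n ^ (n - 1 - j) • m) • z R n ^ j := by
  unfold liftR
  rw [LinearMap.sum_apply]
  rfl

theorem liftR_z_smul (hn : 1 ≤ n) (g : M →ₗ[R] R) (m : M) :
    liftR (n := n) g (z R n • m) = z R n * liftR (n := n) g m := by
  obtain ⟨k, rfl⟩ : ∃ k, n = k + 1 := ⟨n - 1, by omega⟩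
  rw [liftR_apply, liftR_apply, Finset.sum_range_succ', Finset.mul_sum, Finset.sum_range_succ]
  have h0 : z R (k + 1) ^ (k + 1 - 1 - 0) • z R (k + 1) • m = 0 := by
    rw [smul_smul, ← pow_succ]
    have : k + 1 - 1 - 0 + 1 = k + 1 := by omega
    rw [this, z_pow_n]
    exact zero_smul (Rn R (k + 1)) m
  have hlast : z R (k + 1) * g (z R (k + 1) ^ (k + 1 - 1 - k) • m) • z R (k + 1) ^ k = 0 := by
    rw [mul_smul_comm, ← pow_succ', z_pow_n, smul_zero]
  rw [h0, map_zero, zero_smul, add_zero, hlast, add_zero]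
  refine Finset.sum_congr rfl fun i hi => ?_
  rw [Finset.mem_range] at hi
  rw [smul_smul, ← pow_succ, mul_smul_comm, ← pow_succ']
  have : k + 1 - 1 - (i + 1) + 1 = k + 1 - 1 - i := by omega
  rw [this]

theorem liftR_smul (hn : 1 ≤ n) (g : M →ₗ[R] R) (a : Rn R n) (m : M) :
    liftR (n := n) g (a • m) = a * liftR (n := n) g m := by
  obtain ⟨p, rfl⟩ := Ideal.Quotient.mk_surjective a
  induction p using Polynomial.induction_on generalizing m with
  | C r =>
    have : (Ideal.Quotient.mk (Ideal.span {(X : R[X]) ^ n}) (C r)) = algebraMap R (Rn R n) r := rfl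
    rw [this, algebraMap_smul, map_smul]
    exact Algebra.smul_def (A := Rn R n) r (liftR (n := n) g m)
  | add p q hp hq =>
    rw [map_add, add_smul, map_add, hp, hq, add_mul]
  | monomial k r ih =>
    have : (Ideal.Quotient.mk (Ideal.span {(X : R[X]) ^ n}) (C r * X ^ (k + 1))) =
        z R n * (Ideal.Quotient.mk (Ideal.span {(X : R[X]) ^ n}) (C r * X ^ k)) := by
      rw [z, ← map_mul]
      congr 1
      ring
    rw [this, mul_smul, liftR_z_smul hn, ih, mul_assoc]

/-- The `A`-linear lift of an `R`-linear functional. -/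
noncomputable def liftA (hn : 1 ≤ n) (g : M →ₗ[R] R) : M →ₗ[Rn R n] Rn R n where
  toFun := liftR (n := n) g
  map_add' := map_add _
  map_smul' a m := by
    rw [liftR_smul hn, RingHom.id_apply, smul_eq_mul]

theorem coeffQ_z_pow (j : ℕ) (hj : j < n) (k : ℕ) :
    coeffQ (R := R) j hj (z R n ^ k) = if j = k then 1 else 0 := by
  rw [z, ← map_pow, coeffQ_mk, coeff_X_pow]

theorem coeffQ_liftA (hn : 1 ≤ n) (g : M →ₗ[R] R) (m : M) :
    coeffQ (R := R) (n - 1) (by omega) (liftA hn g m) = g m := by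
  show coeffQ (R := R) (n - 1) (by omega) (liftR (n := n) g m) = g m
  rw [liftR_apply, map_sum]
  rw [Finset.sum_eq_single (n - 1)]
  · rw [map_smul, coeffQ_z_pow, if_pos rfl, Nat.sub_self, pow_zero,
      one_smul, smul_eq_mul, mul_one]
  · intro j _ hj
    rw [map_smul, coeffQ_z_pow, if_neg (Ne.symm hj), smul_zero]
  · intro h
    exact absurd (Finset.mem_range.2 (by omega)) h

omit [Module R M] [IsScalarTower R (Rn R n) M] in
/-- `Φ` is injective: an `A`-linear map to `A` is determined by its top coefficient. -/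
theorem eq_of_coeffQ_eq (hn : 1 ≤ n) (f f' : M →ₗ[Rn R n] Rn R n)
    (h : ∀ m, coeffQ (R := R) (n - 1) (by omega) (f m) = coeffQ (R := R) (n - 1) (by omega) (f' m)) :
    f = f' := by
  ext m
  rw [← sub_eq_zero]
  apply eq_zero_of_forall_coeffQ_mul hn
  intro a
  rw [mul_sub, ← smul_eq_mul, ← smul_eq_mul, ← map_smul, ← map_smul, map_sub, h, sub_self]

end Groth.Agent.H11.MC
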