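import Mathlib
import Groth.Agent.H11.MCFrob2
import Groth.Agent.S17941

namespace Groth.Agent.H11.MC

open MultCrv Polynomial CategoryTheory

universe u

variable (R : Type u) [CommRing R] (n : ℕ)

theorem isTorsionFree_Rn [IsDomain R] : Module.IsTorsionFree R (Rn R n) := by
  apply Module.IsTorsionFree.of_smul_eq_zero
  intro r a hra
  by_cases hr : r = 0
  · exact Or.inl hr
  refine Or.inr ?_
  apply eq_zero_of_coeffQ
  intro j hj
  have h2 := congrArg (coeffQ (R := R) j hj) hra
  rw [map_smul, map_zero, smul_eq_mul] at h2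
  exact (mul_eq_zero.1 h2).resolve_left hr

variable {R n}

theorem exists_presentation (M : Type u) [AddCommGroup M] [Module (Rn R n) M]
    [Module.Finite (Rn R n) M] :
    ∃ (r : ℕ) (π : (Fin r → Rn R n) →ₗ[Rn R n] M), Function.Surjective π :=
  Module.Finite.exists_fin' (Rn R n) M

section ker

variable [IsDomain R] [IsDiscreteValuationRing R]
variable {M : Type u} [AddCommGroup M] [Module (Rn R n) M]
variable {r : ℕ} (π : (Fin r → Rn R n) →ₗ[Rn R n] M)

theorem finite_ker : Module.Finite (Rn R n) (LinearMap.ker π) := by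
  haveI : IsNoetherianRing (Rn R n) := inferInstance
  infer_instance

theorem isTorsionFree_ker : Module.IsTorsionFree R (LinearMap.ker π) := by
  haveI := isTorsionFree_Rn R n
  exact Function.Injective.moduleIsTorsionFree (LinearMap.ker π).subtype
    (LinearMap.ker π).injective_subtype (fun _ _ => rfl)

end ker

end Groth.Agent.H11.MC

namespace Groth.Agent.H11.MC

open MultCrv Polynomial CategoryTheory Abelian

universe u

variable {R : Type u} [CommRing R] [IsDomain R] [IsDiscreteValuationRing R] {n : ℕ}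

theorem projective_pi (r : ℕ) : Projective (ModuleCat.of (Rn R n) (Fin r → Rn R n)) :=
  (IsProjective.iff_projective (Fin r → Rn R n)).1 inferInstance

/-- Every `A`-linear form on the kernel of a presentation of a torsion-free module extends. -/
theorem exists_extension (hn : 1 ≤ n) {M : Type u} [AddCommGroup M] [Module (Rn R n) M]
    [Module R M] [IsScalarTower R (Rn R n) M] [Module.Finite (Rn R n) M]
    [Module.IsTorsionFree R M] {r : ℕ} (π : (Fin r → Rn R n) →ₗ[Rn R n] M)
    (hπ : Function.Surjective π) (φ : LinearMap.ker π →ₗ[Rn R n] Rn R n) :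
    ∃ ψ : (Fin r → Rn R n) →ₗ[Rn R n] Rn R n, ψ.comp (LinearMap.ker π).subtype = φ := by
  haveI := isTorsionFree_Rn R n
  have := Groth.Agent.S17941.result R n hn (LinearMap.ker π) (Fin r → Rn R n) M
    (LinearMap.ker π).subtype π (LinearMap.ker π).injective_subtype hπ
    (Submodule.range_subtype _)
  obtain ⟨ψ, hψ⟩ := this φ
  exact ⟨ψ, hψ⟩

theorem ext_self_subsingleton (hn : 1 ≤ n) (i : ℕ) (hi : 1 ≤ i) :
    ∀ (M : Type u) [AddCommGroup M] [Module (Rn R n) M] [Module R M]
      [IsScalarTower R (Rn R n) M] [Module.Finite (Rn R n) M] [Module.IsTorsionFree R M],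
      Subsingleton (Ext (ModuleCat.of (Rn R n) M) (ModuleCat.of (Rn R n) (Rn R n)) i) := by
  induction i, hi using Nat.le_induction with
  | base =>
    intro M _ _ _ _ _ _
    obtain ⟨r, π, hπ⟩ := exists_presentation (R := R) (n := n) M
    have hS := LinearMap.shortExact_shortComplexKer hπ
    haveI := projective_pi (R := R) (n := n) r
    refine subsingleton_of_forall_eq 0 fun x => ?_
    have h0 : (Ext.mk₀ π.shortComplexKer.g).comp x (zero_add 1) = 0 :=
      Ext.eq_zero_of_projective _
    obtain ⟨x₁, hx₁⟩ := Ext.contravariant_sequence_exact₃ hS _ x h0 (rfl : 1 + 0 = 1)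
    obtain ⟨φ, rfl⟩ := (Ext.mk₀_bijective _ _).2 x₁
    obtain ⟨ψ, hψ⟩ := exists_extension hn π hπ φ.hom
    have : φ = π.shortComplexKer.f ≫ ModuleCat.ofHom ψ := by
      ext1
      exact hψ.symm
    rw [← hx₁, this, ← Ext.mk₀_comp_mk₀, ShortComplex.ShortExact.extClass_comp_assoc]
  | succ i hi ih =>
    intro M _ _ _ _ _ _
    obtain ⟨r, π, hπ⟩ := exists_presentation (R := R) (n := n) M
    have hS := LinearMap.shortExact_shortComplexKer hπ
    haveI := projective_pi (R := R) (n := n) r
    haveI := finite_ker π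
    haveI := isTorsionFree_ker π
    refine subsingleton_of_forall_eq 0 fun x => ?_
    have h0 : (Ext.mk₀ π.shortComplexKer.g).comp x (zero_add (i + 1)) = 0 :=
      Ext.eq_zero_of_projective _
    obtain ⟨x₁, hx₁⟩ := Ext.contravariant_sequence_exact₃ hS _ x h0 (add_comm 1 i)
    haveI := ih (LinearMap.ker π)
    rw [← hx₁, Subsingleton.elim x₁ 0, Ext.comp_zero]

end Groth.Agent.H11.MC

namespace Groth.Agent.H11.MC

open MultCrv Polynomial CategoryTheory Abelian

universe u

variable {R : Type u} [CommRing R] [IsDomain R] [IsDiscreteValuationRing R] {n : ℕ}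

theorem ext_self_subsingleton_of_two_le (hn : 1 ≤ n) (i : ℕ) (hi : 2 ≤ i)
    (M : Type u) [AddCommGroup M] [Module (Rn R n) M] [Module.Finite (Rn R n) M] :
    Subsingleton (Ext (ModuleCat.of (Rn R n) M) (ModuleCat.of (Rn R n) (Rn R n)) i) := by
  obtain ⟨j, rfl⟩ : ∃ j, i = j + 1 := ⟨i - 1, by omega⟩
  obtain ⟨r, π, hπ⟩ := exists_presentation (R := R) (n := n) M
  have hS := LinearMap.shortExact_shortComplexKer hπ
  haveI := projective_pi (R := R) (n := n) r
  haveI := finite_ker π
  haveI := isTorsionFree_ker π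
  refine subsingleton_of_forall_eq 0 fun x => ?_
  have h0 : (Ext.mk₀ π.shortComplexKer.g).comp x (zero_add (j + 1)) = 0 :=
    Ext.eq_zero_of_projective _
  obtain ⟨x₁, hx₁⟩ := Ext.contravariant_sequence_exact₃ hS _ x h0 (add_comm 1 j)
  haveI := ext_self_subsingleton (R := R) hn j (by omega) (LinearMap.ker π)
  rw [← hx₁, Subsingleton.elim x₁ 0, Ext.comp_zero]

/-- If `Ext¹(M, A) = 0` then every `A`-linear form on the kernel of a presentation extends. -/
theorem exists_extension_of_ext_one {M : Type u} [AddCommGroup M] [Module (Rn R n) M]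
    (h : Subsingleton (Ext (ModuleCat.of (Rn R n) M) (ModuleCat.of (Rn R n) (Rn R n)) 1))
    {r : ℕ} (π : (Fin r → Rn R n) →ₗ[Rn R n] M)
    (hπ : Function.Surjective π) (φ : LinearMap.ker π →ₗ[Rn R n] Rn R n) :
    ∃ ψ : (Fin r → Rn R n) →ₗ[Rn R n] Rn R n, ψ.comp (LinearMap.ker π).subtype = φ := by
  have hS := LinearMap.shortExact_shortComplexKer hπ
  have h1 : hS.extClass.comp (Ext.mk₀ (ModuleCat.ofHom φ)) (add_zero 1) = 0 :=
    Subsingleton.elim _ _
  obtain ⟨x₂, hx₂⟩ := Ext.contravariant_sequence_exact₁ hS _ (Ext.mk₀ (ModuleCat.ofHom φ))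
    (add_zero 1) h1
  obtain ⟨ψ, rfl⟩ := (Ext.mk₀_bijective _ _).2 x₂
  rw [Ext.mk₀_comp_mk₀] at hx₂
  have := (Ext.mk₀_bijective _ _).1 hx₂
  refine ⟨ψ.hom, ?_⟩
  have h2 := congrArg ModuleCat.Hom.hom this
  exact h2

end Groth.Agent.H11.MC

namespace Groth.Agent.H11.MC

open MultCrv Polynomial CategoryTheory Abelian

universe u

variable {R : Type u} [CommRing R] [IsDomain R] [IsDiscreteValuationRing R] {n : ℕ}

theorem isTorsionFree_of_ext_one (hn : 1 ≤ n) (M : Type u) [AddCommGroup M]
    [Module (Rn R n) M] [Module R M] [IsScalarTower R (Rn R n) M] [Module.Finite (Rn R n) M]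
    (h : Subsingleton (Ext (ModuleCat.of (Rn R n) M) (ModuleCat.of (Rn R n) (Rn R n)) 1)) :
    Module.IsTorsionFree R M := by
  classical
  obtain ⟨r, π, hπ⟩ := exists_presentation (R := R) (n := n) M
  haveI := finite_ker π
  haveI := isTorsionFree_ker π
  haveI := isTorsionFree_Rn R n
  haveI : Module.Finite R (Rn R n) := finite_Rn R n
  haveI : Module.Finite R (LinearMap.ker π) := Module.Finite.trans (Rn R n) _
  haveI : Module.Free R (LinearMap.ker π) := Module.free_of_finite_type_torsion_free'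
  have hn' : n - 1 < n := by omega
  have hB : ∀ g : LinearMap.ker π →ₗ[R] R, ∃ g' : (Fin r → Rn R n) →ₗ[R] R,
      ∀ k : LinearMap.ker π, g' k = g k := by
    intro g
    obtain ⟨ψ, hψ⟩ := exists_extension_of_ext_one h π hπ (liftA hn g)
    refine ⟨(coeffQ (R := R) (n - 1) hn').comp (ψ.restrictScalars R), fun k => ?_⟩
    have := LinearMap.congr_fun hψ k
    simp only [LinearMap.comp_apply, LinearMap.restrictScalars_apply,
      Submodule.subtype_apply] at this ⊢
    rw [this, coeffQ_liftA]
  apply Module.IsTorsionFree.of_smul_eq_zero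
  intro a m ham
  by_cases ha : a = 0
  · exact Or.inl ha
  refine Or.inr ?_
  obtain ⟨x, rfl⟩ := hπ m
  have hk : a • x ∈ LinearMap.ker π := by
    rw [LinearMap.mem_ker, ← algebraMap_smul (Rn R n) a x, map_smul, algebraMap_smul, ham]
  obtain ⟨b, hb⟩ : ∃ b, b = Module.Free.chooseBasis R (LinearMap.ker π) := ⟨_, rfl⟩
  choose G hG using hB
  obtain ⟨k', hk'⟩ : ∃ k' : LinearMap.ker π, k' = ∑ i, G (b.coord i) x • b i := ⟨_, rfl⟩
  have : a • k' = ⟨a • x, hk⟩ := by
    rw [hk', Finset.smul_sum]
    conv_rhs => rw [← b.sum_repr ⟨a • x, hk⟩]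
    refine Finset.sum_congr rfl fun i _ => ?_
    rw [smul_smul]
    congr 1
    have := hG (b.coord i) ⟨a • x, hk⟩
    rw [Module.Basis.coord_apply] at this
    rw [← this]
    simp [map_smul]
  have h3 : a • (k' : Fin r → Rn R n) = a • x := congrArg Subtype.val this
  have h4 : (k' : Fin r → Rn R n) = x := smul_right_injective _ ha h3
  rw [← h4]
  exact k'.2

end Groth.Agent.H11.MC
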