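import Mathlib
import Groth.Agent.H11.MCExt

namespace Groth.Agent.H11.MC

open MultCrv Polynomial CategoryTheory Abelian

universe u

section lift

variable {R : Type*} [CommRing R] {n : ℕ}
variable {M : Type*} [AddCommGroup M] [Module (Rn R n) M] [Module R M] [IsScalarTower R (Rn R n) M]

theorem liftA_of_vanish (hn : 1 ≤ n) (g : M →ₗ[R] R) (hg : ∀ m : M, g (z R n • m) = 0) (m : M) :
    liftA hn g m = g m • z R n ^ (n - 1) := by
  show liftR (n := n) g m = _
  rw [liftR_apply, Finset.sum_eq_single (n - 1)]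
  · rw [Nat.sub_self, pow_zero, one_smul]
  · intro j hj hne
    rw [Finset.mem_range] at hj
    have : z R n ^ (n - 1 - j) = z R n * z R n ^ (n - 2 - j) := by
      rw [← pow_succ']
      congr 1
      omega
    rw [this, mul_smul, hg, zero_smul]
  · intro h
    exact absurd (Finset.mem_range.2 (by omega)) h

end lift

variable {R : Type u} [CommRing R] [IsDomain R] [IsDiscreteValuationRing R] {n : ℕ}

/-- Multiplication by `z^(n-1)` on a torsion-free module factors through a free module. -/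
theorem exists_factor (hn : 1 ≤ n) (M : Type u) [AddCommGroup M] [Module (Rn R n) M] [Module R M]
    [IsScalarTower R (Rn R n) M] [Module.Finite (Rn R n) M] [Module.IsTorsionFree R M] :
    ∃ (ι : Type u) (_ : Fintype ι) (α : M →ₗ[Rn R n] (ι → Rn R n))
      (β : (ι → Rn R n) →ₗ[Rn R n] M), ∀ m, β (α m) = z R n ^ (n - 1) • m := by
  classical
  obtain ⟨ρ, hρ⟩ : ∃ ρ : M →ₗ[Rn R n] filt R n M (n - 1),
      ρ = ((z R n ^ (n - 1)) • (LinearMap.id : M →ₗ[Rn R n] M)).rangeRestrict := ⟨_, rfl⟩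
  have hρv : ∀ m, (ρ m : M) = z R n ^ (n - 1) • m := by
    intro m
    rw [hρ]
    rfl
  haveI : Module.Finite R (Rn R n) := finite_Rn R n
  haveI : Module.Finite (Rn R n) (filt R n M (n - 1)) := by
    haveI : IsNoetherianRing (Rn R n) := inferInstance
    infer_instance
  haveI : Module.Finite R (filt R n M (n - 1)) := Module.Finite.trans (Rn R n) _
  haveI : Module.IsTorsionFree R (filt R n M (n - 1)) :=
    Function.Injective.moduleIsTorsionFree (filt R n M (n - 1)).subtype
      (filt R n M (n - 1)).injective_subtype (fun _ _ => rfl)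
  haveI : Module.Free R (filt R n M (n - 1)) := Module.free_of_finite_type_torsion_free'
  obtain ⟨b, hb⟩ : ∃ b, b = Module.Free.chooseBasis R (filt R n M (n - 1)) := ⟨_, rfl⟩
  have hex : ∀ i, ∃ m : M, z R n ^ (n - 1) • m = (b i : M) := by
    intro i
    obtain ⟨m, hm⟩ := (mem_filt_iff (n - 1) _).1 (b i).2
    exact ⟨m, hm⟩
  choose v hv using hex
  have hvan : ∀ i (m : M), ((b.coord i).comp (ρ.restrictScalars R)) (z R n • m) = 0 := by
    intro i m
    have : ρ (z R n • m) = 0 := by
      apply Subtype.ext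
      rw [hρv, smul_smul, ← pow_succ]
      have : n - 1 + 1 = n := by omega
      rw [this, z_pow_n]
      exact zero_smul (Rn R n) m
    simp only [LinearMap.comp_apply, LinearMap.restrictScalars_apply]
    rw [this, map_zero]
  refine ⟨Module.Free.ChooseBasisIndex R (filt R n M (n - 1)), inferInstance,
    LinearMap.pi (fun i => liftA hn ((b.coord i).comp (ρ.restrictScalars R))),
    Fintype.linearCombination (Rn R n) v, ?_⟩
  intro m
  rw [Fintype.linearCombination_apply]
  have h1 : ∀ i, (LinearMap.pi (fun i => liftA hn ((b.coord i).comp (ρ.restrictScalars R))) m) i • v i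
      = ((b.repr (ρ m) i • b i : filt R n M (n - 1)) : M) := by
    intro i
    rw [LinearMap.pi_apply, liftA_of_vanish hn _ (hvan i)]
    rw [smul_assoc, hv]
    rfl
  rw [Finset.sum_congr rfl (fun i _ => h1 i), ← hρv, ← Submodule.coe_sum, b.sum_repr]

end Groth.Agent.H11.MC

namespace Groth.Agent.H11.MC

open MultCrv Polynomial CategoryTheory Abelian

universe u

variable {R : Type u} [CommRing R] [IsDomain R] [IsDiscreteValuationRing R] {n : ℕ}

theorem z_pow_smul_ext_eq_zero (hn : 1 ≤ n) (M N : Type u) [AddCommGroup M] [Module (Rn R n) M]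
    [Module R M] [IsScalarTower R (Rn R n) M] [Module.Finite (Rn R n) M]
    [Module.IsTorsionFree R M] [AddCommGroup N] [Module (Rn R n) N] (i : ℕ)
    (x : Ext (ModuleCat.of (Rn R n) M) (ModuleCat.of (Rn R n) N) (i + 1)) :
    (z R n ^ (n - 1)) • x = 0 := by
  obtain ⟨ι, _, α, β, hαβ⟩ := exists_factor (R := R) hn M
  haveI : Projective (ModuleCat.of (Rn R n) (ι → Rn R n)) :=
    (IsProjective.iff_projective (ι → Rn R n)).1 inferInstance
  have hfac : (z R n ^ (n - 1)) • 𝟙 (ModuleCat.of (Rn R n) M) =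
      ModuleCat.ofHom α ≫ ModuleCat.ofHom β := by
    ext m
    simp only [ModuleCat.hom_smul, ModuleCat.hom_id, LinearMap.smul_apply, LinearMap.id_coe, id_eq,
      ModuleCat.hom_comp, ModuleCat.hom_ofHom, LinearMap.coe_comp, Function.comp_apply]
    exact (hαβ m).symm
  have h1 : (z R n ^ (n - 1)) • x =
      (Ext.mk₀ ((z R n ^ (n - 1)) • 𝟙 (ModuleCat.of (Rn R n) M))).comp x (zero_add _) := by
    have h2 := Ext.mk₀_smul (z R n ^ (n - 1)) (𝟙 (ModuleCat.of (Rn R n) M))
    erw [h2]
    rw [Ext.smul_comp, Ext.mk₀_id_comp]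
  rw [h1, hfac, ← Ext.mk₀_comp_mk₀, Ext.comp_assoc_of_second_deg_zero]
  have h0 : (Ext.mk₀ (ModuleCat.ofHom β)).comp x (zero_add (i + 1)) = 0 :=
    Ext.eq_zero_of_projective _
  rw [h0, Ext.comp_zero]

theorem z_pow_smul_ext_eq_zero' (hn : 1 ≤ n) (M N : Type u) [AddCommGroup M] [Module (Rn R n) M]
    [Module.Finite (Rn R n) M] [AddCommGroup N] [Module (Rn R n) N] (i : ℕ) (hi : 2 ≤ i)
    (x : Ext (ModuleCat.of (Rn R n) M) (ModuleCat.of (Rn R n) N) i) :
    (z R n ^ (n - 1)) • x = 0 := by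
  obtain ⟨j, rfl⟩ : ∃ j, i = j + 1 + 1 := ⟨i - 2, by omega⟩
  obtain ⟨r, π, hπ⟩ := exists_presentation (R := R) (n := n) M
  have hS := LinearMap.shortExact_shortComplexKer hπ
  haveI := projective_pi (R := R) (n := n) r
  haveI := finite_ker π
  haveI := isTorsionFree_ker π
  have h0 : (Ext.mk₀ π.shortComplexKer.g).comp x (zero_add (j + 1 + 1)) = 0 :=
    Ext.eq_zero_of_projective _
  obtain ⟨x₁, hx₁⟩ := Ext.contravariant_sequence_exact₃ hS _ x h0 (add_comm 1 (j + 1))
  rw [← hx₁, ← Ext.comp_smul, z_pow_smul_ext_eq_zero hn (LinearMap.ker π) N j x₁, Ext.comp_zero]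

end Groth.Agent.H11.MC
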