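import Mathlib
import Groth.Prelude.Def_Found
import Groth.Prelude.Def_CAlgX

set_option autoImplicit false
universe u

namespace Groth.Agent.H11

open TensorProduct

/-- Naturality of `piRightHom` in the left factor. -/
lemma piRightHom_natural (R : Type u) [CommRing R] {M₁ M₂ : Type u}
    [AddCommGroup M₁] [Module R M₁] [AddCommGroup M₂] [Module R M₂] (f : M₁ →ₗ[R] M₂)
    (ι : Type u) (Q : ι → Type u) [∀ i, AddCommGroup (Q i)] [∀ i, Module R (Q i)]
    (x : M₁ ⊗[R] (∀ i, Q i)) (i : ι) :
    TensorProduct.piRightHom R R M₂ Q (f.rTensor (∀ i, Q i) x) i =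
      f.rTensor (Q i) (TensorProduct.piRightHom R R M₁ Q x i) := by
  induction x using TensorProduct.induction_on with
  | zero => simp
  | tmul m q => simp [TensorProduct.piRightHom_tmul]
  | add x y hx hy => simp only [map_add, Pi.add_apply, hx, hy]

end Groth.Agent.H11

namespace Groth.Agent.H11

open TensorProduct

/-- If `s` spans `N`, every element of `N ⊗ Q` is a finite sum `∑ n ⊗ q n` with `n ∈ s`. -/
lemma exists_sum_tmul_of_span_eq_top (R : Type u) [CommRing R] {N : Type u}
    [AddCommGroup N] [Module R N] (Q : Type u) [AddCommGroup Q] [Module R Q]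
    (s : Finset N) (hs : Submodule.span R (s : Set N) = ⊤) (z : N ⊗[R] Q) :
    ∃ q : N → Q, z = ∑ n ∈ s, n ⊗ₜ[R] q n := by
  classical
  induction z using TensorProduct.induction_on with
  | zero => exact ⟨fun _ => 0, by simp⟩
  | tmul n q =>
    have hn : n ∈ Submodule.span R (s : Set N) := by rw [hs]; trivial
    obtain ⟨c, hc⟩ := (Submodule.mem_span_finset').mp hn
    refine ⟨fun m => if h : m ∈ s then c ⟨m, h⟩ • q else 0, ?_⟩
    rw [← hc, TensorProduct.sum_tmul]
    rw [← Finset.sum_coe_sort s (fun m => m ⊗ₜ[R] (if h : m ∈ s then c ⟨m, h⟩ • q else 0))]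
    apply Finset.sum_congr rfl
    intro m _
    simp [TensorProduct.smul_tmul]
  | add x y hx hy =>
    obtain ⟨qx, hqx⟩ := hx
    obtain ⟨qy, hqy⟩ := hy
    refine ⟨fun m => qx m + qy m, ?_⟩
    rw [hqx, hqy, ← Finset.sum_add_distrib]
    apply Finset.sum_congr rfl
    intro m _
    rw [TensorProduct.tmul_add]

/-- For a finitely generated module `N`, the map `N ⊗ ∏ Qᵢ → ∏ (N ⊗ Qᵢ)` is surjective. -/
lemma piRightHom_surjective_of_finite (R : Type u) [CommRing R] {N : Type u}
    [AddCommGroup N] [Module R N] [Module.Finite R N]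
    (ι : Type u) (Q : ι → Type u) [∀ i, AddCommGroup (Q i)] [∀ i, Module R (Q i)] :
    Function.Surjective (TensorProduct.piRightHom R R N Q) := by
  obtain ⟨s, hs⟩ := (Module.finite_def.mp (inferInstance : Module.Finite R N))
  intro w
  have key : ∀ i, ∃ q : N → Q i, w i = ∑ n ∈ s, n ⊗ₜ[R] q n :=
    fun i => exists_sum_tmul_of_span_eq_top R (Q i) s hs (w i)
  choose q hq using key
  refine ⟨∑ n ∈ s, n ⊗ₜ[R] (fun i => q i n), ?_⟩
  funext i
  rw [map_sum, Finset.sum_apply, hq i]
  apply Finset.sum_congr rfl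
  intro n _
  rw [TensorProduct.piRightHom_tmul]

end Groth.Agent.H11

namespace Groth.Agent.H11

open TensorProduct

/-- Sub-objects (via universally injective maps) of Mittag-Leffler modules are Mittag-Leffler. -/
lemma isMittagLeffler_of_universallyInjective (R : Type u) [CommRing R] {M₁ M₂ : Type u}
    [AddCommGroup M₁] [Module R M₁] [AddCommGroup M₂] [Module R M₂] (f : M₁ →ₗ[R] M₂)
    (hf : CAlgX.UniversallyInjective R f) (h₂ : CAlg.IsMittagLeffler R M₂) :
    CAlg.IsMittagLeffler R M₁ := by
  intro ι Q _ _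
  rw [injective_iff_map_eq_zero]
  intro x hx
  apply hf (∀ i, Q i)
  rw [map_zero]
  apply h₂ ι Q
  rw [map_zero]
  funext i
  rw [piRightHom_natural, hx]
  simp

/-- A split injection is universally injective. -/
lemma universallyInjective_of_leftInverse (R : Type u) [CommRing R] {M₁ M₂ : Type u}
    [AddCommGroup M₁] [Module R M₁] [AddCommGroup M₂] [Module R M₂] (f : M₁ →ₗ[R] M₂)
    (g : M₂ →ₗ[R] M₁) (hgf : g.comp f = LinearMap.id) :
    CAlgX.UniversallyInjective R f := by
  intro Q _ _
  apply Function.LeftInverse.injective (g := g.rTensor Q)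
  intro x
  rw [← LinearMap.comp_apply, ← LinearMap.rTensor_comp, hgf, LinearMap.rTensor_id, LinearMap.id_apply]

end Groth.Agent.H11
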