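import Groth.Agent.H11.ML

set_option autoImplicit false
universe u

namespace Groth.Agent.H11

open TensorProduct

/-- `piRightHom` evaluated at `i` is `lTensor` of the `i`-th projection. -/
lemma piRightHom_apply_eq_lTensor_proj (R : Type u) [CommRing R] (N : Type u)
    [AddCommGroup N] [Module R N]
    (ι : Type u) (Q : ι → Type u) [∀ i, AddCommGroup (Q i)] [∀ i, Module R (Q i)]
    (x : N ⊗[R] (∀ i, Q i)) (i : ι) :
    TensorProduct.piRightHom R R N Q x i = (LinearMap.proj i : (∀ i, Q i) →ₗ[R] Q i).lTensor N x := by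
  induction x using TensorProduct.induction_on with
  | zero => simp
  | tmul m q => simp [TensorProduct.piRightHom_tmul]
  | add x y hx hy => simp only [map_add, Pi.add_apply, hx, hy]

section

variable (R S : Type u) [CommRing R] [CommRing S] [Algebra R S] (M : Type u)
    [AddCommGroup M] [Module R M]

/-- The comparison `(S ⊗[R] M) ⊗[S] P ≃ M ⊗[R] P`, `(s ⊗ m) ⊗ p ↦ m ⊗ s • p`. -/
noncomputable def bcEquiv (P : Type u) [AddCommGroup P] [Module S P] [Module R P] [IsScalarTower R S P] :
    (S ⊗[R] M) ⊗[S] P ≃+ M ⊗[R] P :=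
  ((TensorProduct.comm S (S ⊗[R] M) P).trans
    (TensorProduct.AlgebraTensorModule.cancelBaseChange R S S P M)).toAddEquiv.trans
    (TensorProduct.comm R P M).toAddEquiv

lemma bcEquiv_tmul (P : Type u) [AddCommGroup P] [Module S P] [Module R P] [IsScalarTower R S P]
    (s : S) (m : M) (p : P) :
    bcEquiv R S M P ((s ⊗ₜ[R] m) ⊗ₜ[S] p) = m ⊗ₜ[R] (s • p) := by
  simp [bcEquiv]

lemma bcEquiv_natural (P P' : Type u) [AddCommGroup P] [Module S P] [Module R P] [IsScalarTower R S P]
    [AddCommGroup P'] [Module S P'] [Module R P'] [IsScalarTower R S P']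
    (f : P →ₗ[S] P') (x : (S ⊗[R] M) ⊗[S] P) :
    bcEquiv R S M P' (f.lTensor (S ⊗[R] M) x) = (f.restrictScalars R).lTensor M (bcEquiv R S M P x) := by
  induction x using TensorProduct.induction_on with
  | zero => simp
  | tmul t p =>
    induction t using TensorProduct.induction_on with
    | zero => simp
    | tmul s m => simp [bcEquiv_tmul]
    | add a b ha hb =>
      simp only [TensorProduct.add_tmul, map_add] at ha hb ⊢
      rw [ha, hb]
  | add a b ha hb => simp only [map_add, ha, hb]

end

/-- Base change preserves the Mittag-Leffler property (in the injectivity formulation). -/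
lemma isMittagLeffler_baseChange (R S : Type u) [CommRing R] [CommRing S] [Algebra R S] (M : Type u)
    [AddCommGroup M] [Module R M] (hM : CAlg.IsMittagLeffler R M) :
    CAlg.IsMittagLeffler S (S ⊗[R] M) := by
  intro ι Q _ _
  letI : ∀ i, Module R (Q i) := fun i => Module.compHom (Q i) (algebraMap R S)
  haveI : ∀ i, IsScalarTower R S (Q i) := fun i =>
    IsScalarTower.of_algebraMap_smul fun r x => rfl
  rw [injective_iff_map_eq_zero]
  intro x hx
  have hy : bcEquiv R S M (∀ i, Q i) x = 0 := by
    apply hM ι Q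
    rw [map_zero]
    funext i
    rw [piRightHom_apply_eq_lTensor_proj]
    have h1 := bcEquiv_natural R S M (∀ i, Q i) (Q i) (LinearMap.proj i) x
    have h2 : (LinearMap.proj i : (∀ i, Q i) →ₗ[S] Q i).lTensor (S ⊗[R] M) x = 0 := by
      rw [← piRightHom_apply_eq_lTensor_proj, hx]
      rfl
    rw [h2, map_zero] at h1
    rw [Pi.zero_apply, h1]
    rfl
  exact (bcEquiv R S M (∀ i, Q i)).injective (by rw [hy, map_zero])

end Groth.Agent.H11
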