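import Groth.Agent.H11.ML

set_option autoImplicit false
universe u

namespace Groth.Agent.H11

open TensorProduct

lemma isMittagLeffler_of_linearEquiv (R : Type u) [CommRing R] {M₁ M₂ : Type u}
    [AddCommGroup M₁] [Module R M₁] [AddCommGroup M₂] [Module R M₂] (e : M₁ ≃ₗ[R] M₂)
    (h₂ : CAlg.IsMittagLeffler R M₂) : CAlg.IsMittagLeffler R M₁ :=
  isMittagLeffler_of_universallyInjective R e.toLinearMap
    (universallyInjective_of_leftInverse R e.toLinearMap e.symm.toLinearMap (by ext x; simp)) h₂

lemma isMittagLeffler_self (R : Type u) [CommRing R] : CAlg.IsMittagLeffler R R := by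
  intro ι Q _ _
  rw [injective_iff_map_eq_zero]
  intro x hx
  obtain ⟨q, rfl⟩ : ∃ q : (∀ i, Q i), x = (1 : R) ⊗ₜ[R] q :=
    ⟨TensorProduct.lid R _ x, by
      apply (TensorProduct.lid R _).injective
      simp⟩
  have hq : q = 0 := by
    funext i
    have := congrFun hx i
    rw [TensorProduct.piRightHom_tmul] at this
    have h2 := congrArg (TensorProduct.lid R (Q i)) this
    simpa using h2
  rw [hq, TensorProduct.tmul_zero]

lemma isMittagLeffler_directSum (R : Type u) [CommRing R] {ι : Type u} (M : ι → Type u)
    [∀ i, AddCommGroup (M i)] [∀ i, Module R (M i)] (h : ∀ i, CAlg.IsMittagLeffler R (M i)) :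
    CAlg.IsMittagLeffler R (DirectSum ι M) := by
  classical
  intro κ Q _ _
  rw [injective_iff_map_eq_zero]
  intro x hx
  have hcomp : ∀ i, (DirectSum.component R ι M i).rTensor (∀ k, Q k) x = 0 := by
    intro i
    apply h i κ Q
    rw [map_zero]
    funext k
    rw [piRightHom_natural, hx]
    simp
  have hds : TensorProduct.directSumLeft R R M (∀ k, Q k) x = 0 := by
    ext i
    have key : ∀ y : (DirectSum ι M) ⊗[R] (∀ k, Q k),
        TensorProduct.directSumLeft R R M (∀ k, Q k) y i =
          (DirectSum.component R ι M i).rTensor (∀ k, Q k) y := by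
      intro y
      induction y using TensorProduct.induction_on with
      | zero => simp
      | tmul m q => simp [TensorProduct.directSumLeft_tmul]; rfl
      | add a b ha hb => simp only [map_add, DirectSum.add_apply, ha, hb]
    rw [key, hcomp i]
    simp
  exact (TensorProduct.directSumLeft R R M (∀ k, Q k)).injective (by rw [hds, map_zero])

lemma isMittagLeffler_quotient_of_fg (R : Type u) [CommRing R] {M : Type u} [AddCommGroup M] [Module R M]
    (N : Submodule R M) (hN : N.FG) (hM : CAlg.IsMittagLeffler R M) :
    CAlg.IsMittagLeffler R (M ⧸ N) := by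
  intro ι Q _ _
  have : Module.Finite R N := Module.Finite.iff_fg.mpr hN
  rw [injective_iff_map_eq_zero]
  intro z hz
  have hex : Function.Exact N.subtype N.mkQ :=
    LinearMap.exact_iff.mpr (by rw [Submodule.ker_mkQ, Submodule.range_subtype])
  have hsurj : Function.Surjective N.mkQ := N.mkQ_surjective
  obtain ⟨x, rfl⟩ := LinearMap.rTensor_surjective (∀ i, Q i) hsurj z
  have key : ∀ i, ∃ w : (N ⊗[R] Q i), N.subtype.rTensor (Q i) w = TensorProduct.piRightHom R R M Q x i := by
    intro i
    apply (rTensor_exact (Q i) hex hsurj _).mp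
    rw [← piRightHom_natural, hz]
    simp
  choose w hw using key
  obtain ⟨v, hv⟩ := piRightHom_surjective_of_finite R ι Q w
  have hx : x = N.subtype.rTensor (∀ i, Q i) v := by
    apply hM ι Q
    funext i
    rw [piRightHom_natural, hv, hw]
  rw [hx]
  exact (rTensor_exact (∀ i, Q i) hex hsurj _).mpr ⟨v, rfl⟩

lemma isMittagLeffler_fin_fun (R : Type u) [CommRing R] (n : ℕ) :
    CAlg.IsMittagLeffler R (Fin n → R) := by
  classical
  have h1 : CAlg.IsMittagLeffler R (DirectSum (ULift.{u} (Fin n)) (fun _ => R)) :=
    isMittagLeffler_directSum R _ (fun _ => isMittagLeffler_self R)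
  let e : (Fin n → R) ≃ₗ[R] DirectSum (ULift.{u} (Fin n)) (fun _ => R) :=
    (LinearEquiv.funCongrLeft R R Equiv.ulift).trans
      (DirectSum.linearEquivFunOnFintype R (ULift.{u} (Fin n)) (fun _ => R)).symm
  exact isMittagLeffler_of_linearEquiv R e h1

lemma isMittagLeffler_of_finitePresentation (R : Type u) [CommRing R] (M : Type u)
    [AddCommGroup M] [Module R M] [Module.FinitePresentation R M] : CAlg.IsMittagLeffler R M := by
  obtain ⟨n, K, e, hK⟩ := Module.FinitePresentation.exists_fin R M
  exact isMittagLeffler_of_linearEquiv R e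
    (isMittagLeffler_quotient_of_fg R K hK (isMittagLeffler_fin_fun R n))

lemma piRightHom_bijective_of_finitePresentation (R : Type u) [CommRing R] (M : Type u)
    [AddCommGroup M] [Module R M] [Module.FinitePresentation R M]
    (ι : Type u) (Q : ι → Type u) [∀ i, AddCommGroup (Q i)] [∀ i, Module R (Q i)] :
    Function.Bijective (TensorProduct.piRightHom R R M Q) :=
  ⟨isMittagLeffler_of_finitePresentation R M ι Q, piRightHom_surjective_of_finite R ι Q⟩

end Groth.Agent.H11
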