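import Groth.Agent.H11.MLFP

set_option autoImplicit false
universe u

namespace Groth.Agent.H11

open TensorProduct

/-- Key lemma: over a Noetherian ring, an element of `(A → R) ⊗ Q` all of whose evaluations vanish is
zero. -/
lemma eq_zero_of_forall_eval_rTensor_eq_zero (R : Type u) [CommRing R] [IsNoetherianRing R]
    (A : Type u) (Q : Type u) [AddCommGroup Q] [Module R Q] (x : (A → R) ⊗[R] Q)
    (hx : ∀ a : A, (LinearMap.proj a : (A → R) →ₗ[R] R).rTensor Q x = 0) : x = 0 := by
  classical
  obtain ⟨S, rfl⟩ := TensorProduct.exists_finset x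
  rw [← Finset.sum_coe_sort S]
  -- the relation map
  let ψ : (S → R) →ₗ[R] Q := ∑ i : S, (LinearMap.proj i : (S → R) →ₗ[R] R).smulRight (i : (A → R) × Q).2
  have hψ : ∀ c : S → R, ψ c = ∑ i : S, c i • (i : (A → R) × Q).2 := by
    intro c
    simp [ψ, LinearMap.sum_apply]
  -- evaluation vectors lie in the kernel
  have hker : ∀ a : A, (fun i : S => (i : (A → R) × Q).1 a) ∈ LinearMap.ker ψ := by
    intro a
    rw [LinearMap.mem_ker, hψ]
    have h1 := hx a
    rw [← Finset.sum_coe_sort S, map_sum] at h1
    have h2 := congrArg (TensorProduct.lid R Q) h1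
    simpa using h2
  -- the kernel is finitely generated
  obtain ⟨T, hT⟩ : (LinearMap.ker ψ).FG := IsNoetherian.noetherian _
  have hcoef : ∀ a : A, ∃ c : T → R, ∑ t : T, c t • (t : S → R) = (fun i : S => (i : (A → R) × Q).1 a) := by
    intro a
    have := hker a
    rw [← hT] at this
    exact (Submodule.mem_span_finset').mp this
  choose c hc using hcoef
  have hTker : ∀ t : T, ψ (t : S → R) = 0 := by
    intro t
    have : (t : S → R) ∈ LinearMap.ker ψ := by
      rw [← hT]
      exact Submodule.subset_span t.2
    exact this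
  -- rewrite each f_i
  have hf : ∀ i : S, (i : (A → R) × Q).1 = ∑ t : T, (t : S → R) i • (fun a => c a t) := by
    intro i
    funext a
    have := congrFun (hc a) i
    simp only [Finset.sum_apply, Pi.smul_apply, smul_eq_mul] at this ⊢
    rw [← this]
    apply Finset.sum_congr rfl
    intro t _
    ring
  calc ∑ i : S, (i : (A → R) × Q).1 ⊗ₜ[R] (i : (A → R) × Q).2
      = ∑ i : S, ∑ t : T, (fun a => c a t) ⊗ₜ[R] ((t : S → R) i • (i : (A → R) × Q).2) := by
        apply Finset.sum_congr rfl
        intro i _
        conv_lhs => rw [hf i]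
        rw [TensorProduct.sum_tmul]
        apply Finset.sum_congr rfl
        intro t _
        rw [TensorProduct.smul_tmul]
    _ = ∑ t : T, (fun a => c a t) ⊗ₜ[R] ψ (t : S → R) := by
        rw [Finset.sum_comm]
        apply Finset.sum_congr rfl
        intro t _
        rw [hψ, TensorProduct.tmul_sum]
    _ = 0 := by
        apply Finset.sum_eq_zero
        intro t _
        rw [hTker t, TensorProduct.tmul_zero]

lemma flat_pi_of_isNoetherianRing (R : Type u) [CommRing R] [IsNoetherianRing R] (A : Type u) :
    Module.Flat R (A → R) := by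
  rw [Module.Flat.iff_lTensor_injective']
  intro I
  rw [injective_iff_map_eq_zero]
  intro x hx
  apply eq_zero_of_forall_eval_rTensor_eq_zero R A I x
  intro a
  have hinj : Function.Injective (I.subtype.lTensor R) :=
    Module.Flat.lTensor_preserves_injective_linearMap (M := R) _ Subtype.val_injective
  apply hinj
  rw [map_zero]
  have : I.subtype.lTensor R ((LinearMap.proj a : (A → R) →ₗ[R] R).rTensor I x) =
      (LinearMap.proj a : (A → R) →ₗ[R] R).rTensor R (I.subtype.lTensor (A → R) x) := by
    rw [← LinearMap.comp_apply, ← LinearMap.comp_apply, LinearMap.lTensor_comp_rTensor,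
      LinearMap.rTensor_comp_lTensor]
  rw [this, hx, map_zero]

lemma isMittagLeffler_pi_of_isNoetherianRing (R : Type u) [CommRing R] [IsNoetherianRing R] (A : Type u) :
    CAlg.IsMittagLeffler R (A → R) := by
  intro ι Q _ _
  rw [injective_iff_map_eq_zero]
  intro x hx
  apply eq_zero_of_forall_eval_rTensor_eq_zero R A (∀ i, Q i) x
  intro a
  apply isMittagLeffler_self R ι Q
  rw [map_zero]
  funext i
  rw [piRightHom_natural, hx]
  simp

end Groth.Agent.H11
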