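import Groth.Agent.H11.MLFP

set_option autoImplicit false
universe u

namespace Groth.Agent.H11

open TensorProduct

lemma cancelBaseChange_piRightHom_natural (R S : Type u) [CommRing R] [CommRing S] [Algebra R S]
    (M : Type u) [AddCommGroup M] [Module S M] [Module R M] [IsScalarTower R S M]
    (ι : Type u) (Q : ι → Type u) [∀ i, AddCommGroup (Q i)] [∀ i, Module R (Q i)]
    (x : M ⊗[S] (S ⊗[R] (∀ i, Q i))) (i : ι) :
    TensorProduct.AlgebraTensorModule.cancelBaseChange R S S M (Q i)
      (TensorProduct.piRightHom S S M (fun i => S ⊗[R] Q i)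
        ((TensorProduct.piRightHom R S S Q).lTensor M x) i) =
    TensorProduct.piRightHom R R M Q
      (TensorProduct.AlgebraTensorModule.cancelBaseChange R S S M (∀ i, Q i) x) i := by
  induction x using TensorProduct.induction_on with
  | zero => simp
  | tmul m t =>
    induction t using TensorProduct.induction_on with
    | zero => simp
    | tmul s q => simp [TensorProduct.piRightHom_tmul]
    | add a b ha hb =>
      simp only [TensorProduct.tmul_add, map_add, Pi.add_apply] at ha hb ⊢
      rw [ha, hb]
  | add a b ha hb => simp only [map_add, Pi.add_apply, ha, hb]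

/-- If `M ⊗[S] -` preserves injectivity of `S ⊗[R] ∏ Q → ∏ S ⊗[R] Q` and `M` is Mittag-Leffler over `S`,
then `M` is Mittag-Leffler over `R`. -/
lemma isMittagLeffler_restrictScalars_of (R S : Type u) [CommRing R] [CommRing S] [Algebra R S]
    (M : Type u) [AddCommGroup M] [Module S M] [Module R M] [IsScalarTower R S M]
    (hM : CAlg.IsMittagLeffler S M)
    (hinj : ∀ (ι : Type u) (Q : ι → Type u) [∀ i, AddCommGroup (Q i)] [∀ i, Module R (Q i)],
      Function.Injective ((TensorProduct.piRightHom R S S Q).lTensor M)) :
    CAlg.IsMittagLeffler R M := by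
  intro ι Q _ _
  rw [injective_iff_map_eq_zero]
  intro x hx
  obtain ⟨x', rfl⟩ := (TensorProduct.AlgebraTensorModule.cancelBaseChange R S S M (∀ i, Q i)).surjective x
  have h1 : (TensorProduct.piRightHom R S S Q).lTensor M x' = 0 := by
    apply hM ι (fun i => S ⊗[R] Q i)
    rw [map_zero]
    funext i
    apply (TensorProduct.AlgebraTensorModule.cancelBaseChange R S S M (Q i)).injective
    rw [cancelBaseChange_piRightHom_natural, hx]
    simp
  have h2 : x' = 0 := hinj ι Q (by rw [h1, map_zero])
  rw [h2, map_zero]

/-- Finite and finitely presented ring maps: Mittag-Leffler over `S` implies over `R`. -/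
lemma isMittagLeffler_restrictScalars_of_fp (R S : Type u) [CommRing R] [CommRing S]
    [Algebra R S] [Module.FinitePresentation R S]
    (M : Type u) [AddCommGroup M] [Module S M] [Module R M] [IsScalarTower R S M]
    (hM : CAlg.IsMittagLeffler S M) : CAlg.IsMittagLeffler R M := by
  apply isMittagLeffler_restrictScalars_of R S M hM
  intro ι Q _ _
  have hbij : Function.Bijective (TensorProduct.piRightHom R S S Q) :=
    piRightHom_bijective_of_finitePresentation R S ι Q
  let e : (S ⊗[R] (∀ i, Q i)) ≃ₗ[S] (∀ i, S ⊗[R] Q i) :=
    LinearEquiv.ofBijective (TensorProduct.piRightHom R S S Q) hbij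
  have : (TensorProduct.piRightHom R S S Q).lTensor M = (e.lTensor M).toLinearMap := rfl
  rw [this]
  exact (e.lTensor M).injective

end Groth.Agent.H11
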