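import Mathlib

/-!
# Linear algebra: a matrix with independent rows has a nonzero maximal minor
-/

set_option autoImplicit false

universe u

namespace Groth.Agent.H11.MinorLA

open Module

/-- If the rows of a `c × n` matrix over a field are linearly independent, some choice of `c`
columns gives a nonvanishing minor. -/
theorem exists_cols_det_ne_zero {K : Type u} [Field K] {c n : ℕ} (w : Fin c → Fin n → K)
    (hw : LinearIndependent K w) :
    ∃ cols : Fin c ↪ Fin n, Matrix.det (Matrix.of fun j k : Fin c => w j (cols k)) ≠ 0 := by
  classical
  let M : Matrix (Fin c) (Fin n) K := Matrix.of w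
  have hrank : M.rank = c := by
    have : LinearIndependent K M.row := hw
    rw [this.rank_matrix, Fintype.card_fin]
  obtain ⟨κ, a, ha, hsp, hli⟩ := exists_linearIndependent' K M.col
  haveI : Finite κ := Finite.of_injective a ha
  cases nonempty_fintype κ
  have hcard : Fintype.card κ = c := by
    rw [linearIndependent_iff_card_eq_finrank_span.mp hli, Set.finrank, hsp,
      ← Matrix.rank_eq_finrank_span_cols, hrank]
  let e : Fin c ≃ κ := (Fintype.equivFinOfCardEq hcard).symm
  refine ⟨⟨a ∘ e, ha.comp e.injective⟩, ?_⟩
  have hN : LinearIndependent K (Matrix.of fun j k : Fin c => w j (a (e k))).col := by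
    have : (Matrix.of fun j k : Fin c => w j (a (e k))).col = (M.col ∘ a) ∘ e := by
      funext k j
      rfl
    rw [this]
    exact hli.comp _ e.injective
  rw [Matrix.linearIndependent_cols_iff_isUnit, Matrix.isUnit_iff_isUnit_det] at hN
  exact hN.ne_zero

end Groth.Agent.H11.MinorLA
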