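import Mathlib
import Groth.Agent.H11.ConsTop2

set_option autoImplicit false
universe u

namespace Groth.Agent.H11

open Topology Set Set.Notation

/-- Generizations lift along a map which is open at a point, given spectral charts. -/
lemma exists_generization_lift {X Y : Type*} [TopologicalSpace X] [TopologicalSpace Y] (f : X → Y)
    (x : X) (W : Set X) (hW : IsOpen W) (hxW : x ∈ W) [CompactSpace W] [QuasiSober W]
    [PrespectralSpace W] [QuasiSeparatedSpace W]
    (V : Set Y) (hV : IsOpen V) [PrespectralSpace V] [T0Space V]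
    (g : W → V) (hg : Continuous g) (hgf : ∀ w, (g w : Y) = f w)
    (hspec : ∀ U : Set V, IsOpen U → IsCompact U → IsCompact (g ⁻¹' U))
    (hopen : ∀ U ∈ 𝓝 x, f '' U ∈ 𝓝 (f x)) (y' : Y) (hy' : y' ⤳ f x) :
    ∃ x' : X, x' ⤳ x ∧ f x' = y' := by
  have hfxV : f x ∈ V := by
    rw [← hgf ⟨x, hxW⟩]
    exact (g ⟨x, hxW⟩).2
  have hy'V : y' ∈ V := hy'.mem_open hV hfxV
  have hcont := ConsTop.continuous_cons_of g hg hspec
  have hC₀ : IsClosed ((WithTopology.toTopology (constructibleTopology V) ∘ g ∘ ConsTop.p W) ⁻¹'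
      {WithTopology.toTopology _ (⟨y', hy'V⟩ : V)}) := isClosed_singleton.preimage hcont
  have key := hC₀.isCompact.inter_iInter_nonempty
    (fun K : {K : Set W // IsOpen K ∧ IsCompact K ∧ (⟨x, hxW⟩ : W) ∈ K} =>
      (ConsTop.p W ⁻¹' (K : Set W)))
    (fun K => ConsTop.isClosed_of_isCompact_isOpen K.2.2.1 K.2.1) (by
      intro u
      have hN : IsOpen (⋂ K ∈ u, (K : Set W)) := isOpen_biInter_finset (fun K _ => K.2.1)
      have hxN : (⟨x, hxW⟩ : W) ∈ ⋂ K ∈ u, (K : Set W) := by
        simp only [mem_iInter]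
        exact fun K _ => K.2.2.2
      have hN' : Subtype.val '' (⋂ K ∈ u, (K : Set W)) ∈ 𝓝 x :=
        (hW.isOpenMap_subtype_val _ hN).mem_nhds ⟨_, hxN, rfl⟩
      have h1 := hopen _ hN'
      have h2 : f '' (Subtype.val '' (⋂ K ∈ u, (K : Set W))) ∈ 𝓝 y' := hy' h1
      obtain ⟨_, ⟨n, hn, rfl⟩, hfn⟩ := mem_of_mem_nhds h2
      refine ⟨WithTopology.toTopology _ n, ?_, ?_⟩
      · show WithTopology.toTopology (constructibleTopology V) (g n) = WithTopology.toTopology _ _
        congr 1
        exact Subtype.ext ((hgf n).trans hfn)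
      · simp only [mem_iInter] at hn ⊢
        exact fun K hK => hn K hK)
  obtain ⟨v, hv1, hv2⟩ := key
  refine ⟨(ConsTop.p W v : X), ?_, ?_⟩
  · have hsp : ConsTop.p W v ⤳ (⟨x, hxW⟩ : W) := by
      rw [specializes_iff_forall_open]
      intro s hs hxs
      obtain ⟨K, ⟨hKo, hKc⟩, hxK, hKs⟩ :=
        (PrespectralSpace.isTopologicalBasis (X := W)).mem_nhds_iff.mp (hs.mem_nhds hxs)
      apply hKs
      rw [mem_iInter] at hv2
      exact hv2 ⟨K, hKo, hKc, hxK⟩
    exact hsp.map continuous_subtype_val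
  · rw [← hgf]
    have : WithTopology.toTopology (constructibleTopology V) (g (ConsTop.p W v)) =
        WithTopology.toTopology _ (⟨y', hy'V⟩ : V) := hv1
    have h3 := WithTopology.toTopology_injective _ this
    rw [h3]

end Groth.Agent.H11
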