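import Mathlib

/-!
# The semisimple part lies in the Zariski closure of the conjugacy class
-/

open Matrix

namespace Groth.Agent.H11

variable {k : Type*} [Field k] {n : ℕ}

/-- If a polynomial in the matrix entries vanishes at `M0 + t • M1` for all `t ≠ 0`, then it
vanishes at `M0` (over an infinite field). -/
theorem eval_eq_zero_of_forall_ne_zero [Infinite k] (F : MvPolynomial (Fin n × Fin n) k)
    (M0 M1 : Matrix (Fin n) (Fin n) k)
    (h : ∀ t : k, t ≠ 0 → MvPolynomial.eval (fun p => (M0 + t • M1) p.1 p.2) F = 0) :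
    MvPolynomial.eval (fun p => M0 p.1 p.2) F = 0 := by
  obtain ⟨G, hG⟩ : ∃ G : Polynomial k, G = MvPolynomial.eval₂ Polynomial.C
      (fun p : Fin n × Fin n => Polynomial.C (M0 p.1 p.2) + Polynomial.C (M1 p.1 p.2) * Polynomial.X) F :=
    ⟨_, rfl⟩
  have key : ∀ t : k, G.eval t = MvPolynomial.eval (fun p => (M0 + t • M1) p.1 p.2) F := by
    intro t
    rw [hG, ← Polynomial.coe_evalRingHom, MvPolynomial.eval₂_comp_left]
    have h1 : (Polynomial.evalRingHom t).comp Polynomial.C = RingHom.id k := by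
      ext x
      simp
    rw [h1, MvPolynomial.eval₂_id]
    have hfun : (⇑(Polynomial.evalRingHom t) ∘ fun p : Fin n × Fin n =>
        Polynomial.C (M0 p.1 p.2) + Polynomial.C (M1 p.1 p.2) * Polynomial.X) =
        fun p => (M0 + t • M1) p.1 p.2 := by
      funext p
      simp only [Function.comp, Polynomial.coe_evalRingHom, Polynomial.eval_add, Polynomial.eval_C,
        Polynomial.eval_mul, Polynomial.eval_X, Matrix.add_apply, Matrix.smul_apply, smul_eq_mul]
      ring
    rw [hfun]
  have hzero : G = 0 := by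
    apply Polynomial.eq_zero_of_infinite_isRoot
    refine Set.Infinite.mono ?_ (Set.finite_singleton (0 : k)).infinite_compl
    intro t ht
    show G.eval t = 0
    rw [key]
    exact h t ht
  have := key 0
  rw [hzero, Polynomial.eval_zero] at this
  rw [this, zero_smul, add_zero]

/-- The splitting step: an idempotent `P` commuting with `S` with `P N = N` and
`N ^ (m+1) P = 0`. -/
theorem exists_idempotent_split (S N : Matrix (Fin n) (Fin n) k)
    (hS : Module.End.IsSemisimple (Matrix.toLin' S)) (hSN : Commute S N) (m : ℕ)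
    (hN : N ^ (m + 2) = 0) :
    ∃ P : Matrix (Fin n) (Fin n) k, P * P = P ∧ P * S = S * P ∧ P * N = N ∧
      N ^ (m + 1) * P = 0 := by
  obtain ⟨s, hs⟩ : ∃ s : Module.End k (Fin n → k), s = Matrix.toLin' S := ⟨_, rfl⟩
  obtain ⟨ν, hν⟩ : ∃ ν : Module.End k (Fin n → k), ν = Matrix.toLin' N := ⟨_, rfl⟩
  have hcomm : Commute s ν := by
    rw [hs, hν]
    show Matrix.toLin' S * Matrix.toLin' N = Matrix.toLin' N * Matrix.toLin' S
    rw [Module.End.mul_eq_comp, Module.End.mul_eq_comp, ← Matrix.toLin'_mul, ← Matrix.toLin'_mul,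
      hSN.eq]
  have hνpow : ν ^ (m + 2) = 0 := by
    rw [hν, ← Matrix.toLin'_pow, hN, map_zero]
  obtain ⟨K, hK⟩ : ∃ K : Submodule k (Fin n → k), K = LinearMap.ker (ν ^ (m + 1)) := ⟨_, rfl⟩
  have hKinv : K ∈ Module.End.invtSubmodule s := by
    rw [Module.End.mem_invtSubmodule_iff_forall_mem_of_mem]
    intro x hx
    rw [hK, LinearMap.mem_ker] at hx ⊢
    have := (hcomm.pow_right (m + 1)).eq
    have h2 : (ν ^ (m + 1)) (s x) = s ((ν ^ (m + 1)) x) := by
      rw [← Module.End.mul_apply, ← this, Module.End.mul_apply]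
    rw [h2, hx, map_zero]
  rw [← hs] at hS
  obtain ⟨Q, hQinv, hKQ⟩ := (Module.End.isSemisimple_iff.1 hS) K hKinv
  obtain ⟨π, hπ⟩ : ∃ π : Module.End k (Fin n → k), π = K.projection Q hKQ := ⟨_, rfl⟩
  have hπK : ∀ x, π x ∈ K := fun x => by rw [hπ]; exact Submodule.projection_apply_mem hKQ x
  have hπleft : ∀ x ∈ K, π x = x := fun x hx => by
    rw [hπ]; exact Submodule.projection_apply_of_mem_left hKQ hx
  have hπright : ∀ x ∈ Q, π x = 0 := fun x hx => by
    rw [hπ]; exact Submodule.projection_apply_of_mem_right hKQ hx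
  have hdecomp : ∀ x, ∃ a ∈ K, ∃ b ∈ Q, x = a + b := by
    intro x
    refine ⟨K.projection Q hKQ x, Submodule.projection_apply_mem hKQ x,
      Q.projection K hKQ.symm x, Submodule.projection_apply_mem hKQ.symm x, ?_⟩
    exact (Submodule.projection_add_projection_eq_self hKQ x).symm
  have hsK : ∀ x ∈ K, s x ∈ K :=
    (Module.End.mem_invtSubmodule_iff_forall_mem_of_mem s).1 hKinv
  have hsQ : ∀ x ∈ Q, s x ∈ Q :=
    (Module.End.mem_invtSubmodule_iff_forall_mem_of_mem s).1 hQinv
  have h_a : π * π = π := by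
    refine LinearMap.ext fun x => ?_
    rw [Module.End.mul_apply]
    exact hπleft _ (hπK x)
  have h_b : π * s = s * π := by
    refine LinearMap.ext fun x => ?_
    obtain ⟨a, ha, b, hb, rfl⟩ := hdecomp x
    rw [Module.End.mul_apply, Module.End.mul_apply, map_add, map_add, map_add, map_add,
      hπleft _ (hsK a ha), hπright _ (hsQ b hb), hπleft a ha, hπright b hb, map_zero]
  have hνK : ∀ x, ν x ∈ K := by
    intro x
    rw [hK, LinearMap.mem_ker, ← Module.End.mul_apply, ← pow_succ, hνpow]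
    rfl
  have h_c : π * ν = ν := by
    refine LinearMap.ext fun x => ?_
    rw [Module.End.mul_apply]
    exact hπleft _ (hνK x)
  have h_d : ν ^ (m + 1) * π = 0 := by
    refine LinearMap.ext fun x => ?_
    rw [Module.End.mul_apply]
    have := hπK x
    rw [hK, LinearMap.mem_ker] at this
    rw [this]
    rfl
  have hSm : S = LinearMap.toMatrix' s := by rw [hs, LinearMap.toMatrix'_toLin']
  have hNm : N = LinearMap.toMatrix' ν := by rw [hν, LinearMap.toMatrix'_toLin']
  refine ⟨LinearMap.toMatrix' π, ?_, ?_, ?_, ?_⟩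
  · rw [← LinearMap.toMatrix'_mul, h_a]
  · rw [hSm, ← LinearMap.toMatrix'_mul, ← LinearMap.toMatrix'_mul, h_b]
  · rw [hNm, ← LinearMap.toMatrix'_mul, h_c]
  · have hpow : N ^ (m + 1) = LinearMap.toMatrix' (ν ^ (m + 1)) := by
      rw [hν, ← Matrix.toLin'_pow, LinearMap.toMatrix'_toLin']
    rw [hpow, ← LinearMap.toMatrix'_mul, h_d, map_zero]

/-- The one-parameter family of conjugates degenerating `S + N` to `S + N P`. -/
theorem exists_conj_family (S N P : Matrix (Fin n) (Fin n) k) (hPP : P * P = P)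
    (hPS : P * S = S * P) (hPN : P * N = N) (C : Matrix (Fin n) (Fin n) k) (hC : IsUnit C.det)
    (t : k) (ht : t ≠ 0) :
    ∃ A : Matrix (Fin n) (Fin n) k, IsUnit A.det ∧
      A * (S + N) * A⁻¹ = C * (S + N * P) * C⁻¹ + t • (C * (N * (1 - P)) * C⁻¹) := by
  obtain ⟨Q, hQ⟩ : ∃ Q : Matrix (Fin n) (Fin n) k, Q = 1 - P := ⟨_, rfl⟩
  have hPQ : P * Q = 0 := by rw [hQ, mul_sub, mul_one, hPP, sub_self]
  have hQP : Q * P = 0 := by rw [hQ, sub_mul, one_mul, hPP, sub_self]
  have hQQ : Q * Q = Q := by rw [hQ, mul_sub, mul_one, sub_mul, one_mul, hPP, sub_self, sub_zero]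
  have hQN : Q * N = 0 := by rw [hQ, sub_mul, one_mul, hPN, sub_self]
  have hQS : Q * S = S * Q := by rw [hQ, sub_mul, mul_sub, one_mul, mul_one, hPS]
  have hPQ1 : P + Q = 1 := by rw [hQ]; abel
  obtain ⟨At, hAt⟩ : ∃ At : Matrix (Fin n) (Fin n) k, At = t • P + Q := ⟨_, rfl⟩
  obtain ⟨At', hAt'⟩ : ∃ At' : Matrix (Fin n) (Fin n) k, At' = t⁻¹ • P + Q := ⟨_, rfl⟩
  have h1 : At * At' = 1 := by
    rw [hAt, hAt', add_mul, mul_add, mul_add, smul_mul_assoc, mul_smul_comm, smul_mul_assoc,
      mul_smul_comm, hPP, hPQ, hQP, hQQ, smul_smul, mul_inv_cancel₀ ht, one_smul, smul_zero,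
      smul_zero, add_zero, zero_add, hPQ1]
  have hAtS : At * S = S * At := by
    rw [hAt, add_mul, mul_add, smul_mul_assoc, mul_smul_comm, hPS, hQS]
  have hAtN : At * N = t • N := by
    rw [hAt, add_mul, smul_mul_assoc, hPN, hQN, add_zero]
  have hNAt' : N * At' = t⁻¹ • (N * P) + N * Q := by
    rw [hAt', mul_add, mul_smul_comm]
  have hclaim : At * (S + N) * At' = S + N * P + t • (N * Q) := by
    rw [mul_add, hAtS, hAtN, add_mul, mul_assoc, h1, mul_one, smul_mul_assoc, hNAt', smul_add,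
      smul_smul, mul_inv_cancel₀ ht, one_smul, add_assoc]
  have hAtinv : At⁻¹ = At' := Matrix.inv_eq_right_inv h1
  have hAtdet : IsUnit At.det := Matrix.isUnit_det_of_right_inverse h1
  refine ⟨C * At, ?_, ?_⟩
  · rw [Matrix.det_mul]
    exact hC.mul hAtdet
  · rw [Matrix.mul_inv_rev, hAtinv]
    have : C * At * (S + N) * (At' * C⁻¹) = C * (At * (S + N) * At') * C⁻¹ := by
      simp only [mul_assoc]
    rw [this, hclaim, ← hQ, mul_add, add_mul, mul_smul_comm, smul_mul_assoc]

/-- Main induction: the semisimple part lies in the Zariski closure of the conjugacy class. -/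
theorem eval_semisimple_eq_zero [Infinite k] (F : MvPolynomial (Fin n × Fin n) k) :
    ∀ (m : ℕ) (S N : Matrix (Fin n) (Fin n) k), Module.End.IsSemisimple (Matrix.toLin' S) →
      Commute S N → N ^ (m + 1) = 0 →
      (∀ A : Matrix (Fin n) (Fin n) k, IsUnit A.det →
        MvPolynomial.eval (fun p => (A * (S + N) * A⁻¹) p.1 p.2) F = 0) →
      MvPolynomial.eval (fun p => S p.1 p.2) F = 0 := by
  intro m
  induction m with
  | zero =>
    intro S N _ _ hN hF
    rw [zero_add, pow_one] at hN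
    have := hF 1 (by simp)
    rw [hN, add_zero, one_mul, inv_one, mul_one] at this
    exact this
  | succ m ih =>
    intro S N hS hSN hN hF
    obtain ⟨P, hPP, hPS, hPN, hNP⟩ := exists_idempotent_split S N hS hSN m hN
    have hcomm : Commute S (N * P) := by
      show S * (N * P) = N * P * S
      rw [← mul_assoc, hSN.eq, mul_assoc, mul_assoc, hPS]
    have hpow : ∀ j : ℕ, (N * P) ^ (j + 1) = N ^ (j + 1) * P := by
      intro j
      induction j with
      | zero => simp
      | succ j ihj =>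
        rw [pow_succ, ihj, mul_assoc, ← mul_assoc P N P, hPN, ← mul_assoc, ← pow_succ]
    refine ih S (N * P) hS hcomm (by rw [hpow, hNP]) ?_
    intro C hC
    refine eval_eq_zero_of_forall_ne_zero F _ (C * (N * (1 - P)) * C⁻¹) ?_
    intro t ht
    obtain ⟨A, hA, hAeq⟩ := exists_conj_family S N P hPP hPS hPN C hC t ht
    rw [← hAeq]
    exact hF A hA

end Groth.Agent.H11
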