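import Mathlib
import Groth.Prelude.Def_Hens2
import Groth.Agent.H11.MVHensel
import Groth.Agent.H11.PairFP

/-!
# Contraction systems over henselian pairs and surjectivity
-/

set_option autoImplicit false
universe u
open MvPolynomial

namespace Groth.Agent.H11.MVH

variable {A : Type u} [CommRing A] {I : Ideal A}

theorem eval_mem_of_mem_map_C {σ : Type*} {p : MvPolynomial σ A}
    (hp : p ∈ Ideal.map (C : A →+* MvPolynomial σ A) I) (x : σ → A) : eval x p ∈ I := by
  have h1 : eval x p ∈ (Ideal.map (C : A →+* MvPolynomial σ A) I).map (eval x) :=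
    Ideal.mem_map_of_mem _ hp
  rw [Ideal.map_map] at h1
  have h2 : (eval x).comp (C : A →+* MvPolynomial σ A) = RingHom.id A := by
    ext a
    simp
  rw [h2, Ideal.map_id] at h1
  exact h1

theorem aeval_mem_of_mem_map_C {σ : Type*} {B : Type*} [CommRing B] [Algebra A B]
    {p : MvPolynomial σ A} (hp : p ∈ Ideal.map (C : A →+* MvPolynomial σ A) I) (x : σ → B) :
    aeval x p ∈ I.map (algebraMap A B) := by
  have h1 : (aeval x : MvPolynomial σ A →ₐ[A] B).toRingHom p ∈
      (Ideal.map (C : A →+* MvPolynomial σ A) I).map (aeval x : MvPolynomial σ A →ₐ[A] B).toRingHom :=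
    Ideal.mem_map_of_mem _ hp
  rw [Ideal.map_map] at h1
  have h2 : ((aeval x : MvPolynomial σ A →ₐ[A] B).toRingHom).comp
      (C : A →+* MvPolynomial σ A) = algebraMap A B := by
    ext a
    simp
  rw [h2] at h1
  exact h1

theorem pderiv_mem_map_C {σ : Type*} {p : MvPolynomial σ A}
    (hp : p ∈ Ideal.map (C : A →+* MvPolynomial σ A) I) (i : σ) :
    pderiv i p ∈ Ideal.map (C : A →+* MvPolynomial σ A) I := by
  rw [MvPolynomial.mem_map_C_iff] at hp ⊢
  intro m
  classical
  rw [coeff_pderiv]
  exact I.mul_mem_right _ (hp _)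

/-- Contraction systems have solutions in a henselian pair. -/
theorem exists_fixed (hA : HenselianRing A I) {n : ℕ} (P : Fin n → MvPolynomial (Fin n) A)
    (hP : ∀ i, P i ∈ Ideal.map (C : A →+* MvPolynomial (Fin n) A) I) :
    ∃ b : Fin n → A, (∀ i, b i ∈ I) ∧ ∀ i, eval b (P i) = b i := by
  classical
  obtain ⟨b, hb1, hb2⟩ := exists_root hA (fun i => X i - P i) 0 (fun i => by
    rw [map_sub]
    refine I.sub_mem ?_ (eval_mem_of_mem_map_C (hP i) 0)
    simp) (by
    have h1 : Ideal.Quotient.mk I (eval 0 (jac fun i => X i - P i)) =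
        (((Ideal.Quotient.mk I).comp (eval (0 : Fin n → A))).mapMatrix
          (Matrix.of fun i j => pderiv i (X j - P j))).det := by
      rw [← RingHom.map_det]
      rfl
    have h2 : ((Ideal.Quotient.mk I).comp (eval (0 : Fin n → A))).mapMatrix
        (Matrix.of fun i j => pderiv i (X j - P j)) = 1 := by
      refine Matrix.ext fun i j => ?_
      show Ideal.Quotient.mk I (eval 0 (pderiv i (X j - P j))) = (1 : Matrix _ _ _) i j
      rw [map_sub, map_sub, map_sub, pderiv_X,
        Ideal.Quotient.eq_zero_iff_mem.2 (eval_mem_of_mem_map_C (pderiv_mem_map_C (hP j) i) 0),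
        sub_zero, Matrix.one_apply]
      by_cases hij : i = j
      · subst hij
        simp
      · have : j ≠ i := fun h => hij h.symm
        simp [hij, this]
    rw [h1, h2, Matrix.det_one]
    exact isUnit_one)
  refine ⟨b, fun i => by simpa using hb2 i, fun i => ?_⟩
  have := hb1 i
  rw [map_sub, eval_X, sub_eq_zero] at this
  exact this.symm

/-- Differences of values of a polynomial lie in the ideal generated by the differences of the
arguments. -/
theorem aeval_sub_aeval_mem {σ : Type*} {B : Type*} [CommRing B] [Algebra A B]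
    (z w : σ → B) (q : MvPolynomial σ A) :
    aeval z q - aeval w q ∈ Ideal.span (Set.range fun i => z i - w i) := by
  set 𝔡 : Ideal B := Ideal.span (Set.range fun i => z i - w i) with h𝔡
  have h1 : (Ideal.Quotient.mkₐ A 𝔡).comp (aeval z) = (Ideal.Quotient.mkₐ A 𝔡).comp (aeval w) := by
    apply MvPolynomial.algHom_ext
    intro i
    simp only [AlgHom.comp_apply, aeval_X, Ideal.Quotient.mkₐ_eq_mk]
    rw [Ideal.Quotient.eq]
    exact Ideal.subset_span ⟨i, rfl⟩
  have h2 := DFunLike.congr_fun h1 q
  simp only [AlgHom.comp_apply, Ideal.Quotient.mkₐ_eq_mk] at h2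
  exact Ideal.Quotient.eq.1 h2

/-- Contraction systems have at most one solution when `IB` lies in the Jacobson radical. -/
theorem fixed_unique {B : Type u} [CommRing B] [Algebra A B]
    (hjac : I.map (algebraMap A B) ≤ Ideal.jacobson ⊥) {n : ℕ}
    (P : Fin n → MvPolynomial (Fin n) A)
    (hP : ∀ i, P i ∈ Ideal.map (C : A →+* MvPolynomial (Fin n) A) I) (z w : Fin n → B)
    (hz : ∀ i, aeval z (P i) = z i) (hw : ∀ i, aeval w (P i) = w i) : z = w := by
  set K : Ideal B := I.map (algebraMap A B) with hK
  set 𝔡 : Ideal B := Ideal.span (Set.range fun i => z i - w i) with h𝔡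
  have key : ∀ p ∈ Ideal.map (C : A →+* MvPolynomial (Fin n) A) I,
      aeval z p - aeval w p ∈ K * 𝔡 := by
    intro p hp
    rw [Ideal.map, ] at hp
    refine Submodule.span_induction (p := fun p _ => aeval z p - aeval w p ∈ K * 𝔡)
      ?_ ?_ ?_ ?_ hp
    · rintro _ ⟨c, _, rfl⟩
      simp
    · simp
    · intro x y _ _ hx hy
      have : aeval z (x + y) - aeval w (x + y) =
          (aeval z x - aeval w x) + (aeval z y - aeval w y) := by
        rw [map_add, map_add]
        ring
      rw [this]
      exact Ideal.add_mem _ hx hy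
    · intro q x hx hqx
      have hx' : x ∈ Ideal.map (C : A →+* MvPolynomial (Fin n) A) I := hx
      have : aeval z (q • x) - aeval w (q • x) =
          aeval z q * (aeval z x - aeval w x) + aeval w x * (aeval z q - aeval w q) := by
        rw [smul_eq_mul, map_mul, map_mul]
        ring
      rw [this]
      refine Ideal.add_mem _ (Ideal.mul_mem_left _ _ hqx) ?_
      exact Ideal.mul_mem_mul (aeval_mem_of_mem_map_C hx' w) (aeval_sub_aeval_mem z w q)
  have hle : 𝔡 ≤ K • 𝔡 := by
    rw [h𝔡, Ideal.span_le]
    rintro _ ⟨i, rfl⟩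
    show z i - w i ∈ K • 𝔡
    rw [← hz i, ← hw i, smul_eq_mul]
    exact key _ (hP i)
  have hfg : (𝔡 : Submodule B B).FG := by
    rw [h𝔡]
    exact Submodule.fg_span (Set.finite_range _)
  have h0 : 𝔡 = ⊥ := Submodule.eq_bot_of_le_smul_of_le_jacobson_bot K 𝔡 hfg hle hjac
  funext i
  have : z i - w i ∈ 𝔡 := Ideal.subset_span ⟨i, rfl⟩
  rw [h0, Ideal.mem_bot, sub_eq_zero] at this
  exact this

/-- If `(A, I)` is henselian, `R'` is a finite type `A`-algebra with `A/I → R'/IR'` surjective,
and `IB` lies in the Jacobson radical of `B`, then any `A`-algebra map `R' → B` has image in the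
image of `A`. -/
theorem mem_range_of_surjective_mod (hA : HenselianRing A I) {R' : Type u} [CommRing R']
    [Algebra A R'] [Algebra.FiniteType A R']
    (hsurj : ∀ r : R', ∃ a : A, r - algebraMap A R' a ∈ I.map (algebraMap A R'))
    {B : Type u} [CommRing B] [Algebra A B]
    (hjac : I.map (algebraMap A B) ≤ Ideal.jacobson ⊥) (σ : R' →ₐ[A] B) (r : R') :
    σ r ∈ Set.range (algebraMap A B) := by
  obtain ⟨n, π, hπ⟩ := Algebra.FiniteType.iff_quotient_mvPolynomial''.1
    (inferInstance : Algebra.FiniteType A R')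
  choose a ha using fun i => hsurj (π (X i))
  set y : Fin n → R' := fun i => π (X i) - algebraMap A R' (a i) with hy
  set π' : MvPolynomial (Fin n) A →ₐ[A] R' := aeval y with hπ'
  have hcomp : π = π'.comp (aeval fun i => X i + C (a i)) := by
    apply MvPolynomial.algHom_ext
    intro i
    simp [hπ', hy]
  have hπ's : Function.Surjective π' := by
    intro r
    obtain ⟨p, rfl⟩ := hπ r
    exact ⟨aeval (fun i => X i + C (a i)) p, by rw [hcomp]; rfl⟩
  have hmap : (Ideal.map (C : A →+* MvPolynomial (Fin n) A) I).map π'.toRingHom =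
      I.map (algebraMap A R') := by
    rw [Ideal.map_map]
    congr 1
    ext a
    simp
  have hex : ∀ i, ∃ P ∈ Ideal.map (C : A →+* MvPolynomial (Fin n) A) I, π'.toRingHom P = y i := by
    intro i
    have h1 : y i ∈ I.map (algebraMap A R') := ha i
    rw [← hmap] at h1
    exact (Ideal.mem_map_iff_of_surjective _ hπ's).1 h1
  choose P hP hPy using hex
  obtain ⟨b, hbI, hb⟩ := exists_fixed hA P hP
  have hz : ∀ i, aeval (fun j => σ (y j)) (P i) = σ (y i) := by
    intro i
    rw [← hPy i]
    show _ = σ (aeval y (P i))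
    rw [← MvPolynomial.comp_aeval_apply]
  have hw : ∀ i, aeval (fun j => algebraMap A B (b j)) (P i) = algebraMap A B (b i) := by
    intro i
    rw [← hb i]
    have : (aeval fun j => algebraMap A B (b j) : MvPolynomial (Fin n) A →ₐ[A] B) =
        (Algebra.ofId A B).comp (aeval b) := by
      apply MvPolynomial.algHom_ext
      intro j
      simp [Algebra.ofId_apply]
    rw [this]
    simp [Algebra.ofId_apply, aeval_eq_eval]
  have hzw := fixed_unique hjac P hP _ _ hz hw
  have hfin : σ.comp π = (Algebra.ofId A B).comp (aeval fun i => b i + a i) := by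
    apply MvPolynomial.algHom_ext
    intro i
    have h1 : σ (y i) = algebraMap A B (b i) := congrFun hzw i
    have h2 : π (X i) = y i + algebraMap A R' (a i) := by rw [hy]; ring
    simp only [AlgHom.comp_apply, aeval_X, Algebra.ofId_apply, h2, map_add, h1, AlgHom.commutes]
  obtain ⟨p, rfl⟩ := hπ r
  exact ⟨aeval (fun i => b i + a i) p, (DFunLike.congr_fun hfin p).symm⟩

end Groth.Agent.H11.MVH
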