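import Mathlib
import Groth.Agent.H11.RelFrobMain

/-!
Base change of an étale algebra to the perfect closure is the perfect closure.
-/

namespace Groth.Agent.H11.PerfEtale

open TensorProduct

universe u

section IncludeLeft

variable {R S T : Type u} [CommRing R] [CommRing S] [CommRing T] [Algebra R S] [Algebra R T]

theorem bijective_includeLeft (h : Function.Bijective (algebraMap R S)) :
    Function.Bijective (fun t : T => t ⊗ₜ[R] (1 : S)) := by
  let e : T ⊗[R] S ≃ₐ[R] T :=
    (Algebra.TensorProduct.congr (AlgEquiv.refl : T ≃ₐ[R] T)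
      (AlgEquiv.ofBijective (Algebra.ofId R S) h)).symm.trans (Algebra.TensorProduct.rid R R T)
  have he : ∀ t : T, e (t ⊗ₜ 1) = t := by
    intro t
    have : (Algebra.TensorProduct.congr (AlgEquiv.refl : T ≃ₐ[R] T)
        (AlgEquiv.ofBijective (Algebra.ofId R S) h)).symm (t ⊗ₜ 1) = t ⊗ₜ 1 := by
      rw [AlgEquiv.symm_apply_eq]
      simp
    change Algebra.TensorProduct.rid R R T ((Algebra.TensorProduct.congr AlgEquiv.refl
      (AlgEquiv.ofBijective (Algebra.ofId R S) h)).symm (t ⊗ₜ 1)) = t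
    rw [this]
    simp
  have : (fun t : T => t ⊗ₜ[R] (1 : S)) = e.symm := by
    funext t
    rw [AlgEquiv.eq_symm_apply, he]
  rw [this]
  exact e.symm.bijective

end IncludeLeft

theorem main (p : ℕ) [Fact p.Prime]
    (A B A' B' : Type u) [CommRing A] [CommRing B] [CommRing A'] [CommRing B']
    [CharP A p] [CharP B p] [CharP A' p] [CharP B' p] [PerfectRing A' p] [PerfectRing B' p]
    [Algebra A B] [Algebra.Etale A B] [Algebra A A'] [Algebra B B'] [Algebra A B']
    [IsScalarTower A B B']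
    [IsPerfectClosure (algebraMap A A') p] [IsPerfectClosure (algebraMap B B') p]
    (φ' : A' →ₐ[A] B') :
    Function.Bijective (Algebra.TensorProduct.lift φ' (IsScalarTower.toAlgHom A B B')
      (fun a b => Commute.all (φ' a) (IsScalarTower.toAlgHom A B B' b))) := by
  have hp : p.Prime := Fact.out
  obtain ⟨Φ, hΦ⟩ : ∃ Φ : A' ⊗[A] B →ₐ[A] B', Φ = Algebra.TensorProduct.lift φ'
      (IsScalarTower.toAlgHom A B B')
      (fun a b => Commute.all (φ' a) (IsScalarTower.toAlgHom A B B' b)) := ⟨_, rfl⟩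
  rw [← hΦ]
  haveI : Nontrivial B' := CharP.nontrivial_of_char_ne_one (R := B') (v := p) hp.ne_one
  haveI : Nontrivial (A' ⊗[A] B) := Φ.toRingHom.domain_nontrivial
  haveI : CharP (A' ⊗[A] B) p := by
    have hpC : (p : A' ⊗[A] B) = 0 := by
      have := congrArg (algebraMap A' (A' ⊗[A] B)) (CharP.cast_eq_zero A' p)
      rwa [map_natCast, map_zero] at this
    exact ringChar.of_eq (CharP.ringChar_of_prime_eq_zero hp hpC)
  have hrel := Groth.Agent.H11.RelFrobMain.bijective_relFrob p A' (A' ⊗[A] B)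
  have hW := bijective_includeLeft (R := A') (S := FrobAlg.Twist p A') (T := A' ⊗[A] B) (by
    change Function.Bijective
      ((FrobAlg.toTwist p A' : A' →+* FrobAlg.Twist p A').comp (frobenius A' p))
    exact (FrobAlg.toTwist p A').bijective.comp (_root_.bijective_frobenius A' p))
  have hfrob : Function.Bijective (frobenius (A' ⊗[A] B) p) := by
    have : (frobenius (A' ⊗[A] B) p : A' ⊗[A] B → A' ⊗[A] B) =
        (FrobAlg.relFrob p A' (A' ⊗[A] B)) ∘
          (fun t => t ⊗ₜ[A'] (1 : FrobAlg.Twist p A')) := by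
      funext t
      rw [Function.comp_apply, Groth.Agent.H11.RelFrobMain.relFrob_tmul, map_one, map_one,
        mul_one, frobenius_def]
    rw [this]
    exact hrel.comp hW
  have hrad : ∀ t : A' ⊗[A] B, ∃ (n : ℕ) (b : B), t ^ p ^ n = (1 : A') ⊗ₜ[A] b := by
    intro t
    induction t using TensorProduct.induction_on with
    | zero => exact ⟨0, 0, by simp⟩
    | tmul a' b =>
      obtain ⟨n, a, ha⟩ := IsPRadical.pow_mem (algebraMap A A') p a'
      refine ⟨n, a • b ^ p ^ n, ?_⟩
      rw [Algebra.TensorProduct.tmul_pow, ← ha, Algebra.algebraMap_eq_smul_one, smul_tmul]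
    | add x y hx hy =>
      obtain ⟨n, b1, h1⟩ := hx
      obtain ⟨m, b2, h2⟩ := hy
      refine ⟨n + m, b1 ^ p ^ m + b2 ^ p ^ n, ?_⟩
      have e1 : x ^ p ^ (n + m) = (x ^ p ^ n) ^ p ^ m := by rw [← pow_mul, ← pow_add]
      have e2 : y ^ p ^ (n + m) = (y ^ p ^ m) ^ p ^ n := by rw [← pow_mul, ← pow_add, add_comm]
      rw [add_pow_char_pow, e1, e2, h1, h2, Algebra.TensorProduct.tmul_pow,
        Algebra.TensorProduct.tmul_pow, one_pow, one_pow, tmul_add]
  have hiter : ∀ n, Function.Bijective (fun t : A' ⊗[A] B => t ^ p ^ n) := by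
    intro n
    have : (fun t : A' ⊗[A] B => t ^ p ^ n) = (frobenius (A' ⊗[A] B) p)^[n] := by
      funext t
      rw [iterate_frobenius]
    rw [this]
    exact hfrob.iterate n
  have hiterB : ∀ n, Function.Injective (fun t : B' => t ^ p ^ n) := by
    intro n
    have : (fun t : B' => t ^ p ^ n) = (frobenius B' p)^[n] := by
      funext t
      rw [iterate_frobenius]
    rw [this]
    exact (_root_.bijective_frobenius B' p).1.iterate n
  have hΦ1 : ∀ b : B, Φ (1 ⊗ₜ b) = algebraMap B B' b := by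
    intro b
    rw [hΦ]
    simp
  have hpn : ∀ n, p ^ n ≠ 0 := fun n => pow_ne_zero n hp.ne_zero
  constructor
  · rw [injective_iff_map_eq_zero]
    intro t ht
    obtain ⟨n, b, hb⟩ := hrad t
    have h1 : algebraMap B B' b = 0 := by
      rw [← hΦ1, ← hb, map_pow, ht, zero_pow (hpn n)]
    have h2 : b ∈ pNilradical B p := IsPRadical.ker_le (algebraMap B B') p h1
    obtain ⟨m, hm⟩ := mem_pNilradical.1 h2
    apply (hiter (n + m)).1
    simp only
    rw [zero_pow (hpn _), pow_add, pow_mul, hb, Algebra.TensorProduct.tmul_pow, one_pow, hm,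
      tmul_zero]
  · intro b'
    obtain ⟨n, b, hb⟩ := IsPRadical.pow_mem (algebraMap B B') p b'
    obtain ⟨t, ht⟩ := (hiter n).2 (1 ⊗ₜ b)
    refine ⟨t, hiterB n ?_⟩
    simp only at ht ⊢
    rw [← map_pow, ht, hΦ1, hb]

end Groth.Agent.H11.PerfEtale
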