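import Mathlib
import Groth.Prelude.Def_ProCons
import Groth.Agent.H11.ProCons

set_option autoImplicit false
universe u

namespace Groth.Agent.H11

open Topology Set Set.Notation

section

variable {V : Type*} [TopologicalSpace V]

/-- A constructible set (resp. its complement) contains a neighbourhood of each of its points `v`
relative to the closure of `v`. -/
lemma exists_open_inter_closure_subset {C : Set V} (hC : IsConstructible C) (v : V) :
    (v ∈ C → ∃ O, IsOpen O ∧ v ∈ O ∧ O ∩ closure {v} ⊆ C) ∧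
      (v ∉ C → ∃ O, IsOpen O ∧ v ∈ O ∧ O ∩ closure {v} ⊆ Cᶜ) := by
  induction hC using IsConstructible.empty_union_induction with
  | open_retrocompact U hUopen hUcomp =>
    refine ⟨fun hv => ⟨U, hUopen, hv, inter_subset_left⟩, fun hv => ⟨univ, isOpen_univ, mem_univ _, ?_⟩⟩
    rw [univ_inter]
    exact closure_minimal (singleton_subset_iff.mpr hv) hUopen.isClosed_compl
  | union s hs t ht hs' ht' =>
    constructor
    · rintro (hv | hv)
      · obtain ⟨O, hO, hvO, hOs⟩ := hs'.1 hv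
        exact ⟨O, hO, hvO, hOs.trans subset_union_left⟩
      · obtain ⟨O, hO, hvO, hOs⟩ := ht'.1 hv
        exact ⟨O, hO, hvO, hOs.trans subset_union_right⟩
    · intro hv
      rw [mem_union, not_or] at hv
      obtain ⟨O₁, hO₁, hvO₁, hOs₁⟩ := hs'.2 hv.1
      obtain ⟨O₂, hO₂, hvO₂, hOs₂⟩ := ht'.2 hv.2
      refine ⟨O₁ ∩ O₂, hO₁.inter hO₂, ⟨hvO₁, hvO₂⟩, ?_⟩
      rw [compl_union]
      rintro y ⟨⟨hy1, hy2⟩, hy3⟩
      exact ⟨hOs₁ ⟨hy1, hy3⟩, hOs₂ ⟨hy2, hy3⟩⟩
  | compl s hs hs' =>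
    refine ⟨fun hv => hs'.2 hv, fun hv => ?_⟩
    rw [compl_compl]
    exact hs'.1 (not_not.mp hv)

variable {X : Type*} [TopologicalSpace X]

/-- An ind-constructible set contains, for each of its points `x`, a neighbourhood of `x` relative
to the closure of `x`. -/
theorem mem_nhds_closure_of_isIndConstructible (hX : LocSpectral X) {E : Set X}
    (hE : ProCons.IsIndConstructible E) (x : X) (hx : x ∈ E) :
    (Subtype.val ⁻¹' E : Set ↥(closure ({x} : Set X))) ∈
      nhds (⟨x, subset_closure rfl⟩ : ↥(closure ({x} : Set X))) := by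
  obtain ⟨W, hW, hxW, -, h1, h2, h3, h4⟩ := hX x univ Filter.univ_mem
  have hO := isOpen_cons_of_isIndConstructible hE W hW
  obtain ⟨C, hC, hxC, hCE⟩ := exists_isConstructible_of_isOpen_cons hO (⟨x, hxW⟩ : W) hx
  obtain ⟨O, hOo, hxO, hOC⟩ := (exists_open_inter_closure_subset hC (⟨x, hxW⟩ : W)).1 hxC
  rw [mem_nhds_subtype]
  refine ⟨Subtype.val '' O, (hW.isOpenMap_subtype_val O hOo).mem_nhds ⟨_, hxO, rfl⟩, ?_⟩
  rintro ⟨y, hy⟩ ⟨o, hoO, hoy⟩
  have hoy' : (o : X) = y := hoy
  show y ∈ E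
  rw [← hoy']
  apply hCE
  apply hOC
  refine ⟨hoO, ?_⟩
  rw [← specializes_iff_mem_closure, ← IsInducing.subtypeVal.specializes_iff]
  rw [specializes_iff_mem_closure, hoy']
  exact hy

/-- Converse, for spaces which are locally Noetherian. -/
theorem isIndConstructible_of_mem_nhds_closure
    (hX : ∀ x : X, ∃ W : Set X, IsOpen W ∧ x ∈ W ∧ TopologicalSpace.NoetherianSpace W) {E : Set X}
    (h : ∀ x ∈ E, (Subtype.val ⁻¹' E : Set ↥(closure ({x} : Set X))) ∈
      nhds (⟨x, subset_closure rfl⟩ : ↥(closure ({x} : Set X)))) :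
    ProCons.IsIndConstructible E := by
  intro x₀
  obtain ⟨W, hW, hxW, hN⟩ := hX x₀
  have hretro : ∀ s : Set W, IsRetrocompact s := fun s U _ _ => TopologicalSpace.NoetherianSpace.isCompact _
  have hopen : ∀ s : Set W, IsOpen s → IsConstructible s :=
    fun s hs => (hretro s).isConstructible hs
  refine ⟨W, hW, hxW, {T : Set W | IsLocallyConstructible T ∧ T ⊆ W ↓∩ E}, fun T hT => hT.1, ?_⟩
  apply subset_antisymm
  · intro w hw
    have hwE : (w : X) ∈ E := hw
    obtain ⟨u, hu, hsub⟩ := mem_nhds_subtype _ _ _ |>.mp (h w hwE)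
    obtain ⟨O, hOu, hOo, hwO⟩ := mem_nhds_iff.mp hu
    refine ⟨W ↓∩ (O ∩ closure {(w : X)}), ⟨?_, ?_⟩, ⟨hwO, subset_closure rfl⟩⟩
    · apply IsConstructible.isLocallyConstructible
      rw [preimage_inter]
      refine (hopen _ (hOo.preimage continuous_subtype_val)).inter ?_
      have hcl : IsClosed (W ↓∩ closure {(w : X)}) := isClosed_closure.preimage continuous_subtype_val
      exact (hopen _ hcl.isOpen_compl).of_compl
    · rintro t ⟨htO, htc⟩
      exact hsub (show (⟨(t : X), htc⟩ : ↥(closure ({(w : X)} : Set X))) ∈ Subtype.val ⁻¹' u from hOu htO)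
  · exact sUnion_subset fun T hT => hT.2

end

section Scheme

open AlgebraicGeometry

theorem exists_noetherian_open (X : Scheme.{u}) [IsLocallyNoetherian X] (x : X) :
    ∃ W : Set X, IsOpen W ∧ x ∈ W ∧ TopologicalSpace.NoetherianSpace W := by
  obtain ⟨W, hW, hxW, -⟩ := (TopologicalSpace.Opens.isBasis_iff_nbhd.mp X.isBasis_affineOpens)
    (show x ∈ (⊤ : X.Opens) from trivial)
  have hWaff : IsAffineOpen W := hW
  have : IsNoetherianRing Γ(X, W) := IsLocallyNoetherian.component_noetherian ⟨W, hWaff⟩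
  exact ⟨W, W.isOpen, hxW, noetherianSpace_of_isAffineOpen W hWaff⟩

end Scheme

end Groth.Agent.H11
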