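import Mathlib

/-!
# Finiteness of the integral closure in `K(a^{1/p})` when a derivation does not kill `a`
-/

universe u

namespace Groth.Agent.H11.PthRootFinite

open Polynomial

variable {R K L : Type u} [CommRing R] [IsDomain R] [IsIntegrallyClosed R] [Field K] [Algebra R K]
  [IsFractionRing R K] (p : ℕ) [Fact p.Prime] [CharP K p] (D : Derivation ℤ K K)
  [Field L] [Algebra K L] [Algebra R L] [IsScalarTower R K L]

omit [IsDomain R] [IsIntegrallyClosed R] [IsFractionRing R K] [Algebra R K] [Algebra R L]
  [IsScalarTower R K L] [CommRing R] in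
lemma aeval_pow_p (x : L) (a : K) (hx : x ^ p = algebraMap K L a) (P : K[X]) :
    (aeval x P) ^ p = algebraMap K L (eval a (P.map (frobenius K p))) := by
  rw [← map_pow, ← Polynomial.map_frobenius_expand p P, Polynomial.map_expand,
    Polynomial.expand_aeval, hx, Polynomial.aeval_algebraMap_apply, Polynomial.coe_aeval_eq_eval]

omit [IsDomain R] [IsIntegrallyClosed R] [IsFractionRing R K] [Algebra R K] [CommRing R] in
lemma D_eval_frob (a : K) (P : K[X]) :
    D (eval a (P.map (frobenius K p))) =
      eval a ((derivative P).map (frobenius K p)) * D a := by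
  induction P using Polynomial.induction_on' with
  | add P Q hP hQ =>
    rw [Polynomial.map_add, eval_add, map_add, hP, hQ, derivative_add, Polynomial.map_add,
      eval_add, add_mul]
  | monomial n c =>
    rw [Polynomial.map_monomial, eval_monomial, derivative_monomial, Polynomial.map_monomial,
      eval_monomial, Derivation.leibniz, Derivation.leibniz_pow, frobenius_def, frobenius_def,
      Derivation.leibniz_pow]
    have hp0 : (p : K) = 0 := CharP.cast_eq_zero K p
    have hn : ((n : K)) ^ p = n := by
      have := map_natCast (frobenius K p) n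
      rwa [frobenius_def] at this
    simp only [nsmul_eq_mul, smul_eq_mul, hp0, zero_mul, mul_zero, add_zero, mul_pow, hn]
    ring

variable {p}

lemma isIntegral_deriv (x : L) (a₀ d₀ : R) (hx : x ^ p = algebraMap R L a₀)
    (hδ : D (algebraMap R K a₀) = algebraMap R K d₀)
    (hD : ∀ r : R, ∃ s : R, D (algebraMap R K r) = algebraMap R K s)
    (P : K[X]) (hP : IsIntegral R (aeval x P)) :
    IsIntegral R (aeval x (C (algebraMap R K d₀) * derivative P)) := by
  have hx' : x ^ p = algebraMap K L (algebraMap R K a₀) := by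
    rw [hx, IsScalarTower.algebraMap_apply R K L]
  set N := eval (algebraMap R K a₀) (P.map (frobenius K p)) with hN
  have h1 : IsIntegral R (algebraMap K L N) := by
    rw [← aeval_pow_p p x _ hx' P]
    exact hP.pow p
  have h2 : IsIntegral R N := (isIntegral_algebraMap_iff (algebraMap K L).injective).mp h1
  obtain ⟨r, hr⟩ := IsIntegrallyClosed.isIntegral_iff.mp h2
  obtain ⟨s, hs⟩ := hD r
  rw [hr, hN, D_eval_frob, hδ] at hs
  have hp : 0 < p := (Fact.out : p.Prime).pos
  apply IsIntegral.of_pow hp
  have h3 : (aeval x (C (algebraMap R K d₀) * derivative P)) ^ p =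
      algebraMap R L (d₀ ^ (p - 1) * s) := by
    rw [map_mul, mul_pow, aeval_pow_p p x _ hx' (derivative P), aeval_C, ← map_pow, ← map_mul,
      IsScalarTower.algebraMap_apply R K L]
    congr 1
    have : algebraMap R K d₀ ^ p = algebraMap R K d₀ ^ (p - 1) * algebraMap R K d₀ := by
      rw [← pow_succ, Nat.sub_add_cancel hp]
    rw [this, map_mul, ← hs, map_pow]
    ring
  rw [h3]
  exact isIntegral_algebraMap

theorem coeff_mem (x : L) (a₀ d₀ : R) (hx : x ^ p = algebraMap R L a₀)
    (hδ : D (algebraMap R K a₀) = algebraMap R K d₀)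
    (hD : ∀ r : R, ∃ s : R, D (algebraMap R K r) = algebraMap R K s)
    (m : ℕ) (hm : m < p) (P : K[X]) (hdeg : P.natDegree ≤ m) (hP : IsIntegral R (aeval x P))
    (i : ℕ) : ∃ r : R, algebraMap R K r = (algebraMap R K d₀) ^ m * P.coeff i := by
  induction m generalizing P i with
  | zero =>
    have hPC : P = C (P.coeff 0) := Polynomial.eq_C_of_natDegree_le_zero hdeg
    rw [hPC, aeval_C] at hP
    have h2 : IsIntegral R (P.coeff 0) :=
      (isIntegral_algebraMap_iff (algebraMap K L).injective).mp hP
    obtain ⟨r, hr⟩ := IsIntegrallyClosed.isIntegral_iff.mp h2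
    rcases i with _ | i
    · exact ⟨r, by rw [hr, pow_zero, one_mul]⟩
    · refine ⟨0, ?_⟩
      rw [hPC, coeff_C_succ, mul_zero, map_zero]
  | succ m ih =>
    have hxint : IsIntegral R x := by
      apply IsIntegral.of_pow (Fact.out : p.Prime).pos
      rw [hx]; exact isIntegral_algebraMap
    set δ := algebraMap R K d₀ with hδdef
    have hQ := isIntegral_deriv D x a₀ d₀ hx hδ hD P hP
    have hQdeg : (C δ * derivative P).natDegree ≤ m := by
      refine (natDegree_C_mul_le _ _).trans ?_
      refine (natDegree_derivative_le P).trans ?_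
      omega
    have h1 : ∀ j, ∃ r : R, algebraMap R K r = δ ^ (m + 1) * P.coeff (j + 1) := by
      intro j
      by_cases hj : m + 1 < j + 1
      · refine ⟨0, ?_⟩
        rw [coeff_eq_zero_of_natDegree_lt (lt_of_le_of_lt hdeg hj), mul_zero, map_zero]
      · obtain ⟨r, hr⟩ := ih (by omega) _ hQdeg hQ j
        rw [coeff_C_mul, coeff_derivative] at hr
        have hcop : Nat.Coprime (j + 1) p := by
          rw [Nat.coprime_comm, (Fact.out : p.Prime).coprime_iff_not_dvd]
          intro hdvd
          have := Nat.le_of_dvd (by omega) hdvd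
          omega
        obtain ⟨u, -, hu⟩ := Nat.exists_mul_mod_eq_one_of_coprime hcop (Fact.out : p.Prime).one_lt
        have hu' : ((j + 1 : ℕ) : K) * (u : K) = 1 := by
          rw [← Nat.cast_mul, CharP.natCast_eq_natCast_mod K p, hu, Nat.cast_one]
        refine ⟨u * r, ?_⟩
        rw [map_mul, map_natCast, hr]
        have : ((j : K) + 1) = ((j + 1 : ℕ) : K) := by push_cast; ring
        rw [this]
        calc (u : K) * (δ ^ m * (δ * (P.coeff (j + 1) * ((j + 1 : ℕ) : K))))
            = δ ^ (m + 1) * P.coeff (j + 1) * (((j + 1 : ℕ) : K) * (u : K)) := by ring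
          _ = δ ^ (m + 1) * P.coeff (j + 1) := by rw [hu', mul_one]
    rcases i with _ | i
    · choose r hr using h1
      have hsum : aeval x P = ∑ j ∈ Finset.range (m + 2), P.coeff j • x ^ j :=
        Polynomial.aeval_eq_sum_range' (by omega) x
      rw [Finset.sum_range_succ', pow_zero] at hsum
      have h3 : algebraMap K L (δ ^ (m + 1) * P.coeff 0) =
          algebraMap R L (d₀ ^ (m + 1)) * aeval x P -
            ∑ j ∈ Finset.range (m + 1), algebraMap R L (r j) * x ^ (j + 1) := by
        have : ∀ j ∈ Finset.range (m + 1),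
            algebraMap R L (d₀ ^ (m + 1)) * (P.coeff (j + 1) • x ^ (j + 1)) =
              algebraMap R L (r j) * x ^ (j + 1) := by
          intro j _
          rw [IsScalarTower.algebraMap_apply R K L (r j), hr j,
            IsScalarTower.algebraMap_apply R K L, map_pow, Algebra.smul_def, map_mul, map_pow]
          ring
        rw [hsum, mul_add, Finset.mul_sum, Finset.sum_congr rfl this, add_sub_cancel_left,
          Algebra.smul_def, mul_one, IsScalarTower.algebraMap_apply R K L, map_pow, map_mul,
          map_pow]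
      have h4 : IsIntegral R (algebraMap K L (δ ^ (m + 1) * P.coeff 0)) := by
        rw [h3]
        refine (isIntegral_algebraMap.mul hP).sub (IsIntegral.sum _ fun j _ => ?_)
        exact isIntegral_algebraMap.mul (hxint.pow _)
      have h5 : IsIntegral R (δ ^ (m + 1) * P.coeff 0) :=
        (isIntegral_algebraMap_iff (algebraMap K L).injective).mp h4
      exact IsIntegrallyClosed.isIntegral_iff.mp h5
    · exact h1 i

theorem finite_of_mem [IsNoetherianRing R] (x : L) (a₀ d₀ : R) (hd₀ : d₀ ≠ 0)
    (hx : x ^ p = algebraMap R L a₀)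
    (hδ : D (algebraMap R K a₀) = algebraMap R K d₀)
    (hD : ∀ r : R, ∃ s : R, D (algebraMap R K r) = algebraMap R K s)
    (hgen : IntermediateField.adjoin K {x} = ⊤) :
    Module.Finite R (integralClosure R L) := by
  have hp : 0 < p := (Fact.out : p.Prime).pos
  set δ := algebraMap R K d₀ with hδdef
  have hδ0 : δ ≠ 0 := (map_ne_zero_iff _ (IsFractionRing.injective R K)).mpr hd₀
  have hx' : x ^ p = algebraMap K L (algebraMap R K a₀) := by
    rw [hx, IsScalarTower.algebraMap_apply R K L]
  have hxK : IsIntegral K x := by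
    apply IsIntegral.of_pow hp
    rw [hx']; exact isIntegral_algebraMap
  have hrep : ∀ y : L, ∃ P : K[X], P.natDegree < p ∧ aeval x P = y := by
    have h1 : Algebra.adjoin K {x} = ⊤ := by
      rw [← IntermediateField.adjoin_simple_toSubalgebra_of_isAlgebraic hxK.isAlgebraic, hgen,
        IntermediateField.top_toSubalgebra]
    intro y
    have hy : y ∈ Algebra.adjoin K {x} := h1 ▸ Algebra.mem_top
    rw [Algebra.adjoin_singleton_eq_range_aeval] at hy
    obtain ⟨P₀, rfl⟩ := hy
    have hg : (X ^ p - C (algebraMap R K a₀) : K[X]).Monic := monic_X_pow_sub_C _ hp.ne'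
    have hgx : aeval x (X ^ p - C (algebraMap R K a₀) : K[X]) = 0 := by
      rw [map_sub, map_pow, aeval_X, aeval_C, hx', sub_self]
    refine ⟨P₀ %ₘ (X ^ p - C (algebraMap R K a₀)), ?_, ?_⟩
    · have hne : (X ^ p - C (algebraMap R K a₀) : K[X]) ≠ 1 := by
        intro h
        have := congrArg natDegree h
        rw [natDegree_X_pow_sub_C, natDegree_one] at this
        omega
      have := natDegree_modByMonic_lt P₀ hg hne
      rwa [natDegree_X_pow_sub_C] at this
    · have h2 := Polynomial.modByMonic_add_div P₀ (X ^ p - C (algebraMap R K a₀) : K[X])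
      have h3 := congrArg (aeval x) h2
      rw [map_add, map_mul, hgx, zero_mul, add_zero] at h3
      exact h3
  let T : Submodule R L := Submodule.span R
    (Set.range fun i : Fin p => algebraMap K L (δ⁻¹ ^ (p - 1)) * x ^ (i : ℕ))
  have hT : T.FG := Submodule.fg_span (Set.finite_range _)
  haveI : IsNoetherian R T := isNoetherian_of_fg_of_noetherian T hT
  have hle : Subalgebra.toSubmodule (integralClosure R L) ≤ T := by
    intro y hy
    obtain ⟨P, hPdeg, rfl⟩ := hrep y
    have hc := fun i => coeff_mem D x a₀ d₀ hx hδ hD (p - 1) (by omega) P (by omega) hy i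
    choose r hr using hc
    rw [aeval_eq_sum_range' hPdeg, Finset.sum_range]
    refine Submodule.sum_mem _ fun i _ => ?_
    have : P.coeff i • x ^ (i : ℕ) = r i • (algebraMap K L (δ⁻¹ ^ (p - 1)) * x ^ (i : ℕ)) := by
      rw [Algebra.smul_def, Algebra.smul_def, IsScalarTower.algebraMap_apply R K L, hr, ← mul_assoc,
        ← map_mul]
      congr 2
      rw [inv_pow, mul_assoc, mul_comm (P.coeff i), ← mul_assoc,
        mul_inv_cancel₀ (pow_ne_zero _ hδ0), one_mul]
    rw [this]
    exact Submodule.smul_mem _ _ (Submodule.subset_span ⟨i, rfl⟩)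
  haveI : IsNoetherian R (Subalgebra.toSubmodule (integralClosure R L)) := isNoetherian_of_le hle
  exact Module.IsNoetherian.finite R (Subalgebra.toSubmodule (integralClosure R L))

theorem finite_general [IsNoetherianRing R]
    (hD : ∀ r : R, ∃ s : R, D (algebraMap R K r) = algebraMap R K s) (a : K) (ha : D a ≠ 0)
    (x : L) (hx : x ^ p = algebraMap K L a) (hgen : IntermediateField.adjoin K {x} = ⊤) :
    Module.Finite R (integralClosure R L) := by
  have hp : 0 < p := (Fact.out : p.Prime).pos
  obtain ⟨r, s, hs, rfl⟩ := IsFractionRing.div_surjective (A := R) a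
  have hs0 : algebraMap R K s ≠ 0 :=
    (map_ne_zero_iff _ (IsFractionRing.injective R K)).mpr (nonZeroDivisors.ne_zero hs)
  set σ := algebraMap R K s with hσ
  set ρ := algebraMap R K r with hρ
  have hp0 : (p : K) = 0 := CharP.cast_eq_zero K p
  have ha₁ : algebraMap R K (s ^ (p - 1) * r) = σ ^ p * (ρ / σ) := by
    rw [map_mul, map_pow]
    have : σ ^ p = σ ^ (p - 1) * σ := by rw [← pow_succ, Nat.sub_add_cancel hp]
    rw [this, mul_assoc, mul_div_cancel₀ _ hs0]
  have hx₁ : (algebraMap R L s * x) ^ p = algebraMap R L (s ^ (p - 1) * r) := by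
    rw [mul_pow, hx, IsScalarTower.algebraMap_apply R K L (s ^ (p - 1) * r), ha₁, map_mul, map_pow,
      IsScalarTower.algebraMap_apply R K L s]
  obtain ⟨d₁, hd₁⟩ := hD (s ^ (p - 1) * r)
  have hDa₁ : D (algebraMap R K (s ^ (p - 1) * r)) = σ ^ p * D (ρ / σ) := by
    rw [ha₁, Derivation.leibniz, Derivation.leibniz_pow]
    simp only [nsmul_eq_mul, smul_eq_mul, hp0, zero_mul, mul_zero, add_zero]
  have hd₁0 : d₁ ≠ 0 := by
    rintro rfl
    rw [map_zero, hDa₁] at hd₁
    exact (mul_ne_zero (pow_ne_zero _ hs0) ha) hd₁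
  have hgen₁ : IntermediateField.adjoin K {algebraMap R L s * x} = ⊤ := by
    rw [eq_top_iff, ← hgen, IntermediateField.adjoin_le_iff, Set.singleton_subset_iff]
    have hxe : x = algebraMap K L σ⁻¹ * (algebraMap R L s * x) := by
      rw [IsScalarTower.algebraMap_apply R K L s, ← mul_assoc, ← map_mul, inv_mul_cancel₀ hs0,
        map_one, one_mul]
    have hmem : algebraMap K L σ⁻¹ * (algebraMap R L s * x) ∈
        IntermediateField.adjoin K {algebraMap R L s * x} :=
      mul_mem (IntermediateField.algebraMap_mem _ _)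
        (IntermediateField.mem_adjoin_simple_self K _)
    rwa [← hxe] at hmem
  exact finite_of_mem D (algebraMap R L s * x) (s ^ (p - 1) * r) d₁ hd₁0 hx₁ hd₁ hD hgen₁

end Groth.Agent.H11.PthRootFinite
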