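import Mathlib
import Groth.Prelude.Def_CAlgX

set_option autoImplicit false
universe u

namespace Groth.Agent.H11

open TensorProduct

/-- Universally injective (pure) maps reflect solvability of finite linear systems. -/
lemma pure_solve {R : Type u} [CommRing R] {M₁ M₂ : Type u} [AddCommGroup M₁] [Module R M₁]
    [AddCommGroup M₂] [Module R M₂] (f : M₁ →ₗ[R] M₂) (hf : CAlgX.UniversallyInjective R f)
    {m n : ℕ} (a : Fin m → Fin n → R) (z : Fin m → M₁) (y : Fin n → M₂)
    (h : ∀ i, f (z i) = ∑ j, a i j • y j) : ∃ w : Fin n → M₁, ∀ i, z i = ∑ j, a i j • w j := by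
  classical
  -- the transpose map
  let A' : (Fin n → R) →ₗ[R] (Fin m → R) := Fintype.linearCombination R (fun j => (fun i => a i j))
  have hA' : ∀ j, A' (Pi.single j 1) = fun i => a i j := by
    intro j
    rw [Fintype.linearCombination_apply_single, one_smul]
  let D := (Fin m → R) ⧸ LinearMap.range A'
  let π : (Fin m → R) →ₗ[R] D := (LinearMap.range A').mkQ
  have hπ : Function.Surjective π := (LinearMap.range A').mkQ_surjective
  have hex : Function.Exact A' π := LinearMap.exact_map_mkQ_range A'
  -- the key element
  have hζ : π.lTensor M₁ (∑ i, z i ⊗ₜ[R] (Pi.single i 1 : Fin m → R)) = 0 := by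
    apply hf D
    rw [map_zero, map_sum, map_sum]
    simp only [LinearMap.lTensor_tmul, LinearMap.rTensor_tmul, h, TensorProduct.sum_tmul]
    rw [Finset.sum_comm]
    apply Finset.sum_eq_zero
    intro j _
    simp only [TensorProduct.smul_tmul, ← TensorProduct.tmul_sum, ← map_smul, ← map_sum]
    have : ∑ i, a i j • (Pi.single i 1 : Fin m → R) = A' (Pi.single j 1) := by
      rw [hA']
      funext i
      simp [Pi.single_apply]
    rw [this, hex.apply_apply_eq_zero, TensorProduct.tmul_zero]
  obtain ⟨t, ht⟩ := (lTensor_exact M₁ hex hπ _).mp hζ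
  let w : Fin n → M₁ := TensorProduct.piScalarRight R R M₁ (Fin n) t
  have ht' : t = ∑ j, w j ⊗ₜ[R] (Pi.single j 1 : Fin n → R) := by
    apply (TensorProduct.piScalarRight R R M₁ (Fin n)).injective
    rw [map_sum]
    simp only [TensorProduct.piScalarRight_apply, TensorProduct.piScalarRightHom_tmul]
    funext k
    simp [w, Pi.single_apply, TensorProduct.piScalarRight_apply]
  refine ⟨w, fun i => ?_⟩
  have h2 := congrArg (TensorProduct.piScalarRight R R M₁ (Fin m)) ht
  rw [ht', map_sum, map_sum, map_sum] at h2
  simp only [LinearMap.lTensor_tmul, hA', TensorProduct.piScalarRight_apply,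
    TensorProduct.piScalarRightHom_tmul] at h2
  have h3 := congrFun h2 i
  simp only [Finset.sum_apply, Pi.single_apply, ite_smul, one_smul, zero_smul,
    Finset.sum_ite_eq, Finset.mem_univ, if_true] at h3
  exact h3.symm

end Groth.Agent.H11
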