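import Mathlib
import Groth.Prelude.Def_CAlgX
import Groth.Agent.H11.FPLimit

set_option autoImplicit false
universe u

namespace Groth.Agent.H11

open TensorProduct

lemma comm_rTensor {R : Type u} [CommRing R] {A B M : Type u} [AddCommGroup A] [Module R A]
    [AddCommGroup B] [Module R B] [AddCommGroup M] [Module R M] (f : A →ₗ[R] B) (t : A ⊗[R] M) :
    TensorProduct.comm R B M ((f.rTensor M) t) = (f.lTensor M) (TensorProduct.comm R A M t) := by
  induction t using TensorProduct.induction_on with
  | zero => simp
  | tmul a m => simp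
  | add x y hx hy => simp only [map_add, hx, hy]

lemma comm_lTensor {R : Type u} [CommRing R] {A B M : Type u} [AddCommGroup A] [Module R A]
    [AddCommGroup B] [Module R B] [AddCommGroup M] [Module R M] (f : A →ₗ[R] B) (t : M ⊗[R] A) :
    TensorProduct.comm R M B ((f.lTensor M) t) = (f.rTensor M) (TensorProduct.comm R M A t) := by
  induction t using TensorProduct.induction_on with
  | zero => simp
  | tmul a m => simp
  | add x y hx hy => simp only [map_add, hx, hy]

lemma lTensor_injective_of_rTensor_injective {R : Type u} [CommRing R] {A B M : Type u}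
    [AddCommGroup A] [Module R A] [AddCommGroup B] [Module R B] [AddCommGroup M] [Module R M]
    (f : A →ₗ[R] B) (h : Function.Injective (f.rTensor M)) : Function.Injective (f.lTensor M) := by
  intro x y hxy
  apply (TensorProduct.comm R M A).injective
  apply h
  rw [← comm_lTensor, ← comm_lTensor, hxy]

lemma rTensor_injective_of_lTensor_injective {R : Type u} [CommRing R] {A B M : Type u}
    [AddCommGroup A] [Module R A] [AddCommGroup B] [Module R B] [AddCommGroup M] [Module R M]
    (f : A →ₗ[R] B) (h : Function.Injective (f.lTensor M)) : Function.Injective (f.rTensor M) := by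
  intro x y hxy
  apply (TensorProduct.comm R A M).injective
  apply h
  rw [← comm_rTensor, ← comm_rTensor, hxy]

section
variable (R : Type u) [CommRing R] {ι : Type u}
    [Preorder ι] [IsDirected ι (· ≤ ·)] [DecidableEq ι] (G : ι → Type u) [∀ i, AddCommGroup (G i)]
    [∀ i, Module R (G i)] (f : ∀ i j, i ≤ j → G i →ₗ[R] G j) [DirectedSystem G fun i j h => f i j h]

lemma exists_rep_directLimit [Nonempty ι] (P : Type u) [AddCommGroup P] [Module R P]
    (x : Module.DirectLimit G f ⊗[R] P) :
    ∃ (i : ι) (a : G i ⊗[R] P), (Module.DirectLimit.of R ι G f i).rTensor P a = x := by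
  induction x using TensorProduct.induction_on with
  | zero => exact ⟨Classical.arbitrary ι, 0, by simp⟩
  | tmul l p =>
    obtain ⟨i, g, rfl⟩ := Module.DirectLimit.exists_of l
    exact ⟨i, g ⊗ₜ p, by simp⟩
  | add x y hx hy =>
    obtain ⟨i, a, rfl⟩ := hx
    obtain ⟨j, b, rfl⟩ := hy
    obtain ⟨k, hik, hjk⟩ := exists_ge_ge i j
    refine ⟨k, (f i k hik).rTensor P a + (f j k hjk).rTensor P b, ?_⟩
    rw [map_add, ← LinearMap.comp_apply, ← LinearMap.comp_apply, ← LinearMap.rTensor_comp,
      ← LinearMap.rTensor_comp]
    congr 3
    · ext g; simp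
    · ext g; simp

/-- If `lTensor` by every member of a directed system is injective, so is `lTensor` by the limit. -/
lemma lTensor_directLimit_injective [Nonempty ι] {A B : Type u} [AddCommGroup A] [Module R A]
    [AddCommGroup B] [Module R B] (φ : A →ₗ[R] B)
    (h : ∀ i, Function.Injective (φ.lTensor (G i))) :
    Function.Injective (φ.lTensor (Module.DirectLimit G f)) := by
  rw [injective_iff_map_eq_zero]
  intro z hz
  obtain ⟨i, a, rfl⟩ := exists_rep_directLimit R G f A z
  have h1 : (Module.DirectLimit.of R ι G f i).rTensor B ((φ.lTensor (G i)) a) = 0 := by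
    rw [← LinearMap.comp_apply, LinearMap.rTensor_comp_lTensor, ← LinearMap.lTensor_comp_rTensor,
      LinearMap.comp_apply, hz]
  have h2 : Module.DirectLimit.of R ι (fun i => G i ⊗[R] B) (fun i j h => (f i j h).rTensor B) i
      ((φ.lTensor (G i)) a) = 0 := by
    rw [← TensorProduct.directLimitLeft_rTensor_of, h1, map_zero]
  obtain ⟨j, hij, hj⟩ := Module.DirectLimit.of.zero_exact h2
  have h3 : (φ.lTensor (G j)) ((f i j hij).rTensor A a) = 0 := by
    rw [← LinearMap.comp_apply, LinearMap.lTensor_comp_rTensor, ← LinearMap.rTensor_comp_lTensor,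
      LinearMap.comp_apply]
    exact hj
  have h4 : (f i j hij).rTensor A a = 0 := h j (by rw [h3, map_zero])
  have h5 : (Module.DirectLimit.of R ι G f i).rTensor A a =
      (Module.DirectLimit.of R ι G f j).rTensor A ((f i j hij).rTensor A a) := by
    rw [← LinearMap.comp_apply, ← LinearMap.rTensor_comp]
    congr 2
    ext g
    simp
  rw [h5, h4, map_zero]

end

/-- A map which stays injective after tensoring with every finitely presented module is
universally injective. -/
theorem universallyInjective_of_fp {R : Type u} [CommRing R] {A B : Type u} [AddCommGroup A]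
    [Module R A] [AddCommGroup B] [Module R B] (φ : A →ₗ[R] B)
    (h : ∀ (P : Type u) [AddCommGroup P] [Module R P], Module.FinitePresentation R P →
      Function.Injective (φ.rTensor P)) :
    CAlgX.UniversallyInjective R φ := by
  intro Q _ _
  obtain ⟨ι, _, _, _, _, G, _, _, f, _, hfp, ⟨e⟩⟩ := exists_directLimit_fp R Q
  have hL : Function.Injective (φ.lTensor (Module.DirectLimit G f)) :=
    lTensor_directLimit_injective R G f φ
      (fun i => lTensor_injective_of_rTensor_injective φ (h (G i) (hfp i)))
  have hR := rTensor_injective_of_lTensor_injective φ hL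
  rw [injective_iff_map_eq_zero]
  intro z hz
  have h1 : (φ.rTensor (Module.DirectLimit G f)) ((e.symm.toLinearMap).lTensor A z) = 0 := by
    rw [← LinearMap.comp_apply, LinearMap.rTensor_comp_lTensor, ← LinearMap.lTensor_comp_rTensor,
      LinearMap.comp_apply, hz, map_zero]
  have h2 := hR (by rw [h1, map_zero] : (φ.rTensor (Module.DirectLimit G f))
    ((e.symm.toLinearMap).lTensor A z) = (φ.rTensor (Module.DirectLimit G f)) 0)
  have h3 : (e.toLinearMap).lTensor A ((e.symm.toLinearMap).lTensor A z) = z := by
    rw [← LinearMap.comp_apply, ← LinearMap.lTensor_comp]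
    have : e.toLinearMap ∘ₗ e.symm.toLinearMap = LinearMap.id := by
      ext q
      simp
    rw [this, LinearMap.lTensor_id, LinearMap.id_apply]
  rw [← h3, h2, map_zero]

end Groth.Agent.H11
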