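import Mathlib
import Groth.Prelude.Def_W4c6intromoduliQuartic

open Polynomial W4c6intromoduli

namespace Groth.Agent.H11

variable {R : Type*} [CommRing R]

theorem rootPoly_eq (la mu : Fin 4 → R) :
    rootPoly la mu =
      C (mu 0 * mu 1 * mu 2 * mu 3)
      + C (-(la 0 * mu 1 * mu 2 * mu 3 + mu 0 * la 1 * mu 2 * mu 3 + mu 0 * mu 1 * la 2 * mu 3
          + mu 0 * mu 1 * mu 2 * la 3)) * X
      + C (la 0 * la 1 * mu 2 * mu 3 + la 0 * mu 1 * la 2 * mu 3 + la 0 * mu 1 * mu 2 * la 3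
          + mu 0 * la 1 * la 2 * mu 3 + mu 0 * la 1 * mu 2 * la 3 + mu 0 * mu 1 * la 2 * la 3) * X ^ 2
      + C (-(la 0 * la 1 * la 2 * mu 3 + la 0 * la 1 * mu 2 * la 3 + la 0 * mu 1 * la 2 * la 3
          + mu 0 * la 1 * la 2 * la 3)) * X ^ 3
      + C (la 0 * la 1 * la 2 * la 3) * X ^ 4 := by
  simp only [rootPoly, Fin.prod_univ_four, map_add, map_mul, map_neg]
  ring

theorem coef_zero (la mu : Fin 4 → R) : coef la mu 0 = mu 0 * mu 1 * mu 2 * mu 3 := by
  rw [coef, rootPoly_eq]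
  simp only [coeff_add, coeff_C_mul_X_pow, coeff_C_mul_X, coeff_C]
  norm_num

theorem coef_one (la mu : Fin 4 → R) : coef la mu 1 =
    -(la 0 * mu 1 * mu 2 * mu 3 + mu 0 * la 1 * mu 2 * mu 3 + mu 0 * mu 1 * la 2 * mu 3
          + mu 0 * mu 1 * mu 2 * la 3) := by
  rw [coef, rootPoly_eq]
  simp only [coeff_add, coeff_C_mul_X_pow, coeff_C_mul_X, coeff_C]
  norm_num

theorem coef_two (la mu : Fin 4 → R) : coef la mu 2 =
    la 0 * la 1 * mu 2 * mu 3 + la 0 * mu 1 * la 2 * mu 3 + la 0 * mu 1 * mu 2 * la 3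
          + mu 0 * la 1 * la 2 * mu 3 + mu 0 * la 1 * mu 2 * la 3 + mu 0 * mu 1 * la 2 * la 3 := by
  rw [coef, rootPoly_eq]
  simp only [coeff_add, coeff_C_mul_X_pow, coeff_C_mul_X, coeff_C]
  norm_num

theorem coef_three (la mu : Fin 4 → R) : coef la mu 3 =
    -(la 0 * la 1 * la 2 * mu 3 + la 0 * la 1 * mu 2 * la 3 + la 0 * mu 1 * la 2 * la 3
          + mu 0 * la 1 * la 2 * la 3) := by
  rw [coef, rootPoly_eq]
  simp only [coeff_add, coeff_C_mul_X_pow, coeff_C_mul_X, coeff_C]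
  norm_num

theorem coef_four (la mu : Fin 4 → R) : coef la mu 4 = la 0 * la 1 * la 2 * la 3 := by
  rw [coef, rootPoly_eq]
  simp only [coeff_add, coeff_C_mul_X_pow, coeff_C_mul_X, coeff_C]
  norm_num

/-- The three "cross-ratio" products of a quadruple of root points. -/
def qA (la mu : Fin 4 → R) : R := (la 0 * mu 1 - la 1 * mu 0) * (la 2 * mu 3 - la 3 * mu 2)
/-- see `qA` -/
def qB (la mu : Fin 4 → R) : R := (la 0 * mu 2 - la 2 * mu 0) * (la 3 * mu 1 - la 1 * mu 3)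
/-- see `qA` -/
def qC (la mu : Fin 4 → R) : R := (la 0 * mu 3 - la 3 * mu 0) * (la 1 * mu 2 - la 2 * mu 1)

theorem qA_add_qB_add_qC (la mu : Fin 4 → R) : qA la mu + qB la mu + qC la mu = 0 := by
  simp only [qA, qB, qC]
  ring

theorem two_mul_invI (la mu : Fin 4 → R) :
    2 * invI (coef la mu) = qA la mu ^ 2 + qB la mu ^ 2 + qC la mu ^ 2 := by
  simp only [invI, coef_zero, coef_one, coef_two, coef_three, coef_four, qA, qB, qC]
  ring

theorem invJ_eq (la mu : Fin 4 → R) :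
    invJ (coef la mu) = (qA la mu - qB la mu) * (qB la mu - qC la mu) * (qC la mu - qA la mu) := by
  simp only [invJ, coef_zero, coef_one, coef_two, coef_three, coef_four, qA, qB, qC]
  ring

theorem eq_zero_of_sum_sq {k : Type*} [Field k] (h2 : (2 : k) ≠ 0) (h3 : (3 : k) ≠ 0)
    {x y z : k} (hs : x + y + z = 0) (hq : x ^ 2 + y ^ 2 + z ^ 2 = 0) (hxy : x = y) :
    x = 0 ∧ y = 0 ∧ z = 0 := by
  have hz : z = -2 * x := by linear_combination hs + hxy
  have h6 : (2 : k) * 3 * x ^ 2 = 0 := by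
    rw [← hxy, hz] at hq
    linear_combination hq
  have hx : x = 0 := by
    have := mul_eq_zero.1 h6
    rcases this with h | h
    · exact absurd h (mul_ne_zero h2 h3)
    · exact pow_eq_zero_iff (two_ne_zero) |>.1 h
  refine ⟨hx, hxy ▸ hx, ?_⟩
  rw [hz, hx, mul_zero]

theorem all_zero_of_invariants {k : Type*} [Field k] (h2 : (2 : k) ≠ 0) (h3 : (3 : k) ≠ 0)
    {a b c : k} (hs : a + b + c = 0) (hq : a ^ 2 + b ^ 2 + c ^ 2 = 0)
    (hj : (a - b) * (b - c) * (c - a) = 0) : a = 0 ∧ b = 0 ∧ c = 0 := by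
  rcases mul_eq_zero.1 hj with h | h
  · rcases mul_eq_zero.1 h with h | h
    · exact eq_zero_of_sum_sq h2 h3 hs hq (sub_eq_zero.1 h)
    · obtain ⟨hb, hc, ha⟩ := eq_zero_of_sum_sq (x := b) (y := c) (z := a) h2 h3
        (by linear_combination hs) (by linear_combination hq) (sub_eq_zero.1 h)
      exact ⟨ha, hb, hc⟩
  · obtain ⟨hc, ha, hb⟩ := eq_zero_of_sum_sq (x := c) (y := a) (z := b) h2 h3
      (by linear_combination hs) (by linear_combination hq) (sub_eq_zero.1 h)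
    exact ⟨ha, hb, hc⟩

end Groth.Agent.H11
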