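import Mathlib
import Groth.Agent.S4858

/-! Quasi-homeomorphisms (helper11). -/

namespace Groth.Agent.H11

universe u

open TopologicalSpace

variable {X Y : Type u} [TopologicalSpace X] [TopologicalSpace Y]

/-- quasi-homeomorphism, in the set form -/
def QH (f : X → Y) : Prop :=
  (∀ U₁ U₂ : Set Y, IsOpen U₁ → IsOpen U₂ → f ⁻¹' U₁ = f ⁻¹' U₂ → U₁ = U₂) ∧
    (∀ V : Set X, IsOpen V → ∃ U : Set Y, IsOpen U ∧ f ⁻¹' U = V)

/-- locally quasi-constructible -/
def LQC (Y' : Set Y) : Prop :=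
  ∀ y : Y, ∃ U : Set Y, IsOpen U ∧ y ∈ U ∧
    ∃ T : Set (Set Y), T.Finite ∧ (∀ t ∈ T, IsLocallyClosed t) ∧ U ∩ Y' = ⋃₀ T

theorem qh_iff_bijective (f : X → Y) (hf : Continuous f) :
    QH f ↔ Function.Bijective (fun U : Opens Y =>
      (⟨f ⁻¹' (U : Set Y), U.isOpen.preimage hf⟩ : Opens X)) := by
  constructor
  · rintro ⟨h1, h2⟩
    refine ⟨?_, ?_⟩
    · intro U₁ U₂ h
      apply Opens.ext
      apply h1 _ _ U₁.isOpen U₂.isOpen
      exact congrArg (fun W : Opens X => (W : Set X)) h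
    · intro V
      obtain ⟨U, hU, hUV⟩ := h2 V V.isOpen
      exact ⟨⟨U, hU⟩, Opens.ext hUV⟩
  · rintro ⟨h1, h2⟩
    refine ⟨?_, ?_⟩
    · intro U₁ U₂ hU₁ hU₂ h
      have := @h1 ⟨U₁, hU₁⟩ ⟨U₂, hU₂⟩ (Opens.ext h)
      exact congrArg (fun W : Opens Y => (W : Set Y)) this
    · intro V hV
      obtain ⟨U, hU⟩ := h2 ⟨V, hV⟩
      exact ⟨U, U.isOpen, congrArg (fun W : Opens X => (W : Set X)) hU⟩

/-- the image of a quasi-homeomorphism is very dense -/
theorem QH.exists_mem {f : X → Y} (hq : QH f) (Z : Set Y) (hZ : IsLocallyClosed Z)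
    (hne : Z.Nonempty) : ∃ x, f x ∈ Z := by
  have h3 : ∀ U V : Set Y, IsOpen U → IsOpen V → U ∩ Set.range f = V ∩ Set.range f → U = V := by
    intro U V hU hV h
    apply hq.1 U V hU hV
    ext x
    have := Set.ext_iff.1 h (f x)
    simp only [Set.mem_inter_iff, Set.mem_range_self, and_true] at this
    exact this
  have h1 := ((Groth.Agent.S4858.result (Set.range f)).out 2 0).1 h3
  obtain ⟨y, hyZ, x, rfl⟩ := h1 Z hZ hne
  exact ⟨x, hyZ⟩

theorem QH.exists_mem_lqc {f : X → Y} (hq : QH f) {Y' : Set Y} (hY' : LQC Y') (L : Set Y)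
    (hL : IsLocallyClosed L) (y : Y) (hy : y ∈ Y' ∩ L) : ∃ x, f x ∈ Y' ∩ L := by
  obtain ⟨U, hU, hyU, T, -, hT, hUT⟩ := hY' y
  have hyT : y ∈ ⋃₀ T := by rw [← hUT]; exact ⟨hyU, hy.1⟩
  obtain ⟨t, ht, hyt⟩ := hyT
  have htY' : t ⊆ Y' := by
    intro z hz
    have : z ∈ U ∩ Y' := by rw [hUT]; exact ⟨t, ht, hz⟩
    exact this.2
  obtain ⟨x, hx⟩ := hq.exists_mem (t ∩ L) ((hT t ht).inter hL) ⟨y, hyt, hy.2⟩
  exact ⟨x, htY' hx.1, hx.2⟩

/-- restriction of a quasi-homeomorphism to a locally quasi-constructible subset -/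
theorem QH.restrict {f : X → Y} (hq : QH f) {Y' : Set Y} (hY' : LQC Y') :
    QH (Y'.restrictPreimage f) := by
  refine ⟨?_, ?_⟩
  · intro U₁ U₂ hU₁ hU₂ h
    obtain ⟨W₁, hW₁, rfl⟩ := isOpen_induced_iff.1 hU₁
    obtain ⟨W₂, hW₂, rfl⟩ := isOpen_induced_iff.1 hU₂
    have key : ∀ A B : Set Y, IsOpen A → IsOpen B →
        (Y'.restrictPreimage f) ⁻¹' (Subtype.val ⁻¹' A) = (Y'.restrictPreimage f) ⁻¹' (Subtype.val ⁻¹' B) →
        ∀ y : Y', y ∈ (Subtype.val ⁻¹' A : Set Y') → y ∈ (Subtype.val ⁻¹' B : Set Y') := by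
      intro A B hA hB hAB y hyA
      by_contra hyB
      obtain ⟨x, hx1, hx2⟩ := hq.exists_mem_lqc hY' (A ∩ Bᶜ)
        (hA.isLocallyClosed.inter hB.isClosed_compl.isLocallyClosed) y.1 ⟨y.2, hyA, hyB⟩
      have hxm : (⟨x, hx1⟩ : f ⁻¹' Y') ∈ (Y'.restrictPreimage f) ⁻¹' (Subtype.val ⁻¹' A) := hx2.1
      rw [hAB] at hxm
      exact hx2.2 hxm
    ext y
    exact ⟨key W₁ W₂ hW₁ hW₂ h y, key W₂ W₁ hW₂ hW₁ h.symm y⟩
  · intro V hV
    obtain ⟨W, hW, rfl⟩ := isOpen_induced_iff.1 hV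
    obtain ⟨U, hU, rfl⟩ := hq.2 W hW
    exact ⟨Subtype.val ⁻¹' U, hU.preimage continuous_subtype_val, rfl⟩

/-- compactness transfers along quasi-homeomorphisms -/
theorem QH.compactSpace_iff {f : X → Y} (hf : Continuous f) (hq : QH f) :
    CompactSpace X ↔ CompactSpace Y := by
  have huniv : ∀ U : Set Y, IsOpen U → f ⁻¹' U = Set.univ → U = Set.univ := by
    intro U hU h
    exact hq.1 U Set.univ hU isOpen_univ (by rw [h, Set.preimage_univ])
  constructor
  · intro hX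
    refine ⟨isCompact_of_finite_subcover ?_⟩
    intro ι U hU hcov
    have h1 : (Set.univ : Set X) ⊆ ⋃ i, f ⁻¹' U i := by
      intro x _
      have := hcov (Set.mem_univ (f x))
      simpa using this
    obtain ⟨t, ht⟩ := isCompact_univ.elim_finite_subcover (fun i => f ⁻¹' U i)
      (fun i => (hU i).preimage hf) h1
    refine ⟨t, ?_⟩
    have h2 : (⋃ i ∈ t, U i) = Set.univ := by
      apply huniv _ (isOpen_biUnion fun i _ => hU i)
      rw [Set.preimage_iUnion₂]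
      exact Set.univ_subset_iff.1 ht
    rw [h2]
  · intro hY
    refine ⟨isCompact_of_finite_subcover ?_⟩
    intro ι V hV hcov
    choose U hU hUV using fun i => hq.2 (V i) (hV i)
    have h1 : (⋃ i, U i) = Set.univ := by
      apply huniv _ (isOpen_iUnion hU)
      rw [Set.preimage_iUnion]
      simp_rw [hUV]
      exact Set.univ_subset_iff.1 hcov
    obtain ⟨t, ht⟩ := isCompact_univ.elim_finite_subcover U hU (by rw [h1])
    refine ⟨t, ?_⟩
    intro x _
    have := ht (Set.mem_univ (f x))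
    simp only [Set.mem_iUnion] at this ⊢
    obtain ⟨i, hi, hx⟩ := this
    refine ⟨i, hi, ?_⟩
    rw [← hUV i]
    exact hx

/-- Noetherianity transfers along quasi-homeomorphisms -/
theorem QH.noetherianSpace_iff {f : X → Y} (hf : Continuous f) (hq : QH f) :
    NoetherianSpace X ↔ NoetherianSpace Y := by
  have hb := (qh_iff_bijective f hf).1 hq
  have hmono : StrictMono (fun U : Opens Y =>
      (⟨f ⁻¹' (U : Set Y), U.isOpen.preimage hf⟩ : Opens X)) := by
    apply Monotone.strictMono_of_injective _ hb.1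
    intro U₁ U₂ h x hx
    exact h hx
  constructor
  · intro hX
    exact hmono.wellFoundedGT
  · intro hY
    obtain ⟨ψ, hψ⟩ := hb.2.hasRightInverse
    have hψmono : StrictMono ψ := by
      apply Monotone.strictMono_of_injective _ hψ.injective
      intro V₁ V₂ h
      have e1 : f ⁻¹' (ψ V₁ : Set Y) = V₁ := congrArg (fun W : Opens X => (W : Set X)) (hψ V₁)
      have e2 : f ⁻¹' (ψ V₂ : Set Y) = V₂ := congrArg (fun W : Opens X => (W : Set X)) (hψ V₂)
      have h3 : ((ψ V₁ : Set Y) ∪ (ψ V₂ : Set Y)) = (ψ V₂ : Set Y) := by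
        apply hq.1 _ _ ((ψ V₁).isOpen.union (ψ V₂).isOpen) (ψ V₂).isOpen
        rw [Set.preimage_union, e1, e2]
        exact Set.union_eq_self_of_subset_left h
      intro y hy
      have : y ∈ ((ψ V₁ : Set Y) ∪ (ψ V₂ : Set Y)) := Or.inl hy
      rw [h3] at this
      exact this
    exact hψmono.wellFoundedGT

end Groth.Agent.H11
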