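import Mathlib
import Groth.Agent.H11.QuasiHomeo

/-! Quasi-constructible sets and quasi-homeomorphisms (helper11). -/

namespace Groth.Agent.H11

universe u

open TopologicalSpace

variable {X Y : Type u} [TopologicalSpace X] [TopologicalSpace Y]

/-- quasi-constructible: a finite union of locally closed sets -/
def QC (Z : Set Y) : Prop :=
  ∃ T : Set (Set Y), T.Finite ∧ (∀ t ∈ T, IsLocallyClosed t) ∧ Z = ⋃₀ T

theorem QC.empty : QC (∅ : Set Y) := ⟨∅, Set.finite_empty, by simp, by simp⟩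

theorem qc_of_isLocallyClosed {t : Set Y} (h : IsLocallyClosed t) : QC t :=
  ⟨{t}, Set.finite_singleton t, by simpa using h, by simp⟩

theorem QC.union {A B : Set Y} (hA : QC A) (hB : QC B) : QC (A ∪ B) := by
  obtain ⟨T, hT, hTl, rfl⟩ := hA
  obtain ⟨S, hS, hSl, rfl⟩ := hB
  refine ⟨T ∪ S, hT.union hS, ?_, (Set.sUnion_union T S).symm⟩
  rintro t (ht | ht)
  · exact hTl t ht
  · exact hSl t ht

theorem QC.inter_isLocallyClosed {A L : Set Y} (hA : QC A) (hL : IsLocallyClosed L) :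
    QC (L ∩ A) := by
  obtain ⟨T, hT, hTl, rfl⟩ := hA
  refine ⟨(fun t => L ∩ t) '' T, hT.image _, ?_, ?_⟩
  · rintro _ ⟨t, ht, rfl⟩
    exact hL.inter (hTl t ht)
  · rw [Set.sUnion_image, Set.sUnion_eq_biUnion, Set.inter_iUnion₂]

theorem QC.preimage {f : X → Y} (hf : Continuous f) {Z : Set Y} (hZ : QC Z) : QC (f ⁻¹' Z) := by
  obtain ⟨T, hT, hTl, rfl⟩ := hZ
  refine ⟨(fun t => f ⁻¹' t) '' T, hT.image _, ?_, ?_⟩
  · rintro _ ⟨t, ht, rfl⟩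
    exact (hTl t ht).preimage hf
  · rw [Set.sUnion_image, Set.sUnion_eq_biUnion, Set.preimage_iUnion₂]

theorem exists_locallyClosed_disjoint (T : Set (Set Y)) (hT : T.Finite)
    (hTl : ∀ t ∈ T, IsLocallyClosed t) (y : Y) (hy : y ∉ ⋃₀ T) :
    ∃ L : Set Y, IsLocallyClosed L ∧ y ∈ L ∧ L ∩ ⋃₀ T = ∅ := by
  induction T, hT using Set.Finite.induction_on with
  | empty => exact ⟨Set.univ, isOpen_univ.isLocallyClosed, Set.mem_univ y, by simp⟩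
  | @insert a T' _ _ ih =>
    have hy' : y ∉ ⋃₀ T' := fun h => hy (by
      rw [Set.sUnion_insert]; exact Or.inr h)
    have hya : y ∉ a := fun h => hy (by
      rw [Set.sUnion_insert]; exact Or.inl h)
    obtain ⟨L', hL', hyL', hdisj⟩ := ih (fun t ht => hTl t (Set.mem_insert_of_mem a ht)) hy'
    obtain ⟨U, F, hU, hF, rfl⟩ := hTl a (Set.mem_insert a T')
    have hC : ∃ C : Set Y, IsLocallyClosed C ∧ y ∈ C ∧ C ∩ (U ∩ F) = ∅ := by
      by_cases hyU : y ∈ U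
      · have hyF : y ∉ F := fun h => hya ⟨hyU, h⟩
        refine ⟨Fᶜ, hF.isOpen_compl.isLocallyClosed, hyF, ?_⟩
        ext z; simp only [Set.mem_inter_iff, Set.mem_compl_iff, Set.mem_empty_iff_false, iff_false]
        tauto
      · refine ⟨Uᶜ, hU.isClosed_compl.isLocallyClosed, hyU, ?_⟩
        ext z; simp only [Set.mem_inter_iff, Set.mem_compl_iff, Set.mem_empty_iff_false, iff_false]
        tauto
    obtain ⟨C, hC, hyC, hCd⟩ := hC
    refine ⟨L' ∩ C, hL'.inter hC, ⟨hyL', hyC⟩, ?_⟩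
    rw [Set.sUnion_insert, Set.inter_union_distrib_left]
    have h1 : L' ∩ C ∩ (U ∩ F) = ∅ := by
      rw [Set.inter_assoc, hCd, Set.inter_empty]
    have h2 : L' ∩ C ∩ ⋃₀ T' = ∅ := by
      rw [Set.inter_right_comm, hdisj, Set.empty_inter]
    rw [h1, h2, Set.union_empty]

theorem QC.exists_locallyClosed_disjoint {Z : Set Y} (hZ : QC Z) (y : Y) (hy : y ∉ Z) :
    ∃ L : Set Y, IsLocallyClosed L ∧ y ∈ L ∧ L ∩ Z = ∅ := by
  obtain ⟨T, hT, hTl, rfl⟩ := hZ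
  exact Groth.Agent.H11.exists_locallyClosed_disjoint T hT hTl y hy

theorem QC.exists_locallyClosed_mem {Z : Set Y} (hZ : QC Z) (y : Y) (hy : y ∈ Z) :
    ∃ t : Set Y, IsLocallyClosed t ∧ y ∈ t ∧ t ⊆ Z := by
  obtain ⟨T, _, hTl, rfl⟩ := hZ
  obtain ⟨t, ht, hyt⟩ := hy
  exact ⟨t, hTl t ht, hyt, Set.subset_sUnion_of_mem ht⟩

/-- a quasi-homeomorphism is injective on quasi-constructible sets -/
theorem QH.qc_subset {f : X → Y} (hq : QH f) {Z₁ Z₂ : Set Y} (h₁ : QC Z₁) (h₂ : QC Z₂)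
    (h : f ⁻¹' Z₁ ⊆ f ⁻¹' Z₂) : Z₁ ⊆ Z₂ := by
  intro y hy1
  by_contra hy2
  obtain ⟨t, ht, hyt, htZ⟩ := h₁.exists_locallyClosed_mem y hy1
  obtain ⟨L, hL, hyL, hLd⟩ := h₂.exists_locallyClosed_disjoint y hy2
  obtain ⟨x, hx⟩ := hq.exists_mem (t ∩ L) (ht.inter hL) ⟨y, hyt, hyL⟩
  have hx2 : f x ∈ Z₂ := h (htZ hx.1)
  have : f x ∈ L ∩ Z₂ := ⟨hx.2, hx2⟩
  rw [hLd] at this
  exact this

theorem QH.qc_inj {f : X → Y} (hq : QH f) {Z₁ Z₂ : Set Y} (h₁ : QC Z₁) (h₂ : QC Z₂)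
    (h : f ⁻¹' Z₁ = f ⁻¹' Z₂) : Z₁ = Z₂ :=
  Set.Subset.antisymm (hq.qc_subset h₁ h₂ h.subset) (hq.qc_subset h₂ h₁ h.symm.subset)

theorem QH.exists_locallyClosed_preimage {f : X → Y} (hq : QH f) (s : Set X)
    (hs : IsLocallyClosed s) : ∃ t : Set Y, IsLocallyClosed t ∧ f ⁻¹' t = s := by
  obtain ⟨V, G, hV, hG, rfl⟩ := hs
  obtain ⟨U, hU, rfl⟩ := hq.2 V hV
  obtain ⟨U', hU', hU'G⟩ := hq.2 Gᶜ hG.isOpen_compl
  refine ⟨U ∩ U'ᶜ, hU.isLocallyClosed.inter hU'.isClosed_compl.isLocallyClosed, ?_⟩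
  rw [Set.preimage_inter, Set.preimage_compl, hU'G, compl_compl]

theorem QH.exists_qc_preimage {f : X → Y} (hq : QH f) (W : Set X) (hW : QC W) :
    ∃ Z : Set Y, QC Z ∧ f ⁻¹' Z = W := by
  obtain ⟨S, hS, hSl, rfl⟩ := hW
  induction S, hS using Set.Finite.induction_on with
  | empty => exact ⟨∅, QC.empty, by simp⟩
  | @insert a S' _ _ ih =>
    obtain ⟨Z', hZ', hZ'S⟩ := ih (fun s hs => hSl s (Set.mem_insert_of_mem a hs))
    obtain ⟨t, ht, hta⟩ := hq.exists_locallyClosed_preimage a (hSl a (Set.mem_insert a S'))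
    refine ⟨t ∪ Z', (qc_of_isLocallyClosed ht).union hZ', ?_⟩
    rw [Set.preimage_union, hta, hZ'S, Set.sUnion_insert]

/-- locally quasi-constructible (ambient form) -/
def LQC2 (Z : Set Y) : Prop := ∀ y : Y, ∃ U : Set Y, IsOpen U ∧ y ∈ U ∧ QC (U ∩ Z)

/-- locally quasi-constructible (subspace form) -/
def LQC' (Z : Set Y) : Prop :=
  ∀ y : Y, ∃ V : Set Y, IsOpen V ∧ y ∈ V ∧
    ∃ T : Set (Set V), T.Finite ∧ (∀ t ∈ T, IsLocallyClosed t) ∧ (Subtype.val ⁻¹' Z : Set V) = ⋃₀ T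

theorem isLocallyClosed_image_val {V : Set Y} (hV : IsOpen V) (t : Set V)
    (ht : IsLocallyClosed t) : IsLocallyClosed (Subtype.val '' t) := by
  obtain ⟨A, B, hA, hB, rfl⟩ := ht
  obtain ⟨A₀, hA₀, rfl⟩ := isOpen_induced_iff.1 hA
  obtain ⟨B₀, hB₀, rfl⟩ := isClosed_induced_iff.1 hB
  have : Subtype.val '' ((Subtype.val ⁻¹' A₀ : Set V) ∩ (Subtype.val ⁻¹' B₀ : Set V))
      = (V ∩ A₀) ∩ B₀ := by
    rw [← Set.preimage_inter, Subtype.image_preimage_coe, Set.inter_assoc]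
  rw [this]
  exact (hV.inter hA₀).isLocallyClosed.inter hB₀.isLocallyClosed

theorem lqc'_iff (Z : Set Y) : LQC' Z ↔ LQC2 Z := by
  constructor
  · intro h y
    obtain ⟨V, hV, hyV, T, hT, hTl, hZT⟩ := h y
    refine ⟨V, hV, hyV, (fun t => Subtype.val '' t) '' T, hT.image _, ?_, ?_⟩
    · rintro _ ⟨t, ht, rfl⟩
      exact isLocallyClosed_image_val hV t (hTl t ht)
    · rw [Set.sUnion_image, ← Subtype.image_preimage_coe, hZT, Set.sUnion_eq_biUnion,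
        Set.image_iUnion₂]
  · intro h y
    obtain ⟨U, hU, hyU, T, hT, hTl, hZT⟩ := h y
    refine ⟨U, hU, hyU, (fun t => (Subtype.val ⁻¹' t : Set U)) '' T, hT.image _, ?_, ?_⟩
    · rintro _ ⟨t, ht, rfl⟩
      exact (hTl t ht).preimage continuous_subtype_val
    · rw [Set.sUnion_image, ← Set.preimage_iUnion₂, ← Set.sUnion_eq_biUnion, ← hZT]
      ext z
      simp only [Set.mem_preimage, Set.mem_inter_iff, Subtype.coe_prop, true_and]

theorem LQC2.preimage {f : X → Y} (hf : Continuous f) {Z : Set Y} (hZ : LQC2 Z) :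
    LQC2 (f ⁻¹' Z) := by
  intro x
  obtain ⟨U, hU, hxU, hqc⟩ := hZ (f x)
  exact ⟨f ⁻¹' U, hU.preimage hf, hxU, by rw [← Set.preimage_inter]; exact hqc.preimage hf⟩

theorem QH.lqc_subset {f : X → Y} (hq : QH f) {Z₁ Z₂ : Set Y} (h₁ : LQC2 Z₁) (h₂ : LQC2 Z₂)
    (h : f ⁻¹' Z₁ ⊆ f ⁻¹' Z₂) : Z₁ ⊆ Z₂ := by
  intro y hy1
  by_contra hy2
  obtain ⟨U₁, hU₁, hyU₁, hqc₁⟩ := h₁ y
  obtain ⟨U₂, hU₂, hyU₂, hqc₂⟩ := h₂ y
  obtain ⟨t, ht, hyt, htZ⟩ := hqc₁.exists_locallyClosed_mem y ⟨hyU₁, hy1⟩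
  obtain ⟨L, hL, hyL, hLd⟩ := hqc₂.exists_locallyClosed_disjoint y (fun h => hy2 h.2)
  obtain ⟨x, hx⟩ := hq.exists_mem (t ∩ (U₂ ∩ L)) (ht.inter (hU₂.isLocallyClosed.inter hL))
    ⟨y, hyt, hyU₂, hyL⟩
  have hx2 : f x ∈ Z₂ := h (htZ hx.1).2
  have : f x ∈ L ∩ (U₂ ∩ Z₂) := ⟨hx.2.2, hx.2.1, hx2⟩
  rw [hLd] at this
  exact this

theorem QH.exists_lqc_preimage {f : X → Y} (hq : QH f) (W : Set X) (hW : LQC2 W) :
    ∃ Z : Set Y, LQC2 Z ∧ f ⁻¹' Z = W := by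
  choose V hV hxV hVW using hW
  choose U hU hUV using fun x => hq.2 (V x) (hV x)
  choose Z₀ hZ₀ hZ₀W using fun x => hq.exists_qc_preimage (V x ∩ W) (hVW x)
  have hqcx : ∀ x, QC (U x ∩ Z₀ x) := fun x => (hZ₀ x).inter_isLocallyClosed (hU x).isLocallyClosed
  have hprex : ∀ x, f ⁻¹' (U x ∩ Z₀ x) = V x ∩ W := by
    intro x
    rw [Set.preimage_inter, hUV, hZ₀W, ← Set.inter_assoc, Set.inter_self]
  have hcov : (⋃ x, U x) = Set.univ := by
    apply hq.1 _ _ (isOpen_iUnion hU) isOpen_univ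
    rw [Set.preimage_iUnion, Set.preimage_univ]
    simp_rw [hUV]
    exact Set.eq_univ_of_forall fun x => Set.mem_iUnion.2 ⟨x, hxV x⟩
  refine ⟨⋃ x, (U x ∩ Z₀ x), ?_, ?_⟩
  · intro y
    have hy : y ∈ ⋃ x, U x := by rw [hcov]; exact Set.mem_univ y
    obtain ⟨x, hyx⟩ := Set.mem_iUnion.1 hy
    refine ⟨U x, hU x, hyx, ?_⟩
    have : U x ∩ ⋃ x', (U x' ∩ Z₀ x') = U x ∩ Z₀ x := by
      apply Set.Subset.antisymm
      · rintro z ⟨hzx, hz⟩
        obtain ⟨x', hzx'⟩ := Set.mem_iUnion.1 hz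
        have hAB : U x ∩ (U x' ∩ Z₀ x') = U x' ∩ (U x ∩ Z₀ x) := by
          apply hq.qc_inj ((hqcx x').inter_isLocallyClosed (hU x).isLocallyClosed)
            ((hqcx x).inter_isLocallyClosed (hU x').isLocallyClosed)
          have e1 : f ⁻¹' (U x ∩ (U x' ∩ Z₀ x')) = V x ∩ (V x' ∩ W) := by
            rw [Set.preimage_inter, hprex, hUV]
          have e2 : f ⁻¹' (U x' ∩ (U x ∩ Z₀ x)) = V x' ∩ (V x ∩ W) := by
            rw [Set.preimage_inter, hprex, hUV]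
          rw [e1, e2]
          ext w
          simp only [Set.mem_inter_iff]
          tauto
        have : z ∈ U x ∩ (U x' ∩ Z₀ x') := ⟨hzx, hzx'⟩
        rw [hAB] at this
        exact this.2
      · rintro z ⟨hzx, hz⟩
        exact ⟨hzx, Set.mem_iUnion.2 ⟨x, hzx, hz⟩⟩
    rw [this]
    exact hqcx x
  · rw [Set.preimage_iUnion]
    simp_rw [hprex]
    ext x
    simp only [Set.mem_iUnion, Set.mem_inter_iff]
    constructor
    · rintro ⟨_, _, hx⟩; exact hx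
    · intro hx; exact ⟨x, hxV x, hx⟩

end Groth.Agent.H11
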