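import Mathlib
import Groth.Agent.Lib.Helper24.RegSmoothAt

/-!
# Regular = smooth for finite type algebras over a perfect field
-/

set_option autoImplicit false

universe u

namespace Groth.Agent.H11.RegSmoothField

open TensorProduct KaehlerDifferential

variable (k : Type u) [Field k] (B : Type u) [CommRing B] [Algebra k B] [Algebra.FiniteType k B]

/-- Residue fields of a finite type algebra are essentially of finite type. -/
theorem essFiniteType_residueField (q : Ideal B) [q.IsPrime] :
    Algebra.EssFiniteType k q.ResidueField := by
  haveI : Algebra.EssFiniteType k B := inferInstance
  haveI : Algebra.EssFiniteType B (Localization.AtPrime q) :=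
    Algebra.EssFiniteType.of_isLocalization _ q.primeCompl
  haveI : Algebra.EssFiniteType (Localization.AtPrime q) q.ResidueField := inferInstance
  haveI : Algebra.EssFiniteType B q.ResidueField :=
    Algebra.EssFiniteType.comp B (Localization.AtPrime q) q.ResidueField
  exact Algebra.EssFiniteType.comp k B q.ResidueField

/-- A finite type algebra over a perfect field is formally smooth iff it is regular. -/
theorem formallySmooth_iff_isRegularRing [PerfectField k] :
    Algebra.FormallySmooth k B ↔ IsRegularRing B := by
  haveI : IsNoetherianRing B := Algebra.FiniteType.isNoetherianRing k B
  haveI : Algebra.FinitePresentation k B :=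
    Algebra.FinitePresentation.of_finiteType.mp inferInstance
  constructor
  · intro h
    haveI : Algebra.Smooth k B := ⟨h, inferInstance⟩
    haveI : IsRegularRing k := inferInstance
    exact Groth.Agent.Helper24.SmoothReg.smooth_regular k B
  · intro h
    rw [← Algebra.smoothLocus_eq_univ_iff, Set.eq_univ_iff_forall]
    intro q
    haveI : IsRegularLocalRing (Localization.AtPrime q.asIdeal) := inferInstance
    haveI := essFiniteType_residueField k B q.asIdeal
    haveI : Algebra.FormallySmooth k q.asIdeal.ResidueField := inferInstance
    exact Groth.Agent.Helper24.RegSmoothAt.smoothAt_of_regular k B q.asIdeal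

end Groth.Agent.H11.RegSmoothField
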