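import Mathlib
import Groth.Agent.Lib.Helper24.RegSmoothAt
import Groth.Agent.H11.RegSmoothField

/-!
# Differentials of a local algebra with trivial residue field extension
-/

set_option autoImplicit false

universe u

namespace Groth.Agent.H11.RegOmega

open TensorProduct KaehlerDifferential IsLocalRing Module

section Cot

variable (k B : Type u) [Field k] [CommRing B] [Algebra k B] [IsLocalRing B]

/-- For a local `k`-algebra with residue field `k`, the conormal map `m/m² → κ ⊗ Ω_{B/k}` is
bijective. -/
theorem kerCotangentToTensor_bijective
    (hres : Function.Bijective (algebraMap k (ResidueField B))) :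
    Function.Bijective (kerCotangentToTensor k B (ResidueField B)) := by
  have hsurj : Function.Surjective (algebraMap B (ResidueField B)) := residue_surjective
  constructor
  · -- a retraction from the section `κ ≃ k → B/m²`
    let e : k ≃ₐ[k] ResidueField B := AlgEquiv.ofBijective (Algebra.ofId k _) hres
    let g : ResidueField B →ₐ[k]
        B ⧸ (RingHom.ker (IsScalarTower.toAlgHom k B (ResidueField B)).toRingHom ^ 2) :=
      (Algebra.ofId k _).comp e.symm.toAlgHom
    have hg : (IsScalarTower.toAlgHom k B (ResidueField B)).kerSquareLift.comp g =
        AlgHom.id k (ResidueField B) := by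
      ext x
      obtain ⟨c, rfl⟩ := e.surjective x
      have h1 : g (e c) = algebraMap k _ c := by
        change (Algebra.ofId k _) (e.symm (e c)) = _
        rw [AlgEquiv.symm_apply_apply]
        rfl
      change (IsScalarTower.toAlgHom k B (ResidueField B)).kerSquareLift (g (e c)) = e c
      rw [h1, AlgHom.commutes]
      rfl
    obtain ⟨l, hl⟩ := (retractionKerCotangentToTensorEquivSection (R := k) hsurj).symm ⟨g, hg⟩
    intro a b hab
    have := congrArg l hab
    rwa [← LinearMap.comp_apply, ← LinearMap.comp_apply, hl] at this
  · intro w
    haveI : Subsingleton (Ω[ResidueField B⁄k]) :=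
      KaehlerDifferential.subsingleton_of_surjective k _ hres.2
    have h0 : KaehlerDifferential.mapBaseChange k B (ResidueField B) w = 0 := Subsingleton.elim _ _
    exact (KaehlerDifferential.exact_kerCotangentToTensor_mapBaseChange k B (ResidueField B)
      hsurj w).1 h0

end Cot

section Finrank

variable (k B : Type u) [Field k] [CommRing B] [Algebra k B] [IsLocalRing B]

theorem finrank_eq_of_bijective (hres : Function.Bijective (algebraMap k (ResidueField B)))
    (V : Type u) [AddCommGroup V] [Module (ResidueField B) V] [Module k V]
    [IsScalarTower k (ResidueField B) V] : finrank k V = finrank (ResidueField B) V := by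
  rw [← Module.finrank_mul_finrank k (ResidueField B) V]
  have : finrank k (ResidueField B) = 1 :=
    (LinearEquiv.ofBijective (Algebra.linearMap k (ResidueField B)) hres).finrank_eq.symm.trans
      (finrank_self k)
  rw [this, one_mul]

omit [IsLocalRing B] in
theorem finrank_cotangent_congr {I J : Ideal B} (h : I = J) :
    finrank k I.Cotangent = finrank k J.Cotangent := by
  subst h; rfl

/-- For a local `k`-algebra with residue field `k`: `dim κ ⊗ Ω_{B/k} = dim m/m²`. -/
theorem finrank_tensor_kaehler (hres : Function.Bijective (algebraMap k (ResidueField B))) :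
    finrank (ResidueField B) (ResidueField B ⊗[B] Ω[B⁄k]) =
      finrank (ResidueField B) (CotangentSpace B) := by
  haveI : IsScalarTower k (ResidueField B) (CotangentSpace B) :=
    IsScalarTower.of_algebraMap_smul fun c v => by
      rw [IsScalarTower.algebraMap_apply k B (ResidueField B), algebraMap_smul, algebraMap_smul]
  rw [← finrank_eq_of_bijective k B hres, ← finrank_eq_of_bijective k B hres]
  have hI : RingHom.ker (algebraMap B (ResidueField B)) = maximalIdeal B := ker_residue
  rw [← finrank_cotangent_congr k B hI]
  let φ := LinearEquiv.ofBijective _ (kerCotangentToTensor_bijective k B hres)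
  exact (φ.restrictScalars k).finrank_eq.symm

end Finrank

section Main

variable (k B : Type u) [Field k] [CommRing B] [Algebra k B] [IsLocalRing B]
  [Algebra.EssFiniteType k B]

/-- If `Ω_{B/k}` is free of rank `dim B`, then `B` is regular. -/
theorem regular_of_free (hres : Function.Bijective (algebraMap k (ResidueField B)))
    (d : ℕ) (hd : ringKrullDim B = (d : WithBot ℕ∞))
    [Module.Free B (Ω[B⁄k])] (hrank : finrank B (Ω[B⁄k]) = d) : IsRegularLocalRing B := by
  haveI : IsNoetherianRing B := Algebra.EssFiniteType.isNoetherianRing k B
  apply IsRegularLocalRing.of_spanFinrank_maximalIdeal_le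
  rw [IsLocalRing.spanFinrank_maximalIdeal_eq_finrank_cotangentSpace, ← finrank_tensor_kaehler k B hres,
    Module.finrank_baseChange, hrank, hd]

/-- If `k` is perfect and `B` is regular, then `B` is formally smooth over `k`. -/
theorem formallySmooth_of_regular [PerfectField k] [IsRegularLocalRing B] :
    Algebra.FormallySmooth k B := by
  let A₀ := Algebra.EssFiniteType.subalgebra k B
  let q : Ideal A₀ := (maximalIdeal B).comap (algebraMap A₀ B)
  haveI : q.IsPrime := Ideal.comap_isPrime _ _
  have hM : Algebra.EssFiniteType.submonoid k B = q.primeCompl := by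
    ext x
    change IsUnit (algebraMap A₀ B x) ↔ x ∉ q
    rw [Ideal.mem_comap, mem_maximalIdeal, mem_nonunits_iff, not_not]
  haveI : IsLocalization q.primeCompl B := hM ▸ Algebra.EssFiniteType.isLocalization k B
  let e : Localization.AtPrime q ≃ₐ[A₀] B := IsLocalization.algEquiv q.primeCompl _ _
  haveI : IsRegularLocalRing (Localization.AtPrime q) :=
    IsRegularLocalRing.of_ringEquiv e.symm.toRingEquiv
  haveI := Groth.Agent.H11.RegSmoothField.essFiniteType_residueField k A₀ q
  haveI : Algebra.FormallySmooth k q.ResidueField := inferInstance
  haveI : Algebra.FormallySmooth k (Localization.AtPrime q) :=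
    Groth.Agent.Helper24.RegSmoothAt.smoothAt_of_regular k A₀ q
  exact Algebra.FormallySmooth.of_equiv (e.restrictScalars k)

/-- If `k` is perfect and `B` is regular, then `Ω_{B/k}` is free of rank `dim B`. -/
theorem free_of_regular [PerfectField k]
    (hres : Function.Bijective (algebraMap k (ResidueField B)))
    (d : ℕ) (hd : ringKrullDim B = (d : WithBot ℕ∞)) [IsRegularLocalRing B] :
    Module.Free B (Ω[B⁄k]) ∧ finrank B (Ω[B⁄k]) = d := by
  haveI : IsNoetherianRing B := Algebra.EssFiniteType.isNoetherianRing k B
  haveI := formallySmooth_of_regular k B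
  haveI : Module.Projective B (Ω[B⁄k]) := inferInstance
  haveI : Module.Finite B (Ω[B⁄k]) := inferInstance
  haveI : Module.Free B (Ω[B⁄k]) := Module.free_of_flat_of_isLocalRing
  refine ⟨inferInstance, ?_⟩
  rw [← Module.finrank_baseChange (R := ResidueField B) (S := B), finrank_tensor_kaehler k B hres,
    ← IsLocalRing.spanFinrank_maximalIdeal_eq_finrank_cotangentSpace]
  have h1 := IsRegularLocalRing.spanFinrank_maximalIdeal (R := B)
  rw [hd] at h1
  exact Groth.Agent.Helper24.RegSmoothAt.natCast_inj' h1

end Main

end Groth.Agent.H11.RegOmega
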