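import Mathlib

/-!
An étale ring map which is radicial (every element has a `p`-th power in the image) with nil
kernel is bijective.
-/

namespace Groth.Agent.H11.RelFrobEtU

open TensorProduct

universe u v w

variable {C : Type v} {B : Type w} [CommRing C] [CommRing B] [Algebra C B]

theorem bijective_of_etale_radicial (p : ℕ) [Fact p.Prime] [CharP B p] [Algebra.Etale C B]
    (hker : ∀ x : C, algebraMap C B x = 0 → IsNilpotent x)
    (hpow : ∀ b : B, ∃ c : C, algebraMap C B c = b ^ p) :
    Function.Bijective (algebraMap C B) := by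
  have hp : p.Prime := Fact.out
  haveI : Algebra.IsIntegral C B := ⟨fun b => by
    obtain ⟨c, hc⟩ := hpow b
    refine ⟨Polynomial.X ^ p - Polynomial.C c, Polynomial.monic_X_pow_sub_C c hp.ne_zero, ?_⟩
    simp [hc]⟩
  haveI : Module.Flat C B := inferInstance
  haveI : Module.FaithfullyFlat C B := by
    refine Module.FaithfullyFlat.of_comap_surjective fun P => ?_
    obtain ⟨Q, -, hQ, hQP⟩ :=
      Ideal.exists_ideal_over_prime_of_isIntegral P.asIdeal (⊥ : Ideal B) (by
        intro x hx
        rw [Ideal.mem_comap, Ideal.mem_bot] at hx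
        obtain ⟨n, hn⟩ := hker x hx
        exact P.isPrime.mem_of_pow_mem n (hn ▸ zero_mem _))
    exact ⟨⟨Q, hQ⟩, PrimeSpectrum.ext hQP⟩
  refine ⟨FaithfulSMul.algebraMap_injective C B, ?_⟩
  haveI : CharP (B ⊗[C] B) p := by
    apply charP_of_injective_ringHom
      (f := (Algebra.TensorProduct.includeLeft : B →ₐ[C] B ⊗[C] B).toRingHom)
    intro x y hxy
    have := congrArg (Algebra.TensorProduct.lmul' C) hxy
    simpa using this
  have hgen : ∀ s : B, ((1 : B) ⊗ₜ[C] s - s ⊗ₜ[C] (1 : B)) ^ p = 0 := by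
    intro s
    rw [sub_pow_char, Algebra.TensorProduct.tmul_pow, Algebra.TensorProduct.tmul_pow, one_pow]
    obtain ⟨c, hc⟩ := hpow s
    rw [← hc, Algebra.algebraMap_eq_smul_one, TensorProduct.tmul_smul, TensorProduct.smul_tmul',
      sub_self]
  obtain ⟨t, ht1, ht2⟩ :=
    (Algebra.FormallyUnramified.iff_exists_tensorProduct (R := C) (S := B)).1 inferInstance
  have hI : ∀ x ∈ KaehlerDifferential.ideal C B, IsNilpotent x ∧ x * t = 0 := by
    intro x hx
    rw [← KaehlerDifferential.span_range_eq_ideal] at hx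
    refine Submodule.span_induction ?_ ?_ ?_ ?_ hx
    · rintro _ ⟨s, rfl⟩
      exact ⟨⟨p, hgen s⟩, ht1 s⟩
    · exact ⟨IsNilpotent.zero, zero_mul _⟩
    · intro x y _ _ hx hy
      exact ⟨Commute.isNilpotent_add (Commute.all _ _) hx.1 hy.1,
        by rw [add_mul, hx.2, hy.2, add_zero]⟩
    · intro a x _ hx
      exact ⟨by rw [smul_eq_mul]; exact (Commute.all _ _).isNilpotent_mul_left hx.1,
        by rw [smul_eq_mul, mul_assoc, hx.2, mul_zero]⟩
  have he : 1 - t ∈ KaehlerDifferential.ideal C B := by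
    rw [RingHom.mem_ker, map_sub, map_one, ht2, sub_self]
  obtain ⟨⟨n, hn⟩, het⟩ := hI _ he
  have hidem : IsIdempotentElem (1 - t) := by
    change (1 - t) * (1 - t) = 1 - t
    rw [mul_sub, mul_one, het, sub_zero]
  have h0 : 1 - t = 0 := by
    rcases n with _ | n
    · rw [pow_zero] at hn
      have : Subsingleton (B ⊗[C] B) := subsingleton_of_zero_eq_one hn.symm
      exact Subsingleton.elim _ _
    · rwa [hidem.pow_succ_eq] at hn
  have ht : t = 1 := (sub_eq_zero.1 h0).symm
  have hdiag : ∀ s : B, (1 : B) ⊗ₜ[C] s = s ⊗ₜ[C] (1 : B) := by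
    intro s
    have := ht1 s
    rwa [ht, mul_one, sub_eq_zero] at this
  have hsurj : Function.Surjective ((Algebra.linearMap C B).lTensor B) := by
    intro z
    induction z using TensorProduct.induction_on with
    | zero => exact ⟨0, map_zero _⟩
    | add x y hx hy =>
      obtain ⟨x', rfl⟩ := hx
      obtain ⟨y', rfl⟩ := hy
      exact ⟨x' + y', map_add _ _ _⟩
    | tmul b b' =>
      refine ⟨(b * b') ⊗ₜ 1, ?_⟩
      rw [LinearMap.lTensor_tmul, Algebra.linearMap_apply, map_one]
      have : b ⊗ₜ[C] b' = (b ⊗ₜ[C] (1 : B)) * ((1 : B) ⊗ₜ[C] b') := by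
        rw [Algebra.TensorProduct.tmul_mul_tmul, mul_one, one_mul]
      rw [this, hdiag b', Algebra.TensorProduct.tmul_mul_tmul, mul_one]
  exact (Module.FaithfullyFlat.lTensor_surjective_iff_surjective C B
    (Algebra.linearMap C B)).1 hsurj

theorem bijective_of_etale_of_etale {R₀ : Type u} {C : Type v} {B : Type w} [CommRing R₀] [CommRing C] [CommRing B]
    [Algebra R₀ C] [Algebra R₀ B] [Algebra.Etale R₀ C] [Algebra.Etale R₀ B] (p : ℕ)
    [Fact p.Prime] [CharP B p] (ρ : C →+* B)
    (hρ : ∀ r, ρ (algebraMap R₀ C r) = algebraMap R₀ B r)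
    (hker : ∀ x, ρ x = 0 → IsNilpotent x) (hpow : ∀ b, ∃ c, ρ c = b ^ p) :
    Function.Bijective ρ := by
  letI : Algebra C B := ρ.toAlgebra
  haveI : IsScalarTower R₀ C B := .of_algebraMap_eq fun r => (hρ r).symm
  haveI : Algebra.Etale C B := Algebra.Etale.of_restrictScalars R₀ C B
  exact bijective_of_etale_radicial p hker hpow

end Groth.Agent.H11.RelFrobEtU
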