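import Mathlib
import Groth.Prelude.Def_FrobAlg
import Groth.Agent.H11.RelFrobEtU

/-!
The relative Frobenius of an étale algebra is bijective (universe polymorphic version).
-/

namespace Groth.Agent.H11.RelFrobMainU

open TensorProduct

universe u v

variable (p : ℕ) [Fact p.Prime] (A : Type u) [CommRing A] [CharP A p]
    (B : Type v) [CommRing B] [Algebra A B] [CharP B p]

theorem relFrob_tmul (b : B) (a : FrobAlg.Twist p A) :
    FrobAlg.relFrob p A B (b ⊗ₜ[A] a) = b ^ p * algebraMap A B ((FrobAlg.toTwist p A).symm a) :=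
  rfl

theorem ker_pow (x : FrobAlg.BaseChange p A B) (hx : FrobAlg.relFrob p A B x = 0) :
    x ^ p = 0 := by
  have hp : p.Prime := Fact.out
  have hp0 : p ≠ 0 := hp.ne_zero
  have hrel := relFrob_tmul p A B
  have hpR : ((p : ℕ) : FrobAlg.BaseChange p A B) = 0 := by
    rw [← map_natCast (algebraMap B (FrobAlg.BaseChange p A B)) p, CharP.cast_eq_zero B p,
      map_zero]
  have hadd : ∀ x y : FrobAlg.BaseChange p A B, (x + y) ^ p = x ^ p + y ^ p := by
    intro x y
    obtain ⟨r, hr⟩ := exists_add_pow_prime_eq hp x y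
    rw [hr, hpR]
    ring
  have hΦ : ∀ x : FrobAlg.BaseChange p A B,
      (FrobAlg.relFrob p A B x) ⊗ₜ[A] (1 : FrobAlg.Twist p A) = x ^ p := by
    intro x
    induction x using TensorProduct.induction_on with
    | zero => rw [map_zero, TensorProduct.zero_tmul, zero_pow hp0]
    | tmul b a =>
      rw [hrel, Algebra.TensorProduct.tmul_pow]
      obtain ⟨a', rfl⟩ := (FrobAlg.toTwist p A).surjective a
      rw [RingEquiv.symm_apply_apply]
      have h1 : b ^ p * algebraMap A B a' = a' • b ^ p := by
        rw [Algebra.smul_def, mul_comm]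
      have h2 : a' • (1 : FrobAlg.Twist p A) = (FrobAlg.toTwist p A a') ^ p := by
        rw [Algebra.smul_def, FrobAlg.algebraMap_twist, mul_one, map_pow]
      rw [h1, TensorProduct.smul_tmul, h2]
    | add x y hx hy => rw [map_add, TensorProduct.add_tmul, hx, hy, hadd]
  rw [← hΦ x, hx, TensorProduct.zero_tmul]

theorem bijective_relFrob [Algebra.Etale A B] : Function.Bijective (FrobAlg.relFrob p A B) := by
  have etC : Algebra.Etale (FrobAlg.Twist p A) (FrobAlg.BaseChange p A B) :=
    Algebra.Etale.of_equiv (Algebra.TensorProduct.commRight A (FrobAlg.Twist p A) B)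
  letI alg1 : Algebra (FrobAlg.Twist p A) A := ((FrobAlg.toTwist p A).symm.toRingHom).toAlgebra
  letI alg2 : Algebra (FrobAlg.Twist p A) B :=
    ((algebraMap A B).comp ((FrobAlg.toTwist p A).symm.toRingHom)).toAlgebra
  haveI : IsScalarTower (FrobAlg.Twist p A) A B := .of_algebraMap_eq' rfl
  haveI : Algebra.Etale (FrobAlg.Twist p A) A :=
    RingHom.Etale.of_bijective (f := (FrobAlg.toTwist p A).symm.toRingHom)
      (FrobAlg.toTwist p A).symm.bijective
  have etA'B : Algebra.Etale (FrobAlg.Twist p A) B := Algebra.Etale.comp (FrobAlg.Twist p A) A B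
  refine @Groth.Agent.H11.RelFrobEtU.bijective_of_etale_of_etale (FrobAlg.Twist p A)
    (FrobAlg.BaseChange p A B) B _ _ _ inferInstance
    alg2 etC etA'B p _ _
    (FrobAlg.relFrob p A B) ?_ ?_ ?_
  · intro a'
    change FrobAlg.relFrob p A B ((1 : B) ⊗ₜ[A] a') =
      algebraMap A B ((FrobAlg.toTwist p A).symm a')
    rw [relFrob_tmul, one_pow, one_mul]
  · intro x hx
    exact ⟨p, ker_pow p A B x hx⟩
  · intro b
    refine ⟨b ⊗ₜ[A] 1, ?_⟩
    rw [relFrob_tmul, map_one, map_one, mul_one]

end Groth.Agent.H11.RelFrobMainU
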