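import Mathlib
import Groth.Prelude.Def_FrobAlg
import Groth.Agent.H11.RelFrobMainU

/-!
Flatness of the relative Frobenius along a tower `A → P → B` with `B/P` having bijective relative
Frobenius.
-/

namespace Groth.Agent.H11.RelFrobTower

open TensorProduct Groth.Agent.H11.RelFrobMainU

universe u v w

variable (p : ℕ) [Fact p.Prime] (A : Type u) [CommRing A] [CharP A p]
  (P : Type w) [CommRing P] [Algebra A P] [CharP P p]
  (B : Type v) [CommRing B] [Algebra A B] [Algebra P B] [IsScalarTower A P B] [CharP B p]

/-- The relative Frobenius of `P/A` as a `P`-algebra map to the twist of `P`. -/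
noncomputable def frobP : (P ⊗[A] FrobAlg.Twist p A) →ₐ[P] FrobAlg.Twist p P where
  toRingHom := ((FrobAlg.toTwist p P : P →+* FrobAlg.Twist p P)).comp (FrobAlg.relFrob p A P)
  commutes' x := by
    change FrobAlg.toTwist p P (FrobAlg.relFrob p A P (x ⊗ₜ 1)) = FrobAlg.toTwist p P (x ^ p)
    rw [relFrob_tmul, map_one, map_one, mul_one]

theorem frobP_tmul (x : P) (a : FrobAlg.Twist p A) :
    frobP p A P (x ⊗ₜ a) =
      FrobAlg.toTwist p P (x ^ p * algebraMap A P ((FrobAlg.toTwist p A).symm a)) := rfl

theorem flat_tower (hP : (FrobAlg.relFrob p A P).Flat)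
    (hB : Function.Bijective (FrobAlg.relFrob p P B)) :
    (FrobAlg.relFrob p A B).Flat := by
  have h1 : (frobP p A P).toRingHom.Flat :=
    RingHom.Flat.comp hP (RingHom.Flat.of_bijective (FrobAlg.toTwist p P).bijective)
  have h2 : (Algebra.TensorProduct.lTensor (S := B) B (frobP p A P)).toRingHom.Flat :=
    RingHom.Flat.lTensor (S := B) B h1
  have h3 : FrobAlg.relFrob p A B =
      ((FrobAlg.relFrob p P B).comp
        (Algebra.TensorProduct.lTensor (S := B) B (frobP p A P)).toRingHom).comp
        (Algebra.TensorProduct.cancelBaseChange A P P B (FrobAlg.Twist p A)).symm.toAlgHom.toRingHom := by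
    refine RingHom.ext fun x => ?_
    induction x using TensorProduct.induction_on with
    | zero => rw [map_zero, map_zero]
    | add x y hx hy => rw [map_add, map_add, hx, hy]
    | tmul b a =>
      change _ = FrobAlg.relFrob p P B (Algebra.TensorProduct.lTensor (S := B) B (frobP p A P)
        ((Algebra.TensorProduct.cancelBaseChange A P P B (FrobAlg.Twist p A)).symm (b ⊗ₜ a)))
      rw [Algebra.TensorProduct.cancelBaseChange_symm_tmul, Algebra.TensorProduct.map_tmul,
        frobP_tmul, relFrob_tmul, relFrob_tmul, RingEquiv.symm_apply_apply, one_pow, one_mul,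
        AlgHom.id_apply, ← IsScalarTower.algebraMap_apply]
  rw [h3]
  exact RingHom.Flat.comp (RingHom.Flat.of_bijective (AlgEquiv.bijective _))
    (RingHom.Flat.comp h2 (RingHom.Flat.of_bijective hB))

end Groth.Agent.H11.RelFrobTower
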