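import Mathlib
import Groth.Prelude.Def_FrobAlg
import Groth.Agent.H11.RelFrobMainU
import Groth.Agent.H11.ExpandFlat
import Groth.Agent.H11.RelFrobTower

/-!
Freeness (with explicit index type of a basis) of the relative Frobenius.
-/

namespace Groth.Agent.H11.RelFrobBasis

open TensorProduct MvPolynomial Groth.Agent.H11.RelFrobMainU Groth.Agent.H11.ExpandFlat
  Groth.Agent.H11.RelFrobTower

/-- The target of the ring hom `f` has a basis indexed by `ι` over the source. -/
def HasBasis {R S : Type*} [CommRing R] [CommRing S] (f : R →+* S) (ι : Type*) : Prop :=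
  letI := f.toAlgebra
  Nonempty (Module.Basis ι R S)

theorem HasBasis.of_bijective_sum {R S ι : Type*} [CommRing R] [CommRing S] (f : R →+* S)
    (v : ι → S)
    (h : Function.Bijective (fun l : ι →₀ R => l.sum (fun i r => f r * v i))) :
    HasBasis f ι := by
  letI := f.toAlgebra
  have hl : ∀ l : ι →₀ R, Finsupp.linearCombination R v l = l.sum (fun i r => f r * v i) := by
    intro l
    rw [Finsupp.linearCombination_apply]
    refine Finsupp.sum_congr fun i _ => ?_
    rw [Algebra.smul_def]
    rfl
  have hb : Function.Bijective (Finsupp.linearCombination R v) := by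
    have : (fun l : ι →₀ R => Finsupp.linearCombination R v l) =
        (fun l : ι →₀ R => l.sum (fun i r => f r * v i)) := funext hl
    change Function.Bijective (fun l : ι →₀ R => Finsupp.linearCombination R v l)
    rw [this]
    exact h
  exact ⟨Module.Basis.ofRepr (LinearEquiv.ofBijective _ hb).symm⟩

theorem HasBasis.comp_right {R₀ R S ι : Type*} [CommRing R₀] [CommRing R] [CommRing S]
    {f : R →+* S} (h : HasBasis f ι) (g : R₀ →+* R) (hg : Function.Bijective g) :
    HasBasis (f.comp g) ι := by
  letI a1 := f.toAlgebra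
  letI a2 := (f.comp g).toAlgebra
  obtain ⟨b⟩ := h
  let e := RingEquiv.ofBijective g hg
  exact ⟨b.mapCoeffs e.symm (fun c x => by
    change f (g (e.symm c)) * x = f c * x
    rw [show g (e.symm c) = c from e.apply_symm_apply c])⟩

theorem HasBasis.comp_left {R S S' ι : Type*} [CommRing R] [CommRing S] [CommRing S']
    {f : R →+* S} (h : HasBasis f ι) (e : S →+* S') (he : Function.Bijective e) :
    HasBasis (e.comp f) ι := by
  letI a1 := f.toAlgebra
  letI a2 := (e.comp f).toAlgebra
  obtain ⟨b⟩ := h
  let e' : S ≃ₗ[R] S' :=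
    { RingEquiv.ofBijective e he with
      map_smul' := fun r x => by
        change e (f r * x) = e (f r) * e x
        exact map_mul _ _ _ }
  exact ⟨b.map e'⟩

attribute [local instance] Algebra.TensorProduct.rightAlgebra in
theorem HasBasis.lTensor {R ι : Type*} [CommRing R] (A : Type*) {B D : Type*} [CommRing A]
    [Algebra R A] [CommRing B] [Algebra R B] [CommRing D] [Algebra R D] {f : B →ₐ[R] D}
    (h : HasBasis f.toRingHom ι) :
    HasBasis (Algebra.TensorProduct.lTensor (S := A) A f).toRingHom ι := by
  algebraize [f.toRingHom, (Algebra.TensorProduct.lTensor (S := A) A f).toRingHom]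
  let e : A ⊗[R] D ≃ₐ[A ⊗[R] B] (A ⊗[R] B) ⊗[B] D :=
    { __ := (Algebra.IsPushout.cancelBaseChangeAlg _ _ _ _ _).symm,
      commutes' x := congr($(Algebra.IsPushout.cancelBaseChange_symm_comp_lTensor R B D A) x) }
  obtain ⟨b⟩ := h
  exact ⟨(Algebra.TensorProduct.basis (A ⊗[R] B) b).map e.symm.toLinearEquiv⟩

section expand

variable {σ : Type*} [Fintype σ] (A : Type*) [CommRing A] (p : ℕ)

theorem expand_hasBasis (hp : 0 < p) :
    HasBasis (expand p : MvPolynomial σ A →ₐ[A] MvPolynomial σ A).toRingHom (σ → Fin p) := by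
  refine HasBasis.of_bijective_sum _ (fun e : σ → Fin p => monomial (expo p e) (1 : A)) ?_
  let Φ : ((σ → Fin p) →₀ MvPolynomial σ A) →ₗ[A] MvPolynomial σ A :=
    Finsupp.lsum A (fun e => (LinearMap.mulRight A (monomial (expo p e) (1 : A))).comp
      (expand p).toLinearMap)
  have hΦ : ∀ l, Φ l = l.sum (fun e r => (expand p : MvPolynomial σ A →ₐ[A] _).toRingHom r *
      monomial (expo p e) 1) := by
    intro l
    rw [Finsupp.lsum_apply]
    rfl
  let b₁ := Finsupp.basis (fun _ : σ → Fin p => basisMonomials σ A)
  let b₂ := basisMonomials σ A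
  let ε : (Σ _ : σ → Fin p, (σ →₀ ℕ)) ≃ (σ →₀ ℕ) :=
    (Equiv.sigmaEquivProd _ _).trans (idx p hp)
  have hΦe : Φ = (b₁.equiv b₂ ε).toLinearMap := by
    refine b₁.ext fun ⟨e, m⟩ => ?_
    rw [LinearEquiv.coe_coe, Module.Basis.equiv_apply, hΦ]
    simp only [b₁, b₂, Finsupp.coe_basis, coe_basisMonomials]
    rw [Finsupp.sum_single_index (by simp)]
    simp [ε, idx, monomial_mul]
  have hbij : Function.Bijective Φ := hΦe ▸ (LinearEquiv.bijective _)
  have : (fun l => Φ l) = fun l : (σ → Fin p) →₀ MvPolynomial σ A =>
      l.sum (fun e r => (expand p : MvPolynomial σ A →ₐ[A] _).toRingHom r *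
      monomial (expo p e) 1) := funext hΦ
  exact this ▸ hbij

end expand

universe u v w

section poly

variable (p : ℕ) [Fact p.Prime] (A : Type u) [CommRing A] [CharP A p] (σ : Type w) [Fintype σ]

theorem relFrob_mvPolynomial_hasBasis :
    HasBasis (FrobAlg.relFrob p A (MvPolynomial σ A)) (σ → Fin p) := by
  have hp : 0 < p := (Fact.out : p.Prime).pos
  let τ : FrobAlg.Twist p A ≃+* A := (FrobAlg.toTwist p A).symm
  let θ : MvPolynomial σ (FrobAlg.Twist p A) →+* (MvPolynomial σ A) ⊗[A] (FrobAlg.Twist p A) :=
    ((Algebra.TensorProduct.comm A (FrobAlg.Twist p A) (MvPolynomial σ A)).toAlgHom.toRingHom).comp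
      ((algebraTensorAlgEquiv (σ := σ) A (FrobAlg.Twist p A)).symm.toAlgHom.toRingHom)
  have hθ : Function.Bijective θ :=
    (Algebra.TensorProduct.comm A (FrobAlg.Twist p A) (MvPolynomial σ A)).bijective.comp
      (algebraTensorAlgEquiv (σ := σ) A (FrobAlg.Twist p A)).symm.bijective
  have hcomp : (FrobAlg.relFrob p A (MvPolynomial σ A)).comp θ =
      ((expand p : MvPolynomial σ A →ₐ[A] MvPolynomial σ A).toRingHom).comp
        (MvPolynomial.map τ.toRingHom) := by
    refine MvPolynomial.ringHom_ext (fun t => ?_) (fun i => ?_)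
    · change FrobAlg.relFrob p A _ (Algebra.TensorProduct.comm A (FrobAlg.Twist p A) _
        ((algebraTensorAlgEquiv A (FrobAlg.Twist p A)).symm (C t))) =
        expand p (map τ.toRingHom (C t))
      rw [← monomial_zero', algebraTensorAlgEquiv_symm_monomial, Algebra.TensorProduct.comm_tmul,
        relFrob_tmul, map_monomial, expand_monomial, smul_zero, monomial_zero',
        map_one, one_pow, one_mul, MvPolynomial.algebraMap_eq]
      rfl
    · change FrobAlg.relFrob p A _ (Algebra.TensorProduct.comm A (FrobAlg.Twist p A) _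
        ((algebraTensorAlgEquiv A (FrobAlg.Twist p A)).symm (X i))) =
        expand p (map τ.toRingHom (X i))
      rw [algebraTensorAlgEquiv_symm_X, Algebra.TensorProduct.comm_tmul,
        relFrob_tmul, map_X, expand_X, map_one, map_one, mul_one]
  let θe := RingEquiv.ofBijective θ hθ
  have h1 : HasBasis ((FrobAlg.relFrob p A (MvPolynomial σ A)).comp θ) (σ → Fin p) := by
    rw [hcomp]
    exact (expand_hasBasis A p hp).comp_right _ (MvPolynomial.mapEquiv σ τ).bijective
  have h2 : FrobAlg.relFrob p A (MvPolynomial σ A) =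
      ((FrobAlg.relFrob p A (MvPolynomial σ A)).comp θ).comp θe.symm.toRingHom := by
    refine RingHom.ext fun x => ?_
    change _ = FrobAlg.relFrob p A (MvPolynomial σ A) (θ (θe.symm x))
    rw [show θ (θe.symm x) = x from θe.apply_symm_apply x]
  rw [h2]
  exact h1.comp_right _ θe.symm.bijective

end poly

section tower

variable (p : ℕ) [Fact p.Prime] (A : Type u) [CommRing A] [CharP A p]
  (P : Type w) [CommRing P] [Algebra A P] [CharP P p]
  (B : Type v) [CommRing B] [Algebra A B] [Algebra P B] [IsScalarTower A P B] [CharP B p]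

theorem hasBasis_tower {ι : Type*} (hP : HasBasis (FrobAlg.relFrob p A P) ι)
    (hB : Function.Bijective (FrobAlg.relFrob p P B)) :
    HasBasis (FrobAlg.relFrob p A B) ι := by
  have h1 : HasBasis (frobP p A P).toRingHom ι :=
    hP.comp_left _ (FrobAlg.toTwist p P).bijective
  have h2 : HasBasis (Algebra.TensorProduct.lTensor (S := B) B (frobP p A P)).toRingHom ι :=
    HasBasis.lTensor B h1
  have h3 : FrobAlg.relFrob p A B =
      ((FrobAlg.relFrob p P B).comp
        (Algebra.TensorProduct.lTensor (S := B) B (frobP p A P)).toRingHom).comp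
        (Algebra.TensorProduct.cancelBaseChange A P P B (FrobAlg.Twist p A)).symm.toAlgHom.toRingHom := by
    refine RingHom.ext fun x => ?_
    induction x using TensorProduct.induction_on with
    | zero => rw [map_zero, map_zero]
    | add x y hx hy => rw [map_add, map_add, hx, hy]
    | tmul b a =>
      change _ = FrobAlg.relFrob p P B (Algebra.TensorProduct.lTensor (S := B) B (frobP p A P)
        ((Algebra.TensorProduct.cancelBaseChange A P P B (FrobAlg.Twist p A)).symm (b ⊗ₜ a)))
      rw [Algebra.TensorProduct.cancelBaseChange_symm_tmul, Algebra.TensorProduct.map_tmul,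
        frobP_tmul, relFrob_tmul, relFrob_tmul, RingEquiv.symm_apply_apply, one_pow, one_mul,
        AlgHom.id_apply, ← IsScalarTower.algebraMap_apply]
  rw [h3]
  exact ((h2.comp_left _ hB).comp_right _ (AlgEquiv.bijective _))

end tower

end Groth.Agent.H11.RelFrobBasis
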