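import Mathlib
import Groth.Prelude.Def_FrobAlg
import Groth.Agent.H11.RelFrobMainU
import Groth.Agent.H11.ExpandFlat

/-!
The relative Frobenius of a polynomial algebra in finitely many variables is flat.
-/

namespace Groth.Agent.H11.RelFrobPoly

open TensorProduct MvPolynomial Groth.Agent.H11.RelFrobMainU

universe u w

variable (p : ℕ) [Fact p.Prime] (A : Type u) [CommRing A] [CharP A p] (σ : Type w) [Fintype σ]

theorem flat_relFrob_mvPolynomial : (FrobAlg.relFrob p A (MvPolynomial σ A)).Flat := by
  have hp : 0 < p := (Fact.out : p.Prime).pos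
  let τ : FrobAlg.Twist p A ≃+* A := (FrobAlg.toTwist p A).symm
  let θ : MvPolynomial σ (FrobAlg.Twist p A) →+* (MvPolynomial σ A) ⊗[A] (FrobAlg.Twist p A) :=
    ((Algebra.TensorProduct.comm A (FrobAlg.Twist p A) (MvPolynomial σ A)).toAlgHom.toRingHom).comp
      ((algebraTensorAlgEquiv (σ := σ) A (FrobAlg.Twist p A)).symm.toAlgHom.toRingHom)
  have hθ : Function.Bijective θ :=
    (Algebra.TensorProduct.comm A (FrobAlg.Twist p A) (MvPolynomial σ A)).bijective.comp
      (algebraTensorAlgEquiv (σ := σ) A (FrobAlg.Twist p A)).symm.bijective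
  have hcomp : (FrobAlg.relFrob p A (MvPolynomial σ A)).comp θ =
      ((expand p : MvPolynomial σ A →ₐ[A] MvPolynomial σ A).toRingHom).comp
        (MvPolynomial.map τ.toRingHom) := by
    refine MvPolynomial.ringHom_ext (fun t => ?_) (fun i => ?_)
    · change FrobAlg.relFrob p A _ (Algebra.TensorProduct.comm A (FrobAlg.Twist p A) _
        ((algebraTensorAlgEquiv A (FrobAlg.Twist p A)).symm (C t))) =
        expand p (map τ.toRingHom (C t))
      rw [← monomial_zero', algebraTensorAlgEquiv_symm_monomial, Algebra.TensorProduct.comm_tmul,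
        relFrob_tmul, map_monomial, expand_monomial, smul_zero, monomial_zero',
        map_one, one_pow, one_mul, MvPolynomial.algebraMap_eq]
      rfl
    · change FrobAlg.relFrob p A _ (Algebra.TensorProduct.comm A (FrobAlg.Twist p A) _
        ((algebraTensorAlgEquiv A (FrobAlg.Twist p A)).symm (X i))) =
        expand p (map τ.toRingHom (X i))
      rw [algebraTensorAlgEquiv_symm_X, Algebra.TensorProduct.comm_tmul,
        relFrob_tmul, map_X, expand_X, map_one, map_one, mul_one]
  rw [← RingHom.Flat.comp_iff_of_bijective_right hθ, hcomp]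
  exact RingHom.Flat.comp (RingHom.Flat.of_bijective (MvPolynomial.mapEquiv σ τ).bijective)
    (ExpandFlat.expand_flat A p hp)

end Groth.Agent.H11.RelFrobPoly
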