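import Mathlib
import Groth.Prelude.Def_FrobAlg
import Groth.Agent.H11.RelFrobBasis

/-!
Rank of the relative Frobenius computed on a principal localization.
-/

namespace Groth.Agent.H11.RelFrobRank

open TensorProduct Groth.Agent.H11.RelFrobMainU Groth.Agent.H11.RelFrobBasis

universe u v

attribute [local instance] Algebra.TensorProduct.rightAlgebra in
theorem rank_of_local (p : ℕ) [Fact p.Prime] (A : Type u) [CommRing A] [CharP A p]
    (B : Type v) [CommRing B] [Algebra A B] [CharP B p]
    (f : B) (Bf : Type v) [CommRing Bf] [Algebra B Bf] [IsLocalization.Away f Bf] [Algebra A Bf]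
    [IsScalarTower A B Bf] [CharP Bf p]
    (hflat : (FrobAlg.relFrob p A B).Flat) (hfin : (FrobAlg.relFrob p A B).Finite)
    (ι : Type*) [Fintype ι] (hb : HasBasis (FrobAlg.relFrob p A Bf) ι)
    (q : PrimeSpectrum (FrobAlg.BaseChange p A B))
    (hq : (f ⊗ₜ[A] (1 : FrobAlg.Twist p A) : FrobAlg.BaseChange p A B) ∉ q.asIdeal) :
    letI := (FrobAlg.relFrob p A B).toAlgebra
    Module.rankAtStalk (R := FrobAlg.BaseChange p A B) B q = Fintype.card ι := by
  have hp : p.Prime := Fact.out
  letI algB : Algebra (FrobAlg.BaseChange p A B) B := (FrobAlg.relFrob p A B).toAlgebra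
  haveI : Module.Flat (FrobAlg.BaseChange p A B) B := hflat
  haveI : Module.Finite (FrobAlg.BaseChange p A B) B := hfin
  letI algS : Algebra (FrobAlg.BaseChange p A Bf) Bf := (FrobAlg.relFrob p A Bf).toAlgebra
  let φ : FrobAlg.BaseChange p A B →ₐ[A] FrobAlg.BaseChange p A Bf :=
    Algebra.TensorProduct.map (IsScalarTower.toAlgHom A B Bf) (AlgHom.id A (FrobAlg.Twist p A))
  letI algB'S : Algebra (FrobAlg.BaseChange p A B) (FrobAlg.BaseChange p A Bf) :=
    φ.toRingHom.toAlgebra
  letI algB'Bf : Algebra (FrobAlg.BaseChange p A B) Bf :=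
    ((algebraMap B Bf).comp (FrobAlg.relFrob p A B)).toAlgebra
  haveI st1 : IsScalarTower (FrobAlg.BaseChange p A B) B Bf := .of_algebraMap_eq' rfl
  have hcomp : (algebraMap B Bf).comp (FrobAlg.relFrob p A B) =
      (FrobAlg.relFrob p A Bf).comp φ.toRingHom := by
    refine RingHom.ext fun x => ?_
    induction x using TensorProduct.induction_on with
    | zero => rw [map_zero, map_zero]
    | add x y hx hy => rw [map_add, map_add, hx, hy]
    | tmul b a =>
      change algebraMap B Bf (FrobAlg.relFrob p A B (b ⊗ₜ a)) =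
        FrobAlg.relFrob p A Bf (Algebra.TensorProduct.map (IsScalarTower.toAlgHom A B Bf)
            (AlgHom.id A (FrobAlg.Twist p A)) (b ⊗ₜ a))
      rw [Algebra.TensorProduct.map_tmul, relFrob_tmul, relFrob_tmul, map_mul, map_pow,
        ← IsScalarTower.algebraMap_apply]
      rfl
  haveI st2 : @IsScalarTower (FrobAlg.BaseChange p A B) (FrobAlg.BaseChange p A Bf) Bf
      algB'S.toSMul algS.toSMul algB'Bf.toSMul :=
    .of_algebraMap_eq' hcomp
  -- `Sf` is the localization of `B'` at `f ⊗ 1`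
  haveI st3 : @IsScalarTower B (FrobAlg.BaseChange p A B) (FrobAlg.BaseChange p A Bf)
      Algebra.toSMul algB'S.toSMul Algebra.toSMul :=
    .of_algebraMap_eq' (by
      refine RingHom.ext fun b => ?_
      change _ = φ (b ⊗ₜ 1)
      rfl)
  have hpush : Algebra.IsPushout B Bf (FrobAlg.BaseChange p A B) (FrobAlg.BaseChange p A Bf) :=
    Algebra.IsPushout.tensorProduct_tensorProduct A (FrobAlg.Twist p A) B Bf (by
      refine RingHom.ext fun t => ?_
      change φ (1 ⊗ₜ t) = 1 ⊗ₜ t
      rw [Algebra.TensorProduct.map_tmul, map_one, AlgHom.id_apply])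
  haveI hpush' : Algebra.IsPushout B (FrobAlg.BaseChange p A B) Bf (FrobAlg.BaseChange p A Bf) :=
    hpush.symm
  haveI locS : IsLocalization.Away (f ⊗ₜ[A] (1 : FrobAlg.Twist p A) : FrobAlg.BaseChange p A B)
      (FrobAlg.BaseChange p A Bf) := by
    have h1 : IsLocalization (Algebra.algebraMapSubmonoid (FrobAlg.BaseChange p A B)
        (Submonoid.powers f)) (FrobAlg.BaseChange p A Bf) :=
      (Algebra.isLocalization_iff_isPushout (Submonoid.powers f) Bf).2 hpush'
    rw [Algebra.algebraMapSubmonoid_powers] at h1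
    exact h1
  -- `Bf` is the localization of `B` at `f ^ p`
  haveI locB : IsLocalization.Away (f ^ p) Bf :=
    (IsLocalization.iff_of_le_of_exists_dvd (M := Submonoid.powers (f ^ p)) (Submonoid.powers f)
      (Submonoid.powers_le.2 ⟨p, rfl⟩) (by
        rintro _ ⟨k, rfl⟩
        refine ⟨(f ^ p) ^ k, ⟨k, rfl⟩, ?_⟩
        rw [← pow_mul]
        exact pow_dvd_pow f (Nat.le_mul_of_pos_left k hp.pos))).2 inferInstance
  have hfp : algebraMap (FrobAlg.BaseChange p A B) B (f ⊗ₜ[A] (1 : FrobAlg.Twist p A)) = f ^ p := by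
    change FrobAlg.relFrob p A B (f ⊗ₜ 1) = _
    rw [relFrob_tmul, map_one, map_one, mul_one]
  haveI locM : IsLocalizedModule
      (Submonoid.powers (algebraMap (FrobAlg.BaseChange p A B) B (f ⊗ₜ[A] (1 : FrobAlg.Twist p A))))
      (Algebra.linearMap B Bf) := by
    rw [hfp]
    infer_instance
  let g : B →ₗ[FrobAlg.BaseChange p A B] Bf :=
    (Algebra.linearMap B Bf).restrictScalars (FrobAlg.BaseChange p A B)
  haveI locM' : IsLocalizedModule
      (Submonoid.powers (f ⊗ₜ[A] (1 : FrobAlg.Twist p A) : FrobAlg.BaseChange p A B)) g :=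
    IsLocalizedModule.restrictScalars_powers _ (Algebra.linearMap B Bf)
  have hbc : IsBaseChange (FrobAlg.BaseChange p A Bf) g :=
    IsLocalizedModule.isBaseChange
      (Submonoid.powers (f ⊗ₜ[A] (1 : FrobAlg.Twist p A) : FrobAlg.BaseChange p A B))
      (FrobAlg.BaseChange p A Bf) g
  obtain ⟨q₁, rfl⟩ : q ∈ Set.range (PrimeSpectrum.comap
      (algebraMap (FrobAlg.BaseChange p A B) (FrobAlg.BaseChange p A Bf))) := by
    rw [PrimeSpectrum.localization_away_comap_range (FrobAlg.BaseChange p A Bf)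
      (f ⊗ₜ[A] (1 : FrobAlg.Twist p A) : FrobAlg.BaseChange p A B)]
    exact hq
  rw [← Module.rankAtStalk_isBaseChange hbc q₁]
  obtain ⟨b⟩ := hb
  haveI : Module.Free (FrobAlg.BaseChange p A Bf) Bf := Module.Free.of_basis b
  haveI : Nontrivial (FrobAlg.BaseChange p A Bf) := q₁.nontrivial
  rw [Module.rankAtStalk_eq_finrank_of_free]
  exact Module.finrank_eq_card_basis b

end Groth.Agent.H11.RelFrobRank
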