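import Mathlib

/-! Projective resolutions with prescribed covers (helper11). -/

namespace Groth.Agent.H11

open CategoryTheory Limits

universe v w

variable {C : Type w} [Category.{v} C] [Abelian C]

/-- A chosen projective cover of an object. -/
structure Cover (K : C) where
  Q : C
  q : Q ⟶ K
  proj : Projective Q
  epi : Epi q

variable (cov : ∀ K : C, Cover K)

/-- the differential obtained from covering the kernel -/
noncomputable def dcov {X Y : C} (f : X ⟶ Y) : (cov (kernel f)).Q ⟶ X :=
  (cov (kernel f)).q ≫ kernel.ι f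

@[reassoc (attr := simp)]
lemma dcov_comp {X Y : C} (f : X ⟶ Y) : dcov cov f ≫ f = 0 := by simp [dcov]

theorem exact_dcov {X Y : C} (f : X ⟶ Y) :
    (ShortComplex.mk (dcov cov f) f (dcov_comp cov f)).Exact := by
  haveI := (cov (kernel f)).epi
  let α : ShortComplex.mk (dcov cov f) f (dcov_comp cov f) ⟶
      ShortComplex.mk (kernel.ι f) f (by simp) :=
    { τ₁ := (cov (kernel f)).q
      τ₂ := 𝟙 _
      τ₃ := 𝟙 _
      comm₁₂ := by simp [dcov]
      comm₂₃ := by simp }
  have h1 : Epi α.τ₁ := (cov (kernel f)).epi
  have h2 : IsIso α.τ₂ := by dsimp [α]; infer_instance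
  have h3 : Mono α.τ₃ := by dsimp [α]; infer_instance
  rw [ShortComplex.exact_iff_of_epi_of_isIso_of_mono α]
  apply ShortComplex.exact_of_f_is_kernel
  apply kernelIsKernel

/-- Starting data of a resolution: the first two terms. -/
structure Start (Z : C) where
  P₀ : C
  P₁ : C
  p : P₀ ⟶ Z
  d₀ : P₁ ⟶ P₀
  w : d₀ ≫ p = 0
  exact : (ShortComplex.mk d₀ p w).Exact
  epi : Epi p
  proj₀ : Projective P₀
  proj₁ : Projective P₁

variable {Z : C} (s : Start Z)

/-- the complex of the resolution -/
noncomputable def resComplex : ChainComplex C ℕ :=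
  ChainComplex.mk' s.P₀ s.P₁ s.d₀ (fun f => ⟨_, dcov cov f, dcov_comp cov f⟩)

lemma resComplex_X_0 : (resComplex cov s).X 0 = s.P₀ := rfl

lemma resComplex_X_1 : (resComplex cov s).X 1 = s.P₁ := rfl

lemma resComplex_d_1_0 : (resComplex cov s).d 1 0 = s.d₀ := by
  simp [resComplex]

set_option backward.isDefEq.respectTransparency.types false in
lemma resComplex_exactAt_succ (n : ℕ) : (resComplex cov s).ExactAt (n + 1) := by
  rw [HomologicalComplex.exactAt_iff' _ (n + 1 + 1) (n + 1) n (by simp) (by simp)]
  simp only [HomologicalComplex.sc', HomologicalComplex.shortComplexFunctor', resComplex,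
    ChainComplex.mk', ChainComplex.mk, ChainComplex.of_d]
  match n with
  | 0 => apply exact_dcov
  | n + 1 => apply exact_dcov

set_option backward.isDefEq.respectTransparency.types false in
theorem resComplex_projective (n : ℕ) : Projective ((resComplex cov s).X n) := by
  obtain (_ | _ | _ | n) := n
  · exact s.proj₀
  · exact s.proj₁
  · exact (cov _).proj
  · exact (cov _).proj

/-- the iso given by the construction -/
noncomputable def resXIso (n : ℕ) :
    (resComplex cov s).X (n + 2) ≅ (cov (kernel ((resComplex cov s).d (n + 1) n))).Q :=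
  ChainComplex.mk'XIso s.P₀ s.P₁ s.d₀ (fun f => ⟨_, dcov cov f, dcov_comp cov f⟩) n

set_option backward.defeqAttrib.useBackward true in
set_option backward.isDefEq.respectTransparency false in
/-- the resolution -/
noncomputable def res : ProjectiveResolution Z where
  complex := resComplex cov s
  projective := resComplex_projective cov s
  π := (ChainComplex.toSingle₀Equiv _ _).symm ⟨s.p, by
          rw [resComplex_d_1_0]; exact s.w⟩
  quasiIso := ⟨fun n => by
    cases n
    · rw [ChainComplex.quasiIsoAt₀_iff, ShortComplex.quasiIso_iff_of_zeros']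
      · dsimp
        refine (ShortComplex.exact_and_epi_g_iff_of_iso ?_).2
          ⟨s.exact, by dsimp; exact s.epi⟩
        exact ShortComplex.isoMk (Iso.refl _) (Iso.refl _) (Iso.refl _)
          (by simp [resComplex]) (by simp)
      all_goals rfl
    · rw [quasiIsoAt_iff_exactAt']
      · apply resComplex_exactAt_succ
      · apply ChainComplex.exactAt_succ_single_obj⟩

lemma res_complex : (res cov s).complex = resComplex cov s := rfl

/-- A start from two covers. -/
noncomputable def Start.ofCovers (c : Cover Z) (c₁ : Cover (kernel c.q)) : Start Z where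
  P₀ := c.Q
  P₁ := c₁.Q
  p := c.q
  d₀ := c₁.q ≫ kernel.ι c.q
  w := by simp
  exact := by
    haveI := c₁.epi
    let α : ShortComplex.mk (c₁.q ≫ kernel.ι c.q) c.q (by simp) ⟶
        ShortComplex.mk (kernel.ι c.q) c.q (by simp) :=
      { τ₁ := c₁.q
        τ₂ := 𝟙 _
        τ₃ := 𝟙 _
        comm₁₂ := by simp
        comm₂₃ := by simp }
    have h1 : Epi α.τ₁ := c₁.epi
    have h2 : IsIso α.τ₂ := by dsimp [α]; infer_instance
    have h3 : Mono α.τ₃ := by dsimp [α]; infer_instance
    rw [ShortComplex.exact_iff_of_epi_of_isIso_of_mono α]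
    apply ShortComplex.exact_of_f_is_kernel
    apply kernelIsKernel
  epi := c.epi
  proj₀ := c.proj
  proj₁ := c₁.proj

end Groth.Agent.H11
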