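import Mathlib

/-! Splitting algebras of monic polynomials and finite flat covers dominating standard étale
algebras (helper11). -/

set_option autoImplicit false
universe u

namespace Groth.Agent.H11.SplitAlg

open Polynomial

/-- A finite flat finitely presented algebra over which a monic polynomial splits. -/
theorem exists_splitting (n : ℕ) : ∀ (R : Type u) [CommRing R] (f : R[X]), f.Monic →
    f.natDegree = n →
    ∃ (S' : Type u) (_ : CommRing S') (_ : Algebra R S'), Module.Flat R S' ∧ Module.Finite R S' ∧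
      Algebra.FinitePresentation R S' ∧ Function.Injective (algebraMap R S') ∧
      ∃ m : Multiset S', f.map (algebraMap R S') = (m.map (fun a => X - C a)).prod := by
  induction n with
  | zero =>
    intro R _ f hf hn
    refine ⟨R, inferInstance, inferInstance, inferInstance, inferInstance, inferInstance,
      Function.injective_id, 0, ?_⟩
    rw [eq_one_of_monic_natDegree_zero hf hn]; simp
  | succ n ih =>
    intro R _ f hf hn
    have hf0 : f ≠ 0 := by
      intro h; rw [h, natDegree_zero] at hn; omega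
    haveI : Nontrivial R := by
      by_contra hnt
      rw [not_nontrivial_iff_subsingleton] at hnt
      exact hf0 (Subsingleton.elim _ _)
    haveI : Module.Free R (AdjoinRoot f) := hf.free_adjoinRoot
    haveI : Module.Finite R (AdjoinRoot f) := hf.finite_adjoinRoot
    have hinj₁ : Function.Injective (algebraMap R (AdjoinRoot f)) := by
      rw [injective_iff_map_eq_zero]
      intro r hr
      rw [AdjoinRoot.algebraMap_eq, ← AdjoinRoot.mk_C, AdjoinRoot.mk_eq_zero] at hr
      by_contra hr0
      refine hf.not_dvd_of_degree_lt (by simpa using hr0) ?_ hr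
      rw [degree_C hr0, degree_eq_natDegree hf0, hn]
      exact_mod_cast Nat.succ_pos n
    haveI : Nontrivial (AdjoinRoot f) := hinj₁.nontrivial
    set a₁ : AdjoinRoot f := AdjoinRoot.root f with ha₁
    set f₁ : (AdjoinRoot f)[X] := (f.map (AdjoinRoot.of f)) /ₘ (X - C a₁) with hf₁
    have hroot : (f.map (AdjoinRoot.of f)).IsRoot a₁ := by
      rw [IsRoot, eval_map, AdjoinRoot.eval₂_root]
    have hfac : (X - C a₁) * f₁ = f.map (AdjoinRoot.of f) := mul_divByMonic_eq_iff_isRoot.2 hroot
    have hf₁m : f₁.Monic := (monic_X_sub_C a₁).of_mul_monic_left (by rw [hfac]; exact hf.map _)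
    have hdeg : f₁.natDegree = n := by
      have h1 := congrArg natDegree hfac
      rw [(monic_X_sub_C a₁).natDegree_mul hf₁m, natDegree_X_sub_C, hf.natDegree_map, hn] at h1
      omega
    obtain ⟨S', _, _, hflat, hfin, hfp, hinj, m, hm⟩ := ih (AdjoinRoot f) f₁ hf₁m hdeg
    letI : Algebra R S' := ((algebraMap (AdjoinRoot f) S').comp
      (algebraMap R (AdjoinRoot f))).toAlgebra
    haveI : IsScalarTower R (AdjoinRoot f) S' := IsScalarTower.of_algebraMap_eq (fun _ => rfl)
    refine ⟨S', inferInstance, inferInstance, Module.Flat.trans R (AdjoinRoot f) S',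
      Module.Finite.trans (AdjoinRoot f) S', Algebra.FinitePresentation.trans R (AdjoinRoot f) S',
      hinj.comp hinj₁, algebraMap (AdjoinRoot f) S' a₁ ::ₘ m, ?_⟩
    rw [Multiset.map_cons, Multiset.prod_cons, ← hm,
      IsScalarTower.algebraMap_eq R (AdjoinRoot f) S', ← Polynomial.map_map,
      AdjoinRoot.algebraMap_eq, ← hfac, Polynomial.map_mul, Polynomial.map_sub, map_X, map_C]

lemma resultant_prod_X_sub_C {T : Type*} [CommRing T] [Nontrivial T] (m : Multiset T) (s : T[X])
    (n : ℕ) (hn : s.natDegree ≤ n) :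
    resultant ((m.map (fun a => X - C a)).prod) s (Multiset.card m) n =
      (m.map (fun a => s.eval a)).prod := by
  induction m using Multiset.induction_on with
  | empty => simp
  | cons a m ih =>
    rw [Multiset.map_cons, Multiset.prod_cons, Multiset.card_cons, Multiset.map_cons,
      Multiset.prod_cons]
    have h1 : (X - C a).natDegree = 1 := natDegree_X_sub_C a
    have h2 : ((m.map (fun a => X - C a)).prod).natDegree = Multiset.card m :=
      natDegree_multiset_prod_X_sub_C_eq_card m
    have := resultant_mul_left (X - C a) ((m.map (fun a => X - C a)).prod) s n hn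
    rw [h1, h2] at this
    rw [add_comm, this, resultant_X_sub_C_left _ _ _ hn, ih]

section root

variable {R : Type u} [CommRing R] (f : R[X]) {S' : Type u} [CommRing S'] [Algebra R S']

/-- the evaluation map at a root -/
noncomputable def psi (a : S') (ha : eval₂ (algebraMap R S') a f = 0) : AdjoinRoot f →ₐ[R] S' :=
  AdjoinRoot.liftAlgHom f (Algebra.ofId R S') a ha

lemma psi_mk (a : S') (ha : eval₂ (algebraMap R S') a f = 0) (s : R[X]) :
    psi f a ha (AdjoinRoot.mk f s) = eval₂ (algebraMap R S') a s :=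
  AdjoinRoot.liftAlgHom_mk f (Algebra.ofId R S') a ha s

variable (m : Multiset S') (hm : f.map (algebraMap R S') = (m.map (fun a => X - C a)).prod)

include hm in
lemma eval₂_eq_zero_of_mem {a : S'} (ha : a ∈ m) : eval₂ (algebraMap R S') a f = 0 := by
  rw [← eval_map, hm]
  obtain ⟨m', rfl⟩ := Multiset.exists_cons_of_mem ha
  simp

include hm in
theorem exists_root_comap_eq (hf : f.Monic) (q₁ : Ideal (AdjoinRoot f)) [q₁.IsPrime]
    (q' : Ideal S') [q'.IsPrime] (hpq : q'.under R = q₁.under R) :
    ∃ (a : S') (ha : eval₂ (algebraMap R S') a f = 0), a ∈ m ∧ q'.comap (psi f a ha) = q₁ := by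
  classical
  by_contra hcon
  push Not at hcon
  haveI : Module.Finite R (AdjoinRoot f) := hf.finite_adjoinRoot
  have hroot := fun a (ha : a ∈ m) => eval₂_eq_zero_of_mem f m hm ha
  have hunder : ∀ a (ha : eval₂ (algebraMap R S') a f = 0),
      (q'.comap (psi f a ha)).under R = q'.under R := by
    intro a ha
    ext r
    simp only [Ideal.under, Ideal.mem_comap, AlgHom.commutes]
  have hnle : ∀ a (ha : a ∈ m), ¬ q₁ ≤ q'.comap (psi f a (hroot a ha)) := by
    intro a ha hle
    apply hcon a (hroot a ha) ha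
    symm
    apply Algebra.QuasiFinite.eq_of_le_of_under_eq (R := R) q₁ _ hle
    rw [hunder, hpq]
  let F : S' → Ideal (AdjoinRoot f) := fun a =>
    if h : a ∈ m then q'.comap (psi f a (hroot a h)) else ⊤
  have hav : ¬ ((q₁ : Set (AdjoinRoot f)) ⊆ ⋃ i ∈ ((m.toFinset : Finset S') : Set S'), F i) := by
    rw [Ideal.subset_union_prime (s := m.toFinset) (f := F) 0 0]
    · rintro ⟨a, ha, hle⟩
      have ha' : a ∈ m := Multiset.mem_toFinset.1 ha
      apply hnle a ha'
      simpa [F, ha'] using hle
    · intro a ha _ _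
      have ha' : a ∈ m := Multiset.mem_toFinset.1 ha
      simp only [F, ha', dite_true]
      exact Ideal.comap_isPrime _ _
  obtain ⟨t, htq, htn⟩ := Set.not_subset.1 hav
  have htn' : ∀ a (ha : a ∈ m), psi f a (hroot a ha) t ∉ q' := by
    intro a ha hmem
    apply htn
    simp only [Set.mem_iUnion]
    refine ⟨a, Multiset.mem_toFinset.2 ha, ?_⟩
    simp only [F, ha, dite_true]
    exact hmem
  obtain ⟨s, rfl⟩ := AdjoinRoot.mk_surjective t
  haveI hnt : Nontrivial S' := by
    by_contra hnt
    rw [not_nontrivial_iff_subsingleton] at hnt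
    exact (inferInstance : q'.IsPrime).ne_top (Subsingleton.elim _ _)
  have hdeg : f.natDegree ≠ 0 := by
    intro h0
    have h1 : f = 1 := eq_one_of_monic_natDegree_zero hf h0
    apply (inferInstance : q₁.IsPrime).ne_top
    rw [Ideal.eq_top_iff_one]
    have : (1 : AdjoinRoot f) = 0 := by
      rw [← map_one (AdjoinRoot.mk f), AdjoinRoot.mk_eq_zero, h1]
    rw [this]; exact q₁.zero_mem
  obtain ⟨u, v, -, -, huv⟩ := exists_mul_add_mul_eq_C_resultant f s le_rfl le_rfl (Or.inl hdeg)
  set N := resultant f s with hN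
  have hN1 : algebraMap R (AdjoinRoot f) N ∈ q₁ := by
    have := congrArg (AdjoinRoot.mk f) huv
    rw [map_add, map_mul, map_mul, AdjoinRoot.mk_self, zero_mul, zero_add, AdjoinRoot.mk_C] at this
    rw [AdjoinRoot.algebraMap_eq, ← this]; exact Ideal.mul_mem_right _ _ htq
  have hN2 : algebraMap R S' N ∈ q' := by
    have : N ∈ q₁.under R := hN1
    rw [← hpq] at this; exact this
  have hcard : f.natDegree = Multiset.card m := by
    rw [← natDegree_multiset_prod_X_sub_C_eq_card m, ← hm, hf.natDegree_map]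
  have hN3 : algebraMap R S' N = (m.map (fun a => (s.map (algebraMap R S')).eval a)).prod := by
    rw [← resultant_prod_X_sub_C m _ s.natDegree natDegree_map_le, ← hm, ← hcard,
      resultant_map_map]
  rw [hN3, (inferInstance : q'.IsPrime).multiset_prod_mem_iff_exists_mem] at hN2
  obtain ⟨y, hy, hyq⟩ := hN2
  obtain ⟨a, ha, rfl⟩ := Multiset.mem_map.1 hy
  apply htn' a ha
  rwa [psi_mk, ← eval_map]

end root


theorem exists_finite_flat_cover (R S : Type u) [CommRing R] [CommRing S] [Algebra R S]
    [Algebra.IsStandardEtale R S] :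
    ∃ (S' : Type u) (_ : CommRing S') (_ : Algebra R S'),
      Module.Finite R S' ∧ Algebra.FinitePresentation R S' ∧ Module.Flat R S' ∧
        Function.Surjective (PrimeSpectrum.comap (algebraMap R S')) ∧
        ∀ (q : Ideal S) [q.IsPrime] (q' : Ideal S') [q'.IsPrime], q'.under R = q.under R →
          ∃ (g' : S') (_ : g' ∉ q') (φ : S →ₐ[R] Localization.Away g'),
            (q'.map (algebraMap S' (Localization.Away g'))).comap φ = q := by
  obtain ⟨𝓟⟩ := Algebra.IsStandardEtale.nonempty_standardEtalePresentation (R := R) (S := S)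
  obtain ⟨f, hf⟩ : ∃ f, f = 𝓟.P.f := ⟨_, rfl⟩
  obtain ⟨g, hg⟩ : ∃ g, g = 𝓟.P.g := ⟨_, rfl⟩
  have hfm : f.Monic := hf ▸ 𝓟.P.monic_f
  let e : S ≃ₐ[R] Localization.Away (AdjoinRoot.mk 𝓟.P.f 𝓟.P.g) :=
    𝓟.equivRing.trans 𝓟.P.equivAwayAdjoinRoot
  subst hf hg
  set γ : AdjoinRoot 𝓟.P.f := AdjoinRoot.mk 𝓟.P.f 𝓟.P.g with hγ
  obtain ⟨S', _, _, hflat, hfin, hfp, hinj, m, hm⟩ :=
    exists_splitting 𝓟.P.f.natDegree R 𝓟.P.f hfm rfl
  refine ⟨S', inferInstance, inferInstance, hfin, hfp, hflat,
    (PrimeSpectrum.comap_surjective_iff_injective_of_finite).2 hinj, ?_⟩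
  intro q _ q' _ hqq'
  let ι : AdjoinRoot 𝓟.P.f →ₐ[R] S :=
    e.symm.toAlgHom.comp (IsScalarTower.toAlgHom R (AdjoinRoot 𝓟.P.f) (Localization.Away γ))
  obtain ⟨q₁, hq₁⟩ : ∃ q₁ : Ideal (AdjoinRoot 𝓟.P.f), q₁ = q.comap ι := ⟨_, rfl⟩
  haveI : q₁.IsPrime := hq₁ ▸ Ideal.comap_isPrime _ _
  have hq₁u : q₁.under R = q.under R := by
    rw [hq₁]
    ext r
    simp only [Ideal.under, Ideal.mem_comap, AlgHom.commutes]
  obtain ⟨a, ha, -, hcomap⟩ := exists_root_comap_eq 𝓟.P.f m hm hfm q₁ q' (hqq'.trans hq₁u.symm)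
  have hγu : IsUnit (ι γ) := by
    have h1 : IsUnit (algebraMap (AdjoinRoot 𝓟.P.f) (Localization.Away γ) γ) :=
      IsLocalization.Away.algebraMap_isUnit γ
    exact h1.map e.symm
  have hg' : psi 𝓟.P.f a ha γ ∉ q' := by
    intro hmem
    have h1 : γ ∈ q₁ := by rw [← hcomap]; exact hmem
    rw [hq₁] at h1
    exact (inferInstance : q.IsPrime).ne_top (Ideal.eq_top_of_isUnit_mem _ h1 hγu)
  set g' : S' := psi 𝓟.P.f a ha γ with hg'def
  let ψ₂ : AdjoinRoot 𝓟.P.f →ₐ[R] Localization.Away g' :=
    (IsScalarTower.toAlgHom R S' (Localization.Away g')).comp (psi 𝓟.P.f a ha)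
  have hunit : IsUnit (ψ₂ γ) := IsLocalization.Away.algebraMap_isUnit g'
  let φloc : Localization.Away γ →ₐ[R] Localization.Away g' :=
    IsLocalization.Away.liftAlgHom (S := Localization.Away γ) γ (f := ψ₂) hunit
  have hφloc : ∀ x : AdjoinRoot 𝓟.P.f,
      φloc (algebraMap (AdjoinRoot 𝓟.P.f) (Localization.Away γ) x) = ψ₂ x := by
    intro x
    exact IsLocalization.Away.lift_eq γ hunit x
  refine ⟨g', hg', φloc.comp e.toAlgHom, ?_⟩
  set Q' : Ideal (Localization.Away g') := q'.map (algebraMap S' (Localization.Away g')) with hQ'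
  have hdisj : Disjoint (Submonoid.powers g' : Set S') (q' : Set S') := by
    rw [Set.disjoint_left]
    rintro x ⟨k, rfl⟩ hx
    exact hg' ((inferInstance : q'.IsPrime).mem_of_pow_mem k hx)
  have hQ'c : Q'.comap (algebraMap S' (Localization.Away g')) = q' :=
    IsLocalization.under_map_of_isPrime_disjoint (Submonoid.powers g') _ inferInstance hdisj
  -- compare in the localization
  have key : (Q'.comap φloc) = q.comap e.symm := by
    rw [← IsLocalization.map_under (Submonoid.powers γ) (Localization.Away γ) (Q'.comap φloc),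
      ← IsLocalization.map_under (Submonoid.powers γ) (Localization.Away γ) (q.comap e.symm)]
    congr 1
    ext x
    simp only [Ideal.mem_comap]
    rw [hφloc]
    have h2 : (ψ₂ x ∈ Q') ↔ psi 𝓟.P.f a ha x ∈ q' := by
      rw [← hQ'c, Ideal.mem_comap]; rfl
    rw [h2, ← Ideal.mem_comap, hcomap, hq₁, Ideal.mem_comap]
    rfl
  ext x
  simp only [Ideal.mem_comap]
  have h3 : (φloc.comp e.toAlgHom) x = φloc (e x) := rfl
  rw [h3, ← Ideal.mem_comap, key, Ideal.mem_comap]
  simp

end Groth.Agent.H11.SplitAlg
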