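import Mathlib
import Groth.Agent.H11.SplitAlg
import Groth.Agent.H11.EtRetr3

/-! Finite flat covers dominating étale surjective algebras (helper11). -/

set_option autoImplicit false
universe u

namespace Groth.Agent.H11.SplitAlg2

open Polynomial TensorProduct

variable (R : Type u) [CommRing R]

/-- `S'` dominates `T` Zariski locally. -/
def Dominates (S' : Type u) [CommRing S'] [Algebra R S'] (T : Type u) [CommRing T] [Algebra R T] :
    Prop :=
  ∀ (q' : Ideal S') [q'.IsPrime] (qT : Ideal T) [qT.IsPrime], q'.under R = qT.under R →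
    ∃ g' ∉ q', Nonempty (T →ₐ[R] Localization.Away g')

variable {R}

lemma Dominates.left {A : Type u} [CommRing A] [Algebra R A] {T : Type u} [CommRing T] [Algebra R T]
    (h : Dominates R A T) (B : Type u) [CommRing B] [Algebra R B] : Dominates R (A ⊗[R] B) T := by
  intro q' _ qT _ hq
  let incl : A →ₐ[R] A ⊗[R] B := Algebra.TensorProduct.includeLeft
  have hu : (q'.comap incl).under R = q'.under R := by
    ext r
    simp only [Ideal.under, Ideal.mem_comap, AlgHom.commutes]
  obtain ⟨g, hg, ⟨φ⟩⟩ := h (q'.comap incl) qT (hu.trans hq)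
  exact ⟨incl g, hg, ⟨(Localization.awayMapₐ incl g).comp φ⟩⟩

lemma Dominates.right {B : Type u} [CommRing B] [Algebra R B] {T : Type u} [CommRing T]
    [Algebra R T] (h : Dominates R B T) (A : Type u) [CommRing A] [Algebra R A] :
    Dominates R (A ⊗[R] B) T := by
  intro q' _ qT _ hq
  let incl : B →ₐ[R] A ⊗[R] B := Algebra.TensorProduct.includeRight
  have hu : (q'.comap incl).under R = q'.under R := by
    ext r
    simp only [Ideal.under, Ideal.mem_comap, AlgHom.commutes]
  obtain ⟨g, hg, ⟨φ⟩⟩ := h (q'.comap incl) qT (hu.trans hq)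
  exact ⟨incl g, hg, ⟨(Localization.awayMapₐ incl g).comp φ⟩⟩

lemma dominates_of_cover (T : Type u) [CommRing T] [Algebra R T] [Algebra.IsStandardEtale R T] :
    ∃ (S' : Type u) (_ : CommRing S') (_ : Algebra R S'),
      Module.Finite R S' ∧ Algebra.FinitePresentation R S' ∧ Module.Flat R S' ∧
        Function.Injective (algebraMap R S') ∧ Dominates R S' T := by
  obtain ⟨S', _, _, h1, h2, h3, h4, h5⟩ := SplitAlg.exists_finite_flat_cover R T
  refine ⟨S', inferInstance, inferInstance, h1, h2, h3,
    (PrimeSpectrum.comap_surjective_iff_injective_of_finite).1 h4, ?_⟩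
  intro q' _ qT _ hq
  obtain ⟨g', hg', φ, -⟩ := h5 qT q' hq
  exact ⟨g', hg', ⟨φ⟩⟩

theorem exists_cover_finset {S : Type u} [CommRing S] [Algebra R S] (s : Finset S)
    (hs : ∀ j ∈ s, Algebra.IsStandardEtale R (Localization.Away j)) :
    ∃ (S' : Type u) (_ : CommRing S') (_ : Algebra R S'),
      Module.Finite R S' ∧ Algebra.FinitePresentation R S' ∧ Module.Flat R S' ∧
        Function.Injective (algebraMap R S') ∧
        ∀ j ∈ s, Dominates R S' (Localization.Away j) := by
  classical
  induction s using Finset.induction_on with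
  | empty =>
    exact ⟨R, inferInstance, inferInstance, inferInstance, inferInstance, inferInstance,
      Function.injective_id, fun j hj => absurd hj (Finset.notMem_empty j)⟩
  | insert j t hjt ih =>
    obtain ⟨A, _, _, hA1, hA2, hA3, hA4, hA5⟩ :=
      ih (fun i hi => hs i (Finset.mem_insert_of_mem hi))
    haveI := hs j (Finset.mem_insert_self j t)
    obtain ⟨B, _, _, hB1, hB2, hB3, hB4, hB5⟩ := dominates_of_cover (R := R) (Localization.Away j)
    refine ⟨A ⊗[R] B, inferInstance, inferInstance, inferInstance,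
      Algebra.FinitePresentation.trans R A (A ⊗[R] B), inferInstance, ?_, ?_⟩
    · have h1 : Function.Injective (algebraMap A (A ⊗[R] B)) :=
        Algebra.TensorProduct.includeLeft_injective (S := A) hB4
      rw [IsScalarTower.algebraMap_eq R A (A ⊗[R] B)]
      exact h1.comp hA4
    · intro i hi
      rcases Finset.mem_insert.1 hi with rfl | hi
      · exact hB5.right A
      · exact (hA5 i hi).left B

theorem exists_finite_flat_cover_dominating (S : Type u) [CommRing S] [Algebra R S]
    [Algebra.Etale R S] (hs : Function.Surjective (PrimeSpectrum.comap (algebraMap R S))) :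
    ∃ (S' : Type u) (_ : CommRing S') (_ : Algebra R S'),
      Module.Finite R S' ∧ Algebra.FinitePresentation R S' ∧ Module.Flat R S' ∧
        Function.Surjective (PrimeSpectrum.comap (algebraMap R S')) ∧
        ∀ (q' : Ideal S') [q'.IsPrime], ∃ (g' : S') (_ : g' ∉ q'),
          Nonempty (S →ₐ[R] Localization.Away g') := by
  obtain ⟨s, hspan, hstd⟩ := EtRetr3.exists_finset_standardEtale R S
  obtain ⟨S', _, _, h1, h2, h3, h4, h5⟩ := exists_cover_finset s hstd
  refine ⟨S', inferInstance, inferInstance, h1, h2, h3,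
    (PrimeSpectrum.comap_surjective_iff_injective_of_finite).2 h4, ?_⟩
  intro q' _
  obtain ⟨Q, hQ⟩ := hs ⟨q'.under R, inferInstance⟩
  have hQu : Q.asIdeal.under R = q'.under R := congrArg PrimeSpectrum.asIdeal hQ
  have : ∃ j ∈ s, j ∉ Q.asIdeal := by
    by_contra hcon
    push Not at hcon
    have : Ideal.span (s : Set S) ≤ Q.asIdeal := Ideal.span_le.2 (fun f hf => hcon f hf)
    rw [hspan] at this
    exact Q.isPrime.ne_top (top_le_iff.1 this)
  obtain ⟨j, hj, hjQ⟩ := this
  have hdisj : Disjoint (Submonoid.powers j : Set S) (Q.asIdeal : Set S) := by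
    rw [Set.disjoint_left]
    rintro x ⟨k, rfl⟩ hx
    exact hjQ (Q.isPrime.mem_of_pow_mem k hx)
  haveI : (Q.asIdeal.map (algebraMap S (Localization.Away j))).IsPrime :=
    IsLocalization.isPrime_of_isPrime_disjoint (Submonoid.powers j) _ _ Q.isPrime hdisj
  have hu : (Q.asIdeal.map (algebraMap S (Localization.Away j))).under R = Q.asIdeal.under R := by
    have h6 : (Q.asIdeal.map (algebraMap S (Localization.Away j))).under S = Q.asIdeal :=
      IsLocalization.under_map_of_isPrime_disjoint (Submonoid.powers j) _ Q.isPrime hdisj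
    conv_rhs => rw [← h6]
    ext r
    simp only [Ideal.under, Ideal.mem_comap]
    rw [IsScalarTower.algebraMap_apply R S (Localization.Away j)]
  obtain ⟨g', hg', ⟨φ⟩⟩ := h5 j hj q' (Q.asIdeal.map (algebraMap S (Localization.Away j)))
    (hu.trans hQu).symm
  exact ⟨g', hg', ⟨φ.comp (IsScalarTower.toAlgHom R S (Localization.Away j))⟩⟩

end Groth.Agent.H11.SplitAlg2
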