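import Mathlib
import Groth.Agent.S0526
import Groth.Agent.H11.ClopenLift

/-!
# Splitting off the finite part of a quasi-finite separated scheme over a henselian pair
-/

set_option autoImplicit false
universe u
open CategoryTheory CategoryTheory.Limits AlgebraicGeometry

namespace Groth.Agent.H11.SplitSch

/-- Étale morphisms are locally quasi-finite. -/
theorem locallyQuasiFinite_of_etale {X Y : Scheme.{u}} (f : X ⟶ Y) [Etale f] :
    LocallyQuasiFinite f := by
  refine ⟨fun {U} hU {V} hV e => ?_⟩
  have h := Etale.etale_appLE f hU hV e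
  algebraize [(f.appLE U V e).hom]
  show Algebra.QuasiFinite _ _
  haveI : Algebra.Etale Γ(Y, U) Γ(X, V) := h
  infer_instance

/-- The key statement with the normalization replaced by an arbitrary integral `A`-algebra. -/
theorem split_of_openImmersion (A : Type u) [CommRing A] (I : Ideal A) [HenselianRing A I]
    {U : Scheme.{u}} (C : CommRingCat.{u}) (φ : CommRingCat.of A ⟶ C) (hφ : φ.hom.IsIntegral)
    (j : U ⟶ Spec C) [IsOpenImmersion j] [LocallyOfFiniteType (j ≫ Spec.map φ)]
    (hfin : IsFinite (pullback.snd (j ≫ Spec.map φ)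
      (Spec.map (CommRingCat.ofHom (Ideal.Quotient.mk I))))) :
    ∃ W : U.Opens, IsClosed (W : Set U) ∧ IsFinite (W.ι ≫ j ≫ Spec.map φ) ∧
      ∀ u : U, u ∉ W → ¬ I ≤ ((j ≫ Spec.map φ).base u : PrimeSpectrum A).asIdeal := by
  classical
  letI : Algebra A C := φ.hom.toAlgebra
  haveI : Algebra.IsIntegral A C := ⟨hφ⟩
  have hC : HenselianRing C (I.map (algebraMap A C)) := Groth.Agent.S0526.result A I C
  set K : Ideal C := I.map (algebraMap A C) with hK
  set g : U ⟶ Spec (CommRingCat.of A) := j ≫ Spec.map φ with hg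
  let mkI : CommRingCat.of A ⟶ CommRingCat.of (A ⧸ I) := CommRingCat.ofHom (Ideal.Quotient.mk I)
  let S : Set (PrimeSpectrum C) := Set.range j
  have hSopen : IsOpen S := j.isOpenEmbedding.isOpen_range
  -- points of `V(K)`
  have hVK : ∀ x : PrimeSpectrum C, x ∈ PrimeSpectrum.zeroLocus (K : Set C) ↔
      I ≤ (PrimeSpectrum.comap φ.hom x).asIdeal := by
    intro x
    rw [hK, PrimeSpectrum.mem_zeroLocus, SetLike.coe_subset_coe, Ideal.map_le_iff_le_comap]
    rfl
  -- the closedness
  have hcl : IsClosed (S ∩ PrimeSpectrum.zeroLocus (K : Set C)) := by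
    let q : pullback g (Spec.map mkI) ⟶ Spec C := pullback.fst g (Spec.map mkI) ≫ j
    have hq : q ≫ Spec.map φ = pullback.snd g (Spec.map mkI) ≫ Spec.map mkI :=
      (Category.assoc _ _ _).trans pullback.condition
    haveI : IsFinite (pullback.snd g (Spec.map mkI)) := hfin
    haveI : IsClosedImmersion (Spec.map mkI) :=
      IsClosedImmersion.spec_of_surjective _ Ideal.Quotient.mk_surjective
    haveI : IsProper (q ≫ Spec.map φ) := by rw [hq]; infer_instance
    haveI : IsProper q := IsProper.of_comp q (Spec.map φ)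
    have hrange : Set.range q = S ∩ PrimeSpectrum.zeroLocus (K : Set C) := by
      ext x
      constructor
      · rintro ⟨p, rfl⟩
        refine ⟨⟨pullback.fst g (Spec.map mkI) p, rfl⟩, (hVK _).2 ?_⟩
        have h1 : PrimeSpectrum.comap φ.hom (q p) = (q ≫ Spec.map φ) p := rfl
        rw [h1, hq]
        intro i hi
        show Ideal.Quotient.mk I i ∈ PrimeSpectrum.asIdeal _
        rw [Ideal.Quotient.eq_zero_iff_mem.2 hi]
        exact Ideal.zero_mem _
      · rintro ⟨⟨u, rfl⟩, hx⟩
        replace hx := (hVK _).1 hx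
        have hu : g u ∈ Set.range (Spec.map mkI) := by
          have h2 : Set.range (Spec.map mkI) = PrimeSpectrum.zeroLocus (I : Set A) := by
            have := _root_.range_comap_of_surjective _ (Ideal.Quotient.mk I)
              Ideal.Quotient.mk_surjective
            rw [Ideal.mk_ker] at this
            exact this
          rw [h2]
          exact hx
        have h3 : u ∈ Set.range (pullback.fst g (Spec.map mkI)) := by
          rw [Scheme.Pullback.range_fst]
          exact hu
        obtain ⟨p, rfl⟩ := h3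
        exact ⟨p, rfl⟩
    rw [← hrange]
    exact q.isClosedMap.isClosed_range
  obtain ⟨e, he, hsub, hinter⟩ :=
    ClopenLift.exists_idempotent_basicOpen hC S hSopen hcl
  let D : (Spec C).Opens := PrimeSpectrum.basicOpen e
  have hDcl : IsClosed (D : Set (Spec C)) := by
    show IsClosed (PrimeSpectrum.basicOpen e : Set (PrimeSpectrum C))
    rw [PrimeSpectrum.basicOpen_eq_zeroLocus_of_isIdempotentElem _ he]
    exact PrimeSpectrum.isClosed_zeroLocus _
  refine ⟨j ⁻¹ᵁ D, ?_, ?_, ?_⟩
  · exact hDcl.preimage j.continuous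
  · haveI : IsClosedImmersion ((j ⁻¹ᵁ D).ι ≫ j) := by
      apply IsClosedImmersion.of_isPreimmersion
      have : Set.range ((j ⁻¹ᵁ D).ι ≫ j) = (D : Set (Spec C)) := by
        rw [Scheme.Hom.comp_base, TopCat.coe_comp, Set.range_comp, Scheme.Opens.range_ι]
        show j '' (j ⁻¹' (D : Set (Spec C))) = _
        rw [Set.image_preimage_eq_inter_range]
        exact Set.inter_eq_left.2 hsub
      rw [this]
      exact hDcl
    haveI : IsIntegralHom (Spec.map φ) := IsIntegralHom.SpecMap_iff.2 hφ
    rw [IsFinite.iff_isIntegralHom_and_locallyOfFiniteType]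
    refine ⟨?_, ?_⟩
    · rw [← Category.assoc]
      infer_instance
    · infer_instance
  · intro u hu hI
    apply hu
    show j u ∈ (D : Set (Spec C))
    have h1 : j u ∈ S ∩ PrimeSpectrum.zeroLocus (K : Set C) := ⟨⟨u, rfl⟩, (hVK _).2 hI⟩
    rw [← hinter] at h1
    exact h1.1

/-- Splitting off the finite part of a quasi-finite separated morphism over a henselian pair. -/
theorem split_finite (A : Type u) [CommRing A] (I : Ideal A) [HenselianRing A I]
    {U : Scheme.{u}} (g : U ⟶ Spec (CommRingCat.of A)) [LocallyQuasiFinite g]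
    [LocallyOfFiniteType g] [QuasiCompact g] [IsSeparated g]
    (hfin : IsFinite (pullback.snd g (Spec.map (CommRingCat.ofHom (Ideal.Quotient.mk I))))) :
    ∃ W : U.Opens, IsClosed (W : Set U) ∧ IsFinite (W.ι ≫ g) ∧
      ∀ u : U, u ∉ W → ¬ I ≤ (g.base u : PrimeSpectrum A).asIdeal := by
  classical
  haveI : IsAffine g.normalization := isAffine_of_isAffineHom g.fromNormalization
  let C : CommRingCat.{u} := Γ(g.normalization, ⊤)
  let iso := g.normalization.isoSpec
  let j : U ⟶ Spec C := g.toNormalization ≫ iso.hom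
  let φ : CommRingCat.of A ⟶ C := Spec.preimage (iso.inv ≫ g.fromNormalization)
  have hφmap : Spec.map φ = iso.inv ≫ g.fromNormalization := Spec.map_preimage _
  have hg : j ≫ Spec.map φ = g := by
    rw [hφmap]
    simp only [j, Category.assoc, Iso.hom_inv_id_assoc]
    exact g.toNormalization_fromNormalization
  have hφ : φ.hom.IsIntegral := by
    rw [← IsIntegralHom.SpecMap_iff, hφmap]
    infer_instance
  haveI : IsOpenImmersion j := inferInstance
  haveI : LocallyOfFiniteType (j ≫ Spec.map φ) := by rw [hg]; infer_instance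
  have hfin' : IsFinite (pullback.snd (j ≫ Spec.map φ)
      (Spec.map (CommRingCat.ofHom (Ideal.Quotient.mk I)))) := by
    rw [hg]; exact hfin
  obtain ⟨W, hW1, hW2, hW3⟩ := split_of_openImmersion A I C φ hφ j hfin'
  rw [hg] at hW2 hW3
  exact ⟨W, hW1, hW2, hW3⟩

end Groth.Agent.H11.SplitSch
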