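import Mathlib

/-!
# Stably free cokernels of matrices with unit ideal of maximal minors
-/

set_option autoImplicit false

universe u

namespace Groth.Agent.H11.StablyFree

open Matrix

variable {S : Type u} [CommRing S] {n c : ℕ}

/-- A `c × n` matrix some combination of whose maximal minors is a unit has a right inverse. -/
theorem exists_right_inverse (J : Matrix (Fin c) (Fin n) S) (b : (Fin c → Fin n) → S)
    (hu : IsUnit (∑ cols : Fin c → Fin n, b cols * (J.submatrix id cols).det)) :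
    ∃ L : Matrix (Fin n) (Fin c) S, J * L = 1 := by
  classical
  obtain ⟨u, hu⟩ := hu
  have hE : ∀ cols : Fin c → Fin n,
      J * (1 : Matrix (Fin n) (Fin n) S).submatrix id cols = J.submatrix id cols := by
    intro cols
    refine Matrix.ext fun l l' => ?_
    simp only [Matrix.mul_apply, Matrix.submatrix_apply, id_eq, Matrix.one_apply, mul_ite, mul_one,
      mul_zero, Finset.sum_ite_eq', Finset.mem_univ, if_true]
  refine ⟨(↑u⁻¹ : S) • ∑ cols : Fin c → Fin n, b cols •
    ((1 : Matrix (Fin n) (Fin n) S).submatrix id cols * (J.submatrix id cols).adjugate), ?_⟩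
  rw [Matrix.mul_smul, Matrix.mul_sum]
  have : ∀ cols : Fin c → Fin n, J * (b cols •
      ((1 : Matrix (Fin n) (Fin n) S).submatrix id cols * (J.submatrix id cols).adjugate)) =
      (b cols * (J.submatrix id cols).det) • (1 : Matrix (Fin c) (Fin c) S) := by
    intro cols
    rw [Matrix.mul_smul, ← Matrix.mul_assoc, hE, Matrix.mul_adjugate, smul_smul]
  rw [Finset.sum_congr rfl fun cols _ => this cols, ← Finset.sum_smul, ← hu, smul_smul,
    Units.inv_mul, one_smul]

/-- If `toK` is onto with kernel the row space of a matrix with a right inverse, then the target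
is stably free. -/
theorem nonempty_prod_equiv {Om : Type*} [AddCommGroup Om] [Module S Om]
    (toK : (Fin n → S) →ₗ[S] Om) (hsurj : Function.Surjective toK)
    (J : Matrix (Fin c) (Fin n) S) (L : Matrix (Fin n) (Fin c) S) (hJL : J * L = 1)
    (hker : ∀ x, toK x = 0 ↔ ∃ t : Fin c → S, t ᵥ* J = x) :
    Nonempty ((Om × (Fin c → S)) ≃ₗ[S] (Fin n → S)) := by
  let Φ : (Fin n → S) →ₗ[S] (Om × (Fin c → S)) := toK.prod L.vecMulLinear
  have hinj : Function.Injective Φ := by
    rw [← LinearMap.ker_eq_bot, LinearMap.ker_eq_bot']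
    intro x hx
    have h1 : toK x = 0 := congrArg Prod.fst hx
    have h2 : x ᵥ* L = 0 := congrArg Prod.snd hx
    obtain ⟨t, rfl⟩ := (hker x).1 h1
    rw [Matrix.vecMul_vecMul, hJL, Matrix.vecMul_one] at h2
    rw [h2, Matrix.zero_vecMul]
  have hsur : Function.Surjective Φ := by
    rintro ⟨ω, t⟩
    obtain ⟨y, rfl⟩ := hsurj ω
    refine ⟨y - (y ᵥ* L) ᵥ* J + t ᵥ* J, ?_⟩
    have h1 : toK ((y ᵥ* L) ᵥ* J) = 0 := (hker _).2 ⟨_, rfl⟩
    have h2 : toK (t ᵥ* J) = 0 := (hker _).2 ⟨_, rfl⟩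
    refine Prod.ext ?_ ?_
    · change toK (y - (y ᵥ* L) ᵥ* J + t ᵥ* J) = toK y
      rw [map_add, map_sub, h1, h2, sub_zero, add_zero]
    · change (y - (y ᵥ* L) ᵥ* J + t ᵥ* J) ᵥ* L = t
      have e1 : ((y ᵥ* L) ᵥ* J) ᵥ* L = y ᵥ* L := by
        rw [Matrix.vecMul_vecMul (y ᵥ* L) J L, hJL, Matrix.vecMul_one]
      have e2 : (t ᵥ* J) ᵥ* L = t := by
        rw [Matrix.vecMul_vecMul t J L, hJL, Matrix.vecMul_one]
      rw [Matrix.add_vecMul, Matrix.sub_vecMul, e1, e2, sub_self, zero_add]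
  exact ⟨(LinearEquiv.ofBijective Φ ⟨hinj, hsur⟩).symm⟩

end Groth.Agent.H11.StablyFree
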