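import Mathlib
import Groth.Agent.H11.JacPrime
import Groth.Agent.H11.MinorLA
import Groth.Agent.H11.NakPrime

/-!
# Standard elements at a smooth prime of a finitely presented algebra
-/

set_option autoImplicit false

universe u

namespace Groth.Agent.H11.StdElt

open TensorProduct MvPolynomial

set_option backward.isDefEq.respectTransparency false in
theorem main {R A : Type u} [CommRing R] [CommRing A] [Algebra R A] {n m : ℕ}
    (G : Algebra.Generators R A (Fin n)) (f : Fin m → G.toExtension.Ring)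
    (hker : Ideal.span (Set.range f) = G.toExtension.ker) (q : Ideal A) [q.IsPrime]
    [Algebra.IsSmoothAt R q] :
    ∃ a : A, a ∉ q ∧ ∃ (c : ℕ) (rows : Fin c ↪ Fin m) (cols : Fin c ↪ Fin n) (a' : A),
      a = a' * algebraMap G.toExtension.Ring A
        (Matrix.det (Matrix.of fun j k : Fin c => pderiv (cols k) (f (rows j)))) ∧
      ∀ a₁ : G.toExtension.Ring, algebraMap G.toExtension.Ring A a₁ = a → ∀ ℓ : Fin m,
        a₁ * f ℓ ∈ Ideal.span (Set.range (f ∘ rows)) ⊔ Ideal.span (Set.range f) ^ 2 := by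
  classical
  let E : Algebra.Extension R A := G.toExtension
  have hfmem : ∀ ℓ, f ℓ ∈ E.ker := fun ℓ => hker.le (Ideal.subset_span ⟨ℓ, rfl⟩)
  let g : Fin m → E.Cotangent := fun ℓ => Algebra.Extension.Cotangent.mk ⟨f ℓ, hfmem ℓ⟩
  have hgspan : Submodule.span A (Set.range g) = ⊤ :=
    Algebra.Extension.Cotangent.span_eq_top_of_span_eq_ker f hker
  haveI hfin : Module.Finite A E.Cotangent :=
    Module.Finite.of_fg_top (hgspan ▸ Submodule.fg_span (Set.finite_range g))
  haveI : Algebra.FormallySmooth R E.Ring :=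
    (inferInstance : Algebra.FormallySmooth R (MvPolynomial (Fin n) R))
  have hinj : Function.Injective (E.cotangentComplex.lTensor q.ResidueField) :=
    ((Groth.Agent.H11.JacPrime.tfae_extension E q).out 0 1).1 ‹Algebra.IsSmoothAt R q›
  let v : Fin m → q.ResidueField ⊗[A] E.Cotangent := fun ℓ => 1 ⊗ₜ g ℓ
  have hvspan : Submodule.span q.ResidueField (Set.range v) = ⊤ :=
    Groth.Agent.H11.NakPrime.span_one_tmul_eq_top q g hgspan
  obtain ⟨ι', a, ha, hsp, hli⟩ := exists_linearIndependent' q.ResidueField v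
  haveI : Finite ι' := Finite.of_injective a ha
  cases nonempty_fintype ι'
  let e : Fin (Fintype.card ι') ≃ ι' := (Fintype.equivFin ι').symm
  let rows : Fin (Fintype.card ι') ↪ Fin m := ⟨a ∘ e, ha.comp e.injective⟩
  have hli' : LinearIndependent q.ResidueField (v ∘ rows) := hli.comp _ e.injective
  have hsp' : Submodule.span q.ResidueField (Set.range (v ∘ rows)) = ⊤ := by
    rw [← hvspan, ← hsp]
    congr 1
    exact e.surjective.range_comp (v ∘ a)
  let b := G.cotangentSpaceBasis.baseChange q.ResidueField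
  let T : q.ResidueField ⊗[A] E.Cotangent →ₗ[q.ResidueField] (Fin n → q.ResidueField) :=
    b.equivFun.toLinearMap ∘ₗ (TensorProduct.AlgebraTensorModule.lTensor q.ResidueField
      q.ResidueField E.cotangentComplex)
  have hT : Function.Injective T := b.equivFun.injective.comp hinj
  have hTv : ∀ ℓ k, T (v ℓ) k =
      algebraMap A q.ResidueField (algebraMap E.Ring A (pderiv k (f ℓ))) := by
    intro ℓ k
    change b.repr (1 ⊗ₜ E.cotangentComplex (g ℓ)) k = _
    rw [Algebra.Extension.cotangentComplex_mk, Module.Basis.baseChange_repr_tmul,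
      G.cotangentSpaceBasis_repr_one_tmul, Algebra.smul_def, mul_one]
    congr 1
    exact (G.algebraMap_apply _).symm
  -- the coordinate vectors of the chosen relations are independent
  have hw : LinearIndependent q.ResidueField (T ∘ (v ∘ rows)) :=
    hli'.map' T (LinearMap.ker_eq_bot.2 hT)
  obtain ⟨cols, hdet⟩ := Groth.Agent.H11.MinorLA.exists_cols_det_ne_zero _ hw
  let ψ : E.Ring →+* q.ResidueField := (algebraMap A q.ResidueField).comp (algebraMap E.Ring A)
  have hminor : algebraMap E.Ring A (Matrix.det (Matrix.of fun j k : Fin (Fintype.card ι') =>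
      pderiv (cols k) (f (rows j)))) ∉ q := by
    intro hmem
    apply hdet
    have h0 : ψ (Matrix.det (Matrix.of fun j k : Fin (Fintype.card ι') =>
      pderiv (cols k) (f (rows j)))) = 0 :=
      Ideal.algebraMap_residueField_eq_zero.2 hmem
    rw [RingHom.map_det] at h0
    rw [← h0]
    congr 1
    ext j k
    exact hTv (rows j) (cols k)
  let mnr : E.Ring := Matrix.det (Matrix.of fun j k : Fin (Fintype.card ι') =>
      pderiv (cols k) (f (rows j)))
  obtain ⟨s, hsq, hs⟩ := Groth.Agent.H11.NakPrime.exists_smul_mem_span q (g ∘ rows) hsp'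
  have hlift : ∀ x ∈ Submodule.span A (Set.range (g ∘ rows)),
      ∃ y : E.Ring, ∃ hy : y ∈ E.ker, y ∈ Ideal.span (Set.range (f ∘ rows)) ∧
        x = Algebra.Extension.Cotangent.mk ⟨y, hy⟩ := by
    intro x hx
    induction hx using Submodule.span_induction with
    | mem x hx =>
      obtain ⟨j, rfl⟩ := hx
      exact ⟨f (rows j), hfmem _, Ideal.subset_span ⟨j, rfl⟩, rfl⟩
    | zero => exact ⟨0, E.ker.zero_mem, Ideal.zero_mem _, (map_zero _).symm⟩
    | add x y _ _ hx hy =>
      obtain ⟨y1, hy1, hy1', rfl⟩ := hx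
      obtain ⟨y2, hy2, hy2', rfl⟩ := hy
      exact ⟨y1 + y2, E.ker.add_mem hy1 hy2, Ideal.add_mem _ hy1' hy2', (map_add _ _ _).symm⟩
    | smul r x _ hx =>
      obtain ⟨y1, hy1, hy1', rfl⟩ := hx
      obtain ⟨b, rfl⟩ := E.algebraMap_surjective r
      refine ⟨b * y1, E.ker.mul_mem_left b hy1, Ideal.mul_mem_left _ b hy1', ?_⟩
      have e0 : (⟨b * y1, E.ker.mul_mem_left b hy1⟩ : E.ker) = b • (⟨y1, hy1⟩ : E.ker) :=
        Subtype.ext (by rw [Submodule.coe_smul, smul_eq_mul])
      rw [algebraMap_smul, e0, map_smul]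
  refine ⟨s * algebraMap E.Ring A mnr, fun h => (‹q.IsPrime›.mem_or_mem h).elim hsq hminor,
    Fintype.card ι', rows, cols, s, rfl, ?_⟩
  intro a₁ ha₁ ℓ
  obtain ⟨y, hy, hy', hxy⟩ := hlift _ (hs (g ℓ))
  have h1 : Algebra.Extension.Cotangent.mk ⟨a₁ * f ℓ, E.ker.mul_mem_left a₁ (hfmem ℓ)⟩ =
      Algebra.Extension.Cotangent.mk ⟨mnr * y, E.ker.mul_mem_left _ hy⟩ := by
    have e1 : Algebra.Extension.Cotangent.mk ⟨a₁ * f ℓ, E.ker.mul_mem_left a₁ (hfmem ℓ)⟩ =
        a₁ • g ℓ := by
      have e0 : (⟨a₁ * f ℓ, E.ker.mul_mem_left a₁ (hfmem ℓ)⟩ : E.ker) =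
          a₁ • (⟨f ℓ, hfmem ℓ⟩ : E.ker) :=
        Subtype.ext (by rw [Submodule.coe_smul, smul_eq_mul])
      rw [e0, map_smul]
    have e2 : (⟨mnr * y, E.ker.mul_mem_left mnr hy⟩ : E.ker) = mnr • (⟨y, hy⟩ : E.ker) :=
      Subtype.ext (by rw [Submodule.coe_smul, smul_eq_mul])
    rw [e1, ← algebraMap_smul A a₁ (g ℓ), ha₁, mul_comm, mul_smul, hxy, algebraMap_smul,
      e2, map_smul]
  rw [Algebra.Extension.Cotangent.mk_eq_mk_iff_sub_mem] at h1
  have hsplit : a₁ * f ℓ = mnr * y + (a₁ * f ℓ - mnr * y) := by ring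
  rw [hsplit]
  exact Submodule.add_mem_sup (Ideal.mul_mem_left _ _ hy') (hker ▸ h1)

end Groth.Agent.H11.StdElt
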