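import Mathlib
import Groth.Prelude.Def_Smoothing

/-!
# Reindexing a presentation so that chosen relations and variables come first
-/

set_option autoImplicit false

universe u

namespace Groth.Agent.H11.StdReindex

open MvPolynomial

theorem exists_perm_comp {α : Type*} [Fintype α] [DecidableEq α] {c : ℕ} (u v : Fin c ↪ α) :
    ∃ σ : Equiv.Perm α, ∀ j, σ (u j) = v j := by
  classical
  let e : {x // x ∈ Set.range u} ≃ {x // x ∈ Set.range v} :=
    (Equiv.ofInjective u u.injective).symm.trans (Equiv.ofInjective v v.injective)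
  refine ⟨e.extendSubtype, fun j => ?_⟩
  rw [Equiv.extendSubtype_apply_of_mem e (u j) ⟨j, rfl⟩]
  have : (Equiv.ofInjective u u.injective).symm ⟨u j, ⟨j, rfl⟩⟩ = j := by
    apply u.injective
    exact (Equiv.apply_ofInjective_symm u.injective ⟨u j, ⟨j, rfl⟩⟩)
  simp only [e, Equiv.trans_apply, this, Equiv.ofInjective_apply]

theorem isElementaryStandard_of_rows_cols {R A : Type u} [CommRing R] [CommRing A] [Algebra R A]
    {n m c : ℕ} (f : Fin m → MvPolynomial (Fin n) R) (φ : MvPolynomial (Fin n) R →ₐ[R] A)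
    (hφ : Function.Surjective φ)
    (hker : RingHom.ker φ.toRingHom = Ideal.span (Set.range f))
    (rows : Fin c ↪ Fin m) (cols : Fin c ↪ Fin n) (a a' : A)
    (ha : a = a' * φ (Smoothing.jacobianMinor f rows cols))
    (hkill : ∀ a₁ : MvPolynomial (Fin n) R, φ a₁ = a → ∀ ℓ : Fin m,
        a₁ * f ℓ ∈ Ideal.span (Set.range (f ∘ rows)) ⊔ Ideal.span (Set.range f) ^ 2) :
    Smoothing.IsElementaryStandard R A a := by
  classical
  have hcm : c ≤ m := by simpa using Fintype.card_le_of_embedding rows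
  have hcn : c ≤ n := by simpa using Fintype.card_le_of_embedding cols
  obtain ⟨σ, hσ⟩ := exists_perm_comp (Fin.castLEEmb hcm) rows
  obtain ⟨τ, hτ⟩ := exists_perm_comp (Fin.castLEEmb hcn) cols
  let ρ : MvPolynomial (Fin n) R →ₐ[R] MvPolynomial (Fin n) R := rename τ.symm
  let ρ' : MvPolynomial (Fin n) R →ₐ[R] MvPolynomial (Fin n) R := rename τ
  have hρρ' : ∀ p, ρ (ρ' p) = p := fun p => by
    simp only [ρ, ρ', rename_rename, Equiv.symm_comp_self, rename_id_apply]
  have hρ'ρ : ∀ p, ρ' (ρ p) = p := fun p => by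
    simp only [ρ, ρ', rename_rename, Equiv.self_comp_symm, rename_id_apply]
  let rel : Fin m → MvPolynomial (Fin n) R := fun j => ρ (f (σ j))
  have hfker : ∀ ℓ, φ (f ℓ) = 0 := fun ℓ => by
    have : f ℓ ∈ RingHom.ker φ.toRingHom := hker ▸ Ideal.subset_span ⟨ℓ, rfl⟩
    exact this
  have hmapspan : Ideal.map ρ (Ideal.span (Set.range f)) = Ideal.span (Set.range rel) := by
    rw [Ideal.map_span]
    congr 1
    rw [← Set.range_comp]
    exact (σ.surjective.range_comp (ρ ∘ f)).symm
  have hmapspan' : Ideal.map ρ (Ideal.span (Set.range (f ∘ rows))) =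
      Ideal.span (rel '' {j' : Fin m | (j' : ℕ) < c}) := by
    rw [Ideal.map_span]
    congr 1
    ext x
    constructor
    · rintro ⟨_, ⟨j, rfl⟩, rfl⟩
      refine ⟨Fin.castLE hcm j, j.2, ?_⟩
      change ρ (f (σ (Fin.castLEEmb hcm j))) = _
      rw [hσ]
      rfl
    · rintro ⟨j', hj', rfl⟩
      refine ⟨f (rows ⟨j', hj'⟩), ⟨⟨j', hj'⟩, rfl⟩, ?_⟩
      change _ = ρ (f (σ j'))
      rw [← hσ]
      rfl
  have hker' : RingHom.ker (φ.comp ρ').toRingHom = Ideal.span (Set.range rel) := by
    apply le_antisymm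
    · intro x hx
      have hx' : φ (ρ' x) = 0 := hx
      have : ρ' x ∈ Ideal.span (Set.range f) := by
        rw [← hker]; exact hx'
      have := Ideal.mem_map_of_mem ρ this
      rwa [hρρ', hmapspan] at this
    · rw [Ideal.span_le]
      rintro _ ⟨j, rfl⟩
      change φ (ρ' (ρ (f (σ j)))) = 0
      rw [hρ'ρ, hfker]
  let P : Smoothing.MarkedPresentation R A :=
    { n := n, m := m, c := c, hcn := hcn, hcm := hcm
      rel := rel
      hom := φ.comp ρ'
      surj := by
        intro y
        obtain ⟨x, rfl⟩ := hφ y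
        exact ⟨ρ x, by change φ (ρ' (ρ x)) = _; rw [hρ'ρ]⟩
      ker_eq := hker' }
  have hminor : Smoothing.jacobianMinor P.rel (Fin.castLE P.hcm) (Fin.castLE P.hcn) =
      ρ (Smoothing.jacobianMinor f rows cols) := by
    unfold Smoothing.jacobianMinor
    rw [AlgHom.map_det]
    congr 1
    refine Matrix.ext fun j k => ?_
    change pderiv (Fin.castLE hcn k) (ρ (f (σ (Fin.castLEEmb hcm j)))) =
      ρ (pderiv (cols k) (f (rows j)))
    rw [hσ]
    have hk : Fin.castLE hcn k = τ.symm (cols k) := by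
      rw [← hτ]
      simp
    rw [hk]
    exact pderiv_rename τ.symm.injective (cols k) (f (rows j))
  refine ⟨P, ⟨a', ?_⟩, ?_⟩
  · rw [hminor]
    change a = a' * φ (ρ' (ρ _))
    rw [hρ'ρ]
    exact ha
  · intro a'' ha'' j _
    have h1 : φ (ρ' a'') = a := ha''
    have h2 := Ideal.mem_map_of_mem ρ (hkill (ρ' a'') h1 (σ j))
    rw [map_mul, hρρ', Ideal.map_sup, Ideal.map_pow, hmapspan, hmapspan'] at h2
    exact h2

end Groth.Agent.H11.StdReindex
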