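import Mathlib

set_option autoImplicit false
universe u

open MvPolynomial

namespace H11.StdSmoothLift

open Algebra in
/-- A standard smooth algebra over `R ⧸ I` is a quotient, by an ideal contained in `I B₀`, of a smooth
`R`-algebra `B₀`. -/
theorem main {R : Type u} [CommRing R] (I : Ideal R)
    (Bb : Type u) [CommRing Bb] [Algebra (R ⧸ I) Bb] [Algebra.IsStandardSmooth (R ⧸ I) Bb] :
    ∃ (B₀ : Type u) (_ : CommRing B₀) (_ : Algebra R B₀), Algebra.Smooth R B₀ ∧
      ∃ π : B₀ →+* Bb, (∀ r : R, π (algebraMap R B₀ r) = algebraMap (R ⧸ I) Bb (Ideal.Quotient.mk I r)) ∧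
        Function.Surjective π ∧ RingHom.ker π ≤ I.map (algebraMap R B₀) := by
  classical
  obtain ⟨ι, σ, hσ, hι, ⟨P⟩⟩ := Algebra.IsStandardSmooth.out (R := R ⧸ I) (S := Bb)
  haveI := hσ; haveI := hι
  cases nonempty_fintype σ
  let red : MvPolynomial ι R →+* MvPolynomial ι (R ⧸ I) := MvPolynomial.map (Ideal.Quotient.mk I)
  have hred : Function.Surjective red := MvPolynomial.map_surjective _ Ideal.Quotient.mk_surjective
  choose f hf using fun j : σ => hred (P.relation j)
  let A₁ := MvPolynomial ι R ⧸ Ideal.span (Set.range f)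
  let N : PreSubmersivePresentation R A₁ ι σ := PreSubmersivePresentation.naive P.map P.map_inj
  let a : A₁ := N.jacobian
  let B₀ := Localization.Away a
  let L : PreSubmersivePresentation A₁ B₀ Unit Unit := PreSubmersivePresentation.localizationAway B₀ a
  let Q : PreSubmersivePresentation R B₀ (Unit ⊕ ι) (Unit ⊕ σ) := L.comp N
  have hQ : IsUnit Q.jacobian := by
    have : Q.jacobian = N.jacobian • L.jacobian :=
      PreSubmersivePresentation.comp_jacobian_eq_jacobian_smul_jacobian L N
    rw [this, PreSubmersivePresentation.localizationAway_jacobian]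
    have e : N.jacobian • (algebraMap A₁ B₀) a = algebraMap A₁ B₀ a * algebraMap A₁ B₀ a := by
      first
        | exact Algebra.smul_def (R := A₁) (A := B₀) N.jacobian ((algebraMap A₁ B₀) a)
        | exact (Algebra.smul_def (R := A₁) (A := B₀) a ((algebraMap A₁ B₀) a))
        | (simp only [Algebra.smul_def]; rfl)
        | (rw [← Algebra.algebraMap_eq_smul_one, ← map_mul]; rfl)
        | (rw [Algebra.smul_def])
    rw [e]
    exact (IsLocalization.Away.algebraMap_isUnit (S := B₀) a).mul
      (IsLocalization.Away.algebraMap_isUnit (S := B₀) a)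
  have hsm : Algebra.IsStandardSmooth R B₀ :=
    SubmersivePresentation.isStandardSmooth (⟨Q, hQ⟩ : SubmersivePresentation R B₀ (Unit ⊕ ι) (Unit ⊕ σ))
  refine ⟨B₀, inferInstance, inferInstance, inferInstance, ?_⟩
  -- the map to `Bb`
  let ρ : MvPolynomial ι R →+* Bb := (aeval (R := R ⧸ I) P.val).toRingHom.comp red
  have hρf : ∀ j, ρ (f j) = 0 := by
    intro j
    change aeval (R := R ⧸ I) P.val (red (f j)) = 0
    rw [hf j]; exact P.aeval_val_relation j
  have hρker : Ideal.span (Set.range f) ≤ RingHom.ker ρ := by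
    rw [Ideal.span_le]; rintro _ ⟨j, rfl⟩; exact hρf j
  let π₁ : A₁ →+* Bb := Ideal.Quotient.lift _ ρ (fun x hx => hρker hx)
  have hπ₁ : ∀ x, π₁ (Ideal.Quotient.mk _ x) = ρ x := fun x => Ideal.Quotient.lift_mk _ _ _
  have ha : π₁ a = P.jacobian := by
    have h1 : a = Ideal.Quotient.mk _ N.jacobiMatrix.det := by
      change N.jacobian = _
      rw [PreSubmersivePresentation.jacobian_eq_jacobiMatrix_det]; rfl
    rw [h1, hπ₁, PreSubmersivePresentation.jacobian_eq_jacobiMatrix_det, RingHom.map_det,
      Generators.algebraMap_apply, ← AlgHom.coe_toRingHom, RingHom.map_det]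
    congr 1
    ext i j
    simp only [RingHom.mapMatrix_apply, Matrix.map_apply]
    rw [PreSubmersivePresentation.jacobiMatrix_naive, PreSubmersivePresentation.jacobiMatrix_apply]
    change aeval (R := R ⧸ I) P.val (red (pderiv (P.map i) (f j))) = _
    rw [← hf j]
    change _ = aeval (R := R ⧸ I) P.val (pderiv (P.map i) (MvPolynomial.map (Ideal.Quotient.mk I) (f j)))
    rw [MvPolynomial.pderiv_map]
  have hunit : IsUnit (π₁ a) := ha ▸ P.jacobian_isUnit
  let π : B₀ →+* Bb := IsLocalization.Away.lift a hunit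
  have hπ : ∀ x, π (algebraMap A₁ B₀ x) = π₁ x := fun x => IsLocalization.Away.lift_eq a hunit x
  refine ⟨π, ?_, ?_, ?_⟩
  · intro r
    rw [IsScalarTower.algebraMap_apply R A₁ B₀, hπ]
    change π₁ (Ideal.Quotient.mk _ (C r)) = _
    rw [hπ₁]
    change aeval (R := R ⧸ I) P.val (MvPolynomial.map (Ideal.Quotient.mk I) (C r)) = _
    rw [MvPolynomial.map_C, MvPolynomial.aeval_C]
  · intro y
    obtain ⟨q, rfl⟩ := P.aeval_val_surjective y
    obtain ⟨q', rfl⟩ := hred q
    exact ⟨algebraMap A₁ B₀ (Ideal.Quotient.mk _ q'), by rw [hπ, hπ₁]; rfl⟩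
  · intro x hx
    obtain ⟨⟨z, ⟨_, k, rfl⟩⟩, hxz⟩ := IsLocalization.surj (Submonoid.powers a) x
    simp only at hxz
    have hz : π₁ z = 0 := by
      rw [← hπ, ← hxz, map_mul, (RingHom.mem_ker).mp hx, zero_mul]
    obtain ⟨z', rfl⟩ := Ideal.Quotient.mk_surjective z
    rw [hπ₁] at hz
    have hz' : red z' ∈ Ideal.span (Set.range P.relation) := by
      rw [P.span_range_relation_eq_ker, Generators.ker_eq_ker_aeval_val]
      exact hz
    -- lift the combination
    have key : ∀ w ∈ Ideal.span (Set.range P.relation), ∃ w' ∈ Ideal.span (Set.range f), red w' = w := by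
      intro w hw
      have : Ideal.span (Set.range P.relation) = (Ideal.span (Set.range f)).map red := by
        rw [Ideal.map_span]
        congr 1
        ext v
        constructor
        · rintro ⟨j, rfl⟩; exact ⟨f j, ⟨j, rfl⟩, hf j⟩
        · rintro ⟨_, ⟨j, rfl⟩, rfl⟩; exact ⟨j, (hf j).symm⟩
      rw [this, Ideal.mem_map_iff_of_surjective red hred] at hw
      exact hw
    obtain ⟨w', hw', hww⟩ := key _ hz'
    have hdiff : z' - w' ∈ Ideal.map (C : R →+* MvPolynomial ι R) I := by
      have : z' - w' ∈ RingHom.ker red := by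
        rw [RingHom.mem_ker, map_sub, hww, sub_self]
      rw [MvPolynomial.ker_map, Ideal.mk_ker] at this
      exact this
    have hzI : algebraMap A₁ B₀ (Ideal.Quotient.mk _ z') ∈ I.map (algebraMap R B₀) := by
      have e1 : Ideal.Quotient.mk (Ideal.span (Set.range f)) z' = Ideal.Quotient.mk _ (z' - w') := by
        rw [map_sub, (Ideal.Quotient.eq_zero_iff_mem).mpr hw', sub_zero]
      rw [e1]
      have : (algebraMap R B₀) = ((algebraMap A₁ B₀).comp (Ideal.Quotient.mk _)).comp (C : R →+* MvPolynomial ι R) := by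
        ext r; rfl
      rw [this, ← Ideal.map_map]
      exact Ideal.mem_map_of_mem _ hdiff
    -- x = z / a^k
    have hu : IsUnit (algebraMap A₁ B₀ (a ^ k)) := by
      rw [map_pow]; exact (IsLocalization.Away.algebraMap_isUnit (S := B₀) a).pow k
    obtain ⟨u, hu'⟩ := hu
    have : x = algebraMap A₁ B₀ (Ideal.Quotient.mk _ z') * ↑u⁻¹ := by
      rw [← hxz, ← hu', mul_assoc, Units.mul_inv, mul_one]
    rw [this]
    exact Ideal.mul_mem_right _ _ hzI

end H11.StdSmoothLift
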