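import Mathlib
import Groth.Prelude.Def_Smoothing
import Groth.Agent.H11.StdReindex
import Groth.Agent.Lib.Helper12.ElemStd

/-!
# Strictly standard elements lie in the singular ideal
-/

set_option autoImplicit false

universe u

namespace Groth.Agent.H11.StrictStd

open MvPolynomial Smoothing

theorem isStrictlyStandard_of_isElementaryStandard {R A : Type u} [CommRing R] [CommRing A]
    [Algebra R A] (a : A) (ha : IsElementaryStandard R A a) : IsStrictlyStandard R A a := by
  obtain ⟨P, ⟨a', ha'⟩, hkill⟩ := ha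
  refine ⟨P, ?_, hkill⟩
  rw [ha']
  exact Ideal.mul_mem_left _ _ (Ideal.subset_span ⟨Fin.castLE P.hcn, rfl⟩)

theorem isSmoothAt_of_isStrictlyStandard {R A : Type u} [CommRing R] [CommRing A]
    [Algebra R A] [Algebra.FinitePresentation R A] (a : A) (ha : IsStrictlyStandard R A a)
    (q : Ideal A) [q.IsPrime] (haq : a ∉ q) : Algebra.IsSmoothAt R q := by
  classical
  obtain ⟨P, hspan, hkill⟩ := ha
  have hex : ∃ cols : Fin P.c → Fin P.n,
      P.hom (jacobianMinor P.rel (Fin.castLE P.hcm) cols) ∉ q := by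
    by_contra hcon
    push Not at hcon
    apply haq
    have hle : Ideal.span (Set.range fun cols : Fin P.c → Fin P.n =>
        P.hom (jacobianMinor P.rel (Fin.castLE P.hcm) cols)) ≤ q := by
      rw [Ideal.span_le]
      rintro _ ⟨cols, rfl⟩
      exact hcon cols
    exact hle hspan
  obtain ⟨cols, hcols⟩ := hex
  have hinj : Function.Injective cols := by
    by_contra hni
    rw [Function.Injective] at hni
    push Not at hni
    obtain ⟨k1, k2, hk, hne⟩ := hni
    apply hcols
    have h0 : jacobianMinor P.rel (Fin.castLE P.hcm) cols = 0 := by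
      unfold jacobianMinor
      refine Matrix.det_zero_of_column_eq hne (fun j => ?_)
      simp only [Matrix.of_apply, hk]
    rw [h0, map_zero]
    exact q.zero_mem
  obtain ⟨M, hM⟩ : ∃ M, M = jacobianMinor P.rel (Fin.castLE P.hcm) cols := ⟨_, rfl⟩
  rw [← hM] at hcols
  have hbq : a * P.hom M ∉ q := fun h => (‹q.IsPrime›.mem_or_mem h).elim haq hcols
  have hlead : Ideal.span (P.rel '' {j' : Fin P.m | (j' : ℕ) < P.c}) =
      Ideal.span (Set.range (P.rel ∘ Fin.castLEEmb P.hcm)) := by
    congr 1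
    ext x
    constructor
    · rintro ⟨j', hj', rfl⟩
      exact ⟨⟨j', hj'⟩, rfl⟩
    · rintro ⟨j, rfl⟩
      exact ⟨Fin.castLE P.hcm j, j.2, rfl⟩
  have hb : IsElementaryStandard R A (a * P.hom M) := by
    refine Groth.Agent.H11.StdReindex.isElementaryStandard_of_rows_cols P.rel P.hom P.surj
      P.ker_eq (Fin.castLEEmb P.hcm) ⟨cols, hinj⟩ (a * P.hom M) a (by rw [hM]; rfl) ?_
    intro a₁ ha₁ ℓ
    obtain ⟨a₀, ha₀⟩ := P.surj a
    have hdiff : a₁ - a₀ * M ∈ Ideal.span (Set.range P.rel) := by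
      rw [← P.ker_eq]
      change P.hom (a₁ - a₀ * M) = 0
      rw [map_sub, map_mul, ha₁, ha₀]
      exact sub_self _
    have hsplit : a₁ * P.rel ℓ = M * (a₀ * P.rel ℓ) + (a₁ - a₀ * M) * P.rel ℓ := by ring
    rw [hsplit]
    apply Ideal.add_mem
    · apply Ideal.mul_mem_left
      by_cases hℓ : P.c ≤ (ℓ : ℕ)
      · have := hkill a₀ ha₀ ℓ hℓ
        rwa [hlead] at this
      · apply Ideal.mem_sup_left
        apply Ideal.mul_mem_left
        apply Ideal.subset_span
        exact ⟨⟨ℓ, not_le.1 hℓ⟩, rfl⟩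
    · apply Ideal.mem_sup_right
      rw [sq]
      exact Ideal.mul_mem_mul hdiff (Ideal.subset_span ⟨ℓ, rfl⟩)
  obtain ⟨Pm, ⟨a', ha'⟩, hk⟩ := hb
  haveI hsm : Algebra.IsStandardSmooth R (Localization.Away (a * P.hom M)) :=
    Groth.Agent.Helper12.isStandardSmooth_away_of_marked (a * P.hom M) Pm a' ha' hk
  have hfs : Algebra.FormallySmooth R (Localization.Away (a * P.hom M)) := inferInstance
  have hsub := Algebra.basicOpen_subset_smoothLocus_iff.2 hfs
  exact hsub (show (⟨q, inferInstance⟩ : PrimeSpectrum A) ∈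
    (PrimeSpectrum.basicOpen (a * P.hom M) : Set (PrimeSpectrum A)) from hbq)

end Groth.Agent.H11.StrictStd
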