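import Mathlib
import Groth.Agent.H11.StablyFree
import Groth.Agent.H11.KerRows

/-!
# Stable freeness of differentials away from a strictly standard element (generators form)
-/

set_option autoImplicit false

universe u

namespace Groth.Agent.H11.StrictStdFree

open TensorProduct MvPolynomial Matrix

set_option backward.isDefEq.respectTransparency false in
theorem main {R A : Type u} [CommRing R] [CommRing A] [Algebra R A] {n m c : ℕ}
    (G : Algebra.Generators R A (Fin n)) (f : Fin m → G.toExtension.Ring)
    (hker : Ideal.span (Set.range f) = G.toExtension.ker) (hcm : c ≤ m) (a : A)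
    (hspan : a ∈ Ideal.span (Set.range fun cols : Fin c → Fin n =>
      algebraMap G.toExtension.Ring A
        (Matrix.det (Matrix.of fun j k : Fin c => pderiv (cols k) (f (Fin.castLE hcm j))))))
    (hkill : ∀ a' : G.toExtension.Ring, algebraMap G.toExtension.Ring A a' = a →
      ∀ j : Fin m, c ≤ (j : ℕ) →
        a' * f j ∈ Ideal.span (f '' {j' : Fin m | (j' : ℕ) < c}) ⊔ Ideal.span (Set.range f) ^ 2) :
    Nonempty ((Ω[Localization.Away a⁄R] × (Fin c → Localization.Away a))
      ≃ₗ[Localization.Away a] (Fin n → Localization.Away a)) := by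
  classical
  let E : Algebra.Extension R A := G.toExtension
  have hfmem : ∀ ℓ, f ℓ ∈ E.ker := fun ℓ => hker.le (Ideal.subset_span ⟨ℓ, rfl⟩)
  let F : Fin m → E.Cotangent := fun ℓ => Algebra.Extension.Cotangent.mk ⟨f ℓ, hfmem ℓ⟩
  have hFspan : Submodule.span A (Set.range F) = ⊤ :=
    Algebra.Extension.Cotangent.span_eq_top_of_span_eq_ker f hker
  let N : Submodule A E.Cotangent :=
    Submodule.span A (Set.range fun l : Fin c => F (Fin.castLE hcm l))
  have hleadle : Ideal.span (f '' {j' : Fin m | (j' : ℕ) < c}) ≤ E.ker := by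
    rw [Ideal.span_le]
    rintro _ ⟨j', _, rfl⟩
    exact hfmem j'
  have hlift : ∀ y ∈ Ideal.span (f '' {j' : Fin m | (j' : ℕ) < c}),
      ∃ hy : y ∈ E.ker, Algebra.Extension.Cotangent.mk ⟨y, hy⟩ ∈ N := by
    intro y hy
    induction hy using Submodule.span_induction with
    | mem y hy =>
      obtain ⟨j', hj', rfl⟩ := hy
      refine ⟨hfmem j', Submodule.subset_span ⟨⟨j', hj'⟩, ?_⟩⟩
      rfl
    | zero =>
      refine ⟨E.ker.zero_mem, ?_⟩
      have : (⟨0, E.ker.zero_mem⟩ : E.ker) = 0 := rfl
      rw [this, map_zero]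
      exact N.zero_mem
    | add y z _ _ hy hz =>
      obtain ⟨hy1, hy2⟩ := hy
      obtain ⟨hz1, hz2⟩ := hz
      refine ⟨E.ker.add_mem hy1 hz1, ?_⟩
      have : (⟨y + z, E.ker.add_mem hy1 hz1⟩ : E.ker) = ⟨y, hy1⟩ + ⟨z, hz1⟩ := rfl
      rw [this, map_add]
      exact N.add_mem hy2 hz2
    | smul b y _ hy =>
      obtain ⟨hy1, hy2⟩ := hy
      refine ⟨E.ker.mul_mem_left b hy1, ?_⟩
      have e0 : (⟨b • y, E.ker.mul_mem_left b hy1⟩ : E.ker) = b • (⟨y, hy1⟩ : E.ker) :=
        Subtype.ext (by rw [Submodule.coe_smul])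
      rw [e0, map_smul, ← algebraMap_smul A b]
      exact N.smul_mem _ hy2
  have hkillF : ∀ j : Fin m, c ≤ (j : ℕ) → a • F j ∈ N := by
    intro j hj
    obtain ⟨a', ha'⟩ := E.algebraMap_surjective a
    obtain ⟨y, hy, z, hz, hyz⟩ := Submodule.mem_sup.1 (hkill a' ha' j hj)
    obtain ⟨hy1, hy2⟩ := hlift y hy
    have hz1 : z ∈ E.ker ^ 2 := hker ▸ hz
    have hz2 : z ∈ E.ker := Ideal.pow_le_self two_ne_zero hz1
    have e1 : a • F j = Algebra.Extension.Cotangent.mk ⟨a' * f j, E.ker.mul_mem_left a' (hfmem j)⟩ := by
      have e0 : (⟨a' * f j, E.ker.mul_mem_left a' (hfmem j)⟩ : E.ker) =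
          a' • (⟨f j, hfmem j⟩ : E.ker) := Subtype.ext (by rw [Submodule.coe_smul, smul_eq_mul])
      rw [e0, map_smul, ← ha', algebraMap_smul]
    have e2 : Algebra.Extension.Cotangent.mk ⟨a' * f j, E.ker.mul_mem_left a' (hfmem j)⟩ =
        Algebra.Extension.Cotangent.mk ⟨y, hy1⟩ := by
      rw [Algebra.Extension.Cotangent.mk_eq_mk_iff_sub_mem]
      have : a' * f j - y = z := by rw [← hyz]; ring
      rw [this]
      exact hz1
    rw [e1, e2]
    exact hy2
  have haunit : IsUnit (algebraMap A (Localization.Away a) a) :=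
    IsLocalization.Away.algebraMap_isUnit a
  let β := G.cotangentSpaceBasis
  have hex : Function.Exact E.cotangentComplex E.toKaehler := E.exact_cotangentComplex_toKaehler
  have hsurjA : Function.Surjective E.toKaehler := E.toKaehler_surjective
  let J : Matrix (Fin c) (Fin n) (Localization.Away a) := Matrix.of fun l k =>
    algebraMap A (Localization.Away a) (β.repr (E.cotangentComplex (F (Fin.castLE hcm l))) k)
  have hJ : ∀ l k, J l k = algebraMap A (Localization.Away a)
      (algebraMap E.Ring A (pderiv k (f (Fin.castLE hcm l)))) := by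
    intro l k
    change algebraMap A (Localization.Away a) (β.repr (E.cotangentComplex
      (Algebra.Extension.Cotangent.mk ⟨f _, _⟩)) k) = _
    rw [Algebra.Extension.cotangentComplex_mk, G.cotangentSpaceBasis_repr_one_tmul]
    congr 1
    exact (G.algebraMap_apply _).symm
  obtain ⟨b, hb⟩ := (Ideal.mem_span_range_iff_exists_fun).1 hspan
  let ψ : E.Ring →+* Localization.Away a :=
    (algebraMap A (Localization.Away a)).comp (algebraMap E.Ring A)
  have hdet : ∀ cols : Fin c → Fin n, (J.submatrix id cols).det =
      algebraMap A (Localization.Away a) (algebraMap E.Ring A (Matrix.det (Matrix.of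
        fun j k : Fin c => pderiv (cols k) (f (Fin.castLE hcm j))))) := by
    intro cols
    change _ = ψ (Matrix.det _)
    rw [RingHom.map_det]
    congr 1
    refine Matrix.ext fun l k => ?_
    exact hJ l (cols k)
  obtain ⟨L, hL⟩ := Groth.Agent.H11.StablyFree.exists_right_inverse J
    (fun cols => algebraMap A (Localization.Away a) (b cols)) (by
      have : ∑ cols, algebraMap A (Localization.Away a) (b cols) * (J.submatrix id cols).det =
          algebraMap A (Localization.Away a) a := by
        have hb' := congrArg (algebraMap A (Localization.Away a)) hb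
        rw [map_sum] at hb'
        rw [← hb']
        refine Finset.sum_congr rfl fun cols _ => ?_
        rw [map_mul, hdet]
      rw [this]
      exact haunit)
  haveI : Algebra.FormallyEtale A (Localization.Away a) :=
    Algebra.FormallyEtale.of_isLocalization (Submonoid.powers a)
  let eΩ := KaehlerDifferential.tensorKaehlerEquivOfFormallyEtale R A (Localization.Away a)
  let bS := β.baseChange (Localization.Away a)
  let toK : (Fin n → Localization.Away a) →ₗ[Localization.Away a] Ω[Localization.Away a⁄R] :=
    eΩ.toLinearMap ∘ₗ (TensorProduct.AlgebraTensorModule.lTensor (Localization.Away a)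
      (Localization.Away a) E.toKaehler) ∘ₗ bS.equivFun.symm.toLinearMap
  have htoKsurj : Function.Surjective toK :=
    eΩ.surjective.comp ((LinearMap.lTensor_surjective (Localization.Away a) hsurjA).comp
      bS.equivFun.symm.surjective)
  refine Groth.Agent.H11.StablyFree.nonempty_prod_equiv toK htoKsurj J L hL ?_
  intro x
  have h1 : toK x = 0 ↔ (E.toKaehler.lTensor (Localization.Away a)) (bS.equivFun.symm x) = 0 := by
    change eΩ ((E.toKaehler.lTensor (Localization.Away a)) (bS.equivFun.symm x)) = 0 ↔ _
    exact eΩ.map_eq_zero_iff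
  rw [h1]
  exact Groth.Agent.H11.KerRows.ker_lTensor_iff hcm β E.cotangentComplex E.toKaehler hex hsurjA F
    hFspan a haunit hkillF x

end Groth.Agent.H11.StrictStdFree
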