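import Mathlib

/-!
# A submersive presentation of `A` over itself with prescribed values of the variables
-/

set_option autoImplicit false

universe u

namespace Groth.Agent.H11.SubmPoint

open MvPolynomial

variable {A : Type u} [CommRing A] {k : ℕ} (e : Fin k → A)

/-- the relations `y_i - e_i` -/
noncomputable def rel : Fin k → MvPolynomial (Fin k) A := fun i => X i - C (e i)

theorem sub_C_aeval_mem (p : MvPolynomial (Fin k) A) :
    p - C (aeval e p) ∈ Ideal.span (Set.range (rel e)) := by
  induction p using MvPolynomial.induction_on with
  | C a => simp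
  | add p q hp hq =>
    have : p + q - C (aeval e (p + q)) = (p - C (aeval e p)) + (q - C (aeval e q)) := by
      rw [map_add, map_add]; ring
    rw [this]
    exact Ideal.add_mem _ hp hq
  | mul_X p i hp =>
    have : p * X i - C (aeval e (p * X i)) =
        (p - C (aeval e p)) * X i + C (aeval e p) * (X i - C (e i)) := by
      rw [map_mul, aeval_X, map_mul]; ring
    rw [this]
    exact Ideal.add_mem _ (Ideal.mul_mem_right _ _ hp)
      (Ideal.mul_mem_left _ _ (Ideal.subset_span ⟨i, rfl⟩))

/-- The quotient `A[y]/(y_i - e_i)` is `A`. -/
noncomputable def quotEquiv :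
    (MvPolynomial (Fin k) A ⧸ Ideal.span (Set.range (rel e))) ≃ₐ[A] A :=
  AlgEquiv.ofAlgHom
    (Ideal.Quotient.liftₐ _ (aeval e) (by
      intro p hp
      induction hp using Submodule.span_induction with
      | mem x hx =>
        obtain ⟨i, rfl⟩ := hx
        simp [rel]
      | zero => simp
      | add x y _ _ hx hy => rw [map_add, hx, hy, add_zero]
      | smul a x _ hx => rw [smul_eq_mul, map_mul, hx, mul_zero]))
    (Algebra.ofId A _)
    (by
      ext)
    (by
      apply AlgHom.ext
      intro t
      obtain ⟨p, rfl⟩ := Ideal.Quotient.mk_surjective t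
      simp only [AlgHom.coe_comp, Function.comp_apply, AlgHom.coe_id, id_eq]
      erw [Ideal.Quotient.liftₐ_apply, Ideal.Quotient.lift_mk]
      rw [Algebra.ofId_apply]
      change Ideal.Quotient.mk _ (C (aeval e p)) = Ideal.Quotient.mk _ p
      rw [eq_comm, Ideal.Quotient.eq]
      exact sub_C_aeval_mem e p)

/-- The naive pre-submersive presentation of `A[y]/(y_i - e_i)`. -/
noncomputable def preQ : Algebra.PreSubmersivePresentation A
    (MvPolynomial (Fin k) A ⧸ Ideal.span (Set.range (rel e))) (Fin k) (Fin k) :=
  Algebra.PreSubmersivePresentation.naive (v := rel e) id Function.injective_id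

theorem preQ_jacobian : (preQ e).jacobian = 1 := by
  classical
  rw [Algebra.PreSubmersivePresentation.jacobian_eq_jacobiMatrix_det]
  have h1 : (preQ e).jacobiMatrix = 1 := by
    refine Matrix.ext fun i j => ?_
    rw [preQ, Algebra.PreSubmersivePresentation.jacobiMatrix_naive]
    simp only [rel, id_eq, map_sub, pderiv_X, pderiv_C, sub_zero, Matrix.one_apply, Pi.single_apply]
    by_cases h : i = j
    · subst h; simp
    · rw [if_neg h, if_neg (Ne.symm h)]
  rw [h1, Matrix.det_one, map_one]

/-- The submersive presentation of `A[y]/(y_i - e_i)`. -/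
noncomputable def subQ : Algebra.SubmersivePresentation A
    (MvPolynomial (Fin k) A ⧸ Ideal.span (Set.range (rel e))) (Fin k) (Fin k) where
  __ := preQ e
  jacobian_isUnit := by rw [preQ_jacobian]; exact isUnit_one

/-- A submersive presentation of `A` over itself whose distinguished variables take the
prescribed values. -/
noncomputable def pointQ : Algebra.SubmersivePresentation A A (Fin k) (Fin k) :=
  (subQ e).ofAlgEquiv (quotEquiv e)

theorem pointQ_val (i : Fin k) : (pointQ e).val i = e i := by
  change quotEquiv e (Ideal.Quotient.mk _ (X i)) = e i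
  simp [quotEquiv]

theorem pointQ_map (i : Fin k) : (pointQ e).map i = i := rfl

end Groth.Agent.H11.SubmPoint
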