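import Mathlib
import Groth.Agent.H11.PairProps

/-!
# Tensoring the henselization `PHens A I` (a filtered colimit of étale neighbourhoods) with a module

Elements of `PHens A I ⊗ N` come from a stage, and vanishing descends to a later stage.
-/

set_option autoImplicit false
universe u
open TensorProduct CategoryTheory

namespace Groth.Agent.H11.PH

variable {A : Type u} [CommRing A] {I : Ideal A}

/-- A finite family of elements of the henselization comes from a common stage above `j₀`. -/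
theorem exists_stage_fin (j₀ : NObj A I) : ∀ (n : ℕ) (y : Fin n → PHens A I),
    ∃ (k : NObj A I) (_ : j₀ ⟶ k) (y' : Fin n → k.Q), ∀ i, ι k (y' i) = y i
  | 0, _ => ⟨j₀, 𝟙 _, fun i => i.elim0, fun i => i.elim0⟩
  | n + 1, y => by
    obtain ⟨k, f, y', hy'⟩ := exists_stage_fin j₀ n (fun i => y i.castSucc)
    obtain ⟨j', x, hx⟩ := exists_rep (y (Fin.last n))
    refine ⟨IsFiltered.max k j', f ≫ IsFiltered.leftToMax k j',
      Fin.snoc (fun i => toAlg (IsFiltered.leftToMax k j') (y' i))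
        (toAlg (IsFiltered.rightToMax k j') x), fun i => ?_⟩
    refine Fin.lastCases ?_ (fun i => ?_) i
    · rw [Fin.snoc_last, ι_comp, hx]
    · rw [Fin.snoc_castSucc, ι_comp, hy']

/-- Finitely many equalities in the henselization hold at a common later stage. -/
theorem exists_stage_eq (j : NObj A I) : ∀ (n : ℕ) (x y : Fin n → j.Q),
    (∀ i, ι j (x i) = ι j (y i)) →
    ∃ (k : NObj A I) (f : j ⟶ k), ∀ i, toAlg f (x i) = toAlg f (y i)
  | 0, _, _, _ => ⟨j, 𝟙 _, fun i => i.elim0⟩
  | n + 1, x, y, h => by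
    obtain ⟨k, f, hf⟩ := exists_stage_eq j n (fun i => x i.castSucc) (fun i => y i.castSucc)
      (fun i => h i.castSucc)
    have h1 : ι k (toAlg f (x (Fin.last n))) = ι k (toAlg f (y (Fin.last n))) := by
      rw [ι_comp, ι_comp, h]
    obtain ⟨l, g, hg⟩ := (ι_eq_iff _ _).1 h1
    refine ⟨l, f ≫ g, fun i => ?_⟩
    refine Fin.lastCases ?_ (fun i => ?_) i
    · exact hg
    · show toAlg g (toAlg f (x i.castSucc)) = toAlg g (toAlg f (y i.castSucc))
      rw [hf i]

section Module

variable (N : Type u) [AddCommGroup N] [Module A N]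

/-- The stage map on tensor products. -/
noncomputable def σ (j : NObj A I) : j.Q ⊗[A] N →ₗ[A] PHens A I ⊗[A] N :=
  LinearMap.rTensor N (ι j).toLinearMap

/-- The transition maps on tensor products. -/
noncomputable def σt {j k : NObj A I} (f : j ⟶ k) : j.Q ⊗[A] N →ₗ[A] k.Q ⊗[A] N :=
  LinearMap.rTensor N (toAlg f).toLinearMap

variable {N}

@[simp] theorem σ_tmul (j : NObj A I) (q : j.Q) (b : N) : σ N j (q ⊗ₜ b) = ι j q ⊗ₜ b := rfl

@[simp] theorem σt_tmul {j k : NObj A I} (f : j ⟶ k) (q : j.Q) (b : N) :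
    σt N f (q ⊗ₜ b) = toAlg f q ⊗ₜ b := rfl

theorem σ_σt {j k : NObj A I} (f : j ⟶ k) (x : j.Q ⊗[A] N) : σ N k (σt N f x) = σ N j x := by
  induction x with
  | zero => simp
  | tmul q b => simp [ι_comp]
  | add x y hx hy => simp [hx, hy]

theorem σt_comp {j k l : NObj A I} (f : j ⟶ k) (g : k ⟶ l) (x : j.Q ⊗[A] N) :
    σt N (f ≫ g) x = σt N g (σt N f x) := by
  induction x with
  | zero => simp
  | tmul q b => simp
  | add x y hx hy => simp [hx, hy]

/-- Every element of `PHens A I ⊗ N` comes from a stage. -/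
theorem exists_rep_tensor (r : PHens A I ⊗[A] N) :
    ∃ (j : NObj A I) (x : j.Q ⊗[A] N), σ N j x = r := by
  induction r with
  | zero => exact ⟨Classical.arbitrary _, 0, map_zero _⟩
  | tmul a b =>
    obtain ⟨j, x, rfl⟩ := exists_rep a
    exact ⟨j, x ⊗ₜ b, rfl⟩
  | add r s hr hs =>
    obtain ⟨j, x, rfl⟩ := hr
    obtain ⟨k, y, rfl⟩ := hs
    refine ⟨IsFiltered.max j k, σt N (IsFiltered.leftToMax j k) x +
      σt N (IsFiltered.rightToMax j k) y, ?_⟩
    rw [map_add, σ_σt, σ_σt]

/-- Vanishing in `PHens A I ⊗ N` descends to a later stage. -/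
theorem σ_eq_zero {j : NObj A I} {x : j.Q ⊗[A] N} (h : σ N j x = 0) :
    ∃ (k : NObj A I) (f : j ⟶ k), σt N f x = 0 := by
  classical
  obtain ⟨n, q, b, rfl⟩ := TensorProduct.exists_sum_tmul_eq x
  haveI : Module.Flat A (PHens A I) := flat_pHens
  have h0 : ∑ i, b i ⊗ₜ[A] (ι j (q i)) = (0 : N ⊗[A] PHens A I) := by
    have := congrArg (TensorProduct.comm A (PHens A I) N) h
    simpa [map_sum] using this
  have hinj : Function.Injective
      (LinearMap.rTensor (PHens A I) (Submodule.span A (Set.range b)).subtype) :=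
    Module.Flat.rTensor_preserves_injective_linearMap _ (Submodule.injective_subtype _)
  obtain ⟨k', a, y, h1, h2⟩ :=
    TensorProduct.vanishesTrivially_of_sum_tmul_eq_zero_of_rTensor_injective A hinj h0
  obtain ⟨k, f, y', hy'⟩ := exists_stage_fin j k' y
  have h3 : ∀ i, ι k (toAlg f (q i)) = ι k (∑ l, a i l • y' l) := by
    intro i
    have h1i : ι j (q i) = ∑ l, a i l • y l := h1 i
    rw [ι_comp, h1i, map_sum]
    refine Finset.sum_congr rfl fun l _ => ?_
    rw [map_smul, hy']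
  obtain ⟨k₂, g, hg⟩ := exists_stage_eq k n _ _ h3
  refine ⟨k₂, f ≫ g, ?_⟩
  have h4 : ∑ i, b i ⊗ₜ[A] (toAlg (f ≫ g) (q i)) = (0 : N ⊗[A] k₂.Q) := by
    apply TensorProduct.sum_tmul_eq_zero_of_vanishesTrivially A
    refine ⟨k', a, fun l => toAlg g (y' l), fun i => ?_, h2⟩
    show toAlg g (toAlg f (q i)) = _
    rw [hg i, map_sum]
    refine Finset.sum_congr rfl fun l _ => ?_
    rw [map_smul]
  have := congrArg (TensorProduct.comm A N k₂.Q) h4
  simpa [map_sum] using this

theorem σ_eq_iff {j : NObj A I} (x y : j.Q ⊗[A] N) :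
    σ N j x = σ N j y ↔ ∃ (k : NObj A I) (f : j ⟶ k), σt N f x = σt N f y := by
  constructor
  · intro h
    have h0 : σ N j (x - y) = 0 := by rw [map_sub, h, sub_self]
    obtain ⟨k, f, hf⟩ := σ_eq_zero h0
    exact ⟨k, f, by rwa [map_sub, sub_eq_zero] at hf⟩
  · rintro ⟨k, f, hf⟩
    rw [← σ_σt f x, ← σ_σt f y, hf]

end Module

end Groth.Agent.H11.PH
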