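import Mathlib
import Groth.Agent.H11.JacPrime

/-!
Smoothness along a section: for a formally smooth `R`-algebra `A` with augmentation `ε`,
`I = ker ε`, and `J ≤ I` f.g. with `J ⊓ I² = I * J` and `I/(J + I²)` projective over `R`, the
quotient `A/J` is smooth at every prime containing `I/J`.
-/

namespace Groth.Agent.H11.UnitSec

open TensorProduct KaehlerDifferential

universe u

section General

variable {A : Type u} [CommRing A] (I : Ideal A) (κ : Type u) [CommRing κ] [Algebra A κ]
  (M : Type u) [AddCommGroup M] [Module A M]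

theorem injective_lTensor_mkQ (hκ : ∀ i ∈ I, algebraMap A κ i = 0) :
    Function.Injective ((I • ⊤ : Submodule A M).mkQ.lTensor κ) := by
  have h0 : ∀ x ∈ (I • ⊤ : Submodule A M), ∀ k : κ, k ⊗ₜ[A] x = 0 := by
    intro x hx k
    refine Submodule.smul_induction_on hx ?_ ?_
    · intro i hi m _
      rw [← TensorProduct.smul_tmul, Algebra.smul_def, hκ i hi, zero_mul, zero_tmul]
    · intro x y hx hy
      rw [tmul_add, hx, hy, add_zero]
  have hex := lTensor_exact κ (LinearMap.exact_subtype_mkQ (I • ⊤ : Submodule A M))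
    (Submodule.mkQ_surjective _)
  rw [← LinearMap.ker_eq_bot, hex.linearMap_ker_eq, LinearMap.range_eq_bot]
  apply TensorProduct.ext'
  rintro k ⟨x, hx⟩
  simp only [LinearMap.lTensor_tmul, Submodule.subtype_apply, LinearMap.zero_apply]
  exact h0 x hx k

end General

section Tower

variable {R A : Type u} [CommRing R] [CommRing A] [Algebra R A] (ε : A →ₐ[R] R)

theorem sub_mem (a : A) : a - algebraMap R A (ε a) ∈ RingHom.ker ε := by
  rw [RingHom.mem_ker, map_sub, AlgHom.commutes]
  simp

variable {M₁ M₂ : Type u} [AddCommGroup M₁] [AddCommGroup M₂] [Module A M₁] [Module A M₂]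
  [Module R M₁] [Module R M₂] [IsScalarTower R A M₁] [IsScalarTower R A M₂]

/-- An `R`-linear map between `A`-modules killed by the augmentation ideal is `A`-linear. -/
theorem map_smul_of_torsion (h₁ : ∀ i ∈ RingHom.ker ε, ∀ x : M₁, i • x = 0)
    (h₂ : ∀ i ∈ RingHom.ker ε, ∀ x : M₂, i • x = 0) (l : M₁ →ₗ[R] M₂) (a : A) (x : M₁) :
    l (a • x) = a • l x := by
  have e1 : a • x = (ε a) • x := by
    have := h₁ _ (sub_mem ε a) x
    rw [sub_smul, sub_eq_zero, algebraMap_smul] at this
    exact this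
  have e2 : a • l x = (ε a) • l x := by
    have := h₂ _ (sub_mem ε a) (l x)
    rw [sub_smul, sub_eq_zero, algebraMap_smul] at this
    exact this
  rw [e1, e2, map_smul]

end Tower

section Deriv

variable {R A : Type u} [CommRing R] [CommRing A] [Algebra R A] (ε : A →ₐ[R] R)

theorem smul_cotangent_eq_zero (I : Ideal A) (i : A) (hi : i ∈ I) (y : I.Cotangent) :
    i • y = 0 := by
  obtain ⟨y, rfl⟩ := I.toCotangent_surjective y
  rw [← map_smul, Ideal.toCotangent_eq_zero, pow_two]
  exact Ideal.mul_mem_mul hi y.2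

/-- The linear map `a ↦ [a - ε a]`. -/
noncomputable def D₀ : A →ₗ[R] (RingHom.ker ε).Cotangent where
  toFun a := (RingHom.ker ε).toCotangent ⟨a - algebraMap R A (ε a), sub_mem ε a⟩
  map_add' a b := by
    rw [← map_add]
    congr 1
    ext
    simp only [map_add, Submodule.coe_add]
    ring
  map_smul' r a := by
    rw [RingHom.id_apply, ← LinearMap.map_smul_of_tower]
    congr 1
    ext
    change r • a - algebraMap R A (ε (r • a)) = r • (a - algebraMap R A (ε a))
    rw [map_smul, smul_sub, smul_eq_mul, map_mul, Algebra.smul_def r (algebraMap R A (ε a))]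

theorem D₀_apply (a : A) :
    D₀ ε a = (RingHom.ker ε).toCotangent ⟨a - algebraMap R A (ε a), sub_mem ε a⟩ := rfl

/-- The derivation `a ↦ [a - ε a]` with values in `I/I²`. -/
noncomputable def D : Derivation R A (RingHom.ker ε).Cotangent :=
  Derivation.mk' (D₀ ε) (by
    intro a b
    rw [D₀_apply, D₀_apply, D₀_apply, ← map_smul, ← map_smul, ← map_add, Ideal.toCotangent_eq]
    have : ((⟨a * b - algebraMap R A (ε (a * b)), sub_mem ε (a * b)⟩ : RingHom.ker ε) : A) -
        ((a • (⟨b - algebraMap R A (ε b), sub_mem ε b⟩ : RingHom.ker ε) +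
          b • (⟨a - algebraMap R A (ε a), sub_mem ε a⟩ : RingHom.ker ε) : RingHom.ker ε) : A) =
        -((a - algebraMap R A (ε a)) * (b - algebraMap R A (ε b))) := by
      simp only [Submodule.coe_add, Submodule.coe_smul, smul_eq_mul, map_mul]
      ring
    rw [this, pow_two]
    exact neg_mem (Ideal.mul_mem_mul (sub_mem ε a) (sub_mem ε b)))

theorem D_apply (a : A) :
    D ε a = (RingHom.ker ε).toCotangent ⟨a - algebraMap R A (ε a), sub_mem ε a⟩ := rfl

end Deriv

section Main

variable {R A : Type u} [CommRing R] [CommRing A] [Algebra R A] (ε : A →ₐ[R] R)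
  (J : Ideal A) (hJI : J ≤ RingHom.ker ε)

theorem ker_algebraMap_quotient : RingHom.ker (algebraMap A (A ⧸ J)) = J := Ideal.mk_ker

/-- `J/J² → I/I²`. -/
noncomputable def phi : (RingHom.ker (algebraMap A (A ⧸ J))).Cotangent →ₗ[A]
    (RingHom.ker ε).Cotangent :=
  Ideal.mapCotangent _ _ (AlgHom.id A A) (by
    rw [ker_algebraMap_quotient]
    exact hJI)

theorem phi_toCotangent (x : RingHom.ker (algebraMap A (A ⧸ J))) :
    phi ε J hJI ((RingHom.ker (algebraMap A (A ⧸ J))).toCotangent x) =
      (RingHom.ker ε).toCotangent ⟨x.1, hJI ((ker_algebraMap_quotient J).le x.2)⟩ := rfl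

theorem smul_top_le_ker_phi :
    (RingHom.ker ε • ⊤ : Submodule A (RingHom.ker (algebraMap A (A ⧸ J))).Cotangent) ≤
      LinearMap.ker (phi ε J hJI) := by
  rw [Submodule.smul_le]
  intro i hi x _
  rw [LinearMap.mem_ker, map_smul]
  exact smul_cotangent_eq_zero _ i hi _

/-- `J/IJ → I/I²`. -/
noncomputable def phiBar : ((RingHom.ker (algebraMap A (A ⧸ J))).Cotangent ⧸
      (RingHom.ker ε • ⊤ : Submodule A (RingHom.ker (algebraMap A (A ⧸ J))).Cotangent)) →ₗ[A]
    (RingHom.ker ε).Cotangent :=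
  Submodule.liftQ _ (phi ε J hJI) (smul_top_le_ker_phi ε J hJI)

theorem phiBar_mk (x : (RingHom.ker (algebraMap A (A ⧸ J))).Cotangent) :
    phiBar ε J hJI (Submodule.Quotient.mk x) = phi ε J hJI x := rfl

theorem phiBar_comp_mkQ :
    phiBar ε J hJI ∘ₗ Submodule.mkQ _ = phi ε J hJI :=
  Submodule.liftQ_mkQ _ _ _

theorem phiBar_injective (h2 : J ⊓ RingHom.ker ε ^ 2 = RingHom.ker ε * J) :
    Function.Injective (phiBar ε J hJI) := by
  rw [← LinearMap.ker_eq_bot]
  apply Submodule.ker_liftQ_eq_bot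
  intro x hx
  obtain ⟨⟨j, hj⟩, rfl⟩ := Ideal.toCotangent_surjective _ x
  rw [LinearMap.mem_ker, phi_toCotangent, Ideal.toCotangent_eq_zero] at hx
  have hjJ : j ∈ J := by rwa [ker_algebraMap_quotient] at hj
  have hmem : j ∈ RingHom.ker ε * J := by
    rw [← h2]
    exact ⟨hjJ, hx⟩
  have key : ∀ y ∈ RingHom.ker ε * J, ∃ hy : y ∈ RingHom.ker (algebraMap A (A ⧸ J)),
      (RingHom.ker (algebraMap A (A ⧸ J))).toCotangent ⟨y, hy⟩ ∈
        (RingHom.ker ε • ⊤ : Submodule A (RingHom.ker (algebraMap A (A ⧸ J))).Cotangent) := by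
    intro y hy
    refine Submodule.mul_induction_on hy ?_ ?_
    · intro i hi j' hj'
      have hj'K : j' ∈ RingHom.ker (algebraMap A (A ⧸ J)) := by
        rwa [ker_algebraMap_quotient]
      refine ⟨Ideal.mul_mem_left _ _ hj'K, ?_⟩
      have : (⟨i * j', Ideal.mul_mem_left _ _ hj'K⟩ : RingHom.ker (algebraMap A (A ⧸ J))) =
          i • ⟨j', hj'K⟩ := rfl
      rw [this, map_smul]
      exact Submodule.smul_mem_smul hi trivial
    · rintro y z ⟨hy, hy'⟩ ⟨hz, hz'⟩
      refine ⟨add_mem hy hz, ?_⟩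
      have : (⟨y + z, add_mem hy hz⟩ : RingHom.ker (algebraMap A (A ⧸ J))) =
          ⟨y, hy⟩ + ⟨z, hz⟩ := rfl
      rw [this, map_add]
      exact add_mem hy' hz'
  obtain ⟨_, h⟩ := key j hmem
  exact h

/-- `I/I² → I/(J + I²)`. -/
noncomputable def q : (RingHom.ker ε).Cotangent →ₗ[A]
    (↥(RingHom.ker ε) ⧸ Submodule.comap (RingHom.ker ε).subtype (J ⊔ RingHom.ker ε ^ 2)) :=
  Submodule.liftQ (RingHom.ker ε • ⊤ : Submodule A (RingHom.ker ε))
    (Submodule.mkQ _) (by
      intro x hx
      rw [LinearMap.mem_ker, Submodule.mkQ_apply, Submodule.Quotient.mk_eq_zero,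
        Submodule.mem_comap]
      have : x ∈ LinearMap.ker (RingHom.ker ε).toCotangent := by
        rw [LinearMap.mem_ker]
        exact (Submodule.Quotient.mk_eq_zero _).2 hx
      rw [Ideal.mem_toCotangent_ker] at this
      exact Ideal.mem_sup_right this)

theorem q_toCotangent (x : RingHom.ker ε) :
    q ε J ((RingHom.ker ε).toCotangent x) = Submodule.Quotient.mk x := rfl

theorem q_surjective : Function.Surjective (q ε J) := by
  intro y
  obtain ⟨x, rfl⟩ := Submodule.Quotient.mk_surjective _ y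
  exact ⟨_, q_toCotangent ε J x⟩

theorem exact_phiBar_q : Function.Exact (phiBar ε J hJI) (q ε J) := by
  intro y
  constructor
  · intro hy
    obtain ⟨⟨i, hi⟩, rfl⟩ := Ideal.toCotangent_surjective _ y
    rw [q_toCotangent, Submodule.Quotient.mk_eq_zero, Submodule.mem_comap] at hy
    obtain ⟨j, hj, t, ht, hjt⟩ := Submodule.mem_sup.1 hy
    have hjK : j ∈ RingHom.ker (algebraMap A (A ⧸ J)) := by rwa [ker_algebraMap_quotient]
    refine ⟨Submodule.Quotient.mk ((RingHom.ker (algebraMap A (A ⧸ J))).toCotangent ⟨j, hjK⟩), ?_⟩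
    rw [phiBar_mk, phi_toCotangent, Ideal.toCotangent_eq]
    change j - i ∈ _
    have : j - i = -t := by
      change j + t = i at hjt
      rw [← hjt]; ring
    rw [this]
    exact neg_mem ht
  · rintro ⟨x, rfl⟩
    obtain ⟨x, rfl⟩ := Submodule.Quotient.mk_surjective _ x
    obtain ⟨⟨j, hj⟩, rfl⟩ := Ideal.toCotangent_surjective _ x
    rw [phiBar_mk, phi_toCotangent, q_toCotangent, Submodule.Quotient.mk_eq_zero, Submodule.mem_comap]
    rw [ker_algebraMap_quotient] at hj
    exact Ideal.mem_sup_left hj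

theorem exists_retraction (h2 : J ⊓ RingHom.ker ε ^ 2 = RingHom.ker ε * J)
    [Module.Projective R
      (↥(RingHom.ker ε) ⧸ Submodule.comap (RingHom.ker ε).subtype (J ⊔ RingHom.ker ε ^ 2))] :
    ∃ l : (RingHom.ker ε).Cotangent →ₗ[A] ((RingHom.ker (algebraMap A (A ⧸ J))).Cotangent ⧸
      (RingHom.ker ε • ⊤ : Submodule A (RingHom.ker (algebraMap A (A ⧸ J))).Cotangent)),
      l ∘ₗ phiBar ε J hJI = LinearMap.id := by
  have hex : Function.Exact ((phiBar ε J hJI).restrictScalars R) ((q ε J).restrictScalars R) :=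
    exact_phiBar_q ε J hJI
  obtain ⟨s, hs⟩ := Module.projective_lifting_property ((q ε J).restrictScalars R)
    LinearMap.id (q_surjective ε J)
  obtain ⟨-, l, hl⟩ := (hex.split_tfae'.out 0 1 rfl rfl).1 ⟨phiBar_injective ε J hJI h2, s, hs⟩
  refine ⟨{ toFun := l, map_add' := l.map_add, map_smul' := fun a x => ?_ }, ?_⟩
  · refine map_smul_of_torsion ε ?_ ?_ l a x
    · intro i hi y
      exact smul_cotangent_eq_zero _ i hi y
    · intro i hi y
      obtain ⟨y, rfl⟩ := Submodule.Quotient.mk_surjective _ y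
      rw [← Submodule.Quotient.mk_smul, Submodule.Quotient.mk_eq_zero]
      exact Submodule.smul_mem_smul hi trivial
  · exact LinearMap.ext fun x => LinearMap.congr_fun hl x

end Main

section Final

variable {R A : Type u} [CommRing R] [CommRing A] [Algebra R A]
  (ε : A →ₐ[R] R) (J : Ideal A) (hJI : J ≤ RingHom.ker ε)

include hJI in
theorem injective_lTensor_kerCotangentToTensor
    (h2 : J ⊓ RingHom.ker ε ^ 2 = RingHom.ker ε * J)
    [Module.Projective R
      (↥(RingHom.ker ε) ⧸ Submodule.comap (RingHom.ker ε).subtype (J ⊔ RingHom.ker ε ^ 2))]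
    (κ : Type u) [CommRing κ] [Algebra A κ] (hκ : ∀ i ∈ RingHom.ker ε, algebraMap A κ i = 0) :
    Function.Injective ((kerCotangentToTensor R A (A ⧸ J)).lTensor κ) := by
  letI : Module (A ⧸ J) (RingHom.ker ε).Cotangent :=
    Module.compHom _ (Ideal.Quotient.factor hJI)
  haveI : IsScalarTower A (A ⧸ J) (RingHom.ker ε).Cotangent := ⟨fun a c x => by
    change Ideal.Quotient.factor hJI (a • c) • x = a • (Ideal.Quotient.factor hJI c • x)
    rw [Algebra.smul_def, map_mul, mul_smul]
    change algebraMap A (A ⧸ RingHom.ker ε) a • _ = _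
    rw [algebraMap_smul]⟩
  let ψ : (A ⧸ J) ⊗[A] Ω[A⁄R] →ₗ[A ⧸ J] (RingHom.ker ε).Cotangent :=
    LinearMap.liftBaseChange (A ⧸ J) (D ε).liftKaehlerDifferential
  have hcomp : (ψ.restrictScalars A) ∘ₗ kerCotangentToTensor R A (A ⧸ J) = phi ε J hJI := by
    apply LinearMap.ext
    intro x
    obtain ⟨x, rfl⟩ := Ideal.toCotangent_surjective _ x
    rw [LinearMap.comp_apply, kerCotangentToTensor_toCotangent, phi_toCotangent]
    change ψ (1 ⊗ₜ _) = _
    rw [LinearMap.liftBaseChange_tmul, one_smul, Derivation.liftKaehlerDifferential_comp_D,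
      D_apply]
    congr 1
    ext
    have hx : ε x.1 = 0 := hJI ((ker_algebraMap_quotient J).le x.2)
    change x.1 - algebraMap R A (ε x.1) = x.1
    rw [hx, map_zero, sub_zero]
  obtain ⟨l, hl⟩ := exists_retraction ε J hJI h2
  have h1 : Function.Injective ((phiBar ε J hJI).lTensor κ) := by
    have : l.lTensor κ ∘ₗ (phiBar ε J hJI).lTensor κ = LinearMap.id := by
      rw [← LinearMap.lTensor_comp, hl, LinearMap.lTensor_id]
    exact Function.HasLeftInverse.injective ⟨_, LinearMap.congr_fun this⟩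
  have h3 := injective_lTensor_mkQ (RingHom.ker ε) κ
    (RingHom.ker (algebraMap A (A ⧸ J))).Cotangent hκ
  have h4 : Function.Injective ((phi ε J hJI).lTensor κ) := by
    rw [← phiBar_comp_mkQ, LinearMap.lTensor_comp, LinearMap.coe_comp]
    exact h1.comp h3
  rw [← hcomp, LinearMap.lTensor_comp, LinearMap.coe_comp] at h4
  exact Function.Injective.of_comp h4

variable [Algebra.FormallySmooth R A]

include hJI in
theorem isSmoothAt (h1 : J.FG)
    (h2 : J ⊓ RingHom.ker ε ^ 2 = RingHom.ker ε * J)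
    [Module.Projective R
      (↥(RingHom.ker ε) ⧸ Submodule.comap (RingHom.ker ε).subtype (J ⊔ RingHom.ker ε ^ 2))]
    (P : Ideal (A ⧸ J)) [P.IsPrime] (hP : (RingHom.ker ε).map (Ideal.Quotient.mk J) ≤ P) :
    Algebra.FormallySmooth R (Localization.AtPrime P) := by
  have hsurj : Function.Surjective (algebraMap A (A ⧸ J)) := Ideal.Quotient.mk_surjective
  haveI : Module.Finite A (RingHom.ker (algebraMap A (A ⧸ J))).Cotangent := by
    haveI : Module.Finite A (RingHom.ker (algebraMap A (A ⧸ J))) := by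
      rw [Module.Finite.iff_fg, ker_algebraMap_quotient]
      exact h1
    exact Module.Finite.of_surjective _ (Ideal.toCotangent_surjective _)
  refine ((Groth.Agent.H11.JacPrime.tfae_quotient (A := R) (B := A) (C := A ⧸ J) hsurj P).out
    0 1).2 ?_
  apply injective_lTensor_kerCotangentToTensor ε J hJI h2
  intro i hi
  rw [IsScalarTower.algebraMap_apply A (A ⧸ J) P.ResidueField,
    Ideal.algebraMap_residueField_eq_zero]
  exact hP (Ideal.mem_map_of_mem _ hi)

end Final

end Groth.Agent.H11.UnitSec
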