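import Mathlib

/-!
# Weakly étale morphisms of affine schemes and of local schemes
-/

set_option autoImplicit false
universe u
open CategoryTheory CategoryTheory.Limits AlgebraicGeometry TensorProduct

namespace Groth.Agent.H11.WESch

/-- `Spec O_{X,x} ⟶ X` is flat. -/
theorem flat_fromSpecStalk (X : Scheme.{u}) (x : X) : Flat (X.fromSpecStalk x) := by
  obtain ⟨U, hU, hxU, -⟩ := TopologicalSpace.Opens.isBasis_iff_nbhd.mp X.isBasis_affineOpens
    (show x ∈ (⊤ : X.Opens) from trivial)
  have hU' : IsAffineOpen U := hU
  rw [← hU'.fromSpecStalk_eq_fromSpecStalk hxU]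
  have h1 : Flat (Spec.map (X.presheaf.germ U x hxU)) := by
    rw [Flat.SpecMap_iff]
    letI : Algebra Γ(X, U) (X.presheaf.stalk x) := (X.presheaf.germ U x hxU).hom.toAlgebra
    haveI := hU'.isLocalization_stalk ⟨x, hxU⟩
    exact IsLocalization.flat (X.presheaf.stalk x) (hU'.primeIdealOf ⟨x, hxU⟩).asIdeal.primeCompl
  dsimp [IsAffineOpen.fromSpecStalk]
  infer_instance

/-- `Spec O_{X,x} ⟶ X` is weakly étale. -/
theorem weaklyEtale_fromSpecStalk (X : Scheme.{u}) (x : X) : WeaklyEtale (X.fromSpecStalk x) := by
  haveI := flat_fromSpecStalk X x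
  exact { flat := inferInstance, flat_diagonal := inferInstance }

/-- A weakly étale ring map induces a weakly étale morphism of spectra. -/
theorem weaklyEtale_specMap (A B : Type u) [CommRing A] [CommRing B] [Algebra A B]
    [Algebra.WeaklyEtale A B] :
    WeaklyEtale (Spec.map (CommRingCat.ofHom (algebraMap A B))) := by
  have h1 : Flat (Spec.map (CommRingCat.ofHom (algebraMap A B))) := by
    rw [Flat.SpecMap_iff]
    show (algebraMap A B).Flat
    rw [RingHom.flat_algebraMap_iff]
    infer_instance
  refine { flat := h1, flat_diagonal := ?_ }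
  have hd : pullback.diagonal (Spec.map (CommRingCat.ofHom (algebraMap A B))) =
      Spec.map (CommRingCat.ofHom (Algebra.TensorProduct.lmul' A (S := B)).toRingHom) ≫
        (pullbackSpecIso A B B).inv := by
    apply pullback.hom_ext
    · rw [pullback.diagonal_fst, Category.assoc, pullbackSpecIso_inv_fst, ← Spec.map_comp,
        ← CommRingCat.ofHom_comp]
      have : (Algebra.TensorProduct.lmul' A (S := B)).toRingHom.comp
          Algebra.TensorProduct.includeLeftRingHom = RingHom.id B := by
        ext b
        simp
      rw [this]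
      simp
    · rw [pullback.diagonal_snd, Category.assoc, pullbackSpecIso_inv_snd, ← Spec.map_comp,
        ← CommRingCat.ofHom_comp]
      have : (Algebra.TensorProduct.lmul' A (S := B)).toRingHom.comp
          (RingHomClass.toRingHom (Algebra.TensorProduct.includeRight (R := A) (A := B) (B := B))) =
            RingHom.id B := by
        ext b
        simp
      rw [this]
      simp
  rw [hd]
  have h2 : Flat (Spec.map (CommRingCat.ofHom
      (Algebra.TensorProduct.lmul' A (S := B)).toRingHom)) := by
    rw [Flat.SpecMap_iff]
    exact Algebra.WeaklyEtale.flat_lmul' A B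
  infer_instance

end Groth.Agent.H11.WESch
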