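import Mathlib
import Groth.Agent.S0526
import Groth.Agent.H11.PairCRT
import Groth.Agent.H11.HensRad

/-!
# Splitting off the finite part over a henselian pair (via Zariski's main theorem)

`(A, I)` henselian pair, `R` a finite type `A`-algebra with `R / IR` module-finite over `A`.
Then there is an idempotent `e ∈ R` with `1 - e ∈ IR` and `R / (1 - e)` module-finite over `A`.
-/

set_option autoImplicit false
universe u
open TensorProduct

namespace Groth.Agent.H11.ZMTS

variable {A : Type u} [CommRing A] {R : Type u} [CommRing R] [Algebra A R]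

/-- The fibre over a prime containing `I` is finite when `R / IR` is finite. -/
theorem fiber_finite (I : Ideal A)
    (hfin : Module.Finite A (R ⧸ I.map (algebraMap A R))) (p : Ideal A) [p.IsPrime]
    (hIp : I ≤ p) : Module.Finite p.ResidueField (p.Fiber R) := by
  classical
  set IR := I.map (algebraMap A R) with hIR
  let f : p.ResidueField ⊗[A] R →ₐ[p.ResidueField] p.ResidueField ⊗[A] (R ⧸ IR) :=
    Algebra.TensorProduct.map (AlgHom.id p.ResidueField p.ResidueField) (Ideal.Quotient.mkₐ A IR)
  have hsurj : Function.Surjective f :=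
    Algebra.TensorProduct.map_surjective _ _ Function.surjective_id
      (Ideal.Quotient.mkₐ_surjective A IR)
  have hker := Algebra.TensorProduct.lTensor_ker (A := p.ResidueField)
    (Ideal.Quotient.mkₐ A IR) (Ideal.Quotient.mkₐ_surjective A IR)
  have hbot : (RingHom.ker (Ideal.Quotient.mkₐ A IR)).map
      (Algebra.TensorProduct.includeRight : R →ₐ[A] p.ResidueField ⊗[A] R) = ⊥ := by
    have hk : RingHom.ker (Ideal.Quotient.mkₐ A IR) = IR := by
      ext x
      simp [RingHom.mem_ker, Ideal.Quotient.eq_zero_iff_mem]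
    rw [hk, hIR, ← Ideal.map_coe, Ideal.map_map]
    have : ((Algebra.TensorProduct.includeRight : R →ₐ[A] p.ResidueField ⊗[A] R) : R →+* _).comp
        (algebraMap A R) = (algebraMap p.ResidueField (p.ResidueField ⊗[A] R)).comp
          (algebraMap A p.ResidueField) := by
      refine RingHom.ext fun a => ?_
      simp [Algebra.TensorProduct.algebraMap_apply, Algebra.algebraMap_eq_smul_one, smul_tmul]
    rw [this, ← Ideal.map_map]
    have h0 : I.map (algebraMap A p.ResidueField) = ⊥ := by
      rw [eq_bot_iff, Ideal.map_le_iff_le_comap]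
      intro i hi
      rw [Ideal.mem_comap, Ideal.mem_bot, Ideal.algebraMap_residueField_eq_zero]
      exact hIp hi
    rw [h0, Ideal.map_bot]
  have hinj : Function.Injective f := by
    rw [injective_iff_map_eq_zero]
    intro x hx
    have : x ∈ RingHom.ker (Algebra.TensorProduct.map (AlgHom.id A p.ResidueField)
        (Ideal.Quotient.mkₐ A IR)) := hx
    rw [hker, hbot] at this
    exact this
  let e : p.ResidueField ⊗[A] R ≃ₐ[p.ResidueField] p.ResidueField ⊗[A] (R ⧸ IR) :=
    AlgEquiv.ofBijective f ⟨hinj, hsurj⟩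
  exact Module.Finite.of_surjective e.symm.toLinearMap e.symm.surjective

/-- Quasi-finiteness at primes containing `IR`. -/
theorem quasiFiniteAt_of_le [Algebra.FiniteType A R] (I : Ideal A)
    (hfin : Module.Finite A (R ⧸ I.map (algebraMap A R))) (q : Ideal R) [q.IsPrime]
    (hq : I.map (algebraMap A R) ≤ q) : Algebra.QuasiFiniteAt A q := by
  have hIp : I ≤ q.under A := fun i hi => hq (Ideal.mem_map_of_mem _ hi)
  haveI : Module.Finite (q.under A).ResidueField ((q.under A).Fiber R) :=
    fiber_finite I hfin (q.under A) hIp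
  let e := PrimeSpectrum.preimageEquivFiber A R ⟨q.under A, inferInstance⟩
  let q' : PrimeSpectrum.comap (algebraMap A R) ⁻¹' {⟨q.under A, inferInstance⟩} :=
    ⟨⟨q, inferInstance⟩, rfl⟩
  have h1 : ((e q').asIdeal).comap Algebra.TensorProduct.includeRight.toRingHom = q :=
    congr($(e.symm_apply_apply q').1.asIdeal)
  haveI : Algebra.QuasiFiniteAt (q.under A).ResidueField (e q').asIdeal := inferInstance
  exact Algebra.QuasiFiniteAt.of_quasiFiniteAt_residueField (q.under A) q (e q').asIdeal h1

/-- The Zariski main theorem element at a prime containing `IR`. -/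
theorem exists_zmt_elem [Algebra.FiniteType A R] (I : Ideal A)
    (hfin : Module.Finite A (R ⧸ I.map (algebraMap A R))) (q : Ideal R) [q.IsPrime]
    (hq : I.map (algebraMap A R) ≤ q) :
    ∃ r ∉ q, IsIntegral A r ∧ ∀ x, ∃ m, IsIntegral A (r ^ m * x) := by
  haveI := quasiFiniteAt_of_le I hfin q hq
  exact Algebra.zariskisMainProperty_iff.mp (Algebra.ZariskisMainProperty.of_finiteType q)

/-- If each element of `S` has a power in `K`, then `span S ≤ K.radical`. -/
theorem span_le_radical {C : Type*} [CommRing C] (S : Set C) (K : Ideal C)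
    (h : ∀ c ∈ S, ∃ m : ℕ, c ^ m ∈ K) : Ideal.span S ≤ K.radical :=
  Ideal.span_le.2 fun c hc => h c hc

/-- For an idempotent, membership in the radical is membership. -/
theorem idem_mem_of_mem_radical {C : Type*} [CommRing C] {e : C} (he : IsIdempotentElem e)
    {K : Ideal C} (h : e ∈ K.radical) : e ∈ K := by
  obtain ⟨m, hm⟩ := h
  have : e ^ (m + 1) = e := he.pow_succ_eq m
  rw [← this, pow_succ]
  exact K.mul_mem_right _ hm

section Main

variable [Algebra.FiniteType A R] (I : Ideal A) [hA : HenselianRing A I]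

/-- The "good" elements of the integral closure. -/
def T (A : Type u) [CommRing A] (R : Type u) [CommRing R] [Algebra A R] :
    Set (integralClosure A R) :=
  {c | ∀ x : R, ∃ m : ℕ, IsIntegral A ((c : R) ^ m * x)}

/-- The conductor-like ideal `{c | c x ∈ C}`. -/
def K (x : R) : Ideal (integralClosure A R) where
  carrier := {c | IsIntegral A ((c : R) * x)}
  add_mem' := by
    intro a b ha hb
    simp only [Set.mem_setOf_eq] at ha hb ⊢
    rw [Subalgebra.coe_add, add_mul]
    exact ha.add hb
  zero_mem' := by simp [isIntegral_zero]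
  smul_mem' := by
    intro d a ha
    simp only [Set.mem_setOf_eq, smul_eq_mul] at ha ⊢
    rw [Subalgebra.coe_mul, mul_assoc]
    exact d.2.mul ha

theorem mem_K {x : R} {c : integralClosure A R} :
    c ∈ K (A := A) x ↔ IsIntegral A ((c : R) * x) := Iff.rfl

theorem span_T_le_radical_K (x : R) : Ideal.span (T A R) ≤ (K (A := A) x).radical := by
  refine span_le_radical _ _ fun c hc => ?_
  obtain ⟨m, hm⟩ := hc x
  exact ⟨m, by rw [mem_K, Subalgebra.coe_pow]; exact hm⟩

/-- For `y ∈ IR` and `c ∈ T`, some `c ^ N * y` lies in (the image of) `IC`. -/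
theorem exists_pow_mul_mem {c : integralClosure A R} (hc : c ∈ T A R) {y : R}
    (hy : y ∈ I.map (algebraMap A R)) :
    ∃ (N : ℕ) (z : integralClosure A R), z ∈ I.map (algebraMap A (integralClosure A R)) ∧
      (z : R) = (c : R) ^ N * y := by
  rw [Ideal.map] at hy
  induction hy using Submodule.span_induction with
  | mem y hy =>
    obtain ⟨i, hi, rfl⟩ := hy
    exact ⟨0, algebraMap A _ i, Ideal.mem_map_of_mem _ hi, by simp⟩
  | zero => exact ⟨0, 0, Ideal.zero_mem _, by simp⟩
  | add y₁ y₂ _ _ h₁ h₂ =>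
    obtain ⟨N₁, z₁, hz₁, e₁⟩ := h₁
    obtain ⟨N₂, z₂, hz₂, e₂⟩ := h₂
    refine ⟨N₁ + N₂, c ^ N₂ * z₁ + c ^ N₁ * z₂,
      Ideal.add_mem _ (Ideal.mul_mem_left _ _ hz₁) (Ideal.mul_mem_left _ _ hz₂), ?_⟩
    simp only [Subalgebra.coe_add, Subalgebra.coe_mul, Subalgebra.coe_pow, e₁, e₂]
    ring
  | smul x y _ h =>
    obtain ⟨N, z, hz, e⟩ := h
    obtain ⟨m, hm⟩ := hc x
    refine ⟨N + m, ⟨_, hm⟩ * z, Ideal.mul_mem_left _ _ hz, ?_⟩
    simp only [Subalgebra.coe_mul, e, smul_eq_mul]
    ring

/-- **Finite part splitting over a henselian pair.** -/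
theorem exists_idempotent_finite (hfin : Module.Finite A (R ⧸ I.map (algebraMap A R))) :
    ∃ e : R, IsIdempotentElem e ∧ 1 - e ∈ I.map (algebraMap A R) ∧
      Module.Finite A (R ⧸ Ideal.span {1 - e}) := by
  classical
  set IR := I.map (algebraMap A R) with hIR
  let C := integralClosure A R
  set IC : Ideal C := I.map (algebraMap A C) with hIC
  let J : Ideal C := IR.comap (algebraMap C R)
  let 𝔯 : Ideal C := Ideal.span (T A R)
  haveI : Algebra.IsIntegral A C := ⟨integralClosure.isIntegral⟩
  have hC : HenselianRing C IC := Groth.Agent.S0526.result A I C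
  have hCrad : HenselianRing C IC.radical := hens_radical_of_hens IC hC
  have hICJ : IC ≤ J := by
    rw [hIC, Ideal.map_le_iff_le_comap]
    intro i hi
    show algebraMap C R (algebraMap A C i) ∈ IR
    rw [← IsScalarTower.algebraMap_apply]
    exact Ideal.mem_map_of_mem _ hi
  -- comaximality
  have hsup : 𝔯 ⊔ J = ⊤ := by
    by_contra hne
    obtain ⟨𝔫, h𝔫max, h𝔫⟩ := Ideal.exists_le_maximal _ hne
    haveI := h𝔫max.isPrime
    haveI : Algebra.IsIntegral A (R ⧸ IR) := Algebra.IsIntegral.of_finite A _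
    haveI : Algebra.IsIntegral C (R ⧸ IR) := Algebra.IsIntegral.tower_top A
    obtain ⟨Q, -, hQp, hQ⟩ :=
      Ideal.exists_ideal_over_prime_of_isIntegral 𝔫 (⊥ : Ideal (R ⧸ IR)) (by
        intro c hc
        apply h𝔫
        apply Ideal.mem_sup_right
        show algebraMap C R c ∈ IR
        have h0 : algebraMap C (R ⧸ IR) c = 0 := hc
        rwa [IsScalarTower.algebraMap_apply C R (R ⧸ IR), Ideal.Quotient.algebraMap_eq,
          Ideal.Quotient.eq_zero_iff_mem] at h0)
    let q : Ideal R := Q.comap (Ideal.Quotient.mk IR)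
    haveI : q.IsPrime := Ideal.comap_isPrime _ _
    have hq : IR ≤ q := fun x hx => by
      show Ideal.Quotient.mk IR x ∈ Q
      rw [Ideal.Quotient.eq_zero_iff_mem.2 hx]
      exact Q.zero_mem
    obtain ⟨r, hrq, hrint, hr⟩ := exists_zmt_elem I hfin q hq
    have hrT : (⟨r, hrint⟩ : C) ∈ T A R := hr
    have h1 : (⟨r, hrint⟩ : C) ∈ 𝔫 := h𝔫 (Ideal.mem_sup_left (Ideal.subset_span hrT))
    rw [← hQ] at h1
    exact hrq h1
  -- products are in the radical
  have hc_rad : ∀ a ∈ J, ∀ c ∈ 𝔯, c * a ∈ IC.radical := by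
    intro a ha
    let L : Ideal C := Submodule.comap (LinearMap.mulRight C a) IC.radical
    have hL : 𝔯 ≤ L := Ideal.span_le.2 fun c hc => by
      obtain ⟨N, z, hz, e⟩ := exists_pow_mul_mem I hc ha
      show c * a ∈ IC.radical
      refine ⟨N + 1, ?_⟩
      have hza : z = c ^ N * a := Subtype.ext (by simp [e])
      have h2 : (c * a) ^ (N + 1) = c * a ^ N * z := by rw [hza]; ring
      rw [h2]
      exact Ideal.mul_mem_left _ _ hz
    exact fun c hc => hL hc
  obtain ⟨c, hc, j, hj, hcj⟩ := Submodule.mem_sup.1 (hsup ▸ Submodule.mem_top : (1 : C) ∈ 𝔯 ⊔ J)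
  have hcc : c * c - c ∈ IC.radical := by
    have h1 : c * c - c = -(c * j) := by
      have h2 : j = 1 - c := by rw [← hcj]; ring
      rw [h2]; ring
    rw [h1]
    exact neg_mem (hc_rad j hj c hc)
  obtain ⟨e, he, hec⟩ := PH.exists_idempotent_lift hCrad c hcc
  have hjac : IC.radical ≤ Ideal.jacobson ⊥ := hCrad.jac
  have he𝔯 : e ∈ 𝔯 := by
    have hu : IsUnit (1 - (e - c)) := by
      have := Ideal.mem_jacobson_bot.1 (hjac hec) (-1)
      convert this using 1
      ring
    obtain ⟨u, hu⟩ := hu
    have h1 : e * (1 - (e - c)) = e * c := by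
      have : e * e = e := he
      linear_combination (-1 : C) * this
    have h2 : e = (e * ↑u⁻¹) * c := by
      calc e = e * (1 - (e - c)) * ↑u⁻¹ := by rw [← hu, mul_assoc, Units.mul_inv, mul_one]
        _ = e * c * ↑u⁻¹ := by rw [h1]
        _ = _ := by ring
    rw [h2]
    exact Ideal.mul_mem_left _ _ hc
  have hex : ∀ x : R, IsIntegral A ((e : R) * x) := fun x =>
    idem_mem_of_mem_radical he (span_T_le_radical_K x he𝔯)
  have heR : IsIdempotentElem (e : R) := by
    have := congrArg Subtype.val he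
    simp only [Subalgebra.coe_mul] at this
    exact this
  have h1e : (1 : R) - (e : R) ∈ IR := by
    apply idem_mem_of_mem_radical heR.one_sub
    have h2 : (1 : R) - e = (j : R) + ((c : R) - e) := by
      have := congrArg Subtype.val hcj
      simp only [Subalgebra.coe_add, Subalgebra.coe_one] at this
      rw [← this]; ring
    rw [h2]
    refine Ideal.add_mem _ (Ideal.le_radical hj) ?_
    have h3 : c - e ∈ IC.radical := by rw [← neg_sub]; exact neg_mem hec
    obtain ⟨m, hm⟩ := h3
    refine ⟨m, ?_⟩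
    have h4 : algebraMap C R ((c - e) ^ m) ∈ IR := hICJ hm
    have h5 : algebraMap C R ((c - e) ^ m) = ((c : R) - e) ^ m := by
      rw [map_pow, map_sub]; rfl
    rwa [h5] at h4
  refine ⟨e, heR, h1e, ?_⟩
  haveI : Algebra.FiniteType A (R ⧸ Ideal.span {1 - (e : R)}) :=
    Algebra.FiniteType.of_surjective (Ideal.Quotient.mkₐ A _) (Ideal.Quotient.mkₐ_surjective _ _)
  haveI : Algebra.IsIntegral A (R ⧸ Ideal.span {1 - (e : R)}) := ⟨fun y => by
    obtain ⟨x, rfl⟩ := Ideal.Quotient.mk_surjective y
    have h2 : Ideal.Quotient.mk _ x =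
        Ideal.Quotient.mkₐ A (Ideal.span {1 - (e : R)}) ((e : R) * x) := by
      rw [Ideal.Quotient.mkₐ_eq_mk, Ideal.Quotient.eq, Ideal.mem_span_singleton]
      exact ⟨x, by ring⟩
    rw [h2]
    exact (hex x).map _⟩
  exact Algebra.IsIntegral.finite

end Main

end Groth.Agent.H11.ZMTS
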