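import Mathlib
import Groth.Agent.H11.TensorColim
import Groth.Agent.H11.ZMTSplit
import Groth.Agent.H11.PairHens

/-!
# Splitting off the finite part on an étale neighbourhood of `V(I)` (non-henselian base)
-/

set_option autoImplicit false
universe u
open TensorProduct CategoryTheory Polynomial

namespace Groth.Agent.H11.ZMTN

open Groth.Agent.H11.PH

variable {A : Type u} [CommRing A] (I : Ideal A) (B : Type u) [CommRing B] [Algebra A B]

/-- Base change of the finiteness of `B / IB`. -/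
theorem finite_baseChange_quotient (H : Type u) [CommRing H] [Algebra A H]
    (hfin : Module.Finite A (B ⧸ I.map (algebraMap A B))) :
    Module.Finite H ((H ⊗[A] B) ⧸ (I.map (algebraMap A H)).map (algebraMap H (H ⊗[A] B))) := by
  classical
  set IR : Ideal (H ⊗[A] B) := (I.map (algebraMap A H)).map (algebraMap H (H ⊗[A] B)) with hIR
  have hIR' : IR = I.map (algebraMap A (H ⊗[A] B)) := by
    rw [hIR, Ideal.map_map, ← IsScalarTower.algebraMap_eq]
  have hle : I.map (algebraMap A B) ≤ IR.comap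
      (Algebra.TensorProduct.includeRight : B →ₐ[A] H ⊗[A] B) := by
    rw [Ideal.map_le_iff_le_comap]
    intro i hi
    rw [Ideal.mem_comap, Ideal.mem_comap, hIR', AlgHom.commutes]
    exact Ideal.mem_map_of_mem _ hi
  let ψ : (B ⧸ I.map (algebraMap A B)) →ₐ[A] (H ⊗[A] B) ⧸ IR :=
    Ideal.quotientMapₐ IR (Algebra.TensorProduct.includeRight : B →ₐ[A] H ⊗[A] B) hle
  have hψ : ∀ b : B, ψ (Ideal.Quotient.mk _ b) = Ideal.Quotient.mk IR (1 ⊗ₜ b) := fun b => rfl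
  let g : H ⊗[A] (B ⧸ I.map (algebraMap A B)) →ₗ[H] (H ⊗[A] B) ⧸ IR :=
    LinearMap.liftBaseChange H ψ.toLinearMap
  have hg : Function.Surjective g := by
    intro y
    obtain ⟨x, rfl⟩ := Ideal.Quotient.mk_surjective y
    induction x with
    | zero => exact ⟨0, by simp⟩
    | tmul h b =>
      refine ⟨h ⊗ₜ (Ideal.Quotient.mk _ b), ?_⟩
      rw [LinearMap.liftBaseChange_tmul]
      show h • ψ (Ideal.Quotient.mk _ b) = _
      rw [hψ]
      have : h ⊗ₜ[A] b = h • ((1 : H) ⊗ₜ[A] b) := by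
        rw [TensorProduct.smul_tmul', smul_eq_mul, mul_one]
      rw [this]
      rfl
    | add x y hx hy =>
      obtain ⟨x', hx'⟩ := hx
      obtain ⟨y', hy'⟩ := hy
      exact ⟨x' + y', by rw [map_add, hx', hy', map_add]⟩
  exact Module.Finite.of_surjective g hg

/-- Compatibility of `aeval` with a semilinear ring map. -/
theorem map_aeval_eq {S S' T T' : Type*} [CommRing S] [CommRing S'] [CommRing T] [CommRing T']
    [Algebra S T] [Algebra S' T'] (φ : S →+* S') (Φ : T →+* T')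
    (h : Φ.comp (algebraMap S T) = (algebraMap S' T').comp φ) (x : T) (P : S[X]) :
    Φ (aeval x P) = aeval (Φ x) (P.map φ) := by
  rw [aeval_def, aeval_def, hom_eval₂, h, eval₂_map]

section Generic

variable (Q Q' Q'' : Type u) [CommRing Q] [CommRing Q'] [CommRing Q''] [Algebra A Q] [Algebra A Q']
  [Algebra A Q'']

/-- The ideal `I (Q ⊗ B)`. -/
def IT : Ideal (Q ⊗[A] B) := I.map (algebraMap A (Q ⊗[A] B))

variable {Q Q' Q''}

/-- Base change of an algebra map. -/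
noncomputable def T (f : Q →ₐ[A] Q') : Q ⊗[A] B →ₐ[A] Q' ⊗[A] B :=
  Algebra.TensorProduct.map f (AlgHom.id A B)

@[simp] theorem T_tmul (f : Q →ₐ[A] Q') (q : Q) (b : B) : T B f (q ⊗ₜ b) = f q ⊗ₜ b := rfl

theorem T_comp (f : Q →ₐ[A] Q') (g : Q' →ₐ[A] Q'') (x : Q ⊗[A] B) :
    T B (g.comp f) x = T B g (T B f x) := by
  induction x with
  | zero => simp
  | tmul q b => simp
  | add x y hx hy => simp [hx, hy]

theorem T_comp_algebraMap (f : Q →ₐ[A] Q') :
    (T B f).toRingHom.comp (algebraMap Q (Q ⊗[A] B)) =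
      (algebraMap Q' (Q' ⊗[A] B)).comp f.toRingHom := by
  refine RingHom.ext fun q => ?_
  simp [Algebra.TensorProduct.algebraMap_apply]

theorem T_mem (f : Q →ₐ[A] Q') {x : Q ⊗[A] B} (hx : x ∈ IT I B Q) : T B f x ∈ IT I B Q' := by
  have h1 : T B f x ∈ (IT I B Q).map (T B f).toRingHom := Ideal.mem_map_of_mem _ hx
  rw [IT, Ideal.map_map] at h1
  have h2 : (T B f).toRingHom.comp (algebraMap A (Q ⊗[A] B)) = algebraMap A (Q' ⊗[A] B) :=
    (T B f).comp_algebraMap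
  rwa [h2] at h1

theorem T_mul_aeval (f : Q →ₐ[A] Q') (ε : Q ⊗[A] B) (b : B) (P : Q[X]) :
    T B f (ε * aeval ((1 : Q) ⊗ₜ[A] b) P) =
      T B f ε * aeval ((1 : Q') ⊗ₜ[A] b) (P.map f.toRingHom) := by
  have h1 := map_aeval_eq f.toRingHom (T B f).toRingHom
    (T_comp_algebraMap B f) ((1 : Q) ⊗ₜ[A] b) P
  have h2 : (T B f).toRingHom ((1 : Q) ⊗ₜ[A] b) = (1 : Q') ⊗ₜ[A] b := by
    show T B f ((1 : Q) ⊗ₜ[A] b) = _
    rw [T_tmul, map_one]
  rw [h2] at h1
  rw [map_mul, ← h1]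
  rfl

variable (Q) in
/-- The integrality datum. -/
def IntAt (ε : Q ⊗[A] B) (b : B) : Prop :=
  ∃ P : Q[X], P.Monic ∧ ε * aeval ((1 : Q) ⊗ₜ[A] b) P = 0

variable {B}

theorem IntAt.map (f : Q →ₐ[A] Q') {ε : Q ⊗[A] B} {b : B} (h : IntAt B Q ε b) :
    IntAt B Q' (T B f ε) b := by
  obtain ⟨P, hP, h0⟩ := h
  refine ⟨P.map f.toRingHom, hP.map _, ?_⟩
  have h1 := map_aeval_eq f.toRingHom (T B f).toRingHom
    (T_comp_algebraMap B f) ((1 : Q) ⊗ₜ[A] b) P
  have h2 : (T B f).toRingHom ((1 : Q) ⊗ₜ[A] b) = (1 : Q') ⊗ₜ[A] b := by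
    show T B f ((1 : Q) ⊗ₜ[A] b) = _
    rw [T_tmul, map_one]
  rw [h2] at h1
  rw [← h1]
  have h3 := congrArg (T B f) h0
  rw [map_mul, map_zero] at h3
  exact h3

/-- Finiteness from the integrality data on algebra generators. -/
theorem finite_of_intAt (s : Set B) (hs : Algebra.adjoin A s = ⊤) [Algebra.FiniteType A B]
    (ε : Q ⊗[A] B) (hint : ∀ b ∈ s, IntAt B Q ε b) :
    Module.Finite Q ((Q ⊗[A] B) ⧸ Ideal.span {1 - ε}) := by
  classical
  set J : Ideal (Q ⊗[A] B) := Ideal.span {1 - ε} with hJ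
  have hmkε : Ideal.Quotient.mk J ε = 1 := by
    have : Ideal.Quotient.mk J (1 - ε) = 0 :=
      Ideal.Quotient.eq_zero_iff_mem.2 (Ideal.subset_span rfl)
    rw [map_sub, map_one, sub_eq_zero] at this
    exact this.symm
  let ψ : B →ₐ[A] (Q ⊗[A] B) ⧸ J :=
    (Ideal.Quotient.mkₐ A J).comp Algebra.TensorProduct.includeRight
  have hψ : ∀ b, ψ b = Ideal.Quotient.mk J ((1 : Q) ⊗ₜ[A] b) := fun b => rfl
  let S₀ : Subalgebra A B :=
    ((integralClosure Q ((Q ⊗[A] B) ⧸ J)).restrictScalars A).comap ψ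
  have hS₀ : ∀ b, b ∈ S₀ ↔ IsIntegral Q (ψ b) := fun b => Iff.rfl
  have hsS₀ : s ⊆ S₀ := by
    intro b hb
    rw [SetLike.mem_coe, hS₀]
    obtain ⟨P, hP, h0⟩ := hint b hb
    refine ⟨P, hP, ?_⟩
    rw [← aeval_def, hψ]
    have h1 : aeval (Ideal.Quotient.mk J ((1 : Q) ⊗ₜ[A] b)) P =
        Ideal.Quotient.mk J (aeval ((1 : Q) ⊗ₜ[A] b) P) :=
      aeval_algHom_apply (Ideal.Quotient.mkₐ Q J) _ P
    rw [h1, ← one_mul (Ideal.Quotient.mk J _), ← hmkε, ← map_mul, h0, map_zero]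
  have htop : S₀ = ⊤ := by
    rw [eq_top_iff, ← hs]
    exact Algebra.adjoin_le hsS₀
  have hall : ∀ b, IsIntegral Q (ψ b) := fun b => (hS₀ b).1 (htop ▸ Algebra.mem_top)
  haveI : Algebra.IsIntegral Q ((Q ⊗[A] B) ⧸ J) := ⟨fun y => by
    obtain ⟨x, rfl⟩ := Ideal.Quotient.mk_surjective y
    induction x with
    | zero => rw [map_zero]; exact isIntegral_zero
    | tmul q b =>
      have h1 : Ideal.Quotient.mk J (q ⊗ₜ[A] b) =
          algebraMap Q ((Q ⊗[A] B) ⧸ J) q * ψ b := by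
        rw [hψ, IsScalarTower.algebraMap_apply Q (Q ⊗[A] B) ((Q ⊗[A] B) ⧸ J),
          Ideal.Quotient.algebraMap_eq, ← map_mul, Algebra.TensorProduct.algebraMap_apply,
          Algebra.TensorProduct.tmul_mul_tmul, mul_one, one_mul]
        rfl
      rw [h1]
      exact isIntegral_algebraMap.mul (hall b)
    | add x y hx hy => rw [map_add]; exact hx.add hy⟩
  haveI : Algebra.FiniteType Q ((Q ⊗[A] B) ⧸ J) :=
    Algebra.FiniteType.of_surjective (Ideal.Quotient.mkₐ Q J) (Ideal.Quotient.mkₐ_surjective Q J)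
  exact Algebra.IsIntegral.finite

end Generic

section Colim

variable {I} {B}

theorem T_ι_eq_σ (j : NObj A I) (x : j.Q ⊗[A] B) : T B (ι j) x = σ B j x := by
  induction x with
  | zero => simp
  | tmul q b => simp
  | add x y hx hy => simp [hx, hy]

theorem T_toAlg_eq_σt {j k : NObj A I} (f : j ⟶ k) (x : j.Q ⊗[A] B) :
    T B (toAlg f) x = σt B f x := by
  induction x with
  | zero => simp
  | tmul q b => simp
  | add x y hx hy => simp [hx, hy]

theorem T_ι_T {j k : NObj A I} (f : j ⟶ k) (x : j.Q ⊗[A] B) :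
    T B (ι k) (T B (toAlg f) x) = T B (ι j) x := by
  rw [T_ι_eq_σ, T_toAlg_eq_σt, σ_σt, T_ι_eq_σ]

theorem exists_rep_T (r : PHens A I ⊗[A] B) :
    ∃ (j : NObj A I) (x : j.Q ⊗[A] B), T B (ι j) x = r := by
  obtain ⟨j, x, hx⟩ := exists_rep_tensor r
  exact ⟨j, x, by rw [T_ι_eq_σ, hx]⟩

theorem T_ι_eq_iff {j : NObj A I} (x y : j.Q ⊗[A] B) :
    T B (ι j) x = T B (ι j) y ↔
      ∃ (k : NObj A I) (f : j ⟶ k), T B (toAlg f) x = T B (toAlg f) y := by
  rw [T_ι_eq_σ, T_ι_eq_σ, σ_eq_iff]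
  simp only [T_toAlg_eq_σt]

theorem T_toAlg_comp {j k l : NObj A I} (f : j ⟶ k) (g : k ⟶ l) (x : j.Q ⊗[A] B) :
    T B (toAlg (f ≫ g)) x = T B (toAlg g) (T B (toAlg f) x) := by
  rw [toAlg_comp, T_comp]

/-- Elements of `I (A^h ⊗ B)` come from elements of `I R_j`. -/
theorem exists_rep_mem {r : PHens A I ⊗[A] B} (hr : r ∈ IT I B (PHens A I)) :
    ∃ (j : NObj A I) (x : j.Q ⊗[A] B), T B (ι j) x = r ∧ x ∈ IT I B j.Q := by
  rw [IT, Ideal.map] at hr
  induction hr using Submodule.span_induction with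
  | mem r hr =>
    obtain ⟨i, hi, rfl⟩ := hr
    let j₀ : NObj A I := Classical.arbitrary _
    exact ⟨j₀, algebraMap A _ i, (T B (ι j₀)).commutes i, Ideal.mem_map_of_mem _ hi⟩
  | zero => exact ⟨Classical.arbitrary _, 0, map_zero _, Ideal.zero_mem _⟩
  | add r s _ _ hr hs =>
    obtain ⟨j, x, rfl, hx⟩ := hr
    obtain ⟨k, y, rfl, hy⟩ := hs
    refine ⟨IsFiltered.max j k, T B (toAlg (IsFiltered.leftToMax j k)) x +
      T B (toAlg (IsFiltered.rightToMax j k)) y, ?_,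
      Ideal.add_mem _ (T_mem I B _ hx) (T_mem I B _ hy)⟩
    rw [map_add, T_ι_T, T_ι_T]
  | smul r' r _ hr =>
    obtain ⟨j, x, rfl, hx⟩ := hr
    obtain ⟨k, y, rfl⟩ := exists_rep_T r'
    refine ⟨IsFiltered.max j k, T B (toAlg (IsFiltered.rightToMax j k)) y *
      T B (toAlg (IsFiltered.leftToMax j k)) x, ?_,
      Ideal.mul_mem_left _ _ (T_mem I B _ hx)⟩
    rw [map_mul, T_ι_T, T_ι_T, smul_eq_mul]

/-- **Splitting off the finite part at a finite stage.** -/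
theorem exists_stage_split [Algebra.FiniteType A B]
    (hfin : Module.Finite A (B ⧸ I.map (algebraMap A B))) :
    ∃ (Q : Type u) (_ : CommRing Q) (_ : Algebra A Q) (_ : Algebra.Etale A Q) (_ : IsNbhd I Q)
      (ε : Q ⊗[A] B), IsIdempotentElem ε ∧ 1 - ε ∈ IT I B Q ∧
      Module.Finite Q ((Q ⊗[A] B) ⧸ Ideal.span {1 - ε}) := by
  classical
  haveI hH : HenselianRing (PHens A I) (I.map (algebraMap A (PHens A I))) := henselianRing_pHens
  have hfinR := finite_baseChange_quotient I B (PHens A I) hfin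
  obtain ⟨e, he, h1e, hfe⟩ := ZMTS.exists_idempotent_finite (A := PHens A I)
    (R := PHens A I ⊗[A] B) (I.map (algebraMap A (PHens A I))) hfinR
  have h1e' : 1 - e ∈ IT I B (PHens A I) := by
    rw [IT, IsScalarTower.algebraMap_eq A (PHens A I) (PHens A I ⊗[A] B), ← Ideal.map_map]
    exact h1e
  -- Step a: an idempotent at a stage with `1 - ε ∈ I R_j`
  obtain ⟨j₁, e₁, he₁⟩ := exists_rep_T e
  have hidem : T B (ι j₁) (e₁ * e₁) = T B (ι j₁) e₁ := by rw [map_mul, he₁]; exact he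
  obtain ⟨j₂, f₂, hf₂⟩ := (T_ι_eq_iff _ _).1 hidem
  obtain ⟨e₂, he₂def⟩ : ∃ e₂, e₂ = T B (toAlg f₂) e₁ := ⟨_, rfl⟩
  have he₂ : T B (ι j₂) e₂ = e := by rw [he₂def, T_ι_T, he₁]
  have he₂i : IsIdempotentElem e₂ := by
    show e₂ * e₂ = e₂
    rw [he₂def, ← map_mul]
    exact hf₂
  obtain ⟨j₃, x₃, hx₃, hx₃m⟩ := exists_rep_mem h1e'
  obtain ⟨e₃, he₃def⟩ : ∃ e₃, e₃ = T B (toAlg (IsFiltered.leftToMax j₂ j₃)) e₂ := ⟨_, rfl⟩
  obtain ⟨x₄, hx₄def⟩ : ∃ x₄, x₄ = T B (toAlg (IsFiltered.rightToMax j₂ j₃)) x₃ := ⟨_, rfl⟩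
  have h4 : T B (ι (IsFiltered.max j₂ j₃)) (1 - e₃) = T B (ι (IsFiltered.max j₂ j₃)) x₄ := by
    rw [map_sub, map_one, he₃def, hx₄def, T_ι_T, T_ι_T, he₂, hx₃]
  obtain ⟨j₅, f₅, hf₅⟩ := (T_ι_eq_iff _ _).1 h4
  obtain ⟨e₅, he₅def⟩ : ∃ e₅, e₅ = T B (toAlg f₅) e₃ := ⟨_, rfl⟩
  have he₅ : T B (ι j₅) e₅ = e := by rw [he₅def, he₃def, T_ι_T, T_ι_T, he₂]
  have he₅i : IsIdempotentElem e₅ := by
    rw [he₅def, he₃def]
    exact (he₂i.map _).map _
  have he₅m : 1 - e₅ ∈ IT I B j₅.Q := by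
    have h5 : 1 - e₅ = T B (toAlg f₅) x₄ := by rw [← hf₅, map_sub, map_one, he₅def]
    rw [h5, hx₄def]
    exact T_mem I B _ (T_mem I B _ hx₃m)
  -- Step b: integrality of one element
  have hb : ∀ (b : B) (k : NObj A I) (ε : k.Q ⊗[A] B), T B (ι k) ε = e →
      ∃ (l : NObj A I) (g : k ⟶ l), IntAt B l.Q (T B (toAlg g) ε) b := by
    intro b k ε hε
    haveI := hfe
    have hint : IsIntegral (PHens A I)
        (Ideal.Quotient.mk (Ideal.span {1 - e}) ((1 : PHens A I) ⊗ₜ[A] b)) :=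
      Algebra.IsIntegral.isIntegral _
    obtain ⟨P, hP, hP0⟩ := hint
    have h1 : e * aeval ((1 : PHens A I) ⊗ₜ[A] b) P = 0 := by
      rw [← aeval_def] at hP0
      have h2 : aeval (Ideal.Quotient.mk (Ideal.span {1 - e}) ((1 : PHens A I) ⊗ₜ[A] b)) P =
          Ideal.Quotient.mk (Ideal.span {1 - e}) (aeval ((1 : PHens A I) ⊗ₜ[A] b) P) :=
        aeval_algHom_apply (Ideal.Quotient.mkₐ (PHens A I) (Ideal.span {1 - e})) _ P
      rw [h2, Ideal.Quotient.eq_zero_iff_mem, Ideal.mem_span_singleton'] at hP0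
      obtain ⟨w, hw⟩ := hP0
      rw [← hw]
      have h3 : e * (1 - e) = 0 := by rw [mul_sub, mul_one, he.eq, sub_self]
      calc e * (w * (1 - e)) = w * (e * (1 - e)) := by ring
        _ = 0 := by rw [h3, mul_zero]
    obtain ⟨l₁, g₁, y', hy'⟩ := exists_stage_fin k (P.natDegree + 1) (fun i => P.coeff i)
    have hlifts : P ∈ Polynomial.lifts (ι l₁).toRingHom := by
      rw [Polynomial.lifts_iff_coeff_lifts]
      intro n
      by_cases hn : n < P.natDegree + 1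
      · exact ⟨y' ⟨n, hn⟩, hy' ⟨n, hn⟩⟩
      · refine ⟨0, ?_⟩
        rw [map_zero, Polynomial.coeff_eq_zero_of_natDegree_lt (by omega)]
    obtain ⟨q, hq, -, hqm⟩ := Polynomial.lifts_and_natDegree_eq_and_monic hlifts hP
    have hx : T B (ι l₁) (T B (toAlg g₁) ε * aeval ((1 : l₁.Q) ⊗ₜ[A] b) q) =
        T B (ι l₁) 0 := by
      rw [T_mul_aeval, T_ι_T, hε, hq, h1, map_zero]
    obtain ⟨l₂, g₂, hg₂⟩ := (T_ι_eq_iff _ _).1 hx
    rw [map_zero, T_mul_aeval] at hg₂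
    refine ⟨l₂, g₁ ≫ g₂, q.map (toAlg g₂).toRingHom, hqm.map _, ?_⟩
    rw [T_toAlg_comp]
    exact hg₂
  -- Step c: all generators
  obtain ⟨s, hs⟩ := (inferInstance : Algebra.FiniteType A B).out
  have hc : ∀ t : Finset B, ∃ (l : NObj A I) (g : j₅ ⟶ l),
      ∀ b ∈ t, IntAt B l.Q (T B (toAlg g) e₅) b := by
    intro t
    induction t using Finset.induction_on with
    | empty => exact ⟨j₅, 𝟙 _, fun b hb => absurd hb (Finset.notMem_empty b)⟩
    | insert b t _ ih =>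
      obtain ⟨l, g, hl⟩ := ih
      obtain ⟨l', g', hl'⟩ := hb b l (T B (toAlg g) e₅) (by rw [T_ι_T, he₅])
      refine ⟨l', g ≫ g', fun b' hb' => ?_⟩
      rw [T_toAlg_comp]
      rcases Finset.mem_insert.1 hb' with rfl | hb'
      · exact hl'
      · exact (hl b' hb').map _
  obtain ⟨l, g, hl⟩ := hc s
  refine ⟨l.Q, inferInstance, inferInstance, inferInstance, l.nbhd, T B (toAlg g) e₅,
    he₅i.map _, ?_, finite_of_intAt (s : Set B) hs _ hl⟩
  have h6 := T_mem I B (toAlg g) he₅m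
  rwa [map_sub, map_one] at h6

end Colim

end Groth.Agent.H11.ZMTN
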