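import Mathlib
import Groth.Agent.H11.ZMTNbhd

/-!
# Packaging the finite-stage splitting into the statement on étale neighbourhoods
-/

set_option autoImplicit false
universe u
open TensorProduct

namespace Groth.Agent.H11.ZMTN

open Groth.Agent.H11.PH

variable {A : Type u} [CommRing A] {I : Ideal A} {B : Type u} [CommRing B] [Algebra A B]

theorem package (Q : Type u) [CommRing Q] [Algebra A Q] [Algebra.Etale A Q] (hQ : IsNbhd I Q)
    (ε : Q ⊗[A] B) (hε : IsIdempotentElem ε) (h1 : 1 - ε ∈ IT I B Q)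
    (hfin : Module.Finite Q ((Q ⊗[A] B) ⧸ Ideal.span {1 - ε})) :
    ∃ (C : Type u) (_ : CommRing C) (_ : Algebra A C) (_ : Algebra Q C) (_ : Algebra B C)
      (_ : IsScalarTower A Q C) (_ : IsScalarTower A B C),
      Function.Surjective ((Ideal.Quotient.mk (Ideal.map (algebraMap A Q) I)).comp
        (algebraMap A Q)) ∧
      RingHom.ker ((Ideal.Quotient.mk (Ideal.map (algebraMap A Q) I)).comp (algebraMap A Q)) = I ∧
      Algebra.Etale B C ∧ Module.Finite Q C ∧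
      Function.Surjective ((Ideal.Quotient.mk (Ideal.map (algebraMap A C) I)).comp
        (algebraMap B C)) ∧
      RingHom.ker ((Ideal.Quotient.mk (Ideal.map (algebraMap A C) I)).comp (algebraMap B C)) =
        Ideal.map (algebraMap A B) I := by
  classical
  obtain ⟨hn1, hn2⟩ := isNbhd_iff.1 hQ
  set J : Ideal (Q ⊗[A] B) := Ideal.span {1 - ε} with hJ
  letI algBR : Algebra B (Q ⊗[A] B) :=
    (Algebra.TensorProduct.includeRight : B →ₐ[A] Q ⊗[A] B).toRingHom.toAlgebra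
  have halgBR : ∀ b : B, algebraMap B (Q ⊗[A] B) b = (1 : Q) ⊗ₜ[A] b := fun b => rfl
  haveI towerABR : IsScalarTower A B (Q ⊗[A] B) := IsScalarTower.of_algebraMap_eq (fun a => by
    rw [halgBR]
    exact ((Algebra.TensorProduct.includeRight : B →ₐ[A] Q ⊗[A] B).commutes a).symm)
  have halgBC : ∀ b : B, algebraMap B ((Q ⊗[A] B) ⧸ J) b =
      Ideal.Quotient.mk J ((1 : Q) ⊗ₜ[A] b) := fun b => rfl
  haveI towerABC : IsScalarTower A B ((Q ⊗[A] B) ⧸ J) := inferInstance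
  -- common facts
  have hF1 : ∀ x : Q ⊗[A] B, ∃ b : B, x - (1 : Q) ⊗ₜ[A] b ∈ IT I B Q := by
    intro x
    induction x with
    | zero => exact ⟨0, by simp⟩
    | tmul q b' =>
      obtain ⟨a, ha⟩ := hn1 q
      refine ⟨a • b', ?_⟩
      have h2 : q ⊗ₜ[A] b' - (1 : Q) ⊗ₜ[A] (a • b') = (q - algebraMap A Q a) ⊗ₜ[A] b' := by
        rw [TensorProduct.sub_tmul, Algebra.algebraMap_eq_smul_one, TensorProduct.smul_tmul]
      rw [h2]
      exact tmul_mem_left ha b'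
    | add x y hx hy =>
      obtain ⟨b₁, h₁⟩ := hx
      obtain ⟨b₂, h₂⟩ := hy
      refine ⟨b₁ + b₂, ?_⟩
      have h2 : x + y - (1 : Q) ⊗ₜ[A] (b₁ + b₂) =
          (x - (1 : Q) ⊗ₜ[A] b₁) + (y - (1 : Q) ⊗ₜ[A] b₂) := by
        rw [TensorProduct.tmul_add]; ring
      rw [h2]
      exact Ideal.add_mem _ h₁ h₂
  have hmkIT : ∀ x ∈ IT I B Q,
      Ideal.Quotient.mk J x ∈ I.map (algebraMap A ((Q ⊗[A] B) ⧸ J)) := by
    intro x hx
    have h2 := Ideal.mem_map_of_mem (Ideal.Quotient.mk J) hx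
    rw [IT, Ideal.map_map] at h2
    exact h2
  obtain ⟨ρ, hρ⟩ := hQ.exists_retr
  set IB : Ideal B := I.map (algebraMap A B) with hIB
  let κ : A ⧸ I →ₐ[A] B ⧸ IB := Ideal.quotientMapₐ IB (Algebra.ofId A B) Ideal.le_comap_map
  let Φ₀ : Q ⊗[A] B →ₐ[A] B ⧸ IB :=
    Algebra.TensorProduct.productMap (κ.comp ρ) (Ideal.Quotient.mkₐ A IB)
  have hΦ₀1 : ∀ b, Φ₀ ((1 : Q) ⊗ₜ[A] b) = Ideal.Quotient.mk IB b := by
    intro b
    simp [Φ₀]
  have hkill : ∀ (D : Type u) [CommRing D] [Algebra A D] (Ψ : D →ₐ[A] B ⧸ IB) (x : D),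
      x ∈ I.map (algebraMap A D) → Ψ x = 0 := by
    intro D _ _ Ψ x hx
    have h2 : Ψ x ∈ (I.map (algebraMap A D)).map Ψ.toRingHom := Ideal.mem_map_of_mem Ψ.toRingHom hx
    have h4 : Ψ.toRingHom.comp (algebraMap A D) = algebraMap A (B ⧸ IB) := Ψ.comp_algebraMap
    rw [Ideal.map_map, h4] at h2
    have h3 : I.map (algebraMap A (B ⧸ IB)) = ⊥ := by
      rw [eq_bot_iff, Ideal.map_le_iff_le_comap]
      intro i hi
      rw [Ideal.mem_comap, Ideal.mem_bot, IsScalarTower.algebraMap_apply A B (B ⧸ IB),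
        Ideal.Quotient.algebraMap_eq, Ideal.Quotient.eq_zero_iff_mem]
      exact Ideal.mem_map_of_mem _ hi
    rw [h3] at h2
    exact h2
  have hΦ₀J : ∀ x ∈ J, Φ₀ x = 0 := by
    intro x hx
    rw [hJ, Ideal.mem_span_singleton'] at hx
    obtain ⟨w, rfl⟩ := hx
    rw [map_mul, hkill _ Φ₀ _ h1, mul_zero]
  let Φ : (Q ⊗[A] B) ⧸ J →ₐ[A] B ⧸ IB := Ideal.Quotient.liftₐ J Φ₀ hΦ₀J
  have hΦ : ∀ x, Φ (Ideal.Quotient.mk J x) = Φ₀ x := fun x => rfl
  refine ⟨(Q ⊗[A] B) ⧸ J, inferInstance, inferInstance, inferInstance, inferInstance, inferInstance,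
    towerABC, ?_, ?_, ?_, hfin, ?_, ?_⟩
  · -- surjectivity for `A'`
    intro y
    obtain ⟨x, rfl⟩ := Ideal.Quotient.mk_surjective y
    obtain ⟨a, ha⟩ := hn1 x
    refine ⟨a, ?_⟩
    rw [RingHom.comp_apply]
    exact (Ideal.Quotient.eq.2 ha).symm
  · -- kernel for `A'`
    ext a
    rw [RingHom.mem_ker, RingHom.comp_apply, Ideal.Quotient.eq_zero_iff_mem]
    exact ⟨hn2 a, fun ha => Ideal.mem_map_of_mem _ ha⟩
  · -- étale
    let e : B ⊗[A] Q ≃ₐ[B] Q ⊗[A] B :=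
      { Algebra.TensorProduct.comm A B Q with
        commutes' := fun b => by
          show Algebra.TensorProduct.comm A B Q (b ⊗ₜ[A] (1 : Q)) = (1 : Q) ⊗ₜ[A] b
          simp }
    haveI : Algebra.Etale B (Q ⊗[A] B) := Algebra.Etale.of_equiv e
    haveI : IsLocalization.Away ε ((Q ⊗[A] B) ⧸ J) :=
      IsLocalization.Away.quotient_of_isIdempotentElem hε
    haveI : Algebra.Etale (Q ⊗[A] B) ((Q ⊗[A] B) ⧸ J) := Algebra.Etale.of_isLocalizationAway ε
    exact Algebra.Etale.comp B (Q ⊗[A] B) ((Q ⊗[A] B) ⧸ J)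
  · -- surjectivity for `B`
    intro y
    obtain ⟨c, rfl⟩ := Ideal.Quotient.mk_surjective y
    obtain ⟨x, rfl⟩ := Ideal.Quotient.mk_surjective c
    obtain ⟨b, hb⟩ := hF1 x
    refine ⟨b, ?_⟩
    rw [RingHom.comp_apply, halgBC]
    symm
    rw [Ideal.Quotient.eq, ← map_sub]
    exact hmkIT _ hb
  · -- kernel for `B`
    ext b
    rw [RingHom.mem_ker, RingHom.comp_apply, Ideal.Quotient.eq_zero_iff_mem]
    constructor
    · intro hb
      have h2 := hkill _ Φ _ hb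
      rw [halgBC, hΦ, hΦ₀1, Ideal.Quotient.eq_zero_iff_mem] at h2
      exact h2
    · intro hb
      have h2 := Ideal.mem_map_of_mem (algebraMap B ((Q ⊗[A] B) ⧸ J)) hb
      rw [Ideal.map_map, ← IsScalarTower.algebraMap_eq] at h2
      exact h2

end Groth.Agent.H11.ZMTN
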